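import Mathlib
import Cfsg.Prelude.Def_Perm

/-!
Permutation modules: orbital kernels, fixed vectors of p-groups, the socle and the
radical of a transitive permutation module of prime power degree in characteristic p.
-/

namespace CfsgLib.Perm

open MulAction

section basics

variable {K : Type*} [Field K] {G : Type*} [Group G] {Ω : Type*} [MulAction G Ω]

theorem permRep_apply (g : G) (f : Ω → K) (x : Ω) :
    Cfsg.permRep K G Ω g f x = f (g⁻¹ • x) := rfl

theorem mem_permConstants {v : Ω → K} :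
    v ∈ (Cfsg.permConstants K G Ω).toSubmodule ↔ ∃ c : K, ∀ x, v x = c := by
  simp only [Cfsg.permConstants, Submodule.mem_span_singleton]
  constructor
  · rintro ⟨c, rfl⟩
    exact ⟨c, fun x => by simp⟩
  · rintro ⟨c, hc⟩
    exact ⟨c, funext fun x => by simp [hc x]⟩

theorem one_mem_permConstants : (fun _ : Ω => (1 : K)) ∈ (Cfsg.permConstants K G Ω).toSubmodule :=
  mem_permConstants.2 ⟨1, fun _ => rfl⟩

theorem mem_permSumZero [Fintype Ω] {v : Ω → K} :
    v ∈ (Cfsg.permSumZero K G Ω).toSubmodule ↔ ∑ x, v x = 0 := Iff.rfl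

theorem sum_permRep [Fintype Ω] (g : G) (f : Ω → K) :
    ∑ x, Cfsg.permRep K G Ω g f x = ∑ x, f x :=
  Fintype.sum_equiv (MulAction.toPerm g⁻¹) _ _ (fun _ => rfl)

theorem permRep_single [DecidableEq Ω] (g : G) (a : Ω) (c : K) :
    Cfsg.permRep K G Ω g (Pi.single a c) = Pi.single (g • a) c := by
  funext x
  simp only [permRep_apply, Pi.single_apply, inv_smul_eq_iff]

theorem permRep_sub_self_mem_sumZero [Fintype Ω] (g : G) (f : Ω → K) :
    Cfsg.permRep K G Ω g f - f ∈ (Cfsg.permSumZero K G Ω).toSubmodule := by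
  rw [mem_permSumZero]
  simp only [Pi.sub_apply, Finset.sum_sub_distrib, sum_permRep, sub_self]

end basics

section kernelMap

variable {K : Type*} [Field K] {G : Type*} [Group G] {Ω₁ Ω₂ : Type*} [Fintype Ω₁]
  [MulAction G Ω₁] [MulAction G Ω₂]

/-- The linear map given by a kernel `A x y`. -/
def kernelMap (A : Ω₁ → Ω₂ → K) : (Ω₁ → K) →ₗ[K] (Ω₂ → K) where
  toFun v y := ∑ x, v x * A x y
  map_add' u v := by funext y; simp [add_mul, Finset.sum_add_distrib]
  map_smul' c v := by funext y; simp [mul_assoc, Finset.mul_sum]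

theorem kernelMap_apply (A : Ω₁ → Ω₂ → K) (v : Ω₁ → K) (y : Ω₂) :
    kernelMap A v y = ∑ x, v x * A x y := rfl

theorem kernelMap_single [DecidableEq Ω₁] (A : Ω₁ → Ω₂ → K) (a : Ω₁) :
    kernelMap A (Pi.single a 1) = A a := by
  funext y
  rw [kernelMap_apply, Finset.sum_eq_single a]
  · simp
  · intro b _ hb; simp [hb]
  · simp

theorem kernelMap_const (A : Ω₁ → Ω₂ → K) (c : K) (y : Ω₂) :
    kernelMap A (fun _ => c) y = c * ∑ x, A x y := by
  rw [kernelMap_apply, Finset.mul_sum]

theorem sum_kernelMap [Fintype Ω₂] (A : Ω₁ → Ω₂ → K) (v : Ω₁ → K) :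
    ∑ y, kernelMap A v y = ∑ x, v x * ∑ y, A x y := by
  simp only [kernelMap_apply, Finset.mul_sum]
  exact Finset.sum_comm

theorem kernelMap_permRep {A : Ω₁ → Ω₂ → K} (hA : ∀ (g : G) x y, A (g • x) (g • y) = A x y)
    (g : G) (v : Ω₁ → K) :
    kernelMap A (Cfsg.permRep K G Ω₁ g v) = Cfsg.permRep K G Ω₂ g (kernelMap A v) := by
  funext y
  simp only [kernelMap_apply, permRep_apply]
  refine Fintype.sum_equiv (MulAction.toPerm g⁻¹) _ _ (fun x => ?_)
  simp only [MulAction.toPerm_apply]
  rw [hA g⁻¹ x y]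

theorem eq_kernelMap [DecidableEq Ω₁] (T : (Ω₁ → K) →ₗ[K] (Ω₂ → K)) :
    T = kernelMap (fun x => T (Pi.single x 1)) := by
  refine (Pi.basisFun K Ω₁).ext fun a => ?_
  simp [Pi.basisFun_apply, kernelMap_single]

theorem mem_invariants_linHom_iff (T : (Ω₁ → K) →ₗ[K] (Ω₂ → K)) :
    T ∈ ((Cfsg.permRep K G Ω₁).linHom (Cfsg.permRep K G Ω₂)).invariants ↔
      ∀ (g : G) (v : Ω₁ → K),
        T (Cfsg.permRep K G Ω₁ g v) = Cfsg.permRep K G Ω₂ g (T v) := by
  rw [Representation.mem_invariants]
  constructor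
  · intro h g v
    have h' := LinearMap.congr_fun (h g) (Cfsg.permRep K G Ω₁ g v)
    rw [Representation.linHom_apply] at h'
    simp only [LinearMap.comp_apply] at h'
    rw [← h']
    simp [← Module.End.mul_apply, ← map_mul]
  · intro h g
    rw [Representation.linHom_apply]
    refine LinearMap.ext fun v => ?_
    simp only [LinearMap.comp_apply]
    rw [← h]
    simp [← Module.End.mul_apply, ← map_mul]

theorem kernel_smul_of_equivariant [DecidableEq Ω₁] {T : (Ω₁ → K) →ₗ[K] (Ω₂ → K)}
    (hT : ∀ (g : G) (v : Ω₁ → K),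
        T (Cfsg.permRep K G Ω₁ g v) = Cfsg.permRep K G Ω₂ g (T v))
    (g : G) (x : Ω₁) (y : Ω₂) :
    T (Pi.single (g • x) 1) (g • y) = T (Pi.single x 1) y := by
  rw [← permRep_single (K := K) g x, hT, permRep_apply, inv_smul_smul]

end kernelMap

section orbital

variable {G : Type*} [Group G] {Ω₁ Ω₂ : Type*} [MulAction G Ω₁] [MulAction G Ω₂]

/-- Indicator of the orbit of `(a, b)` on pairs. -/
noncomputable def orbitalInd (K : Type*) [Field K] (G : Type*) [Group G] {Ω₁ Ω₂ : Type*}
    [MulAction G Ω₁] [MulAction G Ω₂] (a : Ω₁) (b : Ω₂) (x : Ω₁) (y : Ω₂) : K :=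
  open scoped Classical in if (x, y) ∈ MulAction.orbit G (a, b) then 1 else 0

theorem orbitalInd_smul {K : Type*} [Field K] (a : Ω₁) (b : Ω₂) (g : G) (x : Ω₁) (y : Ω₂) :
    orbitalInd K G a b (g • x) (g • y) = orbitalInd K G a b x y := by
  have : ((g • x, g • y) ∈ MulAction.orbit G (a, b)) ↔ ((x, y) ∈ MulAction.orbit G (a, b)) := by
    rw [show (g • x, g • y) = g • (x, y) from rfl]
    rw [← MulAction.orbit_eq_iff, ← MulAction.orbit_eq_iff, MulAction.orbit_smul]
  unfold orbitalInd
  split_ifs with h1 h2 <;> tauto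

theorem orbitalInd_self {K : Type*} [Field K] (a : Ω₁) (b : Ω₂) :
    orbitalInd K G a b a b = 1 := by
  simp [orbitalInd, MulAction.mem_orbit_self]

theorem orbitalInd_eq_zero {K : Type*} [Field K] {a : Ω₁} {b : Ω₂} {x : Ω₁} {y : Ω₂}
    (h : (x, y) ∉ MulAction.orbit G (a, b)) : orbitalInd K G a b x y = 0 := by
  simp [orbitalInd, h]

variable [Fintype Ω₁] [IsPretransitive G Ω₂]

/-- Column sums of an invariant kernel are constant. -/
theorem colSum_eq {M : Type*} [AddCommMonoid M] {A : Ω₁ → Ω₂ → M}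
    (hA : ∀ (g : G) x y, A (g • x) (g • y) = A x y) (y y' : Ω₂) :
    ∑ x, A x y = ∑ x, A x y' := by
  obtain ⟨g, rfl⟩ := exists_smul_eq G y y'
  exact Fintype.sum_equiv (MulAction.toPerm g) _ _ (fun x => (hA g x y).symm)

end orbital

section pgroup

variable {K : Type*} [Field K] {p : ℕ} [Fact p.Prime] [CharP K p]
  {V : Type*} [AddCommGroup V] [Module K V]

/-- A finite p-group acting linearly on a vector space of characteristic p fixes a nonzero vector
in every nonzero invariant subspace. -/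
theorem exists_fixed_vector {P : Type*} [Group P] [Finite P] (hP : IsPGroup p P)
    (ρ : Representation K P V) (W : Submodule K V) (hW : ∀ g : P, ∀ w ∈ W, ρ g w ∈ W)
    {v : V} (hv : v ∈ W) (hv0 : v ≠ 0) :
    ∃ w ∈ W, w ≠ 0 ∧ ∀ g : P, ρ g w = w := by
  classical
  let A : AddSubgroup V := AddSubgroup.closure (Set.range fun g : P => ρ g v)
  have hfg : AddGroup.FG A := by
    rw [AddGroup.fg_iff_addSubgroup_fg]
    exact ⟨(Set.finite_range (fun g : P => ρ g v)).toFinset, by simp [A]⟩
  have htor : IsAddTorsion A := by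
    intro a
    rw [isOfFinAddOrder_iff_nsmul_eq_zero]
    refine ⟨p, (Fact.out : p.Prime).pos, ?_⟩
    ext
    simp only [AddSubgroup.coe_nsmul, AddSubgroup.coe_zero]
    rw [← Nat.cast_smul_eq_nsmul K, CharP.cast_eq_zero, zero_smul]
  have : Finite A := AddCommGroup.finite_of_fg_isAddTorsion A htor
  have hA : ∀ g : P, ∀ a ∈ A, ρ g a ∈ A := by
    intro g a ha
    have : A ≤ A.comap (ρ g).toAddMonoidHom := by
      rw [AddSubgroup.closure_le]
      rintro _ ⟨h, rfl⟩
      refine AddSubgroup.subset_closure ⟨g * h, ?_⟩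
      simp
    exact this ha
  have hAW : A ≤ W.toAddSubgroup := by
    rw [AddSubgroup.closure_le]
    rintro _ ⟨h, rfl⟩
    exact hW h v hv
  let act : MulAction P A :=
    { smul := fun g a => ⟨ρ g a.1, hA g _ a.2⟩
      one_smul := fun a => Subtype.ext (by change ρ 1 a.1 = a.1; simp)
      mul_smul := fun g h a => Subtype.ext (by change ρ (g * h) a.1 = ρ g (ρ h a.1); simp) }
  have hvA : v ∈ A := AddSubgroup.subset_closure ⟨1, by simp⟩
  have hdvd : p ∣ Nat.card A := by
    have hordA : addOrderOf (⟨v, hvA⟩ : A) = p := by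
      refine addOrderOf_eq_prime ?_ (by simpa [Subtype.ext_iff] using hv0)
      ext
      simp only [AddSubgroup.coe_nsmul, AddSubgroup.coe_zero]
      rw [← Nat.cast_smul_eq_nsmul K, CharP.cast_eq_zero, zero_smul]
    exact hordA ▸ addOrderOf_dvd_natCard _
  obtain ⟨b, hb, hne⟩ := hP.exists_fixed_point_of_prime_dvd_card_of_fixed_point A hdvd
    (a := (0 : A)) (fun g => Subtype.ext (by change ρ g (0 : V) = 0; simp))
  refine ⟨b.1, hAW b.2, ?_, fun g => congrArg Subtype.val (hb g)⟩
  intro h
  exact hne (Subtype.ext h.symm)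

end pgroup

section sylow

variable {G : Type*} [Group G] [Finite G] {p : ℕ} [Fact p.Prime] {Ω : Type*} [Finite Ω]
  [MulAction G Ω] [IsPretransitive G Ω]

/-- A Sylow p-subgroup of a transitive group of p-power degree is transitive. -/
theorem sylow_isPretransitive {f : ℕ} (hcard : Nat.card Ω = p ^ f) (P : Sylow p G) :
    IsPretransitive (P : Subgroup G) Ω := by
  constructor
  intro a b
  have horb : ∀ c : Ω, MulAction.orbit (P : Subgroup G) c = Set.univ := by
    intro c
    have hidx : (stabilizer G c).index = p ^ f := by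
      rw [MulAction.index_stabilizer_of_transitive, hcard]
    have h1 : ((stabilizer G c).subgroupOf (P : Subgroup G)) = stabilizer (P : Subgroup G) c := by
      ext x; rfl
    obtain ⟨m, hm⟩ := (P.isPGroup'.index ((stabilizer G c).subgroupOf (P : Subgroup G)))
    have h2 : p ^ f ∣ (stabilizer G c ⊓ (P : Subgroup G)).index := by
      rw [← hidx]
      exact Subgroup.index_dvd_of_le inf_le_left
    have h3 : (stabilizer G c ⊓ (P : Subgroup G)).index
        = p ^ m * (P : Subgroup G).index := by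
      rw [← Subgroup.relIndex_mul_index (inf_le_right : stabilizer G c ⊓ (P : Subgroup G) ≤ _),
        Subgroup.inf_relIndex_right, ← hm]
      rfl
    rw [h3] at h2
    have hco : Nat.Coprime (p ^ f) (P : Subgroup G).index :=
      Nat.Coprime.pow_left _ ((Nat.Prime.coprime_iff_not_dvd Fact.out).2 P.not_dvd_index)
    have h4 : p ^ f ∣ p ^ m := hco.dvd_of_dvd_mul_right h2
    refine Set.eq_of_subset_of_ncard_le (Set.subset_univ _) ?_ Set.finite_univ
    rw [Set.ncard_univ, hcard, ← MulAction.index_stabilizer, ← h1, hm]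
    exact Nat.le_of_dvd (pow_pos (Fact.out : p.Prime).pos _) h4
  have : b ∈ MulAction.orbit (P : Subgroup G) a := by rw [horb]; trivial
  exact this

end sylow

section transitivePPower

variable {G : Type*} [Group G] [Finite G] {K : Type*} [Field K] {p f : ℕ} [Fact p.Prime]
  [CharP K p] {Ω : Type*} [Fintype Ω] [MulAction G Ω] [IsPretransitive G Ω]

/-- Every nonzero submodule contains the constants. -/
theorem constants_le_of_ne_bot (hcard : Fintype.card Ω = p ^ f) (W : Submodule K (Ω → K))
    (hW : ∀ g : G, ∀ w ∈ W, Cfsg.permRep K G Ω g w ∈ W) (hne : W ≠ ⊥) :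
    (Cfsg.permConstants K G Ω).toSubmodule ≤ W := by
  obtain ⟨P⟩ := (inferInstance : Nonempty (Sylow p G))
  have hcard' : Nat.card Ω = p ^ f := by rw [Nat.card_eq_fintype_card, hcard]
  have := sylow_isPretransitive hcard' P
  obtain ⟨v, hv, hv0⟩ := Submodule.exists_mem_ne_zero_of_ne_bot hne
  obtain ⟨w, hwW, hw0, hw⟩ := exists_fixed_vector P.isPGroup'
    ((Cfsg.permRep K G Ω).comp (P : Subgroup G).subtype) W (fun g u hu => hW g u hu) hv hv0
  obtain ⟨a, ha⟩ : ∃ a, w a ≠ 0 := Function.ne_iff.1 hw0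
  have hconst : ∀ x, w x = w a := by
    intro x
    obtain ⟨g, rfl⟩ := exists_smul_eq (P : Subgroup G) a x
    have := congrFun (hw g) (g • a)
    simp only [MonoidHom.comp_apply, Subgroup.coe_subtype, permRep_apply] at this
    rw [← this]
    congr 1
    exact inv_smul_eq_iff.2 rfl
  intro u hu
  obtain ⟨c, hc⟩ := mem_permConstants.1 hu
  have : u = (c / w a) • w := by
    funext x
    simp [hc x, hconst x, div_mul_cancel₀ _ ha]
  rw [this]
  exact W.smul_mem _ hwW

/-- Every proper submodule lies in the sum-zero functions. -/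
theorem le_sumZero_of_ne_top (hcard : Fintype.card Ω = p ^ f) (W : Submodule K (Ω → K))
    (hW : ∀ g : G, ∀ w ∈ W, Cfsg.permRep K G Ω g w ∈ W) (hne : W ≠ ⊤) :
    W ≤ (Cfsg.permSumZero K G Ω).toSubmodule := by
  classical
  let W' : Submodule K (Ω → K) :=
    { carrier := {u | ∀ w ∈ W, ∑ x, u x * w x = 0}
      add_mem' := fun {u v} hu hv w hw => by
        simp [add_mul, Finset.sum_add_distrib, hu w hw, hv w hw]
      zero_mem' := fun w _ => by simp
      smul_mem' := fun c u hu w hw => by
        simp [mul_assoc, ← Finset.mul_sum, hu w hw] }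
  have hW' : ∀ g : G, ∀ u ∈ W', Cfsg.permRep K G Ω g u ∈ W' := by
    intro g u hu w hw
    rw [← hu _ (hW g⁻¹ w hw)]
    refine Fintype.sum_equiv (MulAction.toPerm g⁻¹) _ _ (fun x => ?_)
    simp [permRep_apply]
  have hne' : W' ≠ ⊥ := by
    obtain ⟨φ, hφ, hφW⟩ :=
      Submodule.exists_dual_map_eq_bot_of_lt_top (lt_top_iff_ne_top.2 hne) inferInstance
    have hmem : (fun x => φ (Pi.single x 1)) ∈ W' := by
      intro w hw
      have h0 : φ w = 0 := by
        have : φ w ∈ W.map φ := Submodule.mem_map_of_mem hw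
        rwa [hφW, Submodule.mem_bot] at this
      rw [← h0]
      conv_rhs => rw [← Finset.univ_sum_single w, map_sum]
      refine Finset.sum_congr rfl fun x _ => ?_
      rw [show Pi.single x (w x) = w x • Pi.single x (1 : K) by
        rw [← Pi.single_smul', smul_eq_mul, mul_one], map_smul, smul_eq_mul, mul_comm]
    intro hbot
    rw [hbot, Submodule.mem_bot] at hmem
    refine hφ ((Pi.basisFun K Ω).ext fun x => ?_)
    simpa [Pi.basisFun_apply] using congrFun hmem x
  intro w hw
  have h1 := constants_le_of_ne_bot hcard W' hW' hne' (one_mem_permConstants (G := G)) w hw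
  rw [mem_permSumZero]
  simpa using h1

end transitivePPower

end CfsgLib.Perm
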