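import Cfsg.Agent.Lib.Perm.DegreePrimeSucc
import Cfsg.Agent.Lib.Perm.ZassG.Field

/-!
Transitive groups of degree `p + 1` with a regular normal subgroup: one-dimensional semiaffine.
-/

open MulAction Cfsg

namespace CfsgLib.Perm

variable {G Ω : Type*} [Group G] [MulAction G Ω] [Finite G] [Finite Ω] [FaithfulSMul G Ω]
  [IsPretransitive G Ω] {p d : ℕ} (hp : p.Prime) (hn : Nat.card Ω = p + 1)
  (hG : Nat.card G = (p + 1) * p * d) (hd : d < p)
include hp hn hG hd

/-- With a regular normal subgroup the degree is a power of two and the group is semiaffine. -/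
theorem semiaffine_of_regular_normal (hp2 : p ≠ 2) (M : Subgroup G) [hMn : M.Normal]
    [hMt : IsPretransitive M Ω] (hMr : ∀ x : Ω, stabilizer M x = ⊥) :
    ∃ q : ℕ, q.Prime ∧ p + 1 = 2 ^ q ∧ (d = 1 ∨ d = q) ∧
      ∃ e : Ω ≃ GaloisField 2 q, ∀ g : G, ∃ (a : (GaloisField 2 q)ˣ) (b : GaloisField 2 q)
        (φ : GaloisField 2 q ≃+* GaloisField 2 q), ∀ x, e (g • e.symm x) = (a : GaloisField 2 q) * φ x + b := by
  classical
  have := Fact.mk hp
  have : Fact (Nat.Prime 2) := ⟨Nat.prime_two⟩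
  obtain ⟨a⟩ : Nonempty Ω := Finite.card_pos_iff.1 (by omega)
  have h2 := two_pretransitive_succ hp hn hG hd
  have huniq : ∀ u v : G, u ∈ M → v ∈ M → u • a = v • a → u = v := fun u v hu hv h => by
    have hm : (⟨v⁻¹ * u, mul_mem (inv_mem hv) hu⟩ : M) ∈ stabilizer M a :=
      mem_stabilizer_iff.2 (show (v⁻¹ * u) • a = a by rw [mul_smul, h, inv_smul_smul])
    rw [hMr a, Subgroup.mem_bot] at hm
    exact (inv_mul_eq_one.1 (congrArg Subtype.val hm)).symm
  have hMc : Nat.card M = p + 1 := hn ▸ Nat.card_congr (Equiv.ofBijective (fun u : M => (u : G) • a)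
    ⟨fun u v h => Subtype.ext (huniq u v u.2 v.2 h), fun c => let ⟨u, hu⟩ := hMt.exists_smul_eq a c; ⟨u, hu⟩⟩)
  have hne : ∀ u : G, u ∈ M → u ≠ 1 → u • a ≠ a := fun u hu hu1 h =>
    hu1 (huniq u 1 hu M.one_mem (by rw [h, one_smul]))
  have hconj : ∀ u v : G, u ∈ M → v ∈ M → u ≠ 1 → v ≠ 1 → ∃ g : G, g * u * g⁻¹ = v := fun u v hu hv hu1 hv1 => by
    obtain ⟨g, ga, gu⟩ := is_two_pretransitive_iff.1 h2 (hne u hu hu1).symm (hne v hv hv1).symm
    exact ⟨g, huniq _ _ (hMn.conj_mem u hu g) hv (by rw [mul_smul, mul_smul, inv_smul_eq_iff.2 ga.symm, gu])⟩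
  have hexp : ∀ u : M, u ^ 2 = 1 := by
    obtain ⟨w, hw⟩ := exists_prime_orderOf_dvd_card' (G := M) 2 (by
      rw [hMc]; obtain ⟨k, hk⟩ := hp.odd_of_ne_two hp2; exact ⟨k + 1, by omega⟩)
    intro u
    rcases eq_or_ne u 1 with rfl | hu
    · exact one_pow 2
    obtain ⟨g, hg⟩ := hconj w u w.2 u.2 (fun h => by rw [← Subgroup.orderOf_coe, h, orderOf_one] at hw; omega)
      (fun h => hu (Subtype.ext h))
    have h : orderOf (u : G) = 2 := by rw [← hg, ← MulAut.conj_apply, MulEquiv.orderOf_eq, Subgroup.orderOf_coe, hw]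
    exact Subtype.ext (by rw [Subgroup.coe_pow, ← h, pow_orderOf_eq_one]; rfl)
  have hMcomm : ∀ u v : M, u * v = v * u := fun u v => by
    have i : ∀ w : M, w⁻¹ = w := fun w => inv_eq_of_mul_eq_one_left (by rw [← pow_two, hexp])
    calc u * v = (u * v)⁻¹ := (i _).symm
      _ = v * u := by rw [mul_inv_rev, i, i]
  obtain ⟨q, hq⟩ := (IsPGroup.iff_card (p := 2)).1 (fun u => ⟨1, by rw [pow_one]; exact hexp u⟩ : IsPGroup 2 M)
  rw [hMc] at hq
  have hq2 : 2 ≤ q := by
    by_contra h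
    have := Nat.pow_le_pow_right (show 0 < 2 by norm_num) (show q ≤ 1 by omega)
    have := hp.two_le
    omega
  have hqp : q.Prime := (Nat.prime_of_pow_sub_one_prime (a := 2) (by omega)
    (by rw [show 2 ^ q - 1 = p by omega]; exact hp)).2
  obtain ⟨x, hx, hxa, hnorm⟩ := exists_cycle hp hn hG hd a
  have hreg := regular_of_orderOf_prime hp hn hx hxa
  set P := Subgroup.zpowers x with hPdef
  have hPa : ∀ u : P, (u : G) • a = a := fun u => by
    obtain ⟨i, hi⟩ := Subgroup.mem_zpowers_iff.1 u.2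
    rw [← hi]; exact mem_stabilizer_iff.1 (zpow_mem (mem_stabilizer_iff.2 hxa) i)
  have hM1 : M ≠ ⊥ := fun h => by
    subst h; rw [Subgroup.card_bot] at hMc; have := hp.two_le; omega
  have htr : ∀ u v : G, u ∈ M → v ∈ M → u ≠ 1 → v ≠ 1 → ∃ r : P, (r : G) * u * (r : G)⁻¹ = v :=
    fun u v hu hv hu1 hv1 => by
      obtain ⟨r, hr, -⟩ := hreg (u • a) (v • a) (hne u hu hu1) (hne v hv hv1)
      exact ⟨r, huniq _ _ (hMn.conj_mem u hu r) hv (by rw [mul_smul, mul_smul, inv_smul_eq_iff.2 (hPa r).symm, hr])⟩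
  obtain ⟨K, hKf, hKt, ψ, hψM, hψi, hψs, hψa, ε, hε⟩ := ZassG.exists_field_of_irreducible P M
    (fun r _ u hu => hMn.conj_mem u hu r) hMcomm
    (fun u v => (IsCyclic.isMulCommutative (α := P)).is_comm.comm u v) hM1
    (fun A hA hA1 hinv => le_antisymm hA fun v hv => by
      obtain ⟨u, hu, hu1⟩ := (Subgroup.bot_or_exists_ne_one A).resolve_left hA1
      rcases eq_or_ne v 1 with rfl | hv1
      · exact A.one_mem
      obtain ⟨r, rfl⟩ := htr u v (hA hu) hv hu1 hv1
      exact hinv r r.2 u hu)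
  let ψe : K ≃ M := Equiv.ofBijective (fun y => (⟨ψ y, hψM y⟩ : M))
    ⟨fun y z h => hψi (congrArg Subtype.val h), fun u => (hψs u u.2).imp fun y h => Subtype.ext h⟩
  have hKc : Nat.card K = 2 ^ q := by rw [Nat.card_congr ψe, hMc, hq]
  have : Fintype (GaloisField 2 q) := Fintype.ofFinite _
  let σK : K ≃+* GaloisField 2 q := FiniteField.ringEquivOfCardEq (by
    rw [← Nat.card_eq_fintype_card, ← Nat.card_eq_fintype_card, hKc, GaloisField.card 2 q hqp.ne_zero])
  let pt : K ≃ Ω := Equiv.ofBijective (fun y => ψ y • a) ⟨fun y z h => hψi (huniq _ _ (hψM y) (hψM z) h),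
    fun c => by
      obtain ⟨u, hu⟩ := hMt.exists_smul_eq a c
      obtain ⟨y, hy⟩ := hψs u u.2
      exact ⟨y, show ψ y • a = c by rw [hy]; exact hu⟩⟩
  have hpt : ∀ y, pt y = ψ y • a := fun y => rfl
  have hψ0 : ψ 0 = 1 := mul_eq_left.1 (show ψ 0 * ψ 0 = ψ 0 by rw [← hψa, add_zero])
  have hψ1 : ∀ y, y ≠ 0 → ψ y ≠ 1 := fun y hy h => hy (hψi (h.trans hψ0.symm))
  -- a point stabiliser acts semilinearly
  have hsemi : ∀ g : G, g • a = a → ∃ (c : K) (τ : K ≃+* K), c ≠ 0 ∧ ∀ y, g • pt y = pt (c * τ y) := by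
    intro g ga
    have gai : g⁻¹ • a = a := inv_smul_eq_iff.2 ga.symm
    have hL : ∀ y, ∃ z, g * ψ y * g⁻¹ = ψ z := fun y => by
      obtain ⟨z, hz⟩ := hψs _ (hMn.conj_mem _ (hψM y) g)
      exact ⟨z, hz.symm⟩
    choose L hL using hL
    have hLadd : ∀ y z, L (y + z) = L y + L z := fun y z => hψi (by
      rw [hψa, ← hL, ← hL, ← hL, hψa]; group)
    have hLinj : Function.Injective L := fun y z h => hψi (by
      have e := hL y
      rw [h, ← hL z] at e
      exact mul_left_cancel (mul_right_cancel e))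
    have hL0 : L 0 = 0 := hψi (by rw [← hL, hψ0, mul_one, mul_inv_cancel])
    have hc : L 1 ≠ 0 := fun h => one_ne_zero (hLinj (h.trans hL0.symm))
    set c := L 1 with hcdef
    let τ : K → K := fun y => L y / c
    have hLε : ∀ (r : P) y, ∃ r' : P, L (ε r * y) = ε r' * L y := fun r y => by
      refine ⟨⟨g * r * g⁻¹, hnorm g ga r r.2⟩, hψi ?_⟩
      rw [← hL, ← hε, ← hε, ← hL]
      show _ = (g * r * g⁻¹) * (g * ψ y * g⁻¹) * (g * (r : G) * g⁻¹)⁻¹
      group
    have hεs : ∀ l, l ≠ 0 → ∃ r : P, ε r = l := fun l hl => by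
      obtain ⟨r, hr⟩ := htr (ψ 1) (ψ l) (hψM 1) (hψM l) (hψ1 1 one_ne_zero) (hψ1 l hl)
      rw [hε, mul_one] at hr
      exact ⟨r, hψi hr⟩
    have hmul : ∀ l y, τ (l * y) = τ l * τ y := by
      intro l y
      rcases eq_or_ne l 0 with rfl | hl
      · simp only [τ, zero_mul, hL0, zero_div]
      obtain ⟨r, rfl⟩ := hεs l hl
      -- the multiplier does not depend on the argument
      have key : ∀ y, L (ε r * y) = ε ⟨g * r * g⁻¹, hnorm g ga r r.2⟩ * L y := fun y => hψi (by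
        rw [← hL, ← hε, ← hε, ← hL]
        show _ = (g * r * g⁻¹) * (g * ψ y * g⁻¹) * (g * (r : G) * g⁻¹)⁻¹
        group)
      have h1 := key 1
      rw [mul_one, ← hcdef] at h1
      simp only [τ, key y, h1]
      field_simp
    have hadd : ∀ y z, τ (y + z) = τ y + τ z := fun y z => by simp only [τ, hLadd, add_div]
    let τh : K →+* K :=
      { toFun := τ, map_one' := div_self hc, map_mul' := hmul, map_zero' := by simp only [τ, hL0, zero_div]
        map_add' := hadd }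
    refine ⟨c, RingEquiv.ofBijective τh ⟨τh.injective, (Finite.injective_iff_surjective (f := τh)).1 τh.injective⟩,
      hc, fun y => ?_⟩
    show g • pt y = pt (c * (L y / c))
    rw [mul_div_cancel₀ _ hc, hpt, hpt, ← hL, mul_smul, mul_smul, gai]
  refine ⟨q, hqp, hq, ?_, pt.symm.trans σK.toEquiv, fun g => ?_⟩
  · -- the two-point stabiliser embeds in the Galois group
    have hab : a ≠ pt 1 := (hne _ (hψM 1) (hψ1 1 one_ne_zero)).symm
    obtain ⟨r, hr⟩ : ∃ r, ringChar K = r := ⟨_, rfl⟩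
    have : CharP K 2 := by
      obtain ⟨n, hn', hcard⟩ := FiniteField.card K (ringChar K)
      rw [← Nat.card_eq_fintype_card, hKc] at hcard
      have h2' : ringChar K ∣ 2 ^ q := hcard ▸ dvd_pow_self _ n.ne_zero
      have := (Nat.prime_dvd_prime_iff_eq hn' Nat.prime_two).1 (hn'.dvd_of_dvd_pow h2')
      exact this ▸ ringChar.charP K
    letI := ZMod.algebra K 2
    have hfin : Module.finrank (ZMod 2) K = q := by
      have h := Module.natCard_eq_pow_finrank (K := ZMod 2) (V := K)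
      rw [hKc, Nat.card_zmod] at h
      exact (Nat.pow_right_injective le_rfl h).symm
    have hAut : Nat.card (K ≃ₐ[ZMod 2] K) = q := by
      rw [IsGalois.card_aut_eq_finrank, hfin]
    have hsemi1 : ∀ h : ZassG.pairStab G a (pt 1), ∃ τ : K ≃+* K, ∀ y, (h : G) • pt y = pt (τ y) := by
      intro h
      obtain ⟨c, τ, -, hτ⟩ := hsemi h h.2.1
      have e1 : pt 1 = pt (c * τ 1) := (mem_stabilizer_iff.1 h.2.2).symm.trans (hτ 1)
      have hc1 : c = 1 := by simpa using (pt.injective e1).symm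
      exact ⟨τ, fun y => (hτ y).trans (by rw [hc1, one_mul])⟩
    choose τf hτf using hsemi1
    let Φ : ZassG.pairStab G a (pt 1) →* (K ≃ₐ[ZMod 2] K) :=
      MonoidHom.mk' (fun h => AlgEquiv.ofRingEquiv (f := τf h) (fun z => by
        exact RingHom.congr_fun (RingHom.ext_zmod ((τf h).toRingHom.comp (algebraMap (ZMod 2) K)) (algebraMap (ZMod 2) K)) z))
        (fun h k => AlgEquiv.ext fun y => pt.injective (by
          show pt (τf (h * k) y) = pt (τf h (τf k y))
          rw [← hτf, ← hτf, ← hτf, Subgroup.coe_mul, mul_smul]))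
    have hΦ : Function.Injective Φ := fun h k e => by
      refine Subtype.ext (eq_of_smul_eq_smul (α := Ω) fun c => ?_)
      obtain ⟨y, rfl⟩ := pt.surjective c
      rw [hτf, hτf, show τf h y = τf k y from AlgEquiv.congr_fun e y]
    have hdvd := Subgroup.card_dvd_of_injective Φ hΦ
    rw [hAut, card_pair_succ hp hn hG hd hab] at hdvd
    exact (Nat.dvd_prime hqp).1 hdvd
  · obtain ⟨u, hu⟩ := hMt.exists_smul_eq a (g • a)
    obtain ⟨b, hb⟩ := hψs u u.2
    obtain ⟨c, τ, hc, hτ⟩ := hsemi ((ψ b)⁻¹ * g) (by rw [mul_smul, hb, inv_smul_eq_iff]; exact hu.symm)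
    refine ⟨Units.mk0 (σK c) ((map_ne_zero σK).2 hc), σK b, (σK.symm.trans τ).trans σK, fun z => ?_⟩
    show σK (pt.symm (g • pt (σK.symm z))) = σK c * σK (τ (σK.symm z)) + σK b
    rw [← map_mul, ← map_add]
    congr 1
    rw [Equiv.symm_apply_eq]
    have e := hτ (σK.symm z)
    rw [mul_smul, inv_smul_eq_iff] at e
    rw [e, hpt, hpt, ← mul_smul, ← hψa, add_comm]

omit [FaithfulSMul G Ω] in
/-- A group with no fixed pairs, or with a regular normal subgroup, or a Zassenhaus group. -/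
theorem zassenhaus_or_regular_normal [FaithfulSMul G Ω] (hd2 : 2 ≤ d) :
    Cfsg.IsZassenhausGroup G Ω ∨ ∃ M : Subgroup G, M.Normal ∧ IsPretransitive M Ω ∧ ∀ x : Ω, stabilizer M x = ⊥ := by
  classical
  have := Fintype.ofFinite Ω
  refine or_iff_not_imp_right.2 fun hno => ?_
  refine ⟨inferInstance, two_pretransitive_succ hp hn hG hd,
    fun g a b c hab hbc hac => eq_one_of_three_succ hp hn hG hd hab hbc hac, ?_, fun N hN htr => ?_⟩
  · obtain ⟨a, b, hab⟩ := Fintype.exists_pair_of_one_lt_card (α := Ω)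
      (by rw [← Nat.card_eq_fintype_card]; have := hp.two_le; omega)
    have hc := card_pair_succ hp hn hG hd hab
    have : Nontrivial (ZassG.pairStab G a b) := Finite.one_lt_card_iff_nontrivial.1 (by omega)
    obtain ⟨g, hg⟩ := exists_ne (1 : ZassG.pairStab G a b)
    exact ⟨g, fun h => hg (Subtype.ext h), a, b, hab, g.2.1, g.2.2⟩
  · by_contra! h
    exact hno ⟨N, hN, htr, h⟩

end CfsgLib.Perm
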