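import Mathlib

/-!
Finite groups with all abelian subgroups cyclic that are central extensions by elementary abelian
groups: the quaternion group of order 8.
-/

namespace CfsgLib.Perm

/-- All abelian subgroups are cyclic. -/
def CyclicAbelianSubgroups (G : Type*) [Group G] : Prop :=
  ∀ A : Subgroup G, IsMulCommutative A → IsCyclic A

variable {N : Type*} [Group N]

theorem mul_pow_of_central {u y d : N} (huy : u * y = y * u * d) (hd : ∀ g, d * g = g * d) (n : ℕ) :
    (y * u) ^ n = y ^ n * u ^ n * d ^ (n.choose 2) := by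
  have hcd : ∀ (k : ℕ) (g : N), d ^ k * g = g * d ^ k := fun k g => (Commute.pow_left (hd g) k).eq
  have hpow : ∀ k : ℕ, u ^ k * y = y * u ^ k * d ^ k := by
    intro k
    induction k with
    | zero => simp
    | succ k ih =>
      calc u ^ (k + 1) * y = u ^ k * (u * y) := by rw [pow_succ, mul_assoc]
        _ = (u ^ k * y) * (u * d) := by rw [huy]; simp only [mul_assoc]
        _ = y * u ^ k * (d ^ k * u) * d := by rw [ih]; simp only [mul_assoc]
        _ = y * u ^ (k + 1) * d ^ (k + 1) := by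
          rw [hcd k u, pow_succ u, pow_succ d]; simp only [mul_assoc]
  induction n with
  | zero => simp
  | succ n ih =>
    calc (y * u) ^ (n + 1) = y ^ n * u ^ n * (d ^ n.choose 2 * (y * u)) := by
          rw [pow_succ, ih]; simp only [mul_assoc]
      _ = y ^ n * (u ^ n * y) * u * d ^ n.choose 2 := by rw [hcd]; simp only [mul_assoc]
      _ = y ^ n * y * u ^ n * (d ^ n * u) * d ^ n.choose 2 := by
          rw [hpow]; simp only [mul_assoc]
      _ = y ^ (n + 1) * u ^ (n + 1) * (d ^ n * d ^ n.choose 2) := by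
          rw [hcd n u, pow_succ y, pow_succ u]; simp only [mul_assoc]
      _ = y ^ (n + 1) * u ^ (n + 1) * d ^ (n + 1).choose 2 := by
          rw [← pow_add, Nat.choose_succ_succ' n 1, Nat.choose_one_right]

theorem zpowers_pow_eq [Finite N] {r : ℕ} (hr : r.Prime) (hNr : IsPGroup r N)
    (hac : CyclicAbelianSubgroups N) (Z : Subgroup N) (hZc : ∀ z ∈ Z, ∀ g : N, z * g = g * z)
    (hexp : ∀ g : N, g ^ r ∈ Z) {x : N} (hx : x ∉ Z) : Z = Subgroup.zpowers (x ^ r) := by
  have : Fact r.Prime := ⟨hr⟩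
  let S : Subgroup N := Subgroup.closure (insert x (Z : Set N))
  have hSc : IsMulCommutative S := Subgroup.isMulCommutative_closure (by
    intro a ha b hb
    rcases ha with rfl | ha
    · rcases hb with rfl | hb
      · rfl
      · exact (hZc b hb a).symm
    · exact hZc a ha b)
  obtain ⟨⟨g, hgS⟩, hgen⟩ := (hac S hSc).exists_zpow_surjective
  have hgen' : ∀ s ∈ S, ∃ i : ℤ, g ^ i = s := fun s hs => by
    obtain ⟨i, hi⟩ := hgen ⟨s, hs⟩
    exact ⟨i, congrArg Subtype.val hi⟩
  have hxS : x ∈ S := Subgroup.subset_closure (Set.mem_insert _ _)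
  have hZS : Z ≤ S := fun z hz => Subgroup.subset_closure (Set.mem_insert_of_mem _ hz)
  have hgpow : ∀ i : ℤ, ¬ (r : ℤ) ∣ i → g ∈ Subgroup.zpowers (g ^ i) := by
    intro i hi
    obtain ⟨k, hk⟩ := IsPGroup.iff_orderOf.1 hNr g
    have hcop : Int.gcd i (orderOf g) = 1 := by
      rw [hk, Int.gcd_comm]
      have : Nat.Coprime (r ^ k) i.natAbs := by
        refine Nat.Coprime.pow_left k ((Nat.Prime.coprime_iff_not_dvd hr).2 fun h => hi ?_)
        exact Int.natCast_dvd.2 h
      simpa [Int.gcd] using this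
    refine ⟨Int.gcdA i (orderOf g), ?_⟩
    have hb := Int.gcd_eq_gcd_ab i (orderOf g)
    rw [hcop, Nat.cast_one] at hb
    change (g ^ i) ^ Int.gcdA i (orderOf g) = g
    conv_rhs => rw [← zpow_one g, hb, zpow_add, zpow_mul g (orderOf g : ℤ), zpow_natCast,
      pow_orderOf_eq_one, one_zpow, mul_one, zpow_mul]
  have hgZ : ∀ i : ℤ, g ^ i ∈ Z → (r : ℤ) ∣ i := by
    intro i hi
    by_contra hdvd
    obtain ⟨j, hj⟩ := hgpow i hdvd
    have hgmem : g ∈ Z := hj ▸ Z.zpow_mem hi j
    obtain ⟨l, hl⟩ := hgen' x hxS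
    exact hx (hl ▸ Z.zpow_mem hgmem l)
  obtain ⟨l, hl⟩ := hgen' x hxS
  have hlr : ¬ (r : ℤ) ∣ l := by
    intro hdvd
    have hsub : S ≤ Subgroup.zpowers (g ^ r) := by
      refine (Subgroup.closure_le _).2 ?_
      rintro s (rfl | hs)
      · obtain ⟨m, hm⟩ := hdvd
        exact ⟨m, by rw [← hl, hm]; exact (zpow_natCast g r ▸ (zpow_mul g r m).symm :)⟩
      · obtain ⟨m, hm⟩ := hgen' s (hZS hs)
        obtain ⟨t, ht⟩ := hgZ m (hm ▸ hs)
        exact ⟨t, by rw [← hm, ht]; exact (zpow_natCast g r ▸ (zpow_mul g r t).symm :)⟩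
    obtain ⟨m, hm⟩ := hsub hgS
    have h1 : g ^ ((r : ℤ) * m - 1) = 1 := by
      rw [zpow_sub, zpow_mul, zpow_natCast, zpow_one, show (g ^ r) ^ m = g from hm, mul_inv_cancel]
    have h2 : g = 1 := by
      obtain ⟨k, hk⟩ := IsPGroup.iff_orderOf.1 hNr g
      rcases k with _ | k
      · exact orderOf_eq_one_iff.1 (by rw [hk, pow_zero])
      · exfalso
        have h3 : ((r : ℤ)) ∣ (r : ℤ) * m - 1 := by
          refine dvd_trans ?_ (orderOf_dvd_iff_zpow_eq_one.2 h1)
          rw [hk]; exact_mod_cast dvd_pow_self r (Nat.succ_ne_zero k)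
        have h4 : (r : ℤ) ∣ 1 := by
          have := dvd_sub (dvd_mul_right (r : ℤ) m) h3
          simpa using this
        exact hr.not_dvd_one (Int.natCast_dvd_natCast.1 (by simpa using h4))
    exact hx (by rw [← hl, h2, one_zpow]; exact Z.one_mem)
  refine le_antisymm (fun z hz => ?_) (Subgroup.zpowers_le.2 (hexp x))
  obtain ⟨i, hi⟩ := hgen' z (hZS hz)
  obtain ⟨t, ht⟩ := hgZ i (hi ▸ hz)
  obtain ⟨j, hj⟩ := hgpow l hlr
  refine ⟨j * t, ?_⟩
  have hgx : x ^ j = g := by rw [← hl]; exact hj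
  have e1 : (x ^ r) ^ (j * t) = ((x ^ j) ^ (r : ℤ)) ^ t := by
    rw [← zpow_natCast x r, ← zpow_mul, ← zpow_mul, ← zpow_mul]
    congr 1; ring
  rw [hgx, ← zpow_mul, ← ht, hi] at e1
  exact e1

theorem exists_q8_generators [Finite N] {r : ℕ} (hr : r.Prime) (hNr : IsPGroup r N)
    (hac : CyclicAbelianSubgroups N) (Z : Subgroup N) (hZc : ∀ z ∈ Z, ∀ g : N, z * g = g * z)
    (hexp : ∀ g : N, g ^ r ∈ Z) (hcomm : ∀ a b : N, a⁻¹ * b⁻¹ * a * b ∈ Z)
    {x y : N} (hxy : x * y ≠ y * x) :
    ∃ c : N, c * c = 1 ∧ c ≠ 1 ∧ (∀ g, c * g = g * c) ∧ x * x = c ∧ y * y = c ∧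
      x * y = y * x * c ∧ ∀ g : N, ∃ a b : Bool, ∃ e : Bool,
        g = (if a then y else 1) * (if b then x else 1) * (if e then c else 1) := by
  have hnotZ : ∀ {a b : N}, a * b ≠ b * a → a ∉ Z ∧ b ∉ Z := fun h =>
    ⟨fun ha => h (hZc _ ha _), fun hb => h (hZc _ hb _).symm⟩
  -- commutators have order dividing `r`
  have hdpow : ∀ a b : N, (a⁻¹ * b⁻¹ * a * b) ^ r = 1 := by
    intro a b
    set d := a⁻¹ * b⁻¹ * a * b
    have hd : ∀ g, d * g = g * d := hZc d (hcomm a b)
    have h1 : ∀ k : ℕ, b⁻¹ * a ^ k * b = a ^ k * d ^ k := by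
      intro k
      induction k with
      | zero => simp
      | succ k ih =>
        have hd' : b⁻¹ * a * b = a * d := by simp only [d]; group
        calc b⁻¹ * a ^ (k + 1) * b = (b⁻¹ * a ^ k * b) * (b⁻¹ * a * b) := by
              rw [pow_succ]; group
          _ = a ^ k * (d ^ k * a) * d := by rw [ih, hd']; simp only [mul_assoc]
          _ = a ^ (k + 1) * d ^ (k + 1) := by
              rw [(Commute.pow_left (hd a) k).eq, pow_succ a, pow_succ d]; simp only [mul_assoc]
    have h2 := h1 r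
    rw [mul_assoc, hZc _ (hexp a) b, ← mul_assoc, inv_mul_cancel, one_mul, eq_comm,
      mul_eq_left] at h2
    exact h2
  obtain ⟨hxZ, hyZ⟩ := hnotZ hxy
  have hZx := zpowers_pow_eq hr hNr hac Z hZc hexp hxZ
  -- modify `y` to kill its `r`-th power
  obtain ⟨i, hi⟩ : ∃ i : ℤ, (x ^ r) ^ i = y ^ r := by
    have := hexp y
    rw [hZx] at this
    exact this
  let u := x ^ (-i)
  have hyu : (y * u) * x ≠ x * (y * u) := by
    intro h
    have hux : Commute u x := (Commute.refl x).zpow_left _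
    apply hxy
    have h' : y * x * u = x * y * u := by rw [mul_assoc, ← hux.eq, ← mul_assoc, h, mul_assoc]
    exact (mul_right_cancel h').symm
  set d := y⁻¹ * u⁻¹ * y * u with hd
  have hdZ : ∀ g, d⁻¹ * g = g * d⁻¹ := hZc _ (Z.inv_mem (hcomm y u))
  have huy : u * y = y * u * d⁻¹ := by rw [hd]; group
  have hpow := mul_pow_of_central huy hdZ r
  have hyr : y ^ r * u ^ r = 1 := by
    rw [← hi, ← zpow_natCast u r, ← zpow_natCast x r, ← zpow_mul, ← zpow_mul, ← zpow_add]
    ring_nf
    exact zpow_zero x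
  rw [hyr, one_mul] at hpow
  have hyuZ := (hnotZ hyu).1
  have hZy := zpowers_pow_eq hr hNr hac Z hZc hexp hyuZ
  have hr2 : r = 2 := by
    by_contra hne
    have hdvd : r ∣ r.choose 2 := hr.dvd_choose_self two_ne_zero (lt_of_le_of_ne hr.two_le (Ne.symm hne))
    have h1 : (d⁻¹) ^ (r.choose 2) = 1 := by
      obtain ⟨m, hm⟩ := hdvd
      rw [hm, pow_mul, inv_pow, hdpow y u, inv_one, one_pow]
    rw [hpow, h1, Subgroup.zpowers_one_eq_bot] at hZy
    have hc := hcomm x y
    rw [hZy, Subgroup.mem_bot] at hc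
    apply hxy
    calc x * y = y * x * (x⁻¹ * y⁻¹ * x * y) := by group
      _ = y * x := by rw [hc, mul_one]
  subst hr2
  rw [Nat.choose_self, pow_one] at hpow
  have hZ2 : ∀ z ∈ Z, z = 1 ∨ z = d⁻¹ := by
    intro z hz
    rw [hZy, hpow] at hz
    obtain ⟨m, rfl⟩ := hz
    have hsq : d⁻¹ ^ (2 : ℤ) = 1 := by
      rw [zpow_two, ← pow_two, inv_pow, hdpow y u, inv_one]
    rcases Int.even_or_odd m with ⟨t, rfl⟩ | ⟨t, rfl⟩
    · left; change d⁻¹ ^ (t + t) = 1; rw [← two_mul, zpow_mul, hsq, one_zpow]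
    · right; change d⁻¹ ^ (2 * t + 1) = d⁻¹
      rw [zpow_add, zpow_mul, hsq, one_zpow, one_mul, zpow_one]
  set c := x⁻¹ * y⁻¹ * x * y with hc
  have hc1 : c ≠ 1 := fun h => hxy (by
    calc x * y = y * x * (x⁻¹ * y⁻¹ * x * y) := by group
      _ = y * x := by rw [← hc, h, mul_one])
  have hcd : c = d⁻¹ := (hZ2 c (hcomm x y)).resolve_left hc1
  have hd1 : d⁻¹ ≠ 1 := hcd ▸ hc1
  have hsqout : ∀ g, g ∉ Z → g * g = c := by
    intro g hg
    have hZg := zpowers_pow_eq hr hNr hac Z hZc hexp hg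
    rcases hZ2 _ (hexp g) with h | h
    · exfalso
      rw [h, Subgroup.zpowers_one_eq_bot] at hZg
      have := hcomm x y
      rw [hZg, Subgroup.mem_bot] at this
      exact hc1 this
    · rw [← pow_two, h, hcd]
  have hcc : c * c = 1 := by rw [← pow_two, hc, hdpow x y]
  have hxy' : x * y = y * x * c := by rw [hc]; group
  have hcz : ∀ g, c * g = g * c := hZc c (hcomm x y)
  have hzc' : ∀ z ∈ Z, z = 1 ∨ z = c := fun z hz => by rw [hcd]; exact hZ2 z hz
  -- an element commuting with `x` lies in `Z ∪ x Z`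
  have hCx : ∀ g, x * g = g * x → g ∈ Z ∨ x * g ∈ Z := by
    intro g hg
    refine or_iff_not_imp_left.2 fun hgZ => ?_
    by_contra hxg
    have h1 := hsqout _ hxg
    rw [show x * g * (x * g) = (x * x) * (g * g) by
      calc x * g * (x * g) = x * (g * x) * g := by group
        _ = x * (x * g) * g := by rw [hg]
        _ = (x * x) * (g * g) := by group, hsqout x hxZ, hsqout g hgZ, hcc] at h1
    exact hc1 h1.symm
  have hform : ∀ g, g ∈ Z ∨ x * g ∈ Z → ∃ b e : Bool,
      g = (if b then x else 1) * (if e then c else 1) := by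
    intro g hg
    rcases hg with hg | hg
    · rcases hzc' g hg with rfl | rfl
      · exact ⟨false, false, by simp⟩
      · exact ⟨false, true, by simp⟩
    · rcases hzc' _ hg with h | h
      · refine ⟨true, true, ?_⟩
        simp only [if_true]
        rw [← hsqout x hxZ, eq_inv_of_mul_eq_one_right h]
        refine inv_eq_of_mul_eq_one_right ?_
        rw [show x * (x * (x * x)) = (x * x) * (x * x) by group, hsqout x hxZ, hcc]
      · refine ⟨true, false, ?_⟩
        simp only [if_true]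
        rw [← hsqout x hxZ] at h
        simpa using mul_left_cancel h
  refine ⟨c, hcc, hc1, hcz, hsqout x hxZ, hsqout y hyZ, hxy', fun g => ?_⟩
  by_cases hg : x * g = g * x
  · obtain ⟨b, e, he⟩ := hform g (hCx g hg)
    exact ⟨false, b, e, by simpa using he⟩
  · have hd' : x⁻¹ * g⁻¹ * x * g = c := by
      refine (hzc' _ (hcomm x g)).resolve_left fun h => hg ?_
      calc x * g = g * x * (x⁻¹ * g⁻¹ * x * g) := by group
        _ = g * x := by rw [h, mul_one]
    have hxg : x * g = g * x * c := by rw [← hd']; group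
    have hcomm' : x * (y⁻¹ * g) = (y⁻¹ * g) * x := by
      have h1 : x * y⁻¹ = y⁻¹ * x * c := by
        calc x * y⁻¹ = y⁻¹ * (y * x) * y⁻¹ := by group
          _ = y⁻¹ * (x * y * c) * y⁻¹ := by rw [hxy', mul_assoc (y * x) c c, hcc, mul_one]
          _ = y⁻¹ * x * y * (c * y⁻¹) := by group
          _ = y⁻¹ * x * c := by rw [hcz]; group
      calc x * (y⁻¹ * g) = y⁻¹ * x * (c * g) := by rw [← mul_assoc, h1]; simp only [mul_assoc]
        _ = y⁻¹ * (x * g) * c := by rw [hcz]; simp only [mul_assoc]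
        _ = y⁻¹ * g * x := by rw [hxg]; simp only [mul_assoc, hcc, mul_one]
    obtain ⟨b, e, he⟩ := hform _ (hCx _ hcomm')
    refine ⟨true, b, e, ?_⟩
    simp only [if_true, mul_assoc]
    rw [← he, mul_inv_cancel_left]

/-- Class two, all abelian subgroups cyclic, elementary central quotient: quaternion of order 8. -/
theorem nonempty_mulEquiv_quaternion [Finite N] {r : ℕ} (hr : r.Prime) (hNr : IsPGroup r N)
    (hac : CyclicAbelianSubgroups N) (Z : Subgroup N) (hZc : ∀ z ∈ Z, ∀ g : N, z * g = g * z)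
    (hexp : ∀ g : N, g ^ r ∈ Z) (hcomm : ∀ a b : N, a⁻¹ * b⁻¹ * a * b ∈ Z)
    {x y : N} (hxy : x * y ≠ y * x) : Nonempty (N ≃* QuaternionGroup 2) := by
  obtain ⟨c, hcc, hc1, hcz, hxx, hyy, hxy', hall⟩ :=
    exists_q8_generators hr hNr hac Z hZc hexp hcomm hxy
  have hx4 : x ^ 4 = 1 := by
    rw [show x ^ 4 = (x * x) * (x * x) by simp only [pow_succ, pow_zero, one_mul, mul_assoc], hxx, hcc]
  have hxm : ∀ k l : ℕ, x ^ ((k + l) % 4) = x ^ k * x ^ l := by
    intro k l
    rw [← pow_add]
    conv_rhs => rw [← Nat.mod_add_div (k + l) 4, pow_add, pow_mul, hx4, one_pow, mul_one]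
  let P : ZMod (2 * 2) → N := fun i => x ^ i.val
  have hP : ∀ i j, P (i + j) = P i * P j := fun i j => by
    simp only [P, ZMod.val_add]
    exact hxm _ _
  have hP2 : P 2 = c := by
    change x ^ (2 : ZMod (2 * 2)).val = c
    rw [show (2 : ZMod (2 * 2)).val = 2 from rfl, pow_two, hxx]
  have hP0 : P 0 = 1 := pow_zero x
  have hPneg : ∀ i, P (-i) = (P i)⁻¹ := fun i =>
    (inv_eq_of_mul_eq_one_right (by rw [← hP, add_neg_cancel, hP0])).symm
  have hPy : ∀ i, P i * y = y * P (-i) := by
    intro i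
    have h1 : ∀ k : ℕ, x ^ k * y = y * (x⁻¹) ^ k := by
      intro k
      induction k with
      | zero => simp
      | succ k ih =>
        have hxy2 : x * y = y * x⁻¹ := by
          rw [hxy', mul_assoc, ← hxx]
          congr 1
          refine eq_inv_of_mul_eq_one_left ?_
          rw [show x * (x * x) * x = x ^ 4 by simp only [pow_succ, pow_zero, one_mul, mul_assoc], hx4]
        calc x ^ (k + 1) * y = x ^ k * (x * y) := by rw [pow_succ, mul_assoc]
          _ = (x ^ k * y) * x⁻¹ := by rw [hxy2, mul_assoc]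
          _ = y * (x⁻¹) ^ (k + 1) := by rw [ih, pow_succ (x⁻¹), mul_assoc]
    rw [hPneg]
    simp only [P, h1, inv_pow]
  let f : QuaternionGroup 2 → N := fun q => match q with
    | .a i => P i
    | .xa i => y * P i
  have hf : ∀ p q, f (p * q) = f p * f q := by
    rintro (i | i) (j | j)
    · exact hP i j
    · change y * P (j - i) = P i * (y * P j)
      rw [← mul_assoc, hPy, mul_assoc, ← hP, neg_add_eq_sub]
    · change y * P (i + j) = y * P i * P j
      rw [hP, mul_assoc]
    · change P (((2 : ℕ) : ZMod (2 * 2)) + j - i) = y * P i * (y * P j)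
      rw [← mul_assoc (y * P i), mul_assoc y (P i), hPy, ← mul_assoc y y, hyy, ← hP2, ← hP, ← hP]
      congr 1
      push_cast
      ring
  let φ : QuaternionGroup 2 →* N := MonoidHom.mk' f hf
  have hsurj : Function.Surjective φ := by
    intro g
    obtain ⟨a, b, e, rfl⟩ := hall g
    have hy' : φ (.xa 0) = y := by change y * P 0 = y; rw [hP0, mul_one]
    have hx' : φ (.a 1) = x := by change x ^ (1 : ZMod (2 * 2)).val = x; exact pow_one x
    have hc' : φ (.a 2) = c := hP2
    refine ⟨(if a then .xa 0 else 1) * (if b then .a 1 else 1) * (if e then .a 2 else 1), ?_⟩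
    cases a <;> cases b <;> cases e <;> simp [-QuaternionGroup.a_mul_a, -QuaternionGroup.xa_mul_a, hy', hx', hc']
  have hinj : Function.Injective φ := by
    rw [injective_iff_map_eq_one]
    have hx2 : x ≠ 1 ∧ x * x ≠ 1 := ⟨fun h => hxy (by rw [h, one_mul, mul_one]), fun h => hc1 (hxx ▸ h)⟩
    have hP' : ∀ i, P i = 1 → i = 0 := by
      intro i hi
      have hord : orderOf x ∣ i.val := orderOf_dvd_of_pow_eq_one hi
      have h4 : orderOf x = 4 := by
        refine orderOf_eq_prime_pow (p := 2) (n := 1) (by rw [pow_one, pow_two]; exact hx2.2) ?_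
        exact hx4
      rw [h4] at hord
      have := ZMod.val_lt i
      exact (ZMod.val_eq_zero i).1 (Nat.eq_zero_of_dvd_of_lt hord this)
    rintro (i | i) h
    · change P i = 1 at h
      rw [hP' i h]; rfl
    · exfalso
      change y * P i = 1 at h
      apply hxy
      rw [eq_inv_of_mul_eq_one_left h]
      exact ((Commute.refl x).pow_right i.val).inv_right.eq
  exact ⟨(MulEquiv.ofBijective φ ⟨hinj, hsurj⟩).symm⟩

theorem noncommuting_pairs_card : (Finset.univ.filter fun p : QuaternionGroup 2 × QuaternionGroup 2 =>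
    p.1 * p.2 ≠ p.2 * p.1).card = 24 := by decide

/-- The quaternion group of order 8 has at most 24 automorphisms. -/
theorem card_mulAut_quaternion_le : Nat.card (MulAut (QuaternionGroup 2)) ≤ 24 := by
  classical
  let S := Finset.univ.filter fun p : QuaternionGroup 2 × QuaternionGroup 2 => p.1 * p.2 ≠ p.2 * p.1
  let f : MulAut (QuaternionGroup 2) → S := fun φ => ⟨(φ (.a 1), φ (.xa 0)), by
    simp only [S, Finset.mem_filter, Finset.mem_univ, true_and]
    rw [← map_mul, ← map_mul, φ.injective.ne_iff]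
    decide⟩
  have hf : Function.Injective f := by
    intro φ ψ h
    have h1 : φ (.a 1) = ψ (.a 1) := congrArg (fun s : S => s.1.1) h
    have h2 : φ (.xa 0) = ψ (.xa 0) := congrArg (fun s : S => s.1.2) h
    have hgen : ∀ q : QuaternionGroup 2, ∃ k : Fin 4, ∃ b : Bool,
        q = (if b then .xa 0 else 1) * (.a 1) ^ (k : ℕ) := by decide
    refine MulEquiv.ext fun q => ?_
    obtain ⟨k, b, rfl⟩ := hgen q
    cases b <;> simp only [Bool.false_eq_true, if_false, if_true, map_mul, map_pow, map_one, h1, h2]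
  refine (Nat.card_le_card_of_injective f hf).trans ?_
  rw [Nat.card_eq_fintype_card, Fintype.card_coe]
  exact noncommuting_pairs_card.le


/-- Evaluate a word in two generators at the normal form of a quaternion. -/
def q8Map (s : QuaternionGroup 2 × QuaternionGroup 2) : QuaternionGroup 2 → QuaternionGroup 2
  | .a i => s.1 ^ i.val
  | .xa i => s.2 * s.1 ^ i.val

theorem q8Map_spec : ∀ s : QuaternionGroup 2 × QuaternionGroup 2, s.1 * s.2 ≠ s.2 * s.1 →
    (∀ p q, q8Map s (p * q) = q8Map s p * q8Map s q) ∧ ∀ p, q8Map s p = 1 → p = 1 := by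
  decide

/-- The quaternion group of order 8 has exactly 24 automorphisms. -/
theorem card_mulAut_quaternion : Nat.card (MulAut (QuaternionGroup 2)) = 24 := by
  classical
  refine le_antisymm card_mulAut_quaternion_le ?_
  let S := Finset.univ.filter fun p : QuaternionGroup 2 × QuaternionGroup 2 => p.1 * p.2 ≠ p.2 * p.1
  have hspec : ∀ s : S, s.1.1 * s.1.2 ≠ s.1.2 * s.1.1 := fun s => (Finset.mem_filter.1 s.2).2
  let φ : S → (QuaternionGroup 2 →* QuaternionGroup 2) := fun s =>
    MonoidHom.mk' (q8Map s.1) (q8Map_spec s.1 (hspec s)).1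
  have hφ : ∀ s : S, Function.Bijective (φ s) := fun s =>
    Finite.injective_iff_bijective.1 ((injective_iff_map_eq_one _).2 (q8Map_spec s.1 (hspec s)).2)
  let f : S → MulAut (QuaternionGroup 2) := fun s => MulEquiv.ofBijective (φ s) (hφ s)
  have hf : Function.Injective f := by
    intro s t h
    refine Subtype.ext (Prod.ext ?_ ?_)
    · have := DFunLike.congr_fun h (.a 1)
      simpa [f, φ, q8Map, show (1 : ZMod (2 * 2)).val = 1 from rfl] using this
    · have := DFunLike.congr_fun h (.xa 0)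
      simpa [f, φ, q8Map, show (0 : ZMod (2 * 2)).val = 0 from rfl] using this
  refine le_of_eq_of_le ?_ (Nat.card_le_card_of_injective f hf)
  rw [Nat.card_eq_fintype_card, Fintype.card_coe]
  exact noncommuting_pairs_card.symm

end CfsgLib.Perm
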