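import Mathlib.LinearAlgebra.Matrix.GeneralLinearGroup.Projective
import Mathlib.FieldTheory.Finite.Basic
import Mathlib.LinearAlgebra.Matrix.GeneralLinearGroup.Card

/-!
In characteristic two the special linear group of degree two is the projective general linear group.
-/

open Matrix

namespace CfsgLib.Perm

/-- `SL(2, F) ≅ PGL(2, F)` over a finite field of even order. -/
theorem nonempty_sl_two_equiv_pgl (F : Type*) [Field F] [Fintype F] (h2 : ringChar F = 2) :
    Nonempty (Matrix.SpecialLinearGroup (Fin 2) F ≃* Matrix.ProjGenLinGroup (Fin 2) F) := by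
  classical
  have : CharP F 2 := ringChar.of_eq h2
  refine ⟨MulEquiv.ofBijective (Matrix.SpecialLinearGroup.toPGL (n := Fin 2) (R := F)) ⟨?_, ?_⟩⟩
  · rw [← MonoidHom.ker_eq_bot_iff, Matrix.SpecialLinearGroup.toPGL_ker, Subgroup.eq_bot_iff_forall]
    intro g hg
    obtain ⟨r, hr, hrg⟩ := Matrix.SpecialLinearGroup.mem_center_iff.1 hg
    rw [Fintype.card_fin] at hr
    have hr1 : r = 1 := by
      have h : (r - 1) ^ 2 = 0 := by rw [sub_sq, hr, CharTwo.two_eq_zero]; ring_nf; simp [CharTwo.two_eq_zero]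
      exact sub_eq_zero.1 (pow_eq_zero_iff (two_ne_zero) |>.1 h)
    apply Subtype.ext
    rw [← hrg, hr1, map_one, Matrix.SpecialLinearGroup.coe_one]
  · intro x
    obtain ⟨g, rfl⟩ := Matrix.ProjGenLinGroup.mk_surjective x
    obtain ⟨c, hc⟩ := FiniteField.isSquare_of_char_two h2 ((g : Matrix (Fin 2) (Fin 2) F).det)
    have hdet : (g : Matrix (Fin 2) (Fin 2) F).det ≠ 0 :=
      (Matrix.isUnit_iff_isUnit_det _).1 g.isUnit |>.ne_zero
    have hc0 : c ≠ 0 := fun h => hdet (by rw [hc, h, mul_zero])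
    let s : Matrix.SpecialLinearGroup (Fin 2) F := ⟨c⁻¹ • (g : Matrix (Fin 2) (Fin 2) F), by
      rw [Matrix.det_smul, hc, Fintype.card_fin]; field_simp⟩
    refine ⟨s, ?_⟩
    show Matrix.ProjGenLinGroup.mk (Matrix.SpecialLinearGroup.toGL s) = _
    rw [Matrix.ProjGenLinGroup.mk_eq_mk_iff']
    refine ⟨Matrix.GeneralLinearGroup.scalar (Fin 2) (Units.mk0 c hc0), ?_, ?_⟩
    · rw [Subgroup.mem_center_iff]
      intro h
      apply Units.ext
      exact (Matrix.scalar_commute c (fun r => Commute.all c r) (h : Matrix (Fin 2) (Fin 2) F)).eq.symm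
    · apply Units.ext
      show ((c⁻¹ • (g : Matrix (Fin 2) (Fin 2) F)) * Matrix.scalar (Fin 2) c) = _
      rw [Matrix.scalar_apply, ← Matrix.smul_one_eq_diagonal, mul_smul_comm, mul_one, smul_smul, mul_inv_cancel₀ hc0, one_smul]

end CfsgLib.Perm
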