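import Cfsg.Agent.Lib.Perm.MinimalDegree

/-!
Jordan's theorem on primitive groups containing a cycle of prime length.
-/

open MulAction Equiv

namespace CfsgLib.Perm

variable {α : Type*} [Fintype α] [DecidableEq α] {G : Subgroup (Perm α)}

theorem conj_isMulCommutative_apply {x g : Perm α} {i j : ℕ} {a b : Perm α}
    (ha : a * g * a⁻¹ = g ^ i) (hb : b * g * b⁻¹ = g ^ j) (hx : x = a * b * a⁻¹ * b⁻¹) :
    x * g = g * x := by
  have hab : a * (b * g * b⁻¹) * a⁻¹ = b * (a * g * a⁻¹) * b⁻¹ := by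
    rw [ha, hb, ← conj_pow, ha, ← conj_pow, hb, ← pow_mul, ← pow_mul, mul_comm]
  have e : (a * b) * g * (a * b)⁻¹ = (b * a) * g * (b * a)⁻¹ := by
    rw [mul_inv_rev, mul_inv_rev]
    simpa only [mul_assoc] using hab
  have hgi : (b * a) * g * (b * a)⁻¹ = g ^ (j * i) := by
    rw [mul_inv_rev, show b * a * g * (a⁻¹ * b⁻¹) = b * (a * g * a⁻¹) * b⁻¹ by group, ha,
      ← conj_pow, hb, ← pow_mul]
  have hcom : Commute x (g ^ (j * i)) := by
    rw [Commute, SemiconjBy, ← mul_inv_eq_iff_eq_mul, ← hgi, hx]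
    conv_rhs => rw [← e]
    group
  obtain ⟨l, hl⟩ : ∃ l : ℤ, (g ^ (j * i)) ^ l = g := by
    have hsub : Subgroup.zpowers (g ^ (j * i)) ≤ Subgroup.zpowers g :=
      Subgroup.zpowers_le.2 (Subgroup.npow_mem_zpowers g _)
    have heq := Subgroup.eq_of_le_of_card_ge hsub (by
      rw [Nat.card_zpowers, Nat.card_zpowers, ← hgi]
      exact (orderOf_injective (MulAut.conj (b * a)).toMonoidHom (MulEquiv.injective _) g).ge)
    have hmem : g ∈ Subgroup.zpowers (g ^ (j * i)) := by rw [heq]; exact Subgroup.mem_zpowers g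
    exact hmem
  have := hcom.zpow_right l
  rw [hl] at this
  exact this.eq

theorem exists_normalizing_restriction {p : ℕ} [Fact p.Prime] {g : Perm α} (hgc : g.IsCycle)
    (hgp : g.support.card = p) (hg : g ∈ G)
    (hmt : IsMultiplyPretransitive G α (g.supportᶜ.card)) (σ : Perm α)
    (hσ : ∀ x ∈ g.supportᶜ, σ x ∈ g.supportᶜ) :
    ∃ h ∈ G, (∀ x ∈ g.supportᶜ, h x = σ x) ∧ ∃ i : ℕ, h * g * h⁻¹ = g ^ i := by
  obtain ⟨h₀, hh₀, hh₀x⟩ := exists_map_of_transitive (Finset.card_le_univ _) hmt g.supportᶜ le_rfl σ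
    σ.injective.injOn
  have himg : g.supportᶜ.image σ = g.supportᶜ := Finset.eq_of_subset_of_card_le
    (Finset.image_subset_iff.2 hσ) (by rw [Finset.card_image_of_injective _ σ.injective])
  let K : Subgroup (Perm α) := G ⊓ fixingSubgroup (Perm α) (g.supportᶜ : Set α)
  have hK : ∀ k : Perm α, k ∈ K ↔ k ∈ G ∧ ∀ x ∈ g.supportᶜ, k x = x := fun k => by
    simp only [K, Subgroup.mem_inf, mem_fixingSubgroup_iff, Perm.smul_def, Set.mem_compl_iff, Finset.mem_coe,
      Finset.mem_compl, Perm.mem_support, not_not]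
  have hgK : g ∈ K := (hK g).2 ⟨hg, fun x hx => Perm.notMem_support.1 (Finset.mem_compl.1 hx)⟩
  have hgord : orderOf g = p := hgc.orderOf.trans hgp
  have hg'K : h₀ * g * h₀⁻¹ ∈ K := by
    refine (hK _).2 ⟨G.mul_mem (G.mul_mem hh₀ hg) (G.inv_mem hh₀), fun x hx => ?_⟩
    rw [← himg, Finset.mem_image] at hx
    obtain ⟨y, hy, rfl⟩ := hx
    rw [← hh₀x y hy, Perm.mul_apply, Perm.mul_apply, Perm.inv_eq_iff_eq.2 rfl,
      Perm.notMem_support.1 (Finset.mem_compl.1 hy)]
  have hpK : ¬ p ^ 2 ∣ Nat.card K := by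
    have hle : K ≤ (Perm.ofSubtype : Perm {x // x ∈ g.support} →* Perm α).range := by
      intro k hk
      rw [Perm.mem_range_ofSubtype_iff]
      intro x hx
      by_contra hxs
      exact Perm.mem_support.1 hx (((hK k).1 hk).2 x (Finset.mem_compl.2 hxs))
    have hcard : Nat.card K ∣ p.factorial := by
      refine (Subgroup.card_dvd_of_le hle).trans ?_
      rw [← Nat.card_congr (MonoidHom.ofInjective Perm.ofSubtype_injective).toEquiv, Nat.card_perm,
        Nat.card_eq_fintype_card, Fintype.card_coe, hgp]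
    intro h
    have hp := (Fact.out : p.Prime)
    have h2 := h.trans hcard
    obtain ⟨q, rfl⟩ : ∃ q, p = q + 1 := ⟨p - 1, by have := hp.pos; omega⟩
    rw [Nat.factorial_succ, pow_two] at h2
    have h3 := Nat.dvd_of_mul_dvd_mul_left (Nat.succ_pos q) h2
    rw [hp.dvd_factorial] at h3
    omega
  have hsyl : ∀ u : Perm α, (hu : u ∈ K) → orderOf u = p →
      Nat.card (Subgroup.zpowers (⟨u, hu⟩ : K)) = p := fun u hu hord => by
    rw [Nat.card_zpowers, Subgroup.orderOf_mk, hord]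
  have hfac : (Nat.card K).factorization p = 1 := by
    have hp := (Fact.out : p.Prime)
    have h1 : p ∣ Nat.card K := hgord ▸ Subgroup.orderOf_dvd_natCard K hgK
    have h2 := (hp.dvd_iff_one_le_factorization Nat.card_pos.ne').1 h1
    have h3 : ¬ 2 ≤ (Nat.card K).factorization p := fun hle =>
      hpK ((hp.pow_dvd_iff_le_factorization Nat.card_pos.ne').2 hle)
    omega
  have hg'ord : orderOf (h₀ * g * h₀⁻¹) = p := by
    rw [← hgord]
    exact orderOf_injective (MulAut.conj h₀).toMonoidHom (MulEquiv.injective _) g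
  let P : Sylow p K := Sylow.ofCard (Subgroup.zpowers (⟨g, hgK⟩ : K)) (by
    rw [hsyl g hgK hgord, hfac, pow_one])
  let Q : Sylow p K := Sylow.ofCard (Subgroup.zpowers (⟨_, hg'K⟩ : K)) (by
    rw [hsyl _ hg'K hg'ord, hfac, pow_one])
  obtain ⟨⟨k, hkK⟩, hk⟩ := MulAction.exists_smul_eq K Q P
  have hmem : (⟨k, hkK⟩ * ⟨h₀ * g * h₀⁻¹, hg'K⟩ * ⟨k, hkK⟩⁻¹ : K) ∈ (P : Subgroup K) := by
    rw [← hk, Sylow.coe_subgroup_smul, Subgroup.mem_pointwise_smul_iff_inv_smul_mem]
    simp only [Q, Sylow.coe_ofCard, MulAut.smul_def, ← map_inv, MulAut.conj_apply, inv_inv]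
    convert Subgroup.mem_zpowers (⟨h₀ * g * h₀⁻¹, hg'K⟩ : K) using 1
    group
  rw [Sylow.coe_ofCard, ← mem_powers_iff_mem_zpowers] at hmem
  obtain ⟨i, hi⟩ := hmem
  obtain ⟨hkG, hkfix⟩ := (hK k).1 hkK
  refine ⟨k * h₀, G.mul_mem hkG hh₀, fun x hx => ?_, i, ?_⟩
  · rw [Perm.mul_apply, hh₀x x hx, hkfix _ (hσ x hx)]
  · have := congrArg Subtype.val hi
    simp only [SubmonoidClass.coe_pow, Subgroup.coe_mul, Subgroup.coe_inv] at this
    rw [this, mul_inv_rev]
    simp only [mul_assoc]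

/-- Jordan: a primitive group with a cycle of prime length fixing at least three points contains the
alternating group. -/
theorem alternatingGroup_le_of_prime_cycle (hG : IsPreprimitive G α) {p : ℕ} [Fact p.Prime]
    (hpn : p + 3 ≤ Fintype.card α) {g : Perm α} (hgc : g.IsCycle) (hgp : g.support.card = p)
    (hg : g ∈ G) : alternatingGroup α ≤ G := by
  have hp := (Fact.out : p.Prime)
  have hcompl : g.supportᶜ.card + p = Fintype.card α := by
    rw [← hgp, add_comm]; exact Finset.card_add_card_compl _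
  set s : Finset α := g.supportᶜ with hs
  obtain ⟨m, hm⟩ : ∃ m, s.card = m + 1 := ⟨s.card - 1, by omega⟩
  have htr := Perm.isPretransitive_of_isCycle_mem hgc hg
  have hsub : IsPreprimitive (fixingSubgroup G (g.support : Set α)ᶜ)
      (SubMulAction.ofFixingSubgroup G (g.support : Set α)ᶜ) := by
    refine IsPreprimitive.of_prime_card ?_
    have : Nat.card (SubMulAction.ofFixingSubgroup G (g.support : Set α)ᶜ) = p := by
      classical
      rw [Nat.card_eq_fintype_card, Fintype.card_subtype, ← hgp]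
      congr 1
      ext x
      simp [SubMulAction.mem_ofFixingSubgroup_iff]
    rwa [this]
  have hmp := hG.isMultiplyPreprimitive (s := (g.support : Set α)ᶜ) (n := m)
    (by rw [← hm, hs, ← Finset.coe_compl, Set.ncard_coe_finset])
    (by rw [Nat.card_eq_fintype_card]; have := hp.two_le; omega) hsub
  have hmt' : IsMultiplyPretransitive G α (m + 2) := hmp.isMultiplyPretransitive
  have hmt : IsMultiplyPretransitive G α s.card :=
    isMultiplyPretransitive_of_le (n := m + 2) (by omega)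
      (by rw [Nat.card_eq_fintype_card]; have := hp.two_le; omega)
  obtain ⟨a, ha, b, hb, c, hc, hab, hac, hbc⟩ := Finset.two_lt_card.1 (show 2 < s.card by omega)
  have hswap : ∀ u ∈ s, ∀ v ∈ s, ∀ x ∈ s, Equiv.swap u v x ∈ s := fun u hu v hv x hx => by
    rcases eq_or_ne x u with rfl | h1
    · rwa [Equiv.swap_apply_left]
    rcases eq_or_ne x v with rfl | h2
    · rwa [Equiv.swap_apply_right]
    rwa [Equiv.swap_apply_of_ne_of_ne h1 h2]
  obtain ⟨h1, hh1, hh1x, i, hi⟩ := exists_normalizing_restriction hgc hgp hg hmt (Equiv.swap a b)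
    (hswap a ha b hb)
  obtain ⟨h2, hh2, hh2x, j, hj⟩ := exists_normalizing_restriction hgc hgp hg hmt (Equiv.swap b c)
    (hswap b hb c hc)
  set x := h1 * h2 * h1⁻¹ * h2⁻¹ with hx
  have hcomm := conj_isMulCommutative_apply hi hj hx
  have hinv1 : ∀ y ∈ s, h1⁻¹ y = Equiv.swap a b y := fun y hy => by
    rw [Perm.inv_eq_iff_eq, hh1x _ (hswap a ha b hb y hy), Equiv.swap_apply_self]
  have hinv2 : ∀ y ∈ s, h2⁻¹ y = Equiv.swap b c y := fun y hy => by
    rw [Perm.inv_eq_iff_eq, hh2x _ (hswap b hb c hc y hy), Equiv.swap_apply_self]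
  have hxs : ∀ y ∈ s, x y = (Equiv.swap a b * Equiv.swap b c * Equiv.swap a b * Equiv.swap b c) y := by
    intro y hy
    simp only [hx, Perm.mul_apply]
    rw [hinv2 y hy, hinv1 _ (hswap b hb c hc y hy), hh2x _ (hswap a ha b hb _ (hswap b hb c hc y hy)),
      hh1x _ (hswap b hb c hc _ (hswap a ha b hb _ (hswap b hb c hc y hy)))]
  -- correct `x` on the support by a power of `g`
  obtain ⟨z, hz⟩ : ∃ z, g z ≠ z := by
    obtain ⟨z, hz, -⟩ := hgc
    exact ⟨z, hz⟩
  have hxsupp : ∀ y, g y ≠ y → g (x y) ≠ x y := fun y hy e => hy (by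
    have := DFunLike.congr_fun hcomm y
    rw [Perm.mul_apply, Perm.mul_apply] at this
    exact x.injective (this.trans e))
  obtain ⟨l, hl⟩ := hgc.exists_zpow_eq hz (hxsupp z hz)
  let t := x * (g ^ l)⁻¹
  have htG : t ∈ G := G.mul_mem (G.mul_mem (G.mul_mem (G.mul_mem hh1 hh2) (G.inv_mem hh1)) (G.inv_mem hh2))
    (G.inv_mem (G.zpow_mem hg l))
  have hfixs : ∀ y ∈ s, (g ^ l)⁻¹ y = y := fun y hy => by
    rw [← zpow_neg]
    exact Perm.zpow_apply_eq_self_of_apply_eq_self (Perm.notMem_support.1 (Finset.mem_compl.1 hy)) _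
  have ht : t = Equiv.swap a b * Equiv.swap b c * Equiv.swap a b * Equiv.swap b c := by
    refine Equiv.ext fun y => ?_
    by_cases hy : y ∈ s
    · rw [Perm.mul_apply, hfixs y hy, hxs y hy]
    · have hy' : g y ≠ y := by simpa [hs] using hy
      have hne : y ≠ a ∧ y ≠ b ∧ y ≠ c :=
        ⟨fun e => hy (e ▸ ha), fun e => hy (e ▸ hb), fun e => hy (e ▸ hc)⟩
      simp only [Perm.mul_apply, Equiv.swap_apply_of_ne_of_ne hne.2.1 hne.2.2,
        Equiv.swap_apply_of_ne_of_ne hne.1 hne.2.1]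
      obtain ⟨r, hr⟩ := hgc.exists_zpow_eq hz hy'
      have hcz : Commute x g := hcomm
      change x ((g ^ l)⁻¹ y) = y
      rw [← hr, ← zpow_neg, ← Perm.mul_apply (g ^ (-l)), ← zpow_add, ← Perm.mul_apply x,
        (hcz.zpow_right _).eq, Perm.mul_apply, ← hl, ← Perm.mul_apply, ← zpow_add]
      congr 2
      ring
  have h3 : t.IsThreeCycle := by
    have e : t = (Equiv.swap a b * Equiv.swap b c) * (Equiv.swap a b * Equiv.swap b c) := by
      rw [ht]; simp only [mul_assoc]
    rw [e]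
    refine Perm.IsThreeCycle.isThreeCycle_sq ?_
    rw [Equiv.swap_comm a b]
    exact Perm.isThreeCycle_swap_mul_swap_same hab.symm hbc hac
  exact Perm.alternatingGroup_le_of_isPreprimitive_of_isThreeCycle_mem hG h3 htG

end CfsgLib.Perm
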