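import Cfsg.Agent.Lib.Perm.PrimeDegree

/-!
Sylow `p`-subgroups of transitive groups of prime degree `p` and their normalisers.
-/

namespace CfsgLib.Perm

open MulAction

variable {α : Type*} [Fintype α] {p : ℕ} [Fact p.Prime] {G : Subgroup (Equiv.Perm α)}

theorem card_sylow_eq_prime (hα : Fintype.card α = p) [IsPretransitive G α] (P : Sylow p G) :
    Nat.card (P : Subgroup G) = p := by
  have hp := (Fact.out : p.Prime)
  obtain ⟨σ, hσ⟩ := exists_orderOf_eq (G := G) hα
  obtain ⟨n, hn⟩ := P.isPGroup'.exists_card_eq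
  rcases n with _ | _ | n
  · exfalso
    have hdvd : p ∣ Nat.card G := by
      conv_lhs => rw [← hσ]
      exact orderOf_dvd_natCard σ
    rw [← (P : Subgroup G).card_mul_index, hn, pow_zero, one_mul] at hdvd
    exact P.not_dvd_index hdvd
  · simpa using hn
  · exfalso
    refine not_sq_dvd (G := G) hα
      (dvd_trans ?_ (Subgroup.card_subgroup_dvd_card (P : Subgroup G)))
    rw [hn]; exact pow_dvd_pow p (by omega)

/-- The normaliser of a Sylow `p`-subgroup has order dividing `p (p - 1)`. -/
theorem card_normalizer_sylow_dvd (hα : Fintype.card α = p) [IsPretransitive G α] (P : Sylow p G) :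
    Nat.card (Subgroup.normalizer ((P : Subgroup G) : Set G)) ∣ p * (p - 1) := by
  classical
  have hp := (Fact.out : p.Prime)
  have hP := card_sylow_eq_prime hα P
  have hne : Nonempty α := Fintype.card_pos_iff.1 (by rw [hα]; exact hp.pos)
  obtain ⟨a⟩ := hne
  have hnt : Nontrivial (P : Subgroup G) :=
    Finite.one_lt_card_iff_nontrivial.1 (by rw [hP]; exact hp.one_lt)
  obtain ⟨⟨σ, hσP⟩, hσ1⟩ := exists_ne (1 : (P : Subgroup G))
  have hσ : orderOf σ = p := by
    have hdvd : orderOf (⟨σ, hσP⟩ : (P : Subgroup G)) ∣ p := by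
      conv_rhs => rw [← hP]
      exact orderOf_dvd_natCard _
    rw [Subgroup.orderOf_mk] at hdvd
    exact ((Nat.dvd_prime hp).1 hdvd).resolve_left
      (fun h => hσ1 (Subtype.ext (orderOf_eq_one_iff.1 h)))
  have hz : Subgroup.zpowers σ = (P : Subgroup G) :=
    Subgroup.eq_of_le_of_card_ge (Subgroup.zpowers_le.2 hσP) (by rw [Nat.card_zpowers, hσ, hP])
  obtain ⟨e, he, -⟩ := exists_isCoord hα hσ a
  let N := Subgroup.normalizer ((P : Subgroup G) : Set G)
  have haff : ∀ g : N, ∃ k : ZMod p, ∀ j, (g : G) • e j = e (k * j + e.symm ((g : G) • e 0)) := by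
    intro g
    have hmem : (g : G) * σ * (g : G)⁻¹ ∈ Subgroup.zpowers σ := by
      rw [hz]
      exact (Subgroup.mem_normalizer_iff.1 g.2 σ).1 hσP
    obtain ⟨k, hk⟩ := (mem_powers_iff_mem_zpowers).2 hmem
    exact ⟨k, affine_of_conj_eq_pow he hk.symm⟩
  choose sl hsl using haff
  have huniq : ∀ (g : N) (A B : ZMod p), (∀ j, (g : G) • e j = e (A * j + B)) → sl g = A := by
    intro g A B hg
    have h0 := (hsl g 0).symm.trans (hg 0)
    have h1 := (hsl g 1).symm.trans (hg 1)
    simp only [mul_zero, zero_add, mul_one, EmbeddingLike.apply_eq_iff_eq] at h0 h1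
    rw [h0] at h1
    exact add_right_cancel h1
  let φ : N →* ZMod p :=
    { toFun := sl
      map_one' := huniq 1 1 0 (fun j => by simp)
      map_mul' := fun g g' => by
        refine huniq _ _ (sl g * e.symm ((g' : G) • e 0) + e.symm ((g : G) • e 0)) (fun j => ?_)
        rw [Subgroup.coe_mul, mul_smul, hsl g', hsl g]
        congr 1; ring }
  have hker : Nat.card φ.toHomUnits.ker ∣ p := by
    have hle : φ.toHomUnits.ker ≤ (Subgroup.zpowers σ).subgroupOf N := by
      intro g hg
      rw [Subgroup.mem_subgroupOf]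
      have h1 : sl g = 1 := by simpa [Units.ext_iff, φ] using hg
      have hgb : (g : G) = σ ^ (e.symm ((g : G) • e 0)).val := by
        refine Subtype.ext (Equiv.ext fun x => ?_)
        obtain ⟨j, rfl⟩ := e.surjective x
        change (g : G) • e j = σ ^ (e.symm ((g : G) • e 0)).val • e j
        rw [he.pow_smul, ZMod.natCast_val, ZMod.cast_id', id_eq, hsl g, h1, one_mul]
      rw [hgb]
      exact Subgroup.npow_mem_zpowers _ _
    refine (Subgroup.card_dvd_of_le hle).trans ?_
    have := Subgroup.card_comap_dvd_of_injective (Subgroup.zpowers σ) N.subtype N.subtype_injective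
    rwa [Nat.card_zpowers, hσ] at this
  have hrange : Nat.card φ.toHomUnits.range ∣ p - 1 := by
    refine (Subgroup.card_subgroup_dvd_card _).trans ?_
    rw [Nat.card_eq_fintype_card, ZMod.card_units]
  have hcard := φ.toHomUnits.ker.card_mul_index
  rw [Subgroup.index_ker] at hcard
  rw [← hcard]
  exact Nat.mul_dvd_mul hker hrange

end CfsgLib.Perm
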