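import Cfsg.Agent.Lib.Perm.SchurPrimePower
import Cfsg.Agent.Lib.CharApps.Galois

/-!
Schur's theorem on primitive groups with a regular cyclic subgroup, degree not a prime power.
-/

set_option autoImplicit false
set_option linter.style.haveILetI false

namespace CfsgLib.Perm.SchurCyclic

open CfsgLib.Perm.SchurPrimePower
open scoped Pointwise

/-- **Schur.** A primitive group with a regular cyclic subgroup whose degree is not a prime power
is doubly transitive. -/
theorem transitive_stabilizer {n : ℕ} [NeZero n] {G : Subgroup (Equiv.Perm (ZMod n))}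
    (hn2 : 2 ≤ n) (hnp : ¬ IsPrimePow n) (hτ : ∀ c, Equiv.addRight c ∈ G)
    (hprim : ∀ U : AddSubgroup (ZMod n),
      (∀ h ∈ G, h 0 = 0 → ∀ x ∈ U, h x ∈ U) → U = ⊥ ∨ U = ⊤) :
    ∀ x y : ZMod n, x ≠ 0 → y ≠ 0 → ∃ h ∈ G, h 0 = 0 ∧ h x = y := by
  classical
  obtain ⟨p, hpp, hpn⟩ := Nat.exists_prime_and_dvd (show n ≠ 1 by omega)
  haveI hp : Fact p.Prime := ⟨hpp⟩
  obtain ⟨Qn, hQn⟩ := hpn
  have hnm : n = Qn * p := by rw [hQn, mul_comm]
  have hQpos : 0 < Qn := Nat.pos_of_ne_zero fun h => NeZero.ne n (by rw [hnm, h, zero_mul])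
  obtain ⟨q, hq⟩ : ∃ q : ZMod n, q = ((Qn : ℕ) : ZMod n) := ⟨_, rfl⟩
  have hpq : p • q = 0 := by
    rw [hq, nsmul_eq_mul, ← Nat.cast_mul, mul_comm, ← hnm, ZMod.natCast_self]
  have hkill : ∀ x : ZMod n, p • x = 0 ↔ ∃ a, a < p ∧ x = a • q := by
    intro x
    constructor
    · intro h
      rw [nsmul_eq_mul, ← ZMod.natCast_zmod_val x, ← Nat.cast_mul, ZMod.natCast_eq_zero_iff] at h
      obtain ⟨a, ha⟩ : Qn ∣ x.val :=
        Nat.dvd_of_mul_dvd_mul_left hpp.pos (by rw [mul_comm, ← hnm]; exact h)
      refine ⟨a, ?_, ?_⟩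
      · have h1 := ZMod.val_lt x
        conv_rhs at h1 => rw [hnm]
        rw [ha] at h1
        exact Nat.lt_of_mul_lt_mul_left h1
      · conv_lhs => rw [← ZMod.natCast_zmod_val x]
        rw [ha, hq, nsmul_eq_mul, ← Nat.cast_mul, mul_comm]
    · rintro ⟨a, -, rfl⟩
      rw [smul_comm, hpq, smul_zero]
  have hq0 : q ≠ 0 := by
    rw [hq, Ne, ZMod.natCast_eq_zero_iff]
    intro h
    have h1 := Nat.le_of_dvd hQpos h
    have h2 : Qn * 2 ≤ Qn * p := Nat.mul_le_mul_left _ hpp.two_le
    omega
  -- the reference element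
  set P := p ^ n.factorization p with hP
  obtain ⟨M, hM⟩ : P ∣ n := Nat.ordProj_dvd n p
  have hPM : P.Coprime M := by
    have h1 : M = n / P := by
      conv_rhs => rw [hM]
      rw [Nat.mul_div_cancel_left _ (pow_pos hpp.pos _)]
    rw [h1]
    exact (Nat.coprime_ordCompl hpp (NeZero.ne n)).pow_left _
  have hpP : p ∣ P := dvd_pow_self p (hpp.factorization_pos_of_dvd (NeZero.ne n)
    ⟨Qn, hQn⟩).ne'
  have hJ0 : ((P : ℕ) : ZMod n) ≠ 0 := by
    rw [Ne, ZMod.natCast_eq_zero_iff]
    intro h
    refine hnp (Nat.dvd_antisymm h (Nat.ordProj_dvd n p) ▸ ?_)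
    exact ⟨p, n.factorization p, hpp.prime,
      hpp.factorization_pos_of_dvd (NeZero.ne n) ⟨Qn, hQn⟩, rfl⟩
  set J : ZMod n := ((P : ℕ) : ZMod n) with hJ
  -- fibres
  have hcoset : ∀ (T : Finset (ZMod n)), InvSet G T → ∀ x ∈ T, p • x ≠ 0 →
      ∀ z, p • z = 0 → x + z ∈ T := by
    intro T hT x hx hpx z hz
    let Y := Finset.univ.filter fun y : ZMod n =>
      y ≠ 0 ∧ (((T.filter fun x => p • x = y).card : ℕ) : ZMod p) ≠ 0
    have hY : InvSet G Y := by
      intro h hh h0 y
      simp only [Y, Finset.mem_filter, Finset.mem_univ, true_and]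
      have hc := inv_count_mul hτ (l := p) hT h hh h0 y
      simp only at hc
      rw [hc]
      exact and_congr_left' (not_congr ⟨fun e => h.injective (e.trans h0.symm), fun e => e ▸ h0⟩)
    rcases hprim _ (invSet_closure hτ hY) with hbot | htop
    · have h1 : p • x ∉ Y := fun h => hpx (by
        have := hbot.le (AddSubgroup.subset_closure (show p • x ∈ (Y : Set (ZMod n)) from h))
        exact AddSubgroup.mem_bot.1 this)
      simp only [Y, Finset.mem_filter, Finset.mem_univ, true_and, not_and, not_not] at h1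
      have h2 := (ZMod.natCast_eq_zero_iff _ _).1 (h1 hpx)
      set S := T.filter fun w => p • w = p • x
      set F := (Finset.range p).image fun a => x + a • q
      have hSF : S ⊆ F := by
        intro w hw
        obtain ⟨a, ha, hwa⟩ := (hkill (w - x)).1 (by rw [smul_sub, (Finset.mem_filter.1 hw).2, sub_self])
        exact Finset.mem_image.2 ⟨a, Finset.mem_range.2 ha, by rw [← hwa, add_sub_cancel]⟩
      have hS0 : 0 < S.card := Finset.card_pos.2 ⟨x, Finset.mem_filter.2 ⟨hx, rfl⟩⟩
      have hFp : F.card ≤ p := Finset.card_image_le.trans (Finset.card_range p).le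
      have heq : S = F := Finset.eq_of_subset_of_card_le hSF (hFp.trans (Nat.le_of_dvd hS0 h2))
      obtain ⟨a, ha, rfl⟩ := (hkill z).1 hz
      have : x + a • q ∈ S := heq ▸ Finset.mem_image.2 ⟨a, Finset.mem_range.2 ha, rfl⟩
      exact (Finset.mem_filter.1 this).1
    · exfalso
      let D : AddSubgroup (ZMod n) := (nsmulAddMonoidHom p : ZMod n →+ ZMod n).range
      have hle : AddSubgroup.closure (Y : Set (ZMod n)) ≤ D := by
        rw [AddSubgroup.closure_le]
        intro y hy
        have hy' := (Finset.mem_filter.1 hy).2.2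
        obtain ⟨w, hw⟩ : (T.filter fun x => p • x = y).Nonempty := by
          rw [Finset.nonempty_iff_ne_empty]
          intro he
          rw [he, Finset.card_empty, Nat.cast_zero] at hy'
          exact hy' rfl
        exact ⟨w, (Finset.mem_filter.1 hw).2⟩
      obtain ⟨w, hw⟩ := (htop ▸ hle) (AddSubgroup.mem_top (1 : ZMod n))
      have h3 : q * (p • w) = q * 1 := congrArg (q * ·) hw
      rw [mul_smul_comm, ← smul_mul_assoc, hpq, zero_mul, mul_one] at h3
      exact hq0 h3.symm
  -- every suborbit meets the elements killed by `p`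
  have hmeet : ∀ x : ZMod n, x ≠ 0 → ∃ a ∈ suborbit G x, p • a = 0 := by
    intro x hx
    by_contra hnone
    push Not at hnone
    set T := suborbit G x
    let f : ZMod n → ℕ := fun s => ∑ y, ind ℕ T y * ind ℕ T (y - s)
    have hf : ∀ s, f s = (T.filter fun y => y - s ∈ T).card := fun s => by
      simp only [f, ind, ite_mul, one_mul, zero_mul, Finset.sum_ite_mem, Finset.univ_inter]
      rw [Finset.card_filter]
    have hfe : ∀ s, f s = T.card ↔ ∀ y ∈ T, y - s ∈ T := fun s => by
      rw [hf]
      refine ⟨fun h y hy => ?_, fun h => by rw [Finset.filter_true_of_mem h]⟩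
      rw [← Finset.eq_of_subset_of_card_le (Finset.filter_subset (fun y => y - s ∈ T) T) h.ge] at hy
      exact (Finset.mem_filter.1 hy).2
    let U : AddSubgroup (ZMod n) :=
      { carrier := {s | ∀ y ∈ T, y - s ∈ T}
        add_mem' := fun {s t} hs ht y hy => by rw [← sub_sub]; exact ht _ (hs y hy)
        zero_mem' := fun y hy => by rwa [sub_zero]
        neg_mem' := fun {s} hs y hy => by
          have hi : (T.image fun y => y - s) = T := Finset.eq_of_subset_of_card_le
            (Finset.image_subset_iff.2 hs) (by rw [Finset.card_image_of_injective _ sub_left_injective])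
          rw [← hi, Finset.mem_image] at hy
          obtain ⟨w, hw, rfl⟩ := hy
          simpa using hw }
    rcases hprim U (fun h hh h0 s hs => (hfe (h s)).1 (by
      show f (h s) = T.card
      rw [show f (h s) = f s from inv_corr hτ (inv_ind (invSet_suborbit x)) (inv_ind (invSet_suborbit x)) h hh h0 s]
      exact (hfe s).2 hs)) with hb | ht
    · refine hq0 (AddSubgroup.mem_bot.1 (hb ▸ (show q ∈ U from fun y hy => ?_)))
      rw [sub_eq_add_neg]
      exact hcoset T (invSet_suborbit x) y hy (hnone y hy) (-q) (by rw [smul_neg, hpq, neg_zero])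
    · have := (ht ▸ AddSubgroup.mem_top x : x ∈ U) x (self_mem_suborbit x)
      rw [sub_self] at this
      exact zero_notMem_suborbit hx this
  -- characters
  set ψ : AddChar (ZMod n) ℂ := ZMod.stdAddChar with hψ
  have hprimψ : ψ.IsPrimitive := ZMod.isPrimitive_stdAddChar n
  let lam : ZMod n → Finset (ZMod n) → ℂ := fun k T => ∑ t ∈ T, ψ (k * (-t))
  set D := Finset.univ.filter fun k => ∀ x : ZMod n, x ≠ 0 → lam k (suborbit G x) = lam J (suborbit G x)
    with hD
  have hqD : J ∈ D := by simp [hD]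
  obtain ⟨c, hc, k, hkD, hkp⟩ : ∃ c : ℂ, c ≠ 0 ∧ ∃ k ∈ D, ¬ p ∣ k.val := by
    by_contra hall
    push Not at hall
    have hall' : ∀ k ∈ D, p ∣ k.val := hall 1 one_ne_zero
    -- a function constant on suborbits, supported by `D`
    obtain ⟨c, d, hd, hcD, hc0, hinv⟩ : ∃ (c : ZMod n → ℂ) (d : ℂ), d ≠ 0 ∧ (∀ k ∈ D, c k = d) ∧
        (∀ k ∈ Finset.univ \ D, c k = 0) ∧ Inv G fun x => ∑ k, c k * ψ (k * x) := by
      suffices H : ∀ s : Finset (ZMod n), Disjoint s D → ∃ (c : ZMod n → ℂ) (d : ℂ), d ≠ 0 ∧
          (∀ k ∈ D, c k = d) ∧ (∀ k ∈ s, c k = 0) ∧ Inv G fun x => ∑ k, c k * ψ (k * x) from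
        H _ Finset.sdiff_disjoint
      intro s
      induction s using Finset.induction_on with
      | empty =>
        intro _
        refine ⟨fun _ => 1, 1, one_ne_zero, fun _ _ => rfl, by simp, fun h hh h0 x => ?_⟩
        simp only [one_mul]
        rw [AddChar.sum_mulShift _ hprimψ, AddChar.sum_mulShift _ hprimψ]
        have hiff : h x = 0 ↔ x = 0 := ⟨fun e => h.injective (e.trans h0.symm), fun e => e ▸ h0⟩
        simp only [hiff]
      | insert b s hbs ih =>
        intro hdis
        rw [Finset.disjoint_insert_left] at hdis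
        obtain ⟨c, d, hd, hcD, hcs, hinv⟩ := ih hdis.2
        obtain ⟨x, hx, hne⟩ : ∃ x, x ≠ 0 ∧ lam b (suborbit G x) ≠ lam J (suborbit G x) := by
          have := hdis.1
          simp only [hD, Finset.mem_filter, Finset.mem_univ, true_and] at this
          push Not at this
          exact this
        set T := suborbit G x
        set μ := lam b T with hμ
        refine ⟨fun k => c k * (lam k T - μ), d * (lam J T - μ),
          mul_ne_zero hd (sub_ne_zero.2 (Ne.symm hne)), fun k hk => ?_, fun k hk => ?_, ?_⟩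
        · show c k * (lam k T - μ) = _
          rw [hcD k hk, (Finset.mem_filter.1 hk).2 x hx]
        · rcases Finset.mem_insert.1 hk with rfl | hk
          · show c k * (lam k T - μ) = 0
            rw [hμ, sub_self, mul_zero]
          · show c k * (lam k T - μ) = 0
            rw [hcs k hk, zero_mul]
        · have hco := inv_conv hτ (inv_ind (R := ℂ) (invSet_suborbit x)) hinv
          intro h hh h0 y
          have key : ∀ z, (∑ k, c k * (lam k T - μ) * ψ (k * z)) =
              (∑ w, ind ℂ T w * ∑ k, c k * ψ (k * (z - w))) - μ * ∑ k, c k * ψ (k * z) := by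
            intro z
            simp only [Finset.mul_sum]
            rw [Finset.sum_comm, ← Finset.sum_sub_distrib]
            refine Finset.sum_congr rfl fun k _ => ?_
            simp only [ind, ite_mul, one_mul, zero_mul, Finset.sum_ite_mem, Finset.univ_inter, lam]
            rw [mul_sub, sub_mul, Finset.mul_sum, Finset.sum_mul]
            congr 1
            · refine Finset.sum_congr rfl fun w _ => ?_
              rw [show k * (z - w) = k * (-w) + k * z by ring, AddChar.map_add_eq_mul]
              ring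
            · ring
          simp only [key]
          rw [show (∑ w, ind ℂ T w * ∑ k, c k * ψ (k * (h y - w))) = _ from hco h hh h0 y,
            show (∑ k, c k * ψ (k * h y)) = _ from hinv h hh h0 y]
    have hck : ∀ k, c k = if k ∈ D then d else 0 := fun k => by
      split_ifs with hk
      · exact hcD k hk
      · exact hc0 k (by simp [hk])
    set F : ZMod n → ℂ := fun x => ∑ k, c k * ψ (k * x) with hF
    have hzero : ∀ a : ZMod n, p • a = 0 → F a = d * (D.card : ℂ) := by
      intro a ha
      simp only [hF, hck, ite_mul, zero_mul, Finset.sum_ite_mem, Finset.univ_inter]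
      rw [Finset.sum_congr rfl fun k hk => show d * ψ (k * a) = d by
        obtain ⟨j, hj⟩ := hall' k hk
        rw [show k * a = 0 by
          rw [← ZMod.natCast_zmod_val k, hj, Nat.cast_mul, mul_comm (p : ZMod n), mul_assoc,
            ← nsmul_eq_mul p a, ha, mul_zero], AddChar.map_zero_eq_one, mul_one]]
      rw [Finset.sum_const, nsmul_eq_mul, mul_comm]
    have hconst : ∀ x, F x = d * (D.card : ℂ) := by
      intro x
      rcases eq_or_ne x 0 with rfl | hx
      · exact hzero 0 (smul_zero _)
      · obtain ⟨a, ha, hpa⟩ := hmeet x hx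
        obtain ⟨h, hh, h0, hha⟩ := mem_suborbit.1 ha
        rw [← hzero a hpa, ← hha]
        exact (hinv h hh h0 x).symm
    have hsum : ∑ x, F x = if (0 : ZMod n) ∈ D then d * (n : ℂ) else 0 := by
      simp only [hF, hck]
      rw [Finset.sum_comm]
      rw [Finset.sum_eq_single (0 : ZMod n)]
      · simp only [zero_mul, AddChar.map_zero_eq_one, mul_one, Finset.sum_const, Finset.card_univ,
          ZMod.card, nsmul_eq_mul]
        split_ifs with h0 <;> ring
      · intro k _ hk
        rw [← Finset.mul_sum]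
        simp only [mul_comm k]
        rw [AddChar.sum_mulShift _ hprimψ, if_neg hk, Nat.cast_zero, mul_zero]
      · intro h; exact absurd (Finset.mem_univ _) h
    simp only [hconst, Finset.sum_const, Finset.card_univ, ZMod.card, nsmul_eq_mul] at hsum
    have hn0 : (n : ℂ) ≠ 0 := Nat.cast_ne_zero.2 (NeZero.ne n)
    have hDc : D.card ≠ 0 := Finset.card_ne_zero.2 ⟨J, hqD⟩
    split_ifs at hsum with h0
    · have h1 : (n : ℂ) * d * (D.card : ℂ) = (n : ℂ) * d * 1 := by
        rw [mul_one, mul_assoc, hsum, mul_comm]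
      have h2 : D.card = 1 := by exact_mod_cast mul_left_cancel₀ (mul_ne_zero hn0 hd) h1
      exact hJ0 (Finset.card_le_one.1 h2.le J hqD 0 h0)
    · simp [hn0, hd, hDc] at hsum
  -- the values at `k` force a single suborbit
  have hζ : IsPrimitiveRoot (ψ q) p := by
    refine IsPrimitiveRoot.iff_orderOf.2 (orderOf_eq_prime ?_ ?_)
    · rw [← AddChar.map_nsmul_eq_pow, hpq, AddChar.map_zero_eq_one]
    · intro h
      exact hq0 (ZMod.injective_stdAddChar (h.trans (AddChar.map_zero_eq_one ψ).symm))
  set P1 := Finset.univ.filter fun t : ZMod n => p • t = 0 with hP1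
  have hall : ∀ x : ZMod n, x ≠ 0 → ∀ z, p • z = 0 → z ≠ 0 → z ∈ suborbit G x := by
    intro x hx
    set T := suborbit G x
    set A := T ∩ P1 with hA
    set B := T \ P1 with hB
    have heq : lam k T = lam J T := (Finset.mem_filter.1 hkD).2 x hx
    have hsplit : ∀ j, lam j T = (∑ t ∈ A, ψ (j * (-t))) + ∑ t ∈ B, ψ (j * (-t)) := fun j =>
      (Finset.sum_inter_add_sum_sdiff T P1 _).symm
    have hkB : ∑ t ∈ B, ψ (k * (-t)) = 0 := by
      have hmem : ∀ t ∈ B, t + q ∈ B := fun t ht => by
        obtain ⟨htT, htP⟩ := Finset.mem_sdiff.1 ht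
        have htp : p • t ≠ 0 := fun e => htP (Finset.mem_filter.2 ⟨Finset.mem_univ _, e⟩)
        refine Finset.mem_sdiff.2 ⟨hcoset T (invSet_suborbit x) t htT htp q hpq, fun e => htp ?_⟩
        have := (Finset.mem_filter.1 e).2
        rwa [smul_add, hpq, add_zero] at this
      have hi : B.image (fun t => t + q) = B := Finset.eq_of_subset_of_card_le
        (Finset.image_subset_iff.2 hmem)
        (by rw [Finset.card_image_of_injective _ (add_left_injective q)])
      have h1 : ∑ t ∈ B, ψ (k * (-t)) = ψ (k * (-q)) * ∑ t ∈ B, ψ (k * (-t)) := by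
        conv_lhs => rw [← hi, Finset.sum_image fun a _ b _ e => add_left_injective q e]
        rw [Finset.mul_sum]
        refine Finset.sum_congr rfl fun t _ => ?_
        rw [← AddChar.map_add_eq_mul]; congr 1; ring
      by_contra hne
      have h2 := (mul_eq_right₀ hne).1 h1.symm
      have h3 := ZMod.injective_stdAddChar (h2.trans (AddChar.map_zero_eq_one ψ).symm)
      rw [mul_neg, neg_eq_zero] at h3
      refine hkp ?_
      rw [← ZMod.natCast_zmod_val k, hq, ← Nat.cast_mul, ZMod.natCast_eq_zero_iff] at h3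
      refine Nat.dvd_of_mul_dvd_mul_left hQpos ?_
      rw [← hnm, mul_comm]
      exact h3
    have hkeq : lam J T = ∑ t ∈ A, ψ (k * (-t)) := by rw [← heq, hsplit, hkB, add_zero]
    have hkinj : ∀ z : ZMod n, p • z = 0 → k * z = 0 → z = 0 := by
      intro z hz hkz
      obtain ⟨i, -, hi⟩ := Nat.exists_mul_mod_eq_one_of_coprime
        (hpp.coprime_iff_not_dvd.2 hkp).symm hpp.one_lt
      have h1 : (k.val * i) • z = z := by
        rw [← Nat.mod_add_div (k.val * i) p, hi, add_nsmul, one_nsmul, mul_nsmul, hz, nsmul_zero,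
          add_zero]
      rw [← h1, mul_comm, mul_nsmul', nsmul_eq_mul (k.val), ZMod.natCast_zmod_val, hkz, nsmul_zero]
    have hAmem : ∀ t ∈ A, p • t = 0 ∧ t ≠ 0 := fun t ht =>
      ⟨(Finset.mem_filter.1 (Finset.mem_inter.1 ht).2).2,
        fun e => zero_notMem_suborbit hx (e ▸ (Finset.mem_inter.1 ht).1)⟩
    -- multipliers congruent to `1` modulo `M` fix `A`
    have hfix : ∀ r : ℕ, r.Coprime n → r ≡ 1 [MOD M] → ∀ t ∈ A, r • t ∈ A := by
      intro r hr hrM t ht
      obtain ⟨σ, hσ⟩ := CfsgLib.CharApps.exists_galois_pow n hr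
      have hσψ : ∀ z, σ (ψ z) = ψ (r • z) := fun z => by
        rw [hσ, AddChar.map_nsmul_eq_pow]
        rw [← AddChar.map_nsmul_eq_pow, nsmul_eq_mul, ZMod.natCast_self, zero_mul,
          AddChar.map_zero_eq_one]
      have hrJ : r • J = J := by
        rw [hJ, nsmul_eq_mul, ← Nat.cast_mul, ZMod.natCast_eq_natCast_iff]
        have h1 := Nat.ModEq.mul_left' P hrM
        rw [← hM, mul_one, mul_comm] at h1
        exact h1
      have hJfix : σ (lam J T) = lam J T := by
        simp only [lam, map_sum, hσψ, ← smul_mul_assoc, hrJ]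
      rw [hkeq, map_sum] at hJfix
      simp only [hσψ] at hJfix
      set S1 := A.image fun w => r • (k * (-w)) with hS1
      set S2 := A.image fun w => k * (-w) with hS2
      have hrinj : Function.Injective fun z : ZMod n => r • z := fun a b e =>
        (ZMod.unitOfCoprime r hr).isUnit.mul_left_cancel (by simpa [nsmul_eq_mul] using e)
      have hk2 : Set.InjOn (fun w => k * (-w)) (A : Set (ZMod n)) := by
        intro a ha b hb e
        refine sub_eq_zero.1 (hkinj _ (by rw [smul_sub, (hAmem a ha).1, (hAmem b hb).1, sub_zero]) ?_)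
        simp only [mul_neg, neg_inj] at e
        rw [mul_sub, e, sub_self]
      have hk1 : Set.InjOn (fun w => r • (k * (-w))) (A : Set (ZMod n)) :=
        fun a ha b hb e => hk2 ha hb (hrinj e)
      rw [← Finset.sum_image (f := ψ) hk1, ← Finset.sum_image (f := ψ) hk2] at hJfix
      have hS12 : S1 = S2 := by
        have hP1S : ∀ S ⊆ P1, (∀ z ∈ S, z ≠ 0) → ∑ z ∈ S, ψ z =
            ∑ j ∈ Finset.range p, (if j • q ∈ S then (1 : ℂ) else 0) * ψ q ^ j := by
          intro S hS _
          simp only [ite_mul, one_mul, zero_mul]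
          rw [← Finset.sum_filter]
          refine (Finset.sum_bij (fun j _ => j • q) (fun j hj => (Finset.mem_filter.1 hj).2)
            (fun a ha b hb e => ?_) (fun z hz => ?_) (fun j _ => (AddChar.map_nsmul_eq_pow ψ j q).symm)).symm
          · refine hζ.pow_inj (Finset.mem_range.1 (Finset.mem_filter.1 ha).1)
              (Finset.mem_range.1 (Finset.mem_filter.1 hb).1) ?_
            rw [← AddChar.map_nsmul_eq_pow, ← AddChar.map_nsmul_eq_pow, e]
          · obtain ⟨a, ha, rfl⟩ := (hkill z).1 (Finset.mem_filter.1 (hS hz)).2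
            exact ⟨a, Finset.mem_filter.2 ⟨Finset.mem_range.2 ha, hz⟩, rfl⟩
        have h1 : S1 ⊆ P1 := by
          intro z hz
          obtain ⟨w, hw, rfl⟩ := Finset.mem_image.1 hz
          refine Finset.mem_filter.2 ⟨Finset.mem_univ _, ?_⟩
          rw [smul_comm, ← mul_smul_comm, smul_neg, (hAmem w hw).1, neg_zero, mul_zero, smul_zero]
        have h2 : S2 ⊆ P1 := by
          intro z hz
          obtain ⟨w, hw, rfl⟩ := Finset.mem_image.1 hz
          refine Finset.mem_filter.2 ⟨Finset.mem_univ _, ?_⟩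
          rw [← mul_smul_comm, smul_neg, (hAmem w hw).1, neg_zero, mul_zero]
        have n2 : ∀ z ∈ S2, z ≠ 0 := by
          intro z hz e
          obtain ⟨w, hw, rfl⟩ := Finset.mem_image.1 hz
          rw [mul_neg, neg_eq_zero] at e
          exact (hAmem w hw).2 (hkinj w (hAmem w hw).1 e)
        have n1 : ∀ z ∈ S1, z ≠ 0 := by
          intro z hz e
          obtain ⟨w, hw, rfl⟩ := Finset.mem_image.1 hz
          exact n2 _ (Finset.mem_image_of_mem _ hw) (hrinj (e.trans (nsmul_zero r).symm))
        rw [hP1S S1 h1 n1, hP1S S2 h2 n2] at hJfix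
        have hco := SchurPrimePower.coeff_eq_of_relation hζ
          (fun j => (if j • q ∈ S1 then (1 : ℤ) else 0) - (if j • q ∈ S2 then 1 else 0)) (by
            simp only [Int.cast_sub, Int.cast_ite, Int.cast_one, Int.cast_zero, sub_mul,
              Finset.sum_sub_distrib]
            exact sub_eq_zero.2 hJfix)
        have h01 : (0 : ZMod n) ∉ S1 := fun h => n1 0 h rfl
        have h02 : (0 : ZMod n) ∉ S2 := fun h => n2 0 h rfl
        have hiff : ∀ j, j < p → (j • q ∈ S1 ↔ j • q ∈ S2) := by
          intro j hj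
          have := hco j hj
          simp only [zero_smul, if_neg h01, if_neg h02, sub_self] at this
          by_cases a1 : j • q ∈ S1 <;> by_cases a2 : j • q ∈ S2
          · exact iff_of_true a1 a2
          · rw [if_pos a1, if_neg a2] at this; norm_num at this
          · rw [if_neg a1, if_pos a2] at this; norm_num at this
          · exact iff_of_false a1 a2
        ext z
        constructor
        · intro hz
          obtain ⟨a, ha, rfl⟩ := (hkill z).1 (Finset.mem_filter.1 (h1 hz)).2
          exact (hiff a ha).1 hz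
        · intro hz
          obtain ⟨a, ha, rfl⟩ := (hkill z).1 (Finset.mem_filter.1 (h2 hz)).2
          exact (hiff a ha).2 hz
      have h3 : r • (k * (-t)) ∈ S2 := hS12 ▸ Finset.mem_image_of_mem _ ht
      obtain ⟨w, hw, hwt⟩ := Finset.mem_image.1 h3
      have : r • t = w := by
        refine sub_eq_zero.1 (hkinj _ (by rw [smul_sub, smul_comm, (hAmem t ht).1, smul_zero,
          (hAmem w hw).1, sub_zero]) ?_)
        rw [mul_sub, mul_smul_comm]
        simp only [mul_neg, smul_neg, neg_inj] at hwt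
        rw [hwt, sub_self]
      rwa [this]
    -- so `A` consists of all elements of order `p`
    intro z hz hz0
    obtain ⟨t, htT, htp⟩ := hmeet x hx
    have htA : t ∈ A := Finset.mem_inter.2 ⟨htT, Finset.mem_filter.2 ⟨Finset.mem_univ _, htp⟩⟩
    obtain ⟨i, hi, rfl⟩ := (hkill z).1 hz
    obtain ⟨j, hj, rfl⟩ := (hkill t).1 htp
    have hj0 : ¬ p ∣ j := fun h => (hAmem _ htA).2 (by rw [Nat.eq_zero_of_dvd_of_lt h hj, zero_smul])
    have hi0 : ¬ p ∣ i := fun h => hz0 (by rw [Nat.eq_zero_of_dvd_of_lt h hi, zero_smul])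
    obtain ⟨j', -, hj'⟩ := Nat.exists_mul_mod_eq_one_of_coprime
      (hpp.coprime_iff_not_dvd.2 hj0).symm hpp.one_lt
    obtain ⟨r, hrP, hrM⟩ := Nat.chineseRemainder hPM (i * j') 1
    have hrp : r * j ≡ i [MOD p] := by
      refine ((hrP.of_dvd hpP).mul_right j).trans ?_
      rw [mul_assoc, mul_comm j' j]
      conv_rhs => rw [← mul_one i]
      exact Nat.ModEq.mul_left i (by rw [Nat.ModEq, hj', Nat.mod_eq_of_lt hpp.one_lt])
    have hr : r.Coprime n := by
      rw [hM]
      refine Nat.Coprime.mul_right (Nat.Coprime.pow_right _ ((hpp.coprime_iff_not_dvd.2 fun h => hi0 ?_).symm)) ?_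
      · exact Nat.modEq_zero_iff_dvd.1 (hrp.symm.trans (Nat.modEq_zero_iff_dvd.2 (h.mul_right j)))
      · exact (Nat.coprime_one_left M).symm.symm |> fun h1 => by
          rw [Nat.coprime_iff_gcd_eq_one, Nat.ModEq.gcd_eq hrM]; exact h1
    have := (Finset.mem_inter.1 (hfix r hr hrM _ htA)).1
    rw [← mul_nsmul'] at this
    rwa [show (r * j) • q = i • q by
      rw [← Nat.mod_add_div (r * j) p, hrp, Nat.mod_eq_of_lt hi, add_nsmul, mul_nsmul, hpq,
        nsmul_zero, add_zero]] at this
  intro x y hx hy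
  obtain ⟨a, ha, hpa⟩ := hmeet y hy
  have ha0 : a ≠ 0 := fun e => zero_notMem_suborbit hy (e ▸ ha)
  have h1 := hall x hx a hpa ha0
  have h2 : y ∈ suborbit G x := by
    rw [← suborbit_eq h1, suborbit_eq ha]
    exact self_mem_suborbit y
  exact mem_suborbit.1 h2

/-- A transitive group with a regular cyclic subgroup of non-prime-power degree is imprimitive or
doubly transitive. -/
theorem imprimitive_or_two_transitive {G Ω : Type*} [Group G] [MulAction G Ω] [Finite Ω]
    (hn : 2 ≤ Nat.card Ω) (hnp : ¬ IsPrimePow (Nat.card Ω)) (C : Subgroup G) (hcyc : IsCyclic ↥C)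
    (hC : MulAction.IsPretransitive ↥C Ω ∧ ∀ a : Ω, MulAction.stabilizer ↥C a = ⊥) :
    ¬ MulAction.IsPreprimitive G Ω ∨ MulAction.IsMultiplyPretransitive G Ω 2 := by
  classical
  by_cases hprim : MulAction.IsPreprimitive G Ω
  swap
  · exact Or.inl hprim
  right
  haveI := hC.1
  haveI : Nonempty Ω := (Nat.card_pos_iff.1 (by omega)).1
  obtain ⟨a⟩ := (inferInstance : Nonempty Ω)
  have hb : Function.Bijective fun c : C => c • a := by
    refine ⟨fun c d h => ?_, fun v => MulAction.exists_smul_eq C a v⟩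
    have h1 : d⁻¹ * c ∈ MulAction.stabilizer C a := by
      rw [MulAction.mem_stabilizer_iff, mul_smul]
      show d⁻¹ • (c • a) = a
      rw [show c • a = d • a from h, inv_smul_smul]
    rw [hC.2 a, Subgroup.mem_bot, inv_mul_eq_one] at h1
    exact h1.symm
  set n := Nat.card Ω with hndef
  haveI : NeZero n := ⟨by omega⟩
  have hCn : Nat.card C = n := Nat.card_congr (Equiv.ofBijective _ hb)
  let z : Multiplicative (ZMod n) ≃* C := hCn ▸ zmodCyclicMulEquiv hcyc
  let e : ZMod n ≃ Ω :=
    (Multiplicative.ofAdd.trans z.toEquiv).trans (Equiv.ofBijective _ hb)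
  have he : ∀ k, e k = (z (Multiplicative.ofAdd k) : G) • a := fun k => rfl
  let φ : G →* Equiv.Perm (ZMod n) :=
    e.symm.permCongrHom.toMonoidHom.comp (MulAction.toPermHom G Ω)
  have hφ : ∀ g x, φ g x = e.symm (g • e x) := fun g x => by
    simp [φ, Equiv.permCongrHom, Equiv.permCongr_apply]
  have hshift : ∀ c k : ZMod n, (z (Multiplicative.ofAdd c) : G) • e k = e (k + c) := by
    intro c k
    rw [he, he, ← mul_smul, ← Subgroup.coe_mul, ← map_mul, ← ofAdd_add, add_comm]
  have hτ : ∀ c, Equiv.addRight c ∈ φ.range := fun c =>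
    ⟨(z (Multiplicative.ofAdd c) : G), Equiv.ext fun x => by
      rw [hφ, hshift, Equiv.symm_apply_apply, Equiv.coe_addRight]⟩
  have hblock : ∀ U : AddSubgroup (ZMod n),
      (∀ h ∈ φ.range, h 0 = 0 → ∀ x ∈ U, h x ∈ U) → U = ⊥ ∨ U = ⊤ := by
    intro U hU
    have hd : ∀ g : G, ∀ u ∈ U, φ g u - φ g 0 ∈ U := by
      intro g u hu
      have h1 := hU _ (mul_mem (hτ (-(φ g 0))) ⟨g, rfl⟩) (by simp) u hu
      simpa [sub_eq_add_neg] using h1
    have hmem : ∀ (g : G) (v : Ω), v ∈ g • (e '' (U : Set (ZMod n))) ↔ e.symm v - φ g 0 ∈ U := by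
      intro g v
      constructor
      · rintro ⟨_, ⟨u, hu, rfl⟩, rfl⟩
        have := hd g u hu
        rwa [hφ g u] at this
      · intro hv
        refine ⟨g⁻¹ • v, ⟨e.symm (g⁻¹ • v), ?_, Equiv.apply_symm_apply _ _⟩, smul_inv_smul g v⟩
        have h2 := hd g⁻¹ (e.symm v - φ g 0) hv
        have h3 := hU (Equiv.addRight (-(φ g⁻¹ (φ g 0))) * φ g⁻¹ * Equiv.addRight (φ g 0))
          (mul_mem (mul_mem (hτ _) ⟨_, rfl⟩) (hτ _)) (by simp) _ hv
        have h4 : φ g⁻¹ (φ g 0) = 0 := by
          rw [← Equiv.Perm.mul_apply, ← map_mul, inv_mul_cancel, map_one]; rfl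
        simp only [Equiv.Perm.mul_apply, Equiv.coe_addRight, sub_add_cancel, h4, neg_zero,
          add_zero] at h3
        rwa [hφ, Equiv.apply_symm_apply] at h3
    have hB : MulAction.IsBlock G (e '' (U : Set (ZMod n))) := by
      rw [MulAction.isBlock_iff_smul_eq_or_disjoint]
      intro g
      have hBm : ∀ v, v ∈ e '' (U : Set (ZMod n)) ↔ e.symm v ∈ U := fun v => by
        rw [Equiv.image_eq_preimage_symm]; rfl
      by_cases h0 : φ g 0 ∈ U
      · left
        ext v
        rw [hmem, hBm]
        exact ⟨fun h => by simpa using U.add_mem h h0, fun h => U.sub_mem h h0⟩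
      · right
        rw [Set.disjoint_left]
        intro v hv hv'
        rw [hmem] at hv
        rw [hBm] at hv'
        exact h0 (by simpa using U.sub_mem hv' hv)
    rcases hprim.isTrivialBlock_of_isBlock hB with h | h
    · left
      refine (AddSubgroup.eq_bot_iff_forall U).2 fun u hu => ?_
      exact e.injective (h ⟨u, hu, rfl⟩ ⟨0, U.zero_mem, rfl⟩)
    · right
      refine (AddSubgroup.eq_top_iff' U).2 fun u => ?_
      obtain ⟨v, hv, hvu⟩ := (Set.ext_iff.1 h (e u)).2 (Set.mem_univ _)
      exact e.injective hvu ▸ hv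
  refine MulAction.is_two_pretransitive_iff.2 fun {x y u v} hxy huv => ?_
  obtain ⟨k, hk, hk0, hkx⟩ := transitive_stabilizer hn hnp hτ hblock
    (e.symm y - e.symm x) (e.symm v - e.symm u)
    (sub_ne_zero.2 fun h => hxy (e.symm.injective h).symm)
    (sub_ne_zero.2 fun h => huv (e.symm.injective h).symm)
  obtain ⟨g, hg⟩ := mul_mem (mul_mem (hτ (e.symm u)) hk) (hτ (-e.symm x))
  have hap : ∀ w, g • w = e (k (e.symm w - e.symm x) + e.symm u) := fun w => by
    have h := congrArg (fun π : Equiv.Perm (ZMod n) => e (π (e.symm w))) hg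
    simp only [hφ, Equiv.apply_symm_apply, Equiv.Perm.mul_apply, Equiv.coe_addRight] at h
    simpa [sub_eq_add_neg] using h
  refine ⟨g, ?_, ?_⟩
  · rw [hap, sub_self, hk0, zero_add, Equiv.apply_symm_apply]
  · rw [hap, hkx, sub_add_cancel, Equiv.apply_symm_apply]

end CfsgLib.Perm.SchurCyclic
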