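import Mathlib

/-!
Functions on `ZMod p` as polynomial functions: shift-invariant subspaces, orthogonal
complements, and permutations preserving a space of low degree functions.
-/

namespace CfsgLib.Perm

open Polynomial

variable {p : ℕ} [Fact p.Prime] {K : Type*} [Field K] [CharP K p]

/-- Evaluation of polynomials on the image of `ZMod p`. -/
noncomputable def polyFun (p : ℕ) (K : Type*) [Field K] : K[X] →ₗ[K] (ZMod p → K) where
  toFun P j := P.eval (ZMod.cast j : K)
  map_add' P Q := by funext j; simp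
  map_smul' c P := by funext j; simp

/-- The functions given by polynomials of degree less than `r`. -/
noncomputable def polySpace (p : ℕ) (K : Type*) [Field K] (r : ℕ) : Submodule K (ZMod p → K) :=
  (degreeLT K r).map (polyFun p K)

theorem polyFun_apply (P : K[X]) (j : ZMod p) : polyFun p K P j = P.eval (ZMod.cast j : K) := rfl

theorem cast_eq_castHom (j : ZMod p) :
    (ZMod.cast j : K) = ZMod.castHom (dvd_refl p) K j := rfl

theorem cast_injective : Function.Injective (fun j : ZMod p => (ZMod.cast j : K)) :=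
  (ZMod.castHom (dvd_refl p) K).injective

theorem mem_polySpace {r : ℕ} {f : ZMod p → K} :
    f ∈ polySpace p K r ↔ ∃ P : K[X], P.degree < r ∧ ∀ j, f j = P.eval (ZMod.cast j : K) := by
  simp only [polySpace, Submodule.mem_map, Polynomial.mem_degreeLT]
  constructor
  · rintro ⟨P, hP, rfl⟩; exact ⟨P, hP, fun j => rfl⟩
  · rintro ⟨P, hP, h⟩; exact ⟨P, hP, funext fun j => (h j).symm⟩

theorem polySpace_mono {r s : ℕ} (h : r ≤ s) : polySpace p K r ≤ polySpace p K s :=
  Submodule.map_mono (degreeLT_mono h)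

theorem eq_zero_of_polyFun_eq_zero {P : K[X]} (hP : P.degree < p) (h : polyFun p K P = 0) :
    P = 0 := by
  by_contra h0
  refine h0 (Polynomial.eq_zero_of_natDegree_lt_card_of_eval_eq_zero P
    (cast_injective (p := p) (K := K)) (fun j => congrFun h j) ?_)
  rw [ZMod.card]
  exact (natDegree_lt_iff_degree_lt h0).2 hP

theorem polyFun_injOn {P Q : K[X]} (hP : P.degree < p) (hQ : Q.degree < p)
    (h : polyFun p K P = polyFun p K Q) : P = Q :=
  sub_eq_zero.1 (eq_zero_of_polyFun_eq_zero (lt_of_le_of_lt (degree_sub_le _ _) (max_lt hP hQ))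
    (by rw [map_sub, h, sub_self]))

theorem finrank_polySpace {r : ℕ} (hr : r ≤ p) : Module.finrank K (polySpace p K r) = r := by
  have hinj : Function.Injective ((polyFun p K).domRestrict (degreeLT K r)) := by
    intro P Q h
    refine Subtype.ext (polyFun_injOn (p := p) ?_ ?_ h) <;>
      exact lt_of_lt_of_le (mem_degreeLT.1 (Subtype.prop _)) (by exact_mod_cast hr)
  rw [polySpace, ← LinearMap.range_domRestrict, LinearMap.finrank_range_of_inj hinj,
    LinearEquiv.finrank_eq (degreeLTEquiv K r), Module.finrank_fin_fun]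

theorem polySpace_eq_top : polySpace p K p = ⊤ :=
  Submodule.eq_top_of_finrank_eq (by
    rw [finrank_polySpace le_rfl, Module.finrank_fintype_fun_eq_card, ZMod.card])

/-- The backward difference of a polynomial. -/
noncomputable def diffPoly (P : K[X]) : K[X] := P.comp (X - 1) - P

theorem polyFun_diffPoly (P : K[X]) (j : ZMod p) :
    polyFun p K (diffPoly P) j = polyFun p K P (j - 1) - polyFun p K P j := by
  rw [polyFun_apply, polyFun_apply, polyFun_apply, diffPoly, eval_sub, eval_comp, eval_sub, eval_X,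
    eval_one, cast_eq_castHom (K := K) (j - 1), map_sub, map_one, ← cast_eq_castHom]

theorem natDegree_comp_X_sub_one (P : K[X]) : (P.comp (X - 1)).natDegree = P.natDegree := by
  rw [natDegree_comp, show (X - 1 : K[X]) = X - C 1 by rw [C_1], natDegree_X_sub_C, mul_one]

theorem coeff_diffPoly {P : K[X]} {d : ℕ} (hd : P.natDegree = d + 1) :
    (diffPoly P).coeff d = -((d + 1 : ℕ) : K) * P.coeff (d + 1) := by
  have hP : P = ∑ i ∈ Finset.range (d + 2), C (P.coeff i) * X ^ i := by
    conv_lhs => rw [P.as_sum_range_C_mul_X_pow, hd]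
  have h1 : (P.comp (X - 1)).coeff d =
      P.coeff d + -((d + 1 : ℕ) : K) * P.coeff (d + 1) := by
    conv_lhs => rw [hP]
    simp only [Polynomial.comp, eval₂_finsetSum, eval₂_mul, eval₂_C, eval₂_X_pow, finsetSum_coeff,
      coeff_C_mul]
    rw [show (X - 1 : K[X]) = X + C (-1) by simp [sub_eq_add_neg]]
    simp only [coeff_X_add_C_pow]
    rw [Finset.sum_range_succ, Finset.sum_range_succ, Finset.sum_eq_zero]
    · simp [Nat.choose_succ_self_right]
      ring
    · intro i hi
      simp [Nat.choose_eq_zero_of_lt (Finset.mem_range.1 hi)]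
  rw [diffPoly, coeff_sub, h1]
  ring

theorem natDegree_diffPoly {P : K[X]} {d : ℕ} (hd : P.natDegree = d + 1) (hp : d + 1 < p) :
    (diffPoly P).natDegree = d := by
  have hne : (diffPoly P).coeff d ≠ 0 := by
    rw [coeff_diffPoly hd]
    refine mul_ne_zero (neg_ne_zero.2 ?_) ?_
    · intro h0
      rw [CharP.cast_eq_zero_iff K p] at h0
      exact absurd (Nat.le_of_dvd (Nat.succ_pos d) h0) (not_le.2 hp)
    · rw [← hd, coeff_natDegree, leadingCoeff_ne_zero]
      rintro rfl
      simp at hd
  refine le_antisymm ?_ (le_natDegree_of_ne_zero hne)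
  rw [natDegree_le_iff_coeff_eq_zero]
  intro m hm
  have hm' : d + 1 ≤ m := hm
  rcases hm'.lt_or_eq with h | h
  · rw [diffPoly, coeff_sub, coeff_eq_zero_of_natDegree_lt (by rw [natDegree_comp_X_sub_one, hd]; exact h),
      coeff_eq_zero_of_natDegree_lt (by rw [hd]; exact h), sub_zero]
  · subst h
    rw [diffPoly, coeff_sub]
    have : (P.comp (X - 1)).coeff (d + 1) = P.coeff (d + 1) := by
      have h2 := leadingCoeff_comp (p := P) (q := (X - 1 : K[X]))
        (by rw [show (X - 1 : K[X]) = X - C 1 by rw [C_1], natDegree_X_sub_C]; exact one_ne_zero)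
      rw [show (X - 1 : K[X]) = X - C 1 by rw [C_1], leadingCoeff_X_sub_C, one_pow, mul_one] at h2
      rw [leadingCoeff, leadingCoeff, ← show (X - 1 : K[X]) = X - C 1 by rw [C_1],
        natDegree_comp_X_sub_one, hd] at h2
      exact h2
    rw [this, sub_self]

/-- A shift-invariant subspace of the functions on `ZMod p` is a space of polynomial functions. -/
theorem exists_eq_polySpace (W : Submodule K (ZMod p → K))
    (hW : ∀ f ∈ W, (fun j => f (j - 1)) ∈ W) : ∃ r ≤ p, W = polySpace p K r := by
  classical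
  let S : Set ℕ := {r | r ≤ p ∧ polySpace p K r ≤ W}
  have hS0 : 0 ∈ S := by
    refine ⟨Nat.zero_le _, ?_⟩
    rintro f hf
    obtain ⟨P, hP, hPf⟩ := mem_polySpace.1 hf
    have : P = 0 := by
      by_contra h0
      rw [← natDegree_lt_iff_degree_lt h0] at hP
      exact Nat.not_lt_zero _ hP
    have hf0 : f = 0 := funext fun j => by simp [hPf j, this]
    rw [hf0]; exact W.zero_mem
  -- the largest degree of a polynomial whose function lies in `W`
  have key : ∀ d : ℕ, ∀ P : K[X], P ≠ 0 → P.natDegree = d → d < p → polyFun p K P ∈ W →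
      polySpace p K (d + 1) ≤ W := by
    intro d
    induction d with
    | zero =>
      intro P hP0 hPd _ hPW f hf
      obtain ⟨Q, hQ, hQf⟩ := mem_polySpace.1 hf
      have hPc : P = C (P.coeff 0) := eq_C_of_natDegree_eq_zero hPd
      have hc0 : P.coeff 0 ≠ 0 := fun h0 => hP0 (by rw [hPc, h0, C_0])
      have hQc : Q = C (Q.coeff 0) := by
        refine eq_C_of_degree_le_zero ?_
        exact Nat.WithBot.lt_one_iff_le_zero.1 (by simpa using hQ)
      have : f = (Q.coeff 0 / P.coeff 0) • polyFun p K P := by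
        funext j
        simp only [hQf j, Pi.smul_apply, polyFun_apply, smul_eq_mul]
        conv_lhs => rw [hQc]
        conv_rhs => rw [hPc]
        simp [div_mul_cancel₀ _ hc0]
      rw [this]
      exact W.smul_mem _ hPW
    | succ d ih =>
      intro P hP0 hPd hdp hPW
      have hD : polyFun p K (diffPoly P) ∈ W := by
        have : polyFun p K (diffPoly P) = (fun j => polyFun p K P (j - 1)) - polyFun p K P :=
          funext fun j => polyFun_diffPoly P j
        rw [this]
        exact W.sub_mem (hW _ hPW) hPW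
      have hD0 : diffPoly P ≠ 0 := by
        intro h0
        have := coeff_diffPoly (K := K) hPd
        rw [h0, coeff_zero, eq_comm, mul_eq_zero, neg_eq_zero, CharP.cast_eq_zero_iff K p] at this
        rcases this with h1 | h1
        · exact absurd (Nat.le_of_dvd (Nat.succ_pos d) h1) (not_le.2 hdp)
        · rw [← hPd, coeff_natDegree, leadingCoeff_eq_zero] at h1
          exact hP0 h1
      have hlow := ih (diffPoly P) hD0 (natDegree_diffPoly hPd hdp) (Nat.lt_of_succ_lt hdp) hD
      intro f hf
      obtain ⟨Q, hQ, hQf⟩ := mem_polySpace.1 hf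
      have hlc : P.coeff (d + 1) ≠ 0 := by
        rw [← hPd, coeff_natDegree, leadingCoeff_ne_zero]; exact hP0
      set c := Q.coeff (d + 1) / P.coeff (d + 1) with hc
      have hR : (Q - C c * P).degree < ((d + 1 : ℕ) : WithBot ℕ) := by
        rw [degree_lt_iff_coeff_zero]
        intro m hm
        rcases hm.lt_or_eq with h | h
        · rw [coeff_sub, coeff_C_mul, coeff_eq_zero_of_natDegree_lt (p := P) (by omega),
            mul_zero, sub_zero]
          exact coeff_eq_zero_of_degree_lt (lt_of_lt_of_le hQ (by exact_mod_cast h))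
        · subst h
          rw [coeff_sub, coeff_C_mul, hc, div_mul_cancel₀ _ hlc, sub_self]
      have : f = polyFun p K (Q - C c * P) + c • polyFun p K P := by
        funext j
        simp [hQf j, polyFun_apply]
      rw [this]
      exact W.add_mem (hlow (mem_polySpace.2 ⟨_, hR, fun j => rfl⟩)) (W.smul_mem _ hPW)
  have hex : ∃ r, r ∈ S ∧ ∀ r' ∈ S, r' ≤ r := by
    refine ⟨Nat.findGreatest (fun r => r ∈ S) p, Nat.findGreatest_spec (Nat.zero_le p) hS0, ?_⟩
    exact fun r' hr' => Nat.le_findGreatest hr'.1 hr'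
  obtain ⟨r, hr, hmax⟩ := hex
  refine ⟨r, hr.1, le_antisymm (fun f hf => ?_) hr.2⟩
  have hft : f ∈ polySpace p K p := by rw [polySpace_eq_top]; trivial
  obtain ⟨P, hP, hPf⟩ := mem_polySpace.1 hft
  rcases eq_or_ne P 0 with rfl | hP0
  · exact mem_polySpace.2 ⟨0, by simp, hPf⟩
  have hdp : P.natDegree < p := (natDegree_lt_iff_degree_lt hP0).2 hP
  have hfP : polyFun p K P = f := funext fun j => (hPf j).symm
  have := hmax (P.natDegree + 1) ⟨hdp, key _ P hP0 rfl hdp (by rwa [hfP])⟩
  refine mem_polySpace.2 ⟨P, ?_, hPf⟩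
  exact (natDegree_lt_iff_degree_lt hP0).1 this

theorem sum_cast_pow (i : ℕ) (hi : i < p - 1) : ∑ j : ZMod p, (ZMod.cast j : K) ^ i = 0 := by
  simp only [cast_eq_castHom, ← map_pow, ← map_sum]
  rw [FiniteField.sum_pow_lt_card_sub_one (K := ZMod p) i (by rwa [ZMod.card]), map_zero]

theorem sum_cast_pow_last : ∑ j : ZMod p, (ZMod.cast j : K) ^ (p - 1) = -1 := by
  classical
  have hp := (Fact.out : p.Prime)
  have h : ∀ j : ZMod p, (ZMod.cast j : K) ^ (p - 1) = 1 - if j = 0 then 1 else 0 := by
    intro j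
    rw [cast_eq_castHom, ← map_pow]
    rcases eq_or_ne j 0 with rfl | hj
    · rw [if_pos rfl, zero_pow (by have := hp.two_le; omega), map_zero, sub_self]
    · rw [if_neg hj, ZMod.pow_card_sub_one_eq_one hj, map_one, sub_zero]
  simp only [h, Finset.sum_sub_distrib, Finset.sum_ite_eq', Finset.mem_univ, if_true,
    Finset.sum_const, Finset.card_univ, ZMod.card, nsmul_eq_mul, CharP.cast_eq_zero, mul_one,
    zero_sub]

theorem sum_polyFun {P : K[X]} (hP : P.natDegree ≤ p - 1) :
    ∑ j, polyFun p K P j = - P.coeff (p - 1) := by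
  have hp := (Fact.out : p.Prime).two_le
  have hlt : P.natDegree < p - 1 + 1 := by omega
  simp only [polyFun_apply, eval_eq_sum_range' hlt]
  rw [Finset.sum_comm, Finset.sum_range_succ, Finset.sum_eq_zero, zero_add]
  · rw [← Finset.mul_sum, sum_cast_pow_last]; simp
  · intro i hi
    rw [← Finset.mul_sum, sum_cast_pow i (Finset.mem_range.1 hi), mul_zero]

theorem sum_eq_zero_iff_mem_polySpace {f : ZMod p → K} :
    ∑ j, f j = 0 ↔ f ∈ polySpace p K (p - 1) := by
  have hp := (Fact.out : p.Prime).two_le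
  have hft : f ∈ polySpace p K p := by rw [polySpace_eq_top]; trivial
  obtain ⟨P, hP, hPf⟩ := mem_polySpace.1 hft
  have hfP : polyFun p K P = f := funext fun j => (hPf j).symm
  have hd : P.natDegree ≤ p - 1 := by
    rcases eq_or_ne P 0 with rfl | hP0
    · simp
    · have := (natDegree_lt_iff_degree_lt hP0).2 hP
      omega
  rw [← hfP, sum_polyFun hd, neg_eq_zero]
  constructor
  · intro h0
    refine mem_polySpace.2 ⟨P, ?_, fun j => rfl⟩
    rw [degree_lt_iff_coeff_zero]
    intro m hm
    rcases hm.lt_or_eq with h | h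
    · exact coeff_eq_zero_of_natDegree_lt (by omega)
    · rwa [← h]
  · intro hmem
    obtain ⟨Q, hQ, hQf⟩ := mem_polySpace.1 hmem
    have : P = Q := polyFun_injOn hP
      (lt_of_lt_of_le hQ (by exact_mod_cast Nat.sub_le p 1)) (funext hQf)
    rw [this]
    exact coeff_eq_zero_of_degree_lt hQ

theorem mem_polySpace_of_forall_sum_eq_zero {r : ℕ} (hr : r ≤ p) {g : ZMod p → K}
    (h : ∀ f ∈ polySpace p K r, ∑ j, f j * g j = 0) : g ∈ polySpace p K (p - r) := by
  have hp := (Fact.out : p.Prime).two_le
  have hgt : g ∈ polySpace p K p := by rw [polySpace_eq_top]; trivial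
  obtain ⟨P, hP, hPg⟩ := mem_polySpace.1 hgt
  refine mem_polySpace.2 ⟨P, ?_, hPg⟩
  rcases eq_or_ne P 0 with rfl | hP0
  · simp
  rw [← natDegree_lt_iff_degree_lt hP0]
  have hd : P.natDegree < p := (natDegree_lt_iff_degree_lt hP0).2 hP
  by_contra hcon
  set m := p - 1 - P.natDegree with hm
  have hXm : (X ^ m : K[X]).degree < (r : WithBot ℕ) := by
    rw [degree_X_pow]
    exact_mod_cast (show m < r by omega)
  have h1 := h (polyFun p K (X ^ m)) (mem_polySpace.2 ⟨_, hXm, fun j => rfl⟩)
  have h2 : ∑ j, polyFun p K (X ^ m * P) j = 0 := by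
    rw [← h1]
    refine Finset.sum_congr rfl fun j _ => ?_
    simp [polyFun_apply, hPg j]
  have hdeg : (X ^ m * P).natDegree = p - 1 := by
    rw [natDegree_mul (pow_ne_zero _ X_ne_zero) hP0, natDegree_X_pow]
    omega
  rw [sum_polyFun hdeg.le, neg_eq_zero, ← hdeg, coeff_natDegree, leadingCoeff_eq_zero] at h2
  exact mul_ne_zero (pow_ne_zero _ X_ne_zero) hP0 h2

theorem sum_mul_eq_zero {r s : ℕ} (hrs : r + s ≤ p) {f g : ZMod p → K}
    (hf : f ∈ polySpace p K r) (hg : g ∈ polySpace p K s) : ∑ j, f j * g j = 0 := by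
  obtain ⟨P, hP, hPf⟩ := mem_polySpace.1 hf
  obtain ⟨Q, hQ, hQg⟩ := mem_polySpace.1 hg
  have heq : ∀ j, f j * g j = polyFun p K (P * Q) j := fun j => by
    simp [polyFun_apply, hPf j, hQg j]
  simp only [heq]
  rcases eq_or_ne P 0 with rfl | hP0
  · simp
  rcases eq_or_ne Q 0 with rfl | hQ0
  · simp
  have h1 := (natDegree_lt_iff_degree_lt hP0).2 hP
  have h2 := (natDegree_lt_iff_degree_lt hQ0).2 hQ
  have hdeg : (P * Q).natDegree < p - 1 := by
    rw [natDegree_mul hP0 hQ0]; omega
  rw [sum_polyFun hdeg.le, coeff_eq_zero_of_natDegree_lt hdeg, neg_zero]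

/-- A permutation preserving the polynomial functions of degree `< r`, `2 ≤ r ≤ p - 2`, is
affine. -/
theorem affine_of_preserve {r : ℕ} (hr2 : 2 ≤ r) (hrp : r + 2 ≤ p) (π : Equiv.Perm (ZMod p))
    (h1 : ∀ f ∈ polySpace p K r, f ∘ π ∈ polySpace p K r)
    (h2 : ∀ f ∈ polySpace p K r, f ∘ π.symm ∈ polySpace p K r) :
    ∀ j : ZMod p, π j = (π 1 - π 0) * j + π 0 := by
  have h1' : ∀ g ∈ polySpace p K (p - r), g ∘ π ∈ polySpace p K (p - r) := by
    intro g hg
    refine mem_polySpace_of_forall_sum_eq_zero (by omega) fun f hf => ?_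
    rw [← Equiv.sum_comp π.symm]
    simp only [Function.comp_apply, Equiv.apply_symm_apply]
    exact sum_mul_eq_zero (by omega) (h2 f hf) hg
  have hXmem : ∀ s i : ℕ, i < s → (fun j : ZMod p => (ZMod.cast j : K) ^ i) ∈ polySpace p K s :=
    fun s i hi => mem_polySpace.2 ⟨X ^ i, by rw [degree_X_pow]; exact_mod_cast hi, fun j => by simp⟩
  have hpre : ∀ i : ℕ, i < max r (p - r) →
      (fun j : ZMod p => (ZMod.cast (π j) : K) ^ i) ∈ polySpace p K (max r (p - r)) := by
    intro i hi
    rcases le_total (p - r) r with h | h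
    · rw [max_eq_left h] at hi ⊢
      exact h1 _ (hXmem r i hi)
    · rw [max_eq_right h] at hi ⊢
      exact h1' _ (hXmem (p - r) i hi)
  have hmin : (fun j : ZMod p => (ZMod.cast (π j) : K) ^ 1) ∈ polySpace p K (min r (p - r)) := by
    rcases le_total (p - r) r with h | h
    · rw [min_eq_right h]
      exact h1' _ (hXmem (p - r) 1 (by omega))
    · rw [min_eq_left h]
      exact h1 _ (hXmem r 1 (by omega))
  obtain ⟨P, hP, hPπ⟩ := mem_polySpace.1 hmin
  simp only [pow_one] at hPπ
  -- `P` has degree at most one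
  have hdeg : P.natDegree ≤ 1 := by
    by_contra hd
    have hP0 : P ≠ 0 := by rintro rfl; simp at hd
    have hdmin := (natDegree_lt_iff_degree_lt hP0).2 hP
    obtain ⟨m, hm⟩ : ∃ m, max r (p - r) = m + 1 := ⟨max r (p - r) - 1, by omega⟩
    have hm2 : 2 ≤ m := by
      have := le_max_left r (p - r); have := le_max_right r (p - r); omega
    have hmd : m + P.natDegree ≤ p - 2 := by
      have := min_add_max r (p - r); omega
    set d := P.natDegree with hdd
    set i := m / d + 1 with hi
    have hid1 : m < i * d := by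
      rw [hi, add_mul, one_mul]
      exact lt_of_lt_of_eq (Nat.lt_div_mul_add (by omega)) rfl
    have hid2 : i * d ≤ m + d := by
      rw [hi, add_mul, one_mul]
      exact Nat.add_le_add_right (Nat.div_mul_le_self m d) d
    have him : i ≤ m := by
      have : m / d < m := Nat.div_lt_self (by omega) (by omega)
      omega
    obtain ⟨Q, hQ, hQπ⟩ := mem_polySpace.1 (hpre i (by omega))
    have hPQ : P ^ i = Q := by
      refine polyFun_injOn (p := p) ?_ (lt_of_lt_of_le hQ (by exact_mod_cast (by omega : max r (p - r) ≤ p))) ?_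
      · refine lt_of_le_of_lt degree_le_natDegree ?_
        rw [natDegree_pow]
        exact_mod_cast (show i * d < p by omega)
      · funext j
        simp [polyFun_apply, ← hQπ j, ← hPπ j]
    have hQd : Q.natDegree = i * d := by rw [← hPQ, natDegree_pow]
    have hQ0 : Q ≠ 0 := by rintro rfl; rw [natDegree_zero] at hQd; omega
    have := (natDegree_lt_iff_degree_lt hQ0).2 hQ
    omega
  have hlin := eq_X_add_C_of_natDegree_le_one hdeg
  have hval : ∀ j : ZMod p, (ZMod.cast (π j) : K) = P.coeff 1 * ZMod.cast j + P.coeff 0 := by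
    intro j
    rw [hPπ j]
    conv_lhs => rw [hlin]
    simp
  intro j
  apply cast_injective (p := p) (K := K)
  change (ZMod.cast (π j) : K) = ZMod.cast ((π 1 - π 0) * j + π 0)
  simp only [cast_eq_castHom, map_add, map_mul, map_sub]
  simp only [← cast_eq_castHom, hval]
  simp only [cast_eq_castHom, map_zero, map_one]
  ring

end CfsgLib.Perm
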