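import Cfsg.Agent.Lib.Perm.Module
import Cfsg.Agent.Lib.Perm.PolyFun
import Cfsg.Agent.S0671

/-!
Transitive permutation groups of prime degree: coordinates from a `p`-cycle, affine maps,
irreducibility of the heart, and Burnside's theorem ingredients.
-/

namespace CfsgLib.Perm

open MulAction

variable {α : Type*} [Fintype α] {p : ℕ} [Fact p.Prime] {G : Subgroup (Equiv.Perm α)}

/-- `e` is a coordinate system for the translation `σ`. -/
def IsCoord (σ : G) (e : ZMod p ≃ α) : Prop :=
  ∀ j : ZMod p, σ • e j = e (j + 1)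

/-- The permutation `g` is affine in the coordinates `e`. -/
def IsAffineIn (e : ZMod p ≃ α) (g : G) : Prop :=
  ∃ A B : ZMod p, ∀ j : ZMod p, g • e j = e (A * j + B)

theorem exists_orderOf_eq (hα : Fintype.card α = p) [IsPretransitive G α] :
    ∃ σ : G, orderOf σ = p := by
  have hp := (Fact.out : p.Prime)
  have hne : Nonempty α := Fintype.card_pos_iff.1 (by rw [hα]; exact hp.pos)
  obtain ⟨a⟩ := hne
  have h : p ∣ Nat.card G := by
    rw [← Subgroup.index_mul_card (stabilizer G a), index_stabilizer_of_transitive,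
      Nat.card_eq_fintype_card, hα]
    exact dvd_mul_right _ _
  exact exists_prime_orderOf_dvd_card' p h

theorem exists_isCoord (hα : Fintype.card α = p) {σ : G} (hσ : orderOf σ = p) (a : α) :
    ∃ e : ZMod p ≃ α, IsCoord σ e ∧ e 0 = a := by
  classical
  have hp := (Fact.out : p.Prime)
  have hσ1 : σ ≠ 1 := by intro h; rw [h, orderOf_one] at hσ; exact hp.ne_one hσ.symm
  have hord : orderOf (σ : Equiv.Perm α) = p := by rw [Subgroup.orderOf_coe, hσ]
  have hcyc : (σ : Equiv.Perm α).IsCycle :=
    Equiv.Perm.isCycle_of_prime_order' (by rw [hord]; exact hp)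
      (by rw [hord, hα]; exact lt_mul_of_one_lt_left hp.pos one_lt_two)
  have hsupp : (σ : Equiv.Perm α).support = Finset.univ := by
    apply Finset.eq_univ_of_card
    rw [← hcyc.orderOf, hord, hα]
  have hmoves : ∀ x : α, (σ : Equiv.Perm α) x ≠ x := fun x => by
    rw [← Equiv.Perm.mem_support, hsupp]; exact Finset.mem_univ x
  have hsurj : Function.Surjective (fun j : ZMod p => σ ^ j.val • a) := by
    intro x
    obtain ⟨i, hi⟩ := hcyc.exists_pow_eq (hmoves a) (hmoves x)
    refine ⟨(i : ZMod p), ?_⟩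
    simp only [ZMod.val_natCast]
    rw [← hσ, pow_mod_orderOf]
    simpa [Subgroup.smul_def] using hi
  have hbij : Function.Bijective (fun j : ZMod p => σ ^ j.val • a) :=
    (Fintype.bijective_iff_surjective_and_card _).2 ⟨hsurj, by rw [ZMod.card, hα]⟩
  refine ⟨Equiv.ofBijective _ hbij, fun j => ?_, by simp⟩
  simp only [Equiv.ofBijective_apply]
  rw [smul_smul, ← pow_succ', ZMod.val_add, ZMod.val_one, ← pow_mod_orderOf σ (_ + 1), hσ]

theorem exists_coord (hα : Fintype.card α = p) [IsPretransitive G α] :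
    ∃ (σ : G) (e : ZMod p ≃ α), orderOf σ = p ∧ IsCoord σ e := by
  obtain ⟨σ, hσ⟩ := exists_orderOf_eq (G := G) hα
  have hne : Nonempty α := Fintype.card_pos_iff.1 (by rw [hα]; exact (Fact.out : p.Prime).pos)
  obtain ⟨a⟩ := hne
  obtain ⟨e, he, -⟩ := exists_isCoord hα hσ a
  exact ⟨σ, e, hσ, he⟩

variable {σ : G} {e : ZMod p ≃ α}

omit [Fintype α] in
theorem IsCoord.inv_smul (he : IsCoord σ e) (j : ZMod p) : σ⁻¹ • e j = e (j - 1) := by
  rw [inv_smul_eq_iff, he, sub_add_cancel]

omit [Fintype α] in
theorem IsCoord.pow_smul (he : IsCoord σ e) (k : ℕ) (j : ZMod p) :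
    σ ^ k • e j = e (j + k) := by
  induction k with
  | zero => simp
  | succ k ih => rw [pow_succ', mul_smul, ih, he, Nat.cast_succ, add_assoc]

omit [Fintype α] in
/-- If every element of `G` is affine then `G` is solvable. -/
theorem isSolvable_of_affine (e : ZMod p ≃ α) (h : ∀ g : G, IsAffineIn e g) :
    Group.IsSolvable G := by
  have slope_eq : ∀ (g : G) (A B : ZMod p), (∀ j, g • e j = e (A * j + B)) →
      A = e.symm (g • e 1) - e.symm (g • e 0) ∧ B = e.symm (g • e 0) := by
    intro g A B hg
    simp [hg]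
  let f : G →* ZMod p :=
    { toFun := fun g => e.symm (g • e 1) - e.symm (g • e 0)
      map_one' := by simp
      map_mul' := fun g g' => by
        obtain ⟨A, B, hg⟩ := h g
        obtain ⟨A', B', hg'⟩ := h g'
        have hgg : ∀ j, (g * g') • e j = e (A * A' * j + (A * B' + B)) := fun j => by
          rw [mul_smul, hg', hg]; congr 1; ring
        rw [← (slope_eq _ _ _ hg).1, ← (slope_eq _ _ _ hg').1, ← (slope_eq _ _ _ hgg).1] }
  have hker : ∀ g : G, g ∈ f.toHomUnits.ker → ∀ j, g • e j = e (j + e.symm (g • e 0)) := by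
    intro g hg j
    obtain ⟨A, B, hgA⟩ := h g
    have h1 : f g = 1 := by
      simpa [Units.ext_iff] using hg
    obtain ⟨hA, hB⟩ := slope_eq g A B hgA
    have hA1 : A = 1 := hA.trans h1
    rw [hgA, hA1, one_mul, ← hB]
  have hab : Group.IsSolvable f.toHomUnits.ker := by
    refine Group.isSolvable_of_comm fun a b => ?_
    refine Subtype.ext (Subtype.ext (Equiv.ext fun x => ?_))
    obtain ⟨j, rfl⟩ := e.surjective x
    change ((a : G) * b) • e j = ((b : G) * a) • e j
    rw [mul_smul, mul_smul, hker _ b.2 j, hker _ a.2 (j + e.symm ((b : G) • e 0)), hker _ a.2 j,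
      hker _ b.2 (j + e.symm ((a : G) • e 0))]
    congr 1; ring
  exact Group.isSolvable_of_ker_le_range f.toHomUnits.ker.subtype f.toHomUnits
    (by rw [Subgroup.range_subtype])

theorem not_sq_dvd (hα : Fintype.card α = p) : ¬ p ^ 2 ∣ Nat.card G := by
  classical
  have hp := (Fact.out : p.Prime)
  intro h
  have h1 : Nat.card G ∣ p.factorial := by
    have := Subgroup.card_subgroup_dvd_card G
    rwa [Nat.card_perm, Nat.card_eq_fintype_card (α := α), hα] at this
  have h2 := h.trans h1
  rw [← Nat.mul_factorial_pred hp.ne_zero, pow_two] at h2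
  have h3 := Nat.dvd_of_mul_dvd_mul_left hp.pos h2
  have := (hp.dvd_factorial).1 h3
  have := hp.two_le
  omega

/-- A normal subgroup of order `p` contains every element of order `p`. -/
theorem mem_of_normal_of_card (hα : Fintype.card α = p) (N : Subgroup G) [N.Normal]
    (hN : Nat.card N = p) {g : G} (hg : g ^ p = 1) : g ∈ N := by
  have hp := (Fact.out : p.Prime)
  have h1 : ((g : G ⧸ N)) ^ p = 1 := by rw [← QuotientGroup.mk_pow, hg, QuotientGroup.mk_one]
  rcases (Nat.dvd_prime hp).1 (orderOf_dvd_of_pow_eq_one h1) with h | h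
  · rw [orderOf_eq_one_iff, QuotientGroup.eq_one_iff] at h
    exact h
  · exfalso
    have h2 : p ∣ N.index := h ▸ orderOf_dvd_natCard (g : G ⧸ N)
    refine not_sq_dvd (G := G) hα ?_
    rw [← N.card_mul_index, hN, pow_two]
    exact Nat.mul_dvd_mul_left p h2

/-- A nontrivial normal subgroup of a transitive group of prime degree is transitive. -/
theorem normal_isPretransitive (hα : Fintype.card α = p) [IsPretransitive G α]
    (N : Subgroup G) [N.Normal] (hN : N ≠ ⊥) : IsPretransitive N α := by
  have hp := (Fact.out : p.Prime)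
  have : IsPreprimitive G α :=
    IsPreprimitive.of_prime_card (by rw [Nat.card_eq_fintype_card, hα]; exact hp)
  refine IsQuasiPreprimitive.isPretransitive_of_normal fun hfix => hN ?_
  rw [Subgroup.eq_bot_iff_forall]
  intro n hn
  refine Subtype.ext (Equiv.ext fun x => ?_)
  have hx : x ∈ fixedPoints N α := by rw [hfix]; trivial
  simpa [Subgroup.smul_def] using hx ⟨n, hn⟩

omit [Fintype α] in
theorem affine_of_conj_eq_pow (he : IsCoord σ e) {g : G} {k : ℕ}
    (hk : g * σ * g⁻¹ = σ ^ k) :
    ∀ j : ZMod p, g • e j = e ((k : ZMod p) * j + e.symm (g • e 0)) := by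
  have hp := (Fact.out : p.Prime)
  have hnat : ∀ n : ℕ, g • e (n : ZMod p) = e ((k : ZMod p) * n + e.symm (g • e 0)) := by
    intro n
    induction n with
    | zero => simp
    | succ n ih =>
      rw [Nat.cast_succ, ← he, ← mul_smul, show g * σ = σ ^ k * g by rw [← hk]; group,
        mul_smul, ih, he.pow_smul]
      congr 1; ring
  intro j
  have := hnat j.val
  rwa [ZMod.natCast_val, ZMod.cast_id] at this

/-- In a solvable transitive group of prime degree every element is affine. -/
theorem affine_of_isSolvable (hα : Fintype.card α = p) [IsPretransitive G α]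
    (hsolv : Group.IsSolvable G) (hσ : orderOf σ = p) (he : IsCoord σ e) (g : G) :
    IsAffineIn e g := by
  classical
  have hp := (Fact.out : p.Prime)
  obtain ⟨⟨n, hn⟩⟩ := hsolv
  have hex : ∃ n, derivedSeries G n = ⊥ := ⟨n, hn⟩
  have h0 : Nat.find hex ≠ 0 := by
    intro h
    have hbot := Nat.find_spec hex
    rw [h, derivedSeries_zero] at hbot
    have : σ ∈ (⊤ : Subgroup G) := trivial
    rw [hbot, Subgroup.mem_bot] at this
    rw [this, orderOf_one] at hσ
    exact hp.ne_one hσ.symm
  obtain ⟨m, hm⟩ := Nat.exists_eq_succ_of_ne_zero h0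
  set N := derivedSeries G m with hNdef
  have hN : N ≠ ⊥ := Nat.find_min hex (by omega)
  have : N.Normal := derivedSeries_normal G m
  have hab : ∀ a ∈ N, ∀ b ∈ N, a * b = b * a := by
    intro a ha b hb
    have h1 := Subgroup.commutator_mem_commutator ha hb
    rw [hNdef, ← derivedSeries_succ, show m + 1 = Nat.find hex from hm.symm, Nat.find_spec hex,
      Subgroup.mem_bot, commutatorElement_eq_one_iff_mul_comm] at h1
    exact h1
  have := normal_isPretransitive hα N hN
  let a := e 0
  have hreg : stabilizer N a = ⊥ := by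
    rw [Subgroup.eq_bot_iff_forall]
    intro x hx
    refine Subtype.ext (Subtype.ext (Equiv.ext fun y => ?_))
    obtain ⟨z, rfl⟩ := exists_smul_eq N a y
    have hcomm : x * z = z * x := Subtype.ext (hab _ x.2 _ z.2)
    change x • z • a = z • a
    rw [← mul_smul, hcomm, mul_smul, hx]
  have hcard : Nat.card N = p := by
    rw [← (stabilizer N a).card_mul_index, hreg, Subgroup.card_bot, one_mul, ← hreg,
      index_stabilizer_of_transitive, Nat.card_eq_fintype_card, hα]
  have hσN : σ ∈ N := mem_of_normal_of_card hα N hcard (by rw [← hσ, pow_orderOf_eq_one])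
  have hz : Subgroup.zpowers σ = N :=
    Subgroup.eq_of_le_of_card_ge (Subgroup.zpowers_le.2 hσN)
      (by rw [Nat.card_zpowers, hσ, hcard])
  have hmem : g * σ * g⁻¹ ∈ Subgroup.zpowers σ := by
    rw [hz]; exact (inferInstance : N.Normal).conj_mem σ hσN g
  obtain ⟨k, hk⟩ := (mem_powers_iff_mem_zpowers).2 hmem
  exact ⟨k, e.symm (g • e 0), affine_of_conj_eq_pow he hk.symm⟩

theorem perm_two_affine : ∀ π : Equiv.Perm (ZMod 2), ∀ j, π j = (π 1 - π 0) * j + π 0 := by
  decide

theorem perm_three_affine : ∀ π : Equiv.Perm (ZMod 3), ∀ j, π j = (π 1 - π 0) * j + π 0 := by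
  decide

section Module

variable {K : Type*} [Field K] [CharP K p]

omit [Fintype α] in
theorem exists_reindex_eq (he : IsCoord σ e) (W : Submodule K (α → K))
    (hW : ∀ g : G, ∀ w ∈ W, Cfsg.permRep K G α g w ∈ W) :
    ∃ r ≤ p, W.map (LinearMap.funLeft K K e) = polySpace p K r := by
  refine exists_eq_polySpace _ ?_
  rintro _ ⟨f, hf, rfl⟩
  refine ⟨_, hW σ f hf, funext fun j => ?_⟩
  simp only [LinearMap.funLeft_apply, permRep_apply, he.inv_smul]

theorem map_permConstants (e : ZMod p ≃ α) :
    (Cfsg.permConstants K G α).toSubmodule.map (LinearMap.funLeft K K e) = polySpace p K 1 := by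
  ext f
  rw [Submodule.mem_map, mem_polySpace]
  constructor
  · rintro ⟨v, hv, rfl⟩
    obtain ⟨c, hc⟩ := mem_permConstants.1 hv
    refine ⟨Polynomial.C c, lt_of_le_of_lt Polynomial.degree_C_le (by simp), fun j => ?_⟩
    simp [LinearMap.funLeft_apply, hc]
  · rintro ⟨P, hP, hPf⟩
    have hPc := Polynomial.eq_C_of_degree_le_zero
      (show P.degree ≤ 0 from Nat.WithBot.lt_one_iff_le_zero.1 (by simpa using hP))
    refine ⟨fun _ => P.coeff 0, mem_permConstants.2 ⟨_, fun _ => rfl⟩, funext fun j => ?_⟩
    rw [LinearMap.funLeft_apply, hPf j, hPc]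
    simp

theorem map_permSumZero (e : ZMod p ≃ α) :
    (Cfsg.permSumZero K G α).toSubmodule.map (LinearMap.funLeft K K e) =
      polySpace p K (p - 1) := by
  ext f
  rw [Submodule.mem_map, ← sum_eq_zero_iff_mem_polySpace]
  constructor
  · rintro ⟨v, hv, rfl⟩
    rw [← mem_permSumZero.1 hv]
    exact Equiv.sum_comp e v
  · intro hf
    refine ⟨f ∘ e.symm, ?_, funext fun j => by simp [LinearMap.funLeft_apply]⟩
    rw [mem_permSumZero, ← hf]
    exact Equiv.sum_comp e.symm f

omit [Fintype α] in
theorem funLeft_injective (e : ZMod p ≃ α) :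
    Function.Injective (LinearMap.funLeft K K e : (α → K) →ₗ[K] (ZMod p → K)) :=
  LinearMap.funLeft_injective_of_surjective K K e e.surjective

/-- The heart of the permutation module is irreducible for nonsolvable groups of prime degree. -/
theorem heart_irreducible (hα : Fintype.card α = p) [IsPretransitive G α]
    (hG : ¬ Group.IsSolvable G) (W : Subrepresentation (Cfsg.permRep K G α))
    (h₁ : (Cfsg.permConstants K G α).toSubmodule ≤ W.toSubmodule)
    (h₂ : W.toSubmodule ≤ (Cfsg.permSumZero K G α).toSubmodule) :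
    W = Cfsg.permConstants K G α ∨ W = Cfsg.permSumZero K G α := by
  have hp := (Fact.out : p.Prime)
  obtain ⟨σ, e, -, he⟩ := exists_coord (G := G) hα
  obtain ⟨r, hrp, hr⟩ :=
    exists_reindex_eq he W.toSubmodule (fun g w hw => W.apply_mem_toSubmodule g hw)
  have hlo : 1 ≤ r := by
    have := Submodule.finrank_mono (Submodule.map_mono (f := LinearMap.funLeft K K e) h₁)
    rwa [hr, map_permConstants, finrank_polySpace hp.pos, finrank_polySpace hrp] at this
  have hhi : r ≤ p - 1 := by
    have := Submodule.finrank_mono (Submodule.map_mono (f := LinearMap.funLeft K K e) h₂)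
    rwa [hr, map_permSumZero, finrank_polySpace (Nat.sub_le p 1), finrank_polySpace hrp] at this
  have hinj := Submodule.map_injective_of_injective (funLeft_injective (K := K) e)
  rcases eq_or_lt_of_le hlo with h | hlo
  · refine Or.inl (Subrepresentation.toSubmodule_injective (hinj ?_))
    rw [hr, map_permConstants, ← h]
  rcases eq_or_lt_of_le hhi with h | hhi
  · refine Or.inr (Subrepresentation.toSubmodule_injective (hinj ?_))
    rw [hr, map_permSumZero, h]
  refine absurd (isSolvable_of_affine e fun g => ?_) hG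
  let π : Equiv.Perm (ZMod p) := (e.trans (g : Equiv.Perm α)).trans e.symm
  have hpres : ∀ g' : G, ∀ f ∈ polySpace p K r,
      (fun j => f (e.symm (g' • e j))) ∈ polySpace p K r := by
    intro g' f hf
    rw [← hr] at hf ⊢
    obtain ⟨w, hw, rfl⟩ := hf
    refine ⟨_, W.apply_mem_toSubmodule g'⁻¹ hw, funext fun j => ?_⟩
    simp [LinearMap.funLeft_apply, permRep_apply]
  have haff := affine_of_preserve (K := K) hlo (by omega) π
    (fun f hf => hpres g f hf) (fun f hf => hpres g⁻¹ f hf)
  refine ⟨π 1 - π 0, π 0, fun j => ?_⟩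
  rw [← haff j]
  simp [π, Subgroup.smul_def]

theorem five_le (hα : Fintype.card α = p) [IsPretransitive G α] (hG : ¬ Group.IsSolvable G) :
    5 ≤ p := by
  have hp := (Fact.out : p.Prime)
  by_contra h
  have h2 := hp.two_le
  obtain ⟨σ, e, -, -⟩ := exists_coord (G := G) hα
  refine hG (isSolvable_of_affine e fun g => ?_)
  let π : Equiv.Perm (ZMod p) := (e.trans (g : Equiv.Perm α)).trans e.symm
  refine ⟨π 1 - π 0, π 0, fun j => ?_⟩
  have hkey : ∀ π : Equiv.Perm (ZMod p), ∀ j, π j = (π 1 - π 0) * j + π 0 := by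
    interval_cases p
    · exact perm_two_affine
    · exact perm_three_affine
    · norm_num at hp
  rw [← hkey π j]
  simp [π, Subgroup.smul_def]

/-- Burnside: nonsolvable transitive groups of prime degree are 2-transitive. -/
theorem two_transitive (hα : Fintype.card α = p) [IsPretransitive G α]
    (hG : ¬ Group.IsSolvable G) : IsMultiplyPretransitive G α 2 := by
  refine Cfsg.Agent.S0671.result (K := ZMod p) (p := p) (f := 1) le_rfl (by rw [hα, pow_one]) ?_
  intro W W' h1 h2 h3
  have hp5 := five_le hα hG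
  obtain ⟨σ, e, -, he⟩ := exists_coord (G := G) hα
  rcases heart_irreducible hα hG W h1 (h2.le.trans h3) with rfl | rfl
  swap
  · exact absurd h3 h2.not_ge
  rcases heart_irreducible hα hG W' (h1.trans h2.le) h3 with rfl | rfl
  · exact absurd h2 (lt_irrefl _)
  refine ⟨σ, fun x => (e.symm x) ^ 2, ?_, ?_⟩
  · rw [mem_permSumZero, ← Equiv.sum_comp e]
    simp only [Equiv.symm_apply_apply]
    simpa using FiniteField.sum_pow_lt_card_sub_one (K := ZMod p) 2 (by rw [ZMod.card]; omega)
  · intro hmem
    obtain ⟨c, hc⟩ := mem_permConstants.1 hmem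
    have h0 := hc (e 0)
    have h1' := hc (e 1)
    simp only [Pi.sub_apply, permRep_apply, he.inv_smul, Equiv.symm_apply_apply] at h0 h1'
    have h20 : (2 : ZMod p) = 0 := by linear_combination h0 - h1'
    have h' : ((2 : ℕ) : ZMod p) = 0 := by exact_mod_cast h20
    rw [ZMod.natCast_eq_zero_iff] at h'
    have := Nat.le_of_dvd (by norm_num) h'
    omega

end Module

/-- Coordinates in which a given translation and a negation lie in `G`. -/
theorem exists_coord_neg (hα : Fintype.card α = p) (hp2 : p ≠ 2) (P : Sylow p G)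
    [IsPretransitive G α]
    (heven : Even (Nat.card (Subgroup.normalizer ((P : Subgroup G) : Set G)))) :
    ∃ (σ s : G) (e : ZMod p ≃ α), orderOf σ = p ∧ IsCoord σ e ∧ s ≠ 1 ∧ s * s = 1 ∧
      ∀ j : ZMod p, s • e j = e (-j) := by
  classical
  have hp := (Fact.out : p.Prime)
  have hne : Nonempty α := Fintype.card_pos_iff.1 (by rw [hα]; exact hp.pos)
  obtain ⟨a⟩ := hne
  obtain ⟨σ₀, hσ₀⟩ := exists_orderOf_eq (G := G) hα
  -- `P` has order `p`
  have hPcard : Nat.card (P : Subgroup G) = p := by
    obtain ⟨n, hn⟩ := P.isPGroup'.exists_card_eq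
    rcases n with _ | _ | n
    · exfalso
      have hdvd : p ∣ Nat.card G := by
        conv_lhs => rw [← hσ₀]
        exact orderOf_dvd_natCard σ₀
      rw [← (P : Subgroup G).card_mul_index, hn, pow_zero, one_mul] at hdvd
      exact P.not_dvd_index hdvd
    · simpa using hn
    · exfalso
      refine not_sq_dvd (G := G) hα (dvd_trans ?_ (Subgroup.card_subgroup_dvd_card (P : Subgroup G)))
      rw [hn]; exact pow_dvd_pow p (by omega)
  have hnt : Nontrivial (P : Subgroup G) :=
    Finite.one_lt_card_iff_nontrivial.1 (by rw [hPcard]; exact hp.one_lt)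
  obtain ⟨σP, hσP⟩ := exists_ne (1 : (P : Subgroup G))
  have hσ : orderOf (σP : G) = p := by
    rw [Subgroup.orderOf_coe]
    have hdvd : orderOf σP ∣ p := by
      conv_rhs => rw [← hPcard]
      exact orderOf_dvd_natCard σP
    exact ((Nat.dvd_prime hp).1 hdvd).resolve_left
      (by simpa [orderOf_eq_one_iff] using hσP)
  have hz : Subgroup.zpowers (σP : G) = (P : Subgroup G) :=
    Subgroup.eq_of_le_of_card_ge (Subgroup.zpowers_le.2 σP.2)
      (by rw [Nat.card_zpowers, hσ, hPcard])
  obtain ⟨⟨t, htN⟩, ht2⟩ := exists_prime_orderOf_dvd_card' 2 (even_iff_two_dvd.1 heven)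
  have ht2' : orderOf t = 2 := by rwa [Subgroup.orderOf_mk] at ht2
  have htt : t * t = 1 := by rw [← pow_two, ← ht2', pow_orderOf_eq_one]
  have ht1 : t ≠ 1 := by intro h; rw [h, orderOf_one] at ht2'; omega
  obtain ⟨e₀, he₀, -⟩ := exists_isCoord hα hσ a
  have hconj : t * σP * t⁻¹ ∈ Subgroup.zpowers (σP : G) := by
    rw [hz]
    exact (Subgroup.mem_normalizer_iff.1 htN _).1 σP.2
  obtain ⟨k, hk⟩ := (mem_powers_iff_mem_zpowers).2 hconj
  have haff := affine_of_conj_eq_pow he₀ hk.symm
  set c := e₀.symm (t • e₀ 0) with hc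
  have hsq : ∀ j : ZMod p, (k : ZMod p) * ((k : ZMod p) * j + c) + c = j := by
    intro j
    apply e₀.injective
    rw [← haff, ← haff, ← mul_smul, htt, one_smul]
  have h00 : (k : ZMod p) * c + c = 0 := by simpa using hsq 0
  have h11 : (k : ZMod p) * (k : ZMod p) = 1 := by linear_combination hsq 1 - hsq 0
  have h20 : (2 : ZMod p) ≠ 0 := by
    intro h
    have h' : ((2 : ℕ) : ZMod p) = 0 := by exact_mod_cast h
    rw [ZMod.natCast_eq_zero_iff] at h'
    exact hp2 ((Nat.prime_dvd_prime_iff_eq hp Nat.prime_two).1 h')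
  have hk1 : (k : ZMod p) = -1 := by
    rcases mul_self_eq_one_iff.1 h11 with h | h
    · exfalso
      apply ht1
      have hc0 : c = 0 := by
        rw [h, one_mul, ← two_mul] at h00
        exact (mul_eq_zero.1 h00).resolve_left h20
      refine Subtype.ext (Equiv.ext fun x => ?_)
      obtain ⟨j, rfl⟩ := e₀.surjective x
      have h1 := haff j
      rw [h, hc0, one_mul, add_zero] at h1
      simpa [Subgroup.smul_def] using h1
    · exact h
  let d : ZMod p := c / 2
  have hd : d + d = c := by
    simp only [d]; field_simp; ring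
  refine ⟨(σP : G), t, (Equiv.addRight d).trans e₀, hσ, fun j => ?_, ht1, htt, fun j => ?_⟩
  · simp only [Equiv.trans_apply, Equiv.coe_addRight]
    rw [he₀, add_right_comm]
  · simp only [Equiv.trans_apply, Equiv.coe_addRight]
    rw [haff, hk1]
    congr 1
    linear_combination (1 : ZMod p) * (-hd)

end CfsgLib.Perm
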