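import Mathlib

/-!
Schur's theorem on primitive groups with a regular cyclic subgroup of prime power order.
-/

set_option autoImplicit false
set_option linter.style.haveILetI false

namespace CfsgLib.Perm.SchurPrimePower

/-- An integral relation between the `p`-th roots of unity has equal coefficients. -/
theorem coeff_eq_of_relation {p : ℕ} [hp : Fact p.Prime] {ζ : ℂ} (hζ : IsPrimitiveRoot ζ p)
    (c : ℕ → ℤ) (h : ∑ j ∈ Finset.range p, (c j : ℂ) * ζ ^ j = 0) :
    ∀ j < p, c j = c 0 := by
  open Polynomial in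
  let P : ℚ[X] := ∑ j ∈ Finset.range p, C (c j : ℚ) * X ^ j
  have hP : Polynomial.aeval ζ P = 0 := by simpa [P] using h
  have hd : Polynomial.cyclotomic p ℚ ∣ P := by
    rw [Polynomial.cyclotomic_eq_minpoly_rat hζ hp.out.pos]
    exact minpoly.dvd ℚ ζ hP
  obtain ⟨Q, hQ⟩ := hd
  have hPc : ∀ j < p, P.coeff j = (c j : ℚ) := fun j hj => by
    simp [P, Polynomial.finsetSum_coeff, hj]
  have hPd : P.natDegree ≤ p - 1 := by
    refine Polynomial.natDegree_sum_le_of_forall_le _ _ fun j hj => ?_
    refine (Polynomial.natDegree_C_mul_X_pow_le _ _).trans ?_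
    have := Finset.mem_range.1 hj
    omega
  have hcy : ∀ j < p, (Polynomial.cyclotomic p ℚ).coeff j = 1 := fun j hj => by
    simp [Polynomial.cyclotomic_prime, Polynomial.coeff_X_pow, hj]
  have hQd : Q.natDegree = 0 := by
    by_cases hQ0 : Q = 0
    · rw [hQ0, Polynomial.natDegree_zero]
    · have h1 := congrArg Polynomial.natDegree hQ
      rw [Polynomial.natDegree_mul (Polynomial.cyclotomic_ne_zero p ℚ) hQ0,
        Polynomial.natDegree_cyclotomic, Nat.totient_prime hp.out] at h1
      omega
  rw [Polynomial.eq_C_of_natDegree_eq_zero hQd] at hQ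
  intro j hj
  have h2 := congrArg (fun R => Polynomial.coeff R j) hQ
  have h3 := congrArg (fun R => Polynomial.coeff R 0) hQ
  simp only [Polynomial.coeff_mul_C, hPc j hj, hPc 0 hp.out.pos, hcy j hj, hcy 0 hp.out.pos] at h2 h3
  exact_mod_cast h2.trans h3.symm

section

variable {n : ℕ} [NeZero n] {G : Subgroup (Equiv.Perm (ZMod n))}

/-- Functions constant on the suborbits. -/
def Inv {R : Type*} (G : Subgroup (Equiv.Perm (ZMod n))) (f : ZMod n → R) : Prop :=
  ∀ h ∈ G, h 0 = 0 → ∀ x, f (h x) = f x

variable (hτ : ∀ c : ZMod n, Equiv.addRight c ∈ G)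
include hτ

theorem inv_sub {R : Type*} {f : ZMod n → R} (hf : Inv G f) {σ : Equiv.Perm (ZMod n)} (hσ : σ ∈ G)
    (x y : ZMod n) : f (σ x - σ y) = f (x - y) := by
  set k := Equiv.addRight (-(σ y)) * σ * Equiv.addRight y with hk
  have h0 : k 0 = 0 := by simp [hk]
  have h1 := hf k (G.mul_mem (G.mul_mem (hτ _) hσ) (hτ _)) h0 (x - y)
  simpa [hk, sub_eq_add_neg] using h1

theorem inv_conv {R : Type*} [CommSemiring R] {f g : ZMod n → R} (hf : Inv G f) (hg : Inv G g) :
    Inv G fun x => ∑ y, f y * g (x - y) := by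
  intro h hh h0 x
  refine (Fintype.sum_equiv h (fun y => f y * g (x - y)) (fun y => f y * g (h x - y)) fun y => ?_).symm
  rw [hf h hh h0, inv_sub hτ hg hh]

theorem inv_corr {R : Type*} [CommSemiring R] {f g : ZMod n → R} (hf : Inv G f) (hg : Inv G g) :
    Inv G fun x => ∑ y, f y * g (y - x) := by
  intro h hh h0 x
  refine (Fintype.sum_equiv h (fun y => f y * g (y - x)) (fun y => f y * g (y - h x)) fun y => ?_).symm
  rw [hf h hh h0, inv_sub hτ hg hh]

end

section

variable {n : ℕ} [NeZero n] {G : Subgroup (Equiv.Perm (ZMod n))}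

/-- The indicator function of a set. -/
def ind (R : Type*) [Zero R] [One R] (T : Finset (ZMod n)) : ZMod n → R :=
  fun x => if x ∈ T then 1 else 0

/-- Sets which are unions of suborbits. -/
def InvSet (G : Subgroup (Equiv.Perm (ZMod n))) (T : Finset (ZMod n)) : Prop :=
  ∀ h ∈ G, h 0 = 0 → ∀ x, h x ∈ T ↔ x ∈ T

theorem inv_ind {R : Type*} [Zero R] [One R] {T : Finset (ZMod n)} (hT : InvSet G T) :
    Inv G (ind R T) := fun h hh h0 x => by simp only [ind, hT h hh h0 x]

theorem invSet_filter {R : Type*} {f : ZMod n → R} (hf : Inv G f) (P : R → Prop) [DecidablePred P] :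
    InvSet G (Finset.univ.filter fun x => P (f x)) := fun h hh h0 x => by
  simp only [Finset.mem_filter, Finset.mem_univ, true_and, hf h hh h0 x]

open Classical in
/-- The suborbit of `x`. -/
noncomputable def suborbit (G : Subgroup (Equiv.Perm (ZMod n))) (x : ZMod n) : Finset (ZMod n) :=
  Finset.univ.filter fun y => ∃ h ∈ G, h 0 = 0 ∧ h x = y

theorem mem_suborbit {x y : ZMod n} : y ∈ suborbit G x ↔ ∃ h ∈ G, h 0 = 0 ∧ h x = y := by
  simp [suborbit]

theorem self_mem_suborbit (x : ZMod n) : x ∈ suborbit G x :=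
  mem_suborbit.2 ⟨1, G.one_mem, rfl, rfl⟩

theorem invSet_suborbit (x : ZMod n) : InvSet G (suborbit G x) := by
  intro h hh h0 y
  have h0' : h.symm 0 = 0 := by rw [Equiv.symm_apply_eq, h0]
  constructor
  · intro hy
    obtain ⟨k, hk, hk0, hky⟩ := mem_suborbit.1 hy
    exact mem_suborbit.2 ⟨h⁻¹ * k, G.mul_mem (G.inv_mem hh) hk, by simp [hk0, h0'], by simp [hky]⟩
  · intro hy
    obtain ⟨k, hk, hk0, hky⟩ := mem_suborbit.1 hy
    exact mem_suborbit.2 ⟨h * k, G.mul_mem hh hk, by simp [hk0, h0], by simp [hky]⟩

theorem suborbit_subset {T : Finset (ZMod n)} (hT : InvSet G T) {x : ZMod n} (hx : x ∈ T) :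
    suborbit G x ⊆ T := fun y hy => by
  obtain ⟨h, hh, h0, rfl⟩ := mem_suborbit.1 hy
  exact (hT h hh h0 x).2 hx

theorem suborbit_eq {x y : ZMod n} (hy : y ∈ suborbit G x) : suborbit G y = suborbit G x := by
  refine Finset.Subset.antisymm (suborbit_subset (invSet_suborbit x) hy) ?_
  obtain ⟨h, hh, h0, rfl⟩ := mem_suborbit.1 hy
  refine suborbit_subset (invSet_suborbit _) ?_
  exact ((invSet_suborbit (h x)) h hh h0 x).1 (self_mem_suborbit _)

theorem zero_notMem_suborbit {x : ZMod n} (hx : x ≠ 0) : (0 : ZMod n) ∉ suborbit G x := fun h => by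
  obtain ⟨k, -, hk0, hkx⟩ := mem_suborbit.1 h
  exact hx (k.injective (hkx.trans hk0.symm))

variable (hτ : ∀ c : ZMod n, Equiv.addRight c ∈ G)
include hτ

/-- The subgroup generated by an invariant set is invariant. -/
theorem invSet_closure {Y : Finset (ZMod n)} (hY : InvSet G Y) :
    ∀ h ∈ G, h 0 = 0 → ∀ x, x ∈ AddSubgroup.closure (Y : Set (ZMod n)) →
      h x ∈ AddSubgroup.closure (Y : Set (ZMod n)) := by
  classical
  let f : ℕ → ZMod n → ℕ := fun k => Nat.rec (motive := fun _ => ZMod n → ℕ) (ind ℕ {0})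
    (fun _ g x => ∑ y, ind ℕ Y y * g (x - y)) k
  have hf0 : f 0 = ind ℕ {0} := rfl
  have hfs : ∀ k, f (k + 1) = fun x => ∑ y, ind ℕ Y y * f k (x - y) := fun k => rfl
  have hinv : ∀ k, Inv G (f k) := by
    intro k
    induction k with
    | zero =>
      rw [hf0]
      refine inv_ind fun h _ h0 x => ?_
      simp only [Finset.mem_singleton]
      exact ⟨fun e => h.injective (e.trans h0.symm), fun e => e ▸ h0⟩
    | succ k ih => rw [hfs]; exact inv_conv hτ (inv_ind hY) ih
  have hW1 : ∀ k x, f k x ≠ 0 → x ∈ AddSubgroup.closure (Y : Set (ZMod n)) := by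
    intro k
    induction k with
    | zero =>
      intro x hx
      simp only [hf0, ind, Finset.mem_singleton, ne_eq, ite_eq_right_iff, one_ne_zero, imp_false,
        not_not] at hx
      rw [hx]; exact zero_mem _
    | succ k ih =>
      intro x hx
      rw [hfs] at hx
      obtain ⟨y, -, hy⟩ := Finset.exists_ne_zero_of_sum_ne_zero hx
      have h1 : y ∈ Y := by
        by_contra h
        simp [ind, h] at hy
      have h2 := ih (x - y) (fun h => hy (by simp [h]))
      simpa using add_mem h2 (AddSubgroup.subset_closure (show y ∈ (Y : Set (ZMod n)) from h1))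
  have hW2 : ∀ x ∈ AddSubgroup.closure (Y : Set (ZMod n)), ∃ k, f k x ≠ 0 := by
    intro x hx
    rw [← AddSubgroup.mem_toAddSubmonoid,
      AddSubgroup.closure_toAddSubmonoid_of_finite] at hx
    induction hx using AddSubmonoid.closure_induction_left with
    | zero => exact ⟨0, by simp [hf0, ind]⟩
    | add_left y hy z _ ih =>
      obtain ⟨k, hk⟩ := ih
      refine ⟨k + 1, ?_⟩
      rw [hfs]
      intro h0
      have := (Finset.sum_eq_zero_iff.1 h0) y (Finset.mem_univ _)
      simp [ind, show y ∈ Y from hy] at this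
      exact hk this
  intro h hh h0 x hx
  obtain ⟨k, hk⟩ := hW2 x hx
  exact hW1 k _ (by rw [hinv k h hh h0 x]; exact hk)

/-- Frobenius: the multiples of an invariant set, counted modulo a prime, form an invariant function. -/
theorem inv_count_mul {l : ℕ} [Fact l.Prime] {T : Finset (ZMod n)} (hT : InvSet G T) :
    Inv G fun y => (((T.filter fun x => l • x = y).card : ℕ) : ZMod l) := by
  classical
  let F : AddMonoidAlgebra (ZMod l) (ZMod n) := ∑ a ∈ T, AddMonoidAlgebra.single a 1
  have hc : ∀ (g : AddMonoidAlgebra (ZMod l) (ZMod n)) (x : ZMod n),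
      (F * g).coeff x = ∑ y, ind (ZMod l) T y * g.coeff (x - y) := by
    intro g x
    simp only [F, Finset.sum_mul, AddMonoidAlgebra.coeff_sum, Finsupp.coe_finsetSum, Finset.sum_apply]
    have : ∀ a : ZMod n, (AddMonoidAlgebra.single a (1 : ZMod l) * g).coeff x = g.coeff (x - a) := by
      intro a
      conv_lhs => rw [show x = a + (x - a) by abel, AddMonoidAlgebra.coeff_single_mul_add, one_mul]
    simp only [this, ind, ite_mul, one_mul, zero_mul, Finset.sum_ite_mem, Finset.univ_inter]
  have hpow : ∀ k, Inv G fun x => (F ^ k).coeff x := by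
    intro k
    induction k with
    | zero =>
      intro h hh h0 x
      simp only [pow_zero, AddMonoidAlgebra.one_def, AddMonoidAlgebra.coeff_single, Finsupp.single_apply]
      exact if_congr ⟨fun e => h.injective (h0.trans e), fun e => by rw [← e, h0]⟩ rfl rfl
    | succ k ih =>
      simp only [pow_succ', hc]
      exact inv_conv hτ (inv_ind hT) ih
  haveI : CharP (AddMonoidAlgebra (ZMod l) (ZMod n)) l :=
    charP_of_injective_algebraMap (algebraMap (ZMod l) (AddMonoidAlgebra (ZMod l) (ZMod n))).injective l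
  have hF : F ^ l = ∑ a ∈ T, AddMonoidAlgebra.single (l • a) 1 := by
    rw [← frobenius_def, map_sum]
    refine Finset.sum_congr rfl fun a _ => ?_
    rw [frobenius_def, AddMonoidAlgebra.single_pow, one_pow]
  intro h hh h0 y
  have h1 := hpow l h hh h0 y
  simp only [hF, AddMonoidAlgebra.coeff_sum, Finsupp.coe_finsetSum, Finset.sum_apply,
    AddMonoidAlgebra.coeff_single, Finsupp.single_apply, Finset.sum_boole] at h1
  simpa only [eq_comm] using h1

/-- Unit multiples of invariant sets are invariant. -/
theorem invSet_mul : ∀ (r : ℕ), r.Coprime n → ∀ {T : Finset (ZMod n)}, InvSet G T →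
    InvSet G (T.image fun x => r • x) := by
  classical
  intro r
  induction r using Nat.recOnMul with
  | zero =>
    intro hr T hT
    rw [Nat.coprime_zero_left] at hr
    subst hr
    intro h _ h0 x
    have : ∀ z : ZMod 1, z = 0 := fun z => Subsingleton.elim _ _
    rw [this (h x), this x]
  | one => intro _ T hT; simpa using hT
  | prime l hl =>
    intro hr T hT h hh h0 y
    haveI : Fact l.Prime := ⟨hl⟩
    have hinj : Function.Injective fun x : ZMod n => l • x :=
      fun a b e => (ZMod.unitOfCoprime l hr).isUnit.mul_left_cancel (by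
        simpa [nsmul_eq_mul] using e)
    have key : ∀ y, ((((T.filter fun x => l • x = y).card : ℕ) : ZMod l)) =
        if y ∈ T.image (fun x => l • x) then 1 else 0 := by
      intro y
      split_ifs with hy
      · obtain ⟨x, hx, rfl⟩ := Finset.mem_image.1 hy
        have : (T.filter fun z => l • z = l • x) = {x} := by
          ext z
          simp only [Finset.mem_filter, Finset.mem_singleton]
          exact ⟨fun h => hinj h.2, fun h => by rw [h]; exact ⟨hx, rfl⟩⟩
        rw [this, Finset.card_singleton, Nat.cast_one]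
      · rw [Finset.filter_eq_empty_iff.2 fun x hx e => hy (Finset.mem_image.2 ⟨x, hx, e⟩),
          Finset.card_empty, Nat.cast_zero]
    have h1 := inv_count_mul hτ (l := l) hT h hh h0 y
    simp only [key] at h1
    by_cases h2 : y ∈ T.image (fun x => l • x) <;> by_cases h3 : h y ∈ T.image (fun x => l • x)
    · exact iff_of_true h3 h2
    · rw [if_neg h3, if_pos h2] at h1; exact absurd h1 zero_ne_one
    · rw [if_pos h3, if_neg h2] at h1; exact absurd h1 one_ne_zero
    · exact iff_of_false h3 h2
  | mul a b iha ihb =>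
    intro hr T hT
    have h1 := iha (Nat.Coprime.coprime_mul_right hr) (ihb (Nat.Coprime.coprime_mul_left hr) hT)
    rwa [Finset.image_image, show ((fun x : ZMod n => a • x) ∘ fun x => b • x) = fun x => (a * b) • x
      from funext fun x => (mul_nsmul' x a b).symm] at h1

end

section

variable {p m n : ℕ} [hp : Fact p.Prime] [NeZero n] {G : Subgroup (Equiv.Perm (ZMod n))}

/-- **Schur.** A primitive group of degree `p ^ m`, `m ≥ 2`, containing a regular cyclic subgroup is
doubly transitive. -/
theorem transitive_stabilizer (hn : n = p ^ m) (hm : 2 ≤ m) (hτ : ∀ c, Equiv.addRight c ∈ G)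
    (hprim : ∀ U : AddSubgroup (ZMod n),
      (∀ h ∈ G, h 0 = 0 → ∀ x ∈ U, h x ∈ U) → U = ⊥ ∨ U = ⊤) :
    ∀ x y : ZMod n, x ≠ 0 → y ≠ 0 → ∃ h ∈ G, h 0 = 0 ∧ h x = y := by
  classical
  have hpp : p.Prime := hp.out
  have hnm : n = p ^ (m - 1) * p := by rw [hn, ← pow_succ, Nat.sub_add_cancel (by omega)]
  have hpn : p ∣ n := ⟨p ^ (m - 1), by rw [hnm, mul_comm]⟩
  -- the elements killed by `p`
  obtain ⟨q, hq⟩ : ∃ q : ZMod n, q = ((p ^ (m - 1) : ℕ) : ZMod n) := ⟨_, rfl⟩
  have hpq : p • q = 0 := by
    rw [hq, nsmul_eq_mul, ← Nat.cast_mul, mul_comm, ← hnm, ZMod.natCast_self]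
  have hkill : ∀ x : ZMod n, p • x = 0 ↔ ∃ a, a < p ∧ x = a • q := by
    intro x
    constructor
    · intro h
      rw [nsmul_eq_mul, ← ZMod.natCast_zmod_val x, ← Nat.cast_mul, ZMod.natCast_eq_zero_iff] at h
      obtain ⟨a, ha⟩ : p ^ (m - 1) ∣ x.val :=
        Nat.dvd_of_mul_dvd_mul_left hpp.pos (by rw [mul_comm, ← hnm]; exact h)
      refine ⟨a, ?_, ?_⟩
      · have := ZMod.val_lt x
        rw [ha, hnm] at this
        exact Nat.lt_of_mul_lt_mul_left this
      · conv_lhs => rw [← ZMod.natCast_zmod_val x]
        rw [ha, hq, nsmul_eq_mul, ← Nat.cast_mul, mul_comm]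
    · rintro ⟨a, -, rfl⟩
      rw [smul_comm, hpq, smul_zero]
  have hq0 : q ≠ 0 := by
    rw [hq, Ne, ZMod.natCast_eq_zero_iff]
    intro h
    have := Nat.le_of_dvd (pow_pos hpp.pos _) h
    rw [hn] at this
    exact absurd this (not_le.2 (Nat.pow_lt_pow_right hpp.one_lt (by omega)))
  -- fibres
  have hcoset : ∀ (T : Finset (ZMod n)), InvSet G T → ∀ x ∈ T, p • x ≠ 0 →
      ∀ z, p • z = 0 → x + z ∈ T := by
    intro T hT x hx hpx z hz
    let Y := Finset.univ.filter fun y : ZMod n =>
      y ≠ 0 ∧ (((T.filter fun x => p • x = y).card : ℕ) : ZMod p) ≠ 0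
    have hY : InvSet G Y := by
      intro h hh h0 y
      simp only [Y, Finset.mem_filter, Finset.mem_univ, true_and]
      have hc := inv_count_mul hτ (l := p) hT h hh h0 y
      simp only at hc
      rw [hc]
      exact and_congr_left' (not_congr ⟨fun e => h.injective (e.trans h0.symm), fun e => e ▸ h0⟩)
    rcases hprim _ (invSet_closure hτ hY) with hbot | htop
    · have h1 : p • x ∉ Y := fun h => hpx (by
        have := hbot.le (AddSubgroup.subset_closure (show p • x ∈ (Y : Set (ZMod n)) from h))
        exact AddSubgroup.mem_bot.1 this)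
      simp only [Y, Finset.mem_filter, Finset.mem_univ, true_and, not_and, not_not] at h1
      have h2 := (ZMod.natCast_eq_zero_iff _ _).1 (h1 hpx)
      set S := T.filter fun w => p • w = p • x
      set F := (Finset.range p).image fun a => x + a • q
      have hSF : S ⊆ F := by
        intro w hw
        obtain ⟨a, ha, hwa⟩ := (hkill (w - x)).1 (by rw [smul_sub, (Finset.mem_filter.1 hw).2, sub_self])
        exact Finset.mem_image.2 ⟨a, Finset.mem_range.2 ha, by rw [← hwa, add_sub_cancel]⟩
      have hS0 : 0 < S.card := Finset.card_pos.2 ⟨x, Finset.mem_filter.2 ⟨hx, rfl⟩⟩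
      have hFp : F.card ≤ p := Finset.card_image_le.trans (Finset.card_range p).le
      have heq : S = F := Finset.eq_of_subset_of_card_le hSF (hFp.trans (Nat.le_of_dvd hS0 h2))
      obtain ⟨a, ha, rfl⟩ := (hkill z).1 hz
      have : x + a • q ∈ S := heq ▸ Finset.mem_image.2 ⟨a, Finset.mem_range.2 ha, rfl⟩
      exact (Finset.mem_filter.1 this).1
    · exfalso
      let D : AddSubgroup (ZMod n) := (nsmulAddMonoidHom p : ZMod n →+ ZMod n).range
      have hle : AddSubgroup.closure (Y : Set (ZMod n)) ≤ D := by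
        rw [AddSubgroup.closure_le]
        intro y hy
        have hy' := (Finset.mem_filter.1 hy).2.2
        obtain ⟨w, hw⟩ : (T.filter fun x => p • x = y).Nonempty := by
          rw [Finset.nonempty_iff_ne_empty]
          intro he
          rw [he, Finset.card_empty, Nat.cast_zero] at hy'
          exact hy' rfl
        exact ⟨w, (Finset.mem_filter.1 hw).2⟩
      obtain ⟨w, hw⟩ := (htop ▸ hle) (AddSubgroup.mem_top (1 : ZMod n))
      have h3 : q * (p • w) = q * 1 := congrArg (q * ·) hw
      rw [mul_smul_comm, ← smul_mul_assoc, hpq, zero_mul, mul_one] at h3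
      exact hq0 h3.symm
  -- every suborbit meets the elements killed by `p`
  have hmeet : ∀ x : ZMod n, x ≠ 0 → ∃ a ∈ suborbit G x, p • a = 0 := by
    intro x hx
    by_contra hnone
    push Not at hnone
    set T := suborbit G x
    let f : ZMod n → ℕ := fun s => ∑ y, ind ℕ T y * ind ℕ T (y - s)
    have hf : ∀ s, f s = (T.filter fun y => y - s ∈ T).card := fun s => by
      simp only [f, ind, ite_mul, one_mul, zero_mul, Finset.sum_ite_mem, Finset.univ_inter]
      rw [Finset.card_filter]
    have hfe : ∀ s, f s = T.card ↔ ∀ y ∈ T, y - s ∈ T := fun s => by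
      rw [hf]
      refine ⟨fun h y hy => ?_, fun h => by rw [Finset.filter_true_of_mem h]⟩
      rw [← Finset.eq_of_subset_of_card_le (Finset.filter_subset (fun y => y - s ∈ T) T) h.ge] at hy
      exact (Finset.mem_filter.1 hy).2
    let U : AddSubgroup (ZMod n) :=
      { carrier := {s | ∀ y ∈ T, y - s ∈ T}
        add_mem' := fun {s t} hs ht y hy => by rw [← sub_sub]; exact ht _ (hs y hy)
        zero_mem' := fun y hy => by rwa [sub_zero]
        neg_mem' := fun {s} hs y hy => by
          have hi : (T.image fun y => y - s) = T := Finset.eq_of_subset_of_card_le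
            (Finset.image_subset_iff.2 hs) (by rw [Finset.card_image_of_injective _ sub_left_injective])
          rw [← hi, Finset.mem_image] at hy
          obtain ⟨w, hw, rfl⟩ := hy
          simpa using hw }
    rcases hprim U (fun h hh h0 s hs => (hfe (h s)).1 (by
      show f (h s) = T.card
      rw [show f (h s) = f s from inv_corr hτ (inv_ind (invSet_suborbit x)) (inv_ind (invSet_suborbit x)) h hh h0 s]
      exact (hfe s).2 hs)) with hb | ht
    · refine hq0 (AddSubgroup.mem_bot.1 (hb ▸ (show q ∈ U from fun y hy => ?_)))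
      rw [sub_eq_add_neg]
      exact hcoset T (invSet_suborbit x) y hy (hnone y hy) (-q) (by rw [smul_neg, hpq, neg_zero])
    · have := (ht ▸ AddSubgroup.mem_top x : x ∈ U) x (self_mem_suborbit x)
      rw [sub_self] at this
      exact zero_notMem_suborbit hx this
  -- multipliers congruent to `1` fix the suborbits
  have hmult : ∀ r : ℕ, r ≡ 1 [MOD p] → ∀ x : ZMod n, x ≠ 0 → ∀ y ∈ suborbit G x,
      r • y ∈ suborbit G x := by
    intro r hr x hx y hy
    set T := suborbit G x
    obtain ⟨a, ha, hpa⟩ := hmeet x hx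
    have hcop : r.Coprime n := by
      rw [hn]
      refine Nat.Coprime.pow_right m ((hpp.coprime_iff_not_dvd.2 fun h => ?_).symm)
      have := (Nat.modEq_zero_iff_dvd.2 h).symm.trans hr
      rw [Nat.modEq_iff_dvd' (Nat.zero_le 1)] at this
      exact hpp.not_dvd_one this
    have hra : r • a = a := by
      rw [← Nat.mod_add_div r p, show r % p = 1 by rw [hr, Nat.mod_eq_of_lt hpp.one_lt],
        add_nsmul, one_nsmul, mul_nsmul, hpa, nsmul_zero, add_zero]
    have hsub : T ⊆ T.image fun z => r • z := by
      have h1 := suborbit_subset (invSet_mul hτ r hcop (invSet_suborbit x))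
        (Finset.mem_image.2 ⟨a, ha, hra⟩)
      rwa [suborbit_eq ha] at h1
    have := Finset.eq_of_subset_of_card_le hsub Finset.card_image_le
    rw [this]
    exact Finset.mem_image_of_mem _ hy
  -- characters
  set ψ : AddChar (ZMod n) ℂ := ZMod.stdAddChar with hψ
  have hprimψ : ψ.IsPrimitive := ZMod.isPrimitive_stdAddChar n
  let lam : ZMod n → Finset (ZMod n) → ℂ := fun k T => ∑ t ∈ T, ψ (k * (-t))
  set D := Finset.univ.filter fun k => ∀ x : ZMod n, x ≠ 0 → lam k (suborbit G x) = lam q (suborbit G x)
    with hD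
  have hqD : q ∈ D := by simp [hD]
  obtain ⟨c, hc, k, hkD, hkp⟩ : ∃ c : ℂ, c ≠ 0 ∧ ∃ k ∈ D, ¬ p ∣ k.val := by
    by_contra hall
    push Not at hall
    have hall' : ∀ k ∈ D, p ∣ k.val := hall 1 one_ne_zero
    -- a function constant on suborbits, supported by `D`
    obtain ⟨c, d, hd, hcD, hc0, hinv⟩ : ∃ (c : ZMod n → ℂ) (d : ℂ), d ≠ 0 ∧ (∀ k ∈ D, c k = d) ∧
        (∀ k ∈ Finset.univ \ D, c k = 0) ∧ Inv G fun x => ∑ k, c k * ψ (k * x) := by
      suffices H : ∀ s : Finset (ZMod n), Disjoint s D → ∃ (c : ZMod n → ℂ) (d : ℂ), d ≠ 0 ∧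
          (∀ k ∈ D, c k = d) ∧ (∀ k ∈ s, c k = 0) ∧ Inv G fun x => ∑ k, c k * ψ (k * x) from
        H _ Finset.sdiff_disjoint
      intro s
      induction s using Finset.induction_on with
      | empty =>
        intro _
        refine ⟨fun _ => 1, 1, one_ne_zero, fun _ _ => rfl, by simp, fun h hh h0 x => ?_⟩
        simp only [one_mul]
        rw [AddChar.sum_mulShift _ hprimψ, AddChar.sum_mulShift _ hprimψ]
        have hiff : h x = 0 ↔ x = 0 := ⟨fun e => h.injective (e.trans h0.symm), fun e => e ▸ h0⟩
        simp only [hiff]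
      | insert b s hbs ih =>
        intro hdis
        rw [Finset.disjoint_insert_left] at hdis
        obtain ⟨c, d, hd, hcD, hcs, hinv⟩ := ih hdis.2
        obtain ⟨x, hx, hne⟩ : ∃ x, x ≠ 0 ∧ lam b (suborbit G x) ≠ lam q (suborbit G x) := by
          have := hdis.1
          simp only [hD, Finset.mem_filter, Finset.mem_univ, true_and] at this
          push Not at this
          exact this
        set T := suborbit G x
        set μ := lam b T with hμ
        refine ⟨fun k => c k * (lam k T - μ), d * (lam q T - μ),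
          mul_ne_zero hd (sub_ne_zero.2 (Ne.symm hne)), fun k hk => ?_, fun k hk => ?_, ?_⟩
        · show c k * (lam k T - μ) = _
          rw [hcD k hk, (Finset.mem_filter.1 hk).2 x hx]
        · rcases Finset.mem_insert.1 hk with rfl | hk
          · show c k * (lam k T - μ) = 0
            rw [hμ, sub_self, mul_zero]
          · show c k * (lam k T - μ) = 0
            rw [hcs k hk, zero_mul]
        · have hco := inv_conv hτ (inv_ind (R := ℂ) (invSet_suborbit x)) hinv
          intro h hh h0 y
          have key : ∀ z, (∑ k, c k * (lam k T - μ) * ψ (k * z)) =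
              (∑ w, ind ℂ T w * ∑ k, c k * ψ (k * (z - w))) - μ * ∑ k, c k * ψ (k * z) := by
            intro z
            simp only [Finset.mul_sum]
            rw [Finset.sum_comm, ← Finset.sum_sub_distrib]
            refine Finset.sum_congr rfl fun k _ => ?_
            simp only [ind, ite_mul, one_mul, zero_mul, Finset.sum_ite_mem, Finset.univ_inter, lam]
            rw [mul_sub, sub_mul, Finset.mul_sum, Finset.sum_mul]
            congr 1
            · refine Finset.sum_congr rfl fun w _ => ?_
              rw [show k * (z - w) = k * (-w) + k * z by ring, AddChar.map_add_eq_mul]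
              ring
            · ring
          simp only [key]
          rw [show (∑ w, ind ℂ T w * ∑ k, c k * ψ (k * (h y - w))) = _ from hco h hh h0 y,
            show (∑ k, c k * ψ (k * h y)) = _ from hinv h hh h0 y]
    have hck : ∀ k, c k = if k ∈ D then d else 0 := fun k => by
      split_ifs with hk
      · exact hcD k hk
      · exact hc0 k (by simp [hk])
    set F : ZMod n → ℂ := fun x => ∑ k, c k * ψ (k * x) with hF
    have hzero : ∀ a : ZMod n, p • a = 0 → F a = d * (D.card : ℂ) := by
      intro a ha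
      simp only [hF, hck, ite_mul, zero_mul, Finset.sum_ite_mem, Finset.univ_inter]
      rw [Finset.sum_congr rfl fun k hk => show d * ψ (k * a) = d by
        obtain ⟨j, hj⟩ := hall' k hk
        rw [show k * a = 0 by
          rw [← ZMod.natCast_zmod_val k, hj, Nat.cast_mul, mul_comm (p : ZMod n), mul_assoc,
            ← nsmul_eq_mul p a, ha, mul_zero], AddChar.map_zero_eq_one, mul_one]]
      rw [Finset.sum_const, nsmul_eq_mul, mul_comm]
    have hconst : ∀ x, F x = d * (D.card : ℂ) := by
      intro x
      rcases eq_or_ne x 0 with rfl | hx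
      · exact hzero 0 (smul_zero _)
      · obtain ⟨a, ha, hpa⟩ := hmeet x hx
        obtain ⟨h, hh, h0, hha⟩ := mem_suborbit.1 ha
        rw [← hzero a hpa, ← hha]
        exact (hinv h hh h0 x).symm
    have hsum : ∑ x, F x = if (0 : ZMod n) ∈ D then d * (n : ℂ) else 0 := by
      simp only [hF, hck]
      rw [Finset.sum_comm]
      rw [Finset.sum_eq_single (0 : ZMod n)]
      · simp only [zero_mul, AddChar.map_zero_eq_one, mul_one, Finset.sum_const, Finset.card_univ,
          ZMod.card, nsmul_eq_mul]
        split_ifs with h0 <;> ring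
      · intro k _ hk
        rw [← Finset.mul_sum]
        simp only [mul_comm k]
        rw [AddChar.sum_mulShift _ hprimψ, if_neg hk, Nat.cast_zero, mul_zero]
      · intro h; exact absurd (Finset.mem_univ _) h
    simp only [hconst, Finset.sum_const, Finset.card_univ, ZMod.card, nsmul_eq_mul] at hsum
    have hn0 : (n : ℂ) ≠ 0 := Nat.cast_ne_zero.2 (NeZero.ne n)
    have hDc : D.card ≠ 0 := Finset.card_ne_zero.2 ⟨q, hqD⟩
    split_ifs at hsum with h0
    · have h1 : (n : ℂ) * d * (D.card : ℂ) = (n : ℂ) * d * 1 := by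
        rw [mul_one, mul_assoc, hsum, mul_comm]
      have h2 : D.card = 1 := by exact_mod_cast mul_left_cancel₀ (mul_ne_zero hn0 hd) h1
      exact hq0 (Finset.card_le_one.1 h2.le q hqD 0 h0)
    · simp [hn0, hd, hDc] at hsum
  -- the values at `k` and `q` force a single suborbit
  set ζ := ψ q with hζdef
  have hζ : IsPrimitiveRoot ζ p := by
    refine IsPrimitiveRoot.iff_orderOf.2 (orderOf_eq_prime ?_ ?_)
    · rw [hζdef, ← AddChar.map_nsmul_eq_pow, hpq, AddChar.map_zero_eq_one]
    · intro h
      exact hq0 (ZMod.injective_stdAddChar (h.trans (AddChar.map_zero_eq_one ψ).symm))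
  let red : ZMod n →+* ZMod p := ZMod.castHom hpn (ZMod p)
  have hqmul : ∀ t : ZMod n, ψ (q * t) = ζ ^ (red t).val := by
    intro t
    have h1 : (red t).val = t.val % p := by
      conv_lhs => rw [← ZMod.natCast_zmod_val t, map_natCast, ZMod.val_natCast]
    rw [hζdef, ← AddChar.map_nsmul_eq_pow, h1]
    congr 1
    rw [nsmul_eq_mul, mul_comm _ q]
    conv_lhs => rw [← ZMod.natCast_zmod_val t, ← Nat.mod_add_div t.val p, Nat.cast_add, Nat.cast_mul,
      mul_add, ← mul_assoc q (p : ZMod n), mul_comm q (p : ZMod n), ← nsmul_eq_mul p q, hpq, zero_mul,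
      add_zero]
  have hred0 : ∀ t, p • t = 0 → red t = 0 := by
    intro t ht
    obtain ⟨a, -, rfl⟩ := (hkill t).1 ht
    rw [map_nsmul, hq, map_natCast, Nat.cast_pow, ZMod.natCast_self, zero_pow (by omega), smul_zero]
  set P1 := Finset.univ.filter fun t : ZMod n => p • t = 0 with hP1
  have hall : ∀ x : ZMod n, x ≠ 0 → ∀ z, p • z = 0 → z ≠ 0 → z ∈ suborbit G x := by
    intro x hx
    set T := suborbit G x
    set A := T ∩ P1 with hA
    set B := T \ P1 with hB
    have heq : lam k T = lam q T := (Finset.mem_filter.1 hkD).2 x hx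
    have hsplit : ∀ j, lam j T = (∑ t ∈ A, ψ (j * (-t))) + ∑ t ∈ B, ψ (j * (-t)) := fun j =>
      (Finset.sum_inter_add_sum_sdiff T P1 _).symm
    have hkB : ∑ t ∈ B, ψ (k * (-t)) = 0 := by
      have hmem : ∀ t ∈ B, t + q ∈ B := fun t ht => by
        obtain ⟨htT, htP⟩ := Finset.mem_sdiff.1 ht
        have htp : p • t ≠ 0 := fun e => htP (Finset.mem_filter.2 ⟨Finset.mem_univ _, e⟩)
        refine Finset.mem_sdiff.2 ⟨hcoset T (invSet_suborbit x) t htT htp q hpq, fun e => htp ?_⟩
        have := (Finset.mem_filter.1 e).2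
        rwa [smul_add, hpq, add_zero] at this
      have hi : B.image (fun t => t + q) = B := Finset.eq_of_subset_of_card_le
        (Finset.image_subset_iff.2 hmem)
        (by rw [Finset.card_image_of_injective _ (add_left_injective q)])
      have h1 : ∑ t ∈ B, ψ (k * (-t)) = ψ (k * (-q)) * ∑ t ∈ B, ψ (k * (-t)) := by
        conv_lhs => rw [← hi, Finset.sum_image fun a _ b _ e => add_left_injective q e]
        rw [Finset.mul_sum]
        refine Finset.sum_congr rfl fun t _ => ?_
        rw [← AddChar.map_add_eq_mul]; congr 1; ring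
      by_contra hne
      have h2 := (mul_eq_right₀ hne).1 h1.symm
      have h3 := ZMod.injective_stdAddChar (h2.trans (AddChar.map_zero_eq_one ψ).symm)
      rw [mul_neg, neg_eq_zero] at h3
      refine hkp ?_
      rw [← ZMod.natCast_zmod_val k, hq, ← Nat.cast_mul, ZMod.natCast_eq_zero_iff] at h3
      refine Nat.dvd_of_mul_dvd_mul_left (pow_pos hpp.pos (m - 1)) ?_
      rw [← hnm, mul_comm]
      exact h3
    -- exponents
    let e : ZMod n → ℕ := fun t => (red (-t)).val
    have hqA : ∀ t ∈ A, ψ (q * (-t)) = 1 := fun t ht => by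
      rw [hqmul, map_neg, hred0 t (Finset.mem_filter.1 (Finset.mem_inter.1 ht).2).2, neg_zero,
        ZMod.val_zero, pow_zero]
    let eA : ZMod n → ℕ := fun t => (red (k * (-(t.val / p ^ (m - 1) : ℕ)))).val
    have hkA : ∀ t ∈ A, ψ (k * (-t)) = ζ ^ eA t := fun t ht => by
      obtain ⟨a, ha, rfl⟩ := (hkill t).1 (Finset.mem_filter.1 (Finset.mem_inter.1 ht).2).2
      have hv : (a • q : ZMod n).val = a * p ^ (m - 1) := by
        rw [hq, nsmul_eq_mul, ← Nat.cast_mul, ZMod.val_natCast, Nat.mod_eq_of_lt]
        rw [hnm, mul_comm (p ^ (m - 1))]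
        exact Nat.mul_lt_mul_of_pos_right ha (pow_pos hpp.pos _)
      simp only [eA, hv, Nat.mul_div_cancel _ (pow_pos hpp.pos _)]
      rw [← hqmul, nsmul_eq_mul]
      congr 1
      ring
    let cN : ℕ → ℤ := fun j =>
      ((B.filter fun t => e t = j).card : ℤ) + (if j = 0 then (A.card : ℤ) else 0) -
        (A.filter fun t => eA t = j).card
    have hlt : ∀ w : ZMod p, w.val < p := fun w => ZMod.val_lt w
    have hgroup : ∀ (S : Finset (ZMod n)) (E : ZMod n → ℕ), (∀ t, E t < p) →
        ∑ t ∈ S, ζ ^ E t = ∑ j ∈ Finset.range p, ((S.filter fun t => E t = j).card : ℂ) * ζ ^ j := by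
      intro S E hE
      rw [← Finset.sum_fiberwise_of_maps_to (fun t _ => Finset.mem_range.2 (hE t))]
      refine Finset.sum_congr rfl fun j _ => ?_
      rw [Finset.sum_congr rfl fun t ht => show ζ ^ E t = ζ ^ j by rw [(Finset.mem_filter.1 ht).2],
        Finset.sum_const, nsmul_eq_mul]
    have hrel : ∑ j ∈ Finset.range p, (cN j : ℂ) * ζ ^ j = 0 := by
      have h1 := heq
      rw [hsplit, hsplit, hkB, add_zero, Finset.sum_congr rfl hkA, Finset.sum_congr rfl hqA,
        Finset.sum_congr rfl (fun t _ => hqmul (-t)), hgroup A eA fun t => hlt _,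
        hgroup B e fun t => hlt _] at h1
      simp only [cN, Int.cast_sub, Int.cast_add, Int.cast_natCast, add_mul, sub_mul,
        Finset.sum_sub_distrib, Finset.sum_add_distrib, Int.cast_ite, Int.cast_zero, ite_mul, zero_mul,
        Finset.sum_ite_eq', Finset.mem_range, hpp.pos, if_true, pow_zero, mul_one]
      rw [Finset.sum_const, nsmul_eq_mul, mul_one] at h1
      rw [sub_eq_zero, h1]
      ring
    have hcj := coeff_eq_of_relation hζ cN hrel
    have hBdvd : ∀ j, j ≠ 0 → (p : ℤ) ∣ (B.filter fun t => e t = j).card := by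
      intro j hj
      rcases (B.filter fun t => e t = j).eq_empty_or_nonempty with he | ⟨t, ht⟩
      · simp [he]
      obtain ⟨htB, hte⟩ := Finset.mem_filter.1 ht
      have htu : red (-t) ≠ 0 := fun h => hj (by rw [← hte]; show (red (-t)).val = 0; rw [h, ZMod.val_zero])
      have hfull : (B.filter fun t => e t = j) = Finset.univ.filter fun u => red u = red t := by
        ext u
        simp only [Finset.mem_filter, Finset.mem_univ, true_and]
        constructor
        · rintro ⟨-, hu⟩
          have := ZMod.val_injective p (hu.trans hte.symm)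
          rwa [map_neg, map_neg, neg_inj] at this
        · intro hu
          have htne : red t ≠ 0 := by rwa [map_neg, neg_ne_zero] at htu
          obtain ⟨w, hw⟩ : IsUnit t := by
            have hco : t.val.Coprime (p ^ m) :=
              Nat.Coprime.pow_right m ((hpp.coprime_iff_not_dvd.2 fun h => htne (by
                rw [← ZMod.natCast_zmod_val t, map_natCast, ZMod.natCast_eq_zero_iff]
                exact h)).symm)
            rw [← hn] at hco
            rw [← ZMod.natCast_zmod_val t, ZMod.isUnit_iff_coprime]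
            exact hco
          set r := (u * (↑w⁻¹ : ZMod n)).val with hr
          have hru : r • t = u := by
            rw [hr, nsmul_eq_mul, ZMod.natCast_zmod_val, ← hw, mul_assoc, Units.inv_mul, mul_one]
          have hr1 : r ≡ 1 [MOD p] := by
            rw [← ZMod.natCast_eq_natCast_iff]
            have h := congrArg red hru
            rw [map_nsmul, hu, nsmul_eq_mul] at h
            rw [Nat.cast_one]
            exact (mul_eq_right₀ htne).1 h
          refine ⟨Finset.mem_sdiff.2 ⟨hru ▸ hmult r hr1 x hx t (Finset.mem_sdiff.1 htB).1,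
            fun h => htne ?_⟩, by show (red (-u)).val = j; rw [map_neg, hu, ← map_neg]; exact hte⟩
          rw [← hu]; exact hred0 u (Finset.mem_filter.1 h).2
      rw [hfull]
      have h0 : (p : ℤ) ∣ ((Finset.univ.filter fun u : ZMod n => red u = 0).card : ℤ) := by
        have hkc : Nat.card red.toAddMonoidHom.ker * p = n := by
          have h1 := red.toAddMonoidHom.ker.card_mul_index
          rw [AddSubgroup.index_ker, Nat.card_zmod] at h1
          have h2 : Nat.card red.toAddMonoidHom.range = p := by
            rw [AddMonoidHom.range_eq_top.2 (ZMod.castHom_surjective hpn), AddSubgroup.card_top,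
              Nat.card_zmod]
          rwa [h2] at h1
        have h3 : Nat.card red.toAddMonoidHom.ker = (Finset.univ.filter fun u : ZMod n => red u = 0).card := by
          rw [Nat.card_eq_fintype_card]
          exact Fintype.card_of_subtype _ (fun u => by simp)
        rw [← h3, Int.natCast_dvd_natCast]
        have h4 : Nat.card red.toAddMonoidHom.ker = p ^ (m - 1) :=
          Nat.eq_of_mul_eq_mul_right hpp.pos (hkc.trans hnm)
        rw [h4]
        exact dvd_pow_self p (by omega)
      have hsh : (Finset.univ.filter fun u => red u = red t).card =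
          (Finset.univ.filter fun u : ZMod n => red u = 0).card := by
        refine Finset.card_bij (fun u _ => u - t) (fun u hu => ?_) (fun a _ b _ h => sub_left_injective h)
          (fun u hu => ⟨u + t, ?_, add_sub_cancel_right u t⟩)
        · simp only [Finset.mem_filter, Finset.mem_univ, true_and] at hu ⊢
          rw [map_sub, hu, sub_self]
        · simp only [Finset.mem_filter, Finset.mem_univ, true_and] at hu ⊢
          rw [map_add, hu, zero_add]
      rwa [hsh]
    have hredk : red k ≠ 0 := fun h => hkp (by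
      rw [← ZMod.natCast_zmod_val k, map_natCast, ZMod.natCast_eq_zero_iff] at h
      exact h)
    have heA : ∀ a, a < p → (a • q : ZMod n) ∈ A → eA (a • q) = (red k * (-(a : ZMod p))).val := by
      intro a ha _
      have hv : (a • q : ZMod n).val = a * p ^ (m - 1) := by
        rw [hq, nsmul_eq_mul, ← Nat.cast_mul, ZMod.val_natCast, Nat.mod_eq_of_lt]
        rw [hnm, mul_comm (p ^ (m - 1))]
        exact Nat.mul_lt_mul_of_pos_right ha (pow_pos hpp.pos _)
      simp only [eA, hv, Nat.mul_div_cancel _ (pow_pos hpp.pos _), map_mul, map_neg, map_natCast]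
    have hAne : ∀ t ∈ A, eA t ≠ 0 := by
      intro t ht h
      obtain ⟨a, ha, rfl⟩ := (hkill t).1 (Finset.mem_filter.1 (Finset.mem_inter.1 ht).2).2
      rw [heA a ha ht, ZMod.val_eq_zero, mul_eq_zero, neg_eq_zero, ZMod.natCast_eq_zero_iff] at h
      have ha0 : a = 0 := Nat.eq_zero_of_dvd_of_lt (h.resolve_left hredk) ha
      subst ha0
      rw [zero_smul] at ht
      exact zero_notMem_suborbit hx (Finset.mem_inter.1 ht).1
    have hcard : ∀ j, (A.filter fun t => eA t = j).card ≤ 1 := fun j => Finset.card_le_one.2 fun s hs t ht => by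
      obtain ⟨hsA, hse⟩ := Finset.mem_filter.1 hs
      obtain ⟨htA, hte⟩ := Finset.mem_filter.1 ht
      obtain ⟨a, ha, rfl⟩ := (hkill s).1 (Finset.mem_filter.1 (Finset.mem_inter.1 hsA).2).2
      obtain ⟨b, hb, rfl⟩ := (hkill t).1 (Finset.mem_filter.1 (Finset.mem_inter.1 htA).2).2
      rw [heA a ha hsA] at hse
      rw [heA b hb htA] at hte
      have h := mul_left_cancel₀ hredk (ZMod.val_injective p (hse.trans hte.symm))
      rw [neg_inj, ZMod.natCast_eq_natCast_iff', Nat.mod_eq_of_lt ha, Nat.mod_eq_of_lt hb] at h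
      rw [h]
    obtain ⟨a₀, ha₀, hpa₀⟩ := hmeet x hx
    have ha₀A : a₀ ∈ A := Finset.mem_inter.2 ⟨ha₀, Finset.mem_filter.2 ⟨Finset.mem_univ _, hpa₀⟩⟩
    have hone : ∀ j, j < p → j ≠ 0 → (A.filter fun t => eA t = j).Nonempty := by
      intro j hj hj0
      rw [← Finset.card_pos]
      by_contra h
      push Not at h
      have h0 : (A.filter fun t => eA t = j).card = 0 := by omega
      set j₀ := eA a₀
      have h1 : (A.filter fun t => eA t = j₀).card = 1 := le_antisymm (hcard _)
        (Finset.card_pos.2 ⟨a₀, Finset.mem_filter.2 ⟨ha₀A, rfl⟩⟩)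
      have hj₀ : j₀ ≠ 0 := hAne a₀ ha₀A
      have he1 := (hcj j hj).trans (hcj j₀ (hlt _)).symm
      simp only [cN, if_neg hj0, if_neg hj₀, h0, h1] at he1
      have hd := (hBdvd j₀ hj₀).trans (dvd_refl _)
      have hd' := hBdvd j hj0
      have h2 : (p : ℤ) ∣ 1 := by
        have h3 := dvd_sub hd hd'
        have h4 : ((B.filter fun t => e t = j₀).card : ℤ) - (B.filter fun t => e t = j).card = 1 := by
          omega
        rwa [h4] at h3
      have := Int.le_of_dvd one_pos h2
      have := hpp.two_le
      omega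
    intro z hz hz0
    obtain ⟨a, ha, rfl⟩ := (hkill z).1 hz
    have hane : red k * (-(a : ZMod p)) ≠ 0 := by
      refine mul_ne_zero hredk (neg_ne_zero.2 fun h => hz0 ?_)
      rw [ZMod.natCast_eq_zero_iff] at h
      rw [Nat.eq_zero_of_dvd_of_lt h ha, zero_smul]
    obtain ⟨t, ht⟩ := hone _ (hlt (red k * (-(a : ZMod p)))) (by rwa [Ne, ZMod.val_eq_zero])
    obtain ⟨htA, hte⟩ := Finset.mem_filter.1 ht
    obtain ⟨b, hb, rfl⟩ := (hkill t).1 (Finset.mem_filter.1 (Finset.mem_inter.1 htA).2).2
    rw [heA b hb htA] at hte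
    have h := mul_left_cancel₀ hredk (ZMod.val_injective p hte)
    rw [neg_inj, ZMod.natCast_eq_natCast_iff', Nat.mod_eq_of_lt hb, Nat.mod_eq_of_lt ha] at h
    rw [← h]
    exact (Finset.mem_inter.1 htA).1
  intro x y hx hy
  have h1 := hall x hx q hpq hq0
  have h2 := hall y hy q hpq hq0
  refine mem_suborbit.1 ?_
  rw [← suborbit_eq h1, suborbit_eq h2]
  exact self_mem_suborbit y

end

end CfsgLib.Perm.SchurPrimePower
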