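import Cfsg.Agent.Lib.Perm.DihedralPrimeSharp

/-!
# The three point stabiliser is trivial
-/

set_option autoImplicit false

open MulAction Cfsg

namespace CfsgLib.Perm.DihedralPrime

universe u

variable {α : Type u} [Fintype α] [DecidableEq α] {p : ℕ} [hp : Fact p.Prime]
  {G : Subgroup (Equiv.Perm α)}

/-- The stabiliser of three points. -/
def stab3 (G : Subgroup (Equiv.Perm α)) (a b c : α) : Subgroup G :=
  stabilizer G a ⊓ stabilizer G b ⊓ stabilizer G c

omit [Fintype α] [DecidableEq α] in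
theorem mem_stab3 {a b c : α} {g : G} :
    g ∈ stab3 G a b c ↔ g • a = a ∧ g • b = b ∧ g • c = c := by
  simp [stab3, Subgroup.mem_inf, mem_stabilizer_iff, and_assoc]

variable (hα : Fintype.card α = p) (hp2 : 2 < p) (P : Sylow p G)
  (hN : Nat.card (Subgroup.normalizer ((P : Subgroup G) : Set G)) = 2 * p)
  (hnn : ¬ (P : Subgroup G).Normal)

include hα hp2 hN hnn in
theorem eq_one_of_fix_three {g : G} {a b c : α} (hab : a ≠ b) (hac : a ≠ c) (hbc : b ≠ c)
    (ha : g • a = a) (hb : g • b = b) (hc : g • c = c) : g = 1 := by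
  classical
  obtain ⟨h3, h4⟩ := orbits_three_four hα hp2 P hN hnn
  obtain ⟨hp5, -⟩ := five_le_and_two_transitive hα P hN hnn
  have hmove : ∀ {x y z x' y' z' : α}, x ≠ y → x ≠ z → y ≠ z → x' ≠ y' → x' ≠ z' → y' ≠ z' →
      ∃ h : G, h • x = x' ∧ h • y = y' ∧ h • z = z' := by
    intro x y z x' y' z' q1 q2 q3 q1' q2' q3'
    have : IsPretransitive G (Fin 3 ↪ α) := h3
    let u : Fin 3 ↪ α := ⟨![x, y, z], by
      intro i j hij; fin_cases i <;> fin_cases j <;> simp_all [Ne.symm q1, Ne.symm q2, Ne.symm q3]⟩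
    let v : Fin 3 ↪ α := ⟨![x', y', z'], by
      intro i j hij; fin_cases i <;> fin_cases j <;> simp_all [Ne.symm q1', Ne.symm q2', Ne.symm q3']⟩
    obtain ⟨h, hh⟩ := exists_smul_eq G u v
    exact ⟨h, DFunLike.congr_fun hh 0, DFunLike.congr_fun hh 1, DFunLike.congr_fun hh 2⟩
  set E := stab3 G a b c with hE
  -- the fixed point set of a three point stabiliser
  let F : α → α → α → Finset α := fun x y z =>
    Finset.univ.filter fun d => ∀ h ∈ stab3 G x y z, h • d = d
  have hF : ∀ {x y z d : α}, d ∈ F x y z ↔ ∀ h ∈ stab3 G x y z, h • d = d := by simp [F]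
  have hFsub : ∀ {x y z : α}, ({x, y, z} : Finset α) ⊆ F x y z := by
    intro x y z d hd
    rw [hF]
    intro h hh
    rw [mem_stab3] at hh
    simp only [Finset.mem_insert, Finset.mem_singleton] at hd
    rcases hd with rfl | rfl | rfl
    exacts [hh.1, hh.2.1, hh.2.2]
  set k := (F a b c).card with hk
  have hconst : ∀ {x y z : α}, x ≠ y → x ≠ z → y ≠ z →
      (F x y z).card = k ∧ Nat.card (stab3 G x y z) = Nat.card E := by
    intro x y z q1 q2 q3
    obtain ⟨h, hx, hy, hz⟩ := hmove hab hac hbc q1 q2 q3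
    subst hx hy hz
    have hiff : ∀ s : G, s ∈ stab3 G a b c ↔ h * s * h⁻¹ ∈ stab3 G (h • a) (h • b) (h • c) := by
      intro s; simp [mem_stab3, mul_smul]
    refine ⟨?_, (Nat.card_congr ((MulAut.conj h).toEquiv.subtypeEquiv hiff)).symm⟩
    refine (Finset.card_equiv (MulAction.toPerm h) fun d => ?_).symm
    simp only [hF, MulAction.toPerm_apply]
    refine ⟨fun hd s hs => ?_, fun hd s hs => ?_⟩
    · have := hd (h⁻¹ * s * h) ((hiff _).2 (by
        rwa [show h * (h⁻¹ * s * h) * h⁻¹ = s by group]))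
      rwa [mul_smul, mul_smul, inv_smul_eq_iff] at this
    · have := hd _ ((hiff s).1 hs)
      rwa [mul_smul, mul_smul, inv_smul_smul, smul_left_cancel_iff] at this
  have hEq : ∀ {x y z x' y' z' : α}, x ≠ y → x ≠ z → y ≠ z → x' ≠ y' → x' ≠ z' → y' ≠ z' →
      stab3 G x y z ≤ stab3 G x' y' z' → stab3 G x y z = stab3 G x' y' z' :=
    fun q1 q2 q3 q1' q2' q3' hle => Subgroup.eq_of_le_of_card_ge hle
      ((hconst q1 q2 q3).2.trans (hconst q1' q2' q3').2.symm).ge
  -- orbits of `E` have odd length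
  have hodd : ∀ d : α, Odd (Nat.card (orbit E d)) := by
    intro d
    have hE' : Odd (Nat.card E) := by
      rw [← Nat.not_even_iff_odd, even_iff_two_dvd]
      intro h2
      haveI : Fact (Nat.Prime 2) := ⟨Nat.prime_two⟩
      obtain ⟨⟨e, he⟩, hoe⟩ := exists_prime_orderOf_dvd_card' (G := E) 2 h2
      rw [Subgroup.orderOf_mk] at hoe
      have h1 := fx_involution hα hp2 P hN hnn hoe
      rw [hE, mem_stab3] at he
      rw [fx, Nat.card_eq_one_iff_unique] at h1
      exact hab (congrArg Subtype.val (h1.1.elim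
        (⟨a, he.1⟩ : fixedBy α e) ⟨b, he.2.1⟩))
    refine Odd.of_dvd_nat hE' ?_
    rw [Nat.card_coe_set_eq, ← index_stabilizer]
    exact (stabilizer E d).index_dvd_card
  -- count quadruples
  set Ω : Finset α := Finset.univ \ {a, b, c} with hΩ
  have hΩc : Ω.card = p - 3 := by
    rw [hΩ, Finset.card_sdiff_of_subset (Finset.subset_univ _), Finset.card_univ, hα,
      Finset.card_eq_three.2 ⟨a, b, c, hab, hac, hbc, rfl⟩]
  have hquad : ∀ d ∈ Ω, Function.Injective ![a, b, c, d] := by
    intro d hd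
    simp only [hΩ, Finset.mem_sdiff, Finset.mem_univ, true_and, Finset.mem_insert,
      Finset.mem_singleton, not_or] at hd
    obtain ⟨d1, d2, d3⟩ := hd
    intro i j hij
    fin_cases i <;> fin_cases j <;>
      simp_all [Ne.symm hab, Ne.symm hac, Ne.symm hbc, Ne.symm d1, Ne.symm d2, Ne.symm d3]
  haveI : Fintype (orbitRel.Quotient G (Fin 4 ↪ α)) := Fintype.ofFinite _
  let Φ : {d // d ∈ Ω} → orbitRel.Quotient G (Fin 4 ↪ α) := fun d =>
    Quotient.mk'' (⟨![a, b, c, d.1], hquad d.1 d.2⟩ : Fin 4 ↪ α)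
  have hΦ : Function.Surjective Φ := by
    intro q
    obtain ⟨x, rfl⟩ := Quotient.mk''_surjective q
    have xne : ∀ {i j : Fin 4}, i ≠ j → x i ≠ x j := fun h => x.injective.ne h
    obtain ⟨h, h0, h1, h2⟩ := hmove (xne (show (0 : Fin 4) ≠ 1 by decide))
      (xne (show (0 : Fin 4) ≠ 2 by decide)) (xne (show (1 : Fin 4) ≠ 2 by decide)) hab hac hbc
    have hmem : h • x 3 ∈ Ω := by
      simp only [hΩ, Finset.mem_sdiff, Finset.mem_univ, true_and, Finset.mem_insert,
        Finset.mem_singleton, ← h0, ← h1, ← h2, smul_left_cancel_iff, not_or]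
      exact ⟨xne (by decide), xne (by decide), xne (by decide)⟩
    refine ⟨⟨h • x 3, hmem⟩, ?_⟩
    simp only [Φ]
    rw [Quotient.eq'', MulAction.orbitRel_apply, MulAction.mem_orbit_iff]
    refine ⟨h, Function.Embedding.ext fun i => ?_⟩
    change h • x i = ![a, b, c, h • x 3] i
    fin_cases i <;> simp [h0, h1, h2]
  let T : Finset {d // d ∈ Ω} := Finset.univ.filter fun d => d.1 ∈ F a b c
  have hfib : ∀ q, 3 ≤ (Finset.univ.filter fun d => Φ d = q).card +
      2 * (T.filter fun d => Φ d = q).card := by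
    intro q
    obtain ⟨d, rfl⟩ := hΦ q
    have h1 : 1 ≤ (Finset.univ.filter fun d' => Φ d' = Φ d).card :=
      Finset.card_pos.2 ⟨d, by simp⟩
    by_cases hd : d.1 ∈ F a b c
    · have h2 : 1 ≤ (T.filter fun d' => Φ d' = Φ d).card :=
        Finset.card_pos.2 ⟨d, by simp [T, hd]⟩
      omega
    have h3 : 3 ≤ Nat.card (orbit E d.1) := by
      obtain ⟨l, hl⟩ := hodd d.1
      have : 1 < Nat.card (orbit E d.1) := by
        rw [hF] at hd
        push Not at hd
        obtain ⟨h, hh, hne⟩ := hd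
        rw [Finite.one_lt_card_iff_nontrivial]
        exact ⟨⟨⟨d.1, mem_orbit_self _⟩, ⟨(⟨h, hh⟩ : E) • d.1, mem_orbit _ _⟩,
          fun e => hne (congrArg Subtype.val e).symm⟩⟩
      omega
    have hinΩ : ∀ h : E, (h • d.1 : α) ∈ Ω := by
      rintro ⟨h, hh⟩
      have hd' := d.2
      rw [hE, mem_stab3] at hh
      simp only [hΩ, Finset.mem_sdiff, Finset.mem_univ, true_and, Finset.mem_insert,
        Finset.mem_singleton, not_or] at hd' ⊢
      refine ⟨fun e => hd'.1 ?_, fun e => hd'.2.1 ?_, fun e => hd'.2.2 ?_⟩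
      · exact smul_left_cancel h (e.trans hh.1.symm)
      · exact smul_left_cancel h (e.trans hh.2.1.symm)
      · exact smul_left_cancel h (e.trans hh.2.2.symm)
    have hle : Nat.card (orbit E d.1) ≤ (Finset.univ.filter fun d' => Φ d' = Φ d).card := by
      rw [← Nat.card_eq_finsetCard]
      refine Nat.card_le_card_of_injective (fun o => ⟨⟨o.1, ?_⟩, ?_⟩) ?_
      · obtain ⟨h, hh⟩ := o.2
        rw [← hh]; exact hinΩ h
      · obtain ⟨h, hh⟩ := o.2
        simp only [Finset.mem_filter, Finset.mem_univ, true_and, Φ]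
        rw [Quotient.eq'', MulAction.orbitRel_apply, MulAction.mem_orbit_iff]
        refine ⟨(h : G), Function.Embedding.ext fun i => ?_⟩
        change (h : G) • ![a, b, c, d.1] i = ![a, b, c, o.1] i
        have hh' := mem_stab3.1 (show (h : G) ∈ stab3 G a b c from h.2)
        fin_cases i
        · simpa using hh'.1
        · simpa using hh'.2.1
        · simpa using hh'.2.2
        · exact hh
      · intro o o' e
        exact Subtype.ext (congrArg (fun z => (z.1.1 : α)) e)
    omega
  have hsum : 3 * Nat.card (orbitRel.Quotient G (Fin 4 ↪ α)) ≤ Ω.card + 2 * T.card := by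
    have h := Finset.sum_le_sum (s := (Finset.univ : Finset (orbitRel.Quotient G (Fin 4 ↪ α))))
      (fun q _ => hfib q)
    rw [Finset.sum_add_distrib, ← Finset.mul_sum,
      ← Finset.card_eq_sum_card_fiberwise (fun d _ => Finset.mem_univ (Φ d)),
      ← Finset.card_eq_sum_card_fiberwise (fun d _ => Finset.mem_univ (Φ d)),
      Finset.sum_const, smul_eq_mul, Finset.card_univ, Finset.card_univ, Fintype.card_coe,
      ← Nat.card_eq_fintype_card] at h
    omega
  have hTk : T.card + 3 = k := by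
    have h1 : T.card = (F a b c \ {a, b, c}).card := by
      refine Finset.card_bij (fun d _ => d.1) (fun d hd => ?_) (fun _ _ _ _ e => Subtype.ext e) ?_
      · have hd' := d.2
        simp only [hΩ, Finset.mem_sdiff, Finset.mem_univ, true_and] at hd'
        simp only [T, Finset.mem_filter, Finset.mem_univ, true_and] at hd
        exact Finset.mem_sdiff.2 ⟨hd, hd'⟩
      · intro d hd
        rw [Finset.mem_sdiff] at hd
        exact ⟨⟨d, by simp only [hΩ, Finset.mem_sdiff, Finset.mem_univ, true_and]; exact hd.2⟩,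
          by simp [T, hd.1], rfl⟩
    rw [h1, Finset.card_sdiff_of_subset hFsub, Finset.card_eq_three.2 ⟨a, b, c, hab, hac, hbc, rfl⟩]
    have := Finset.card_le_card (hFsub (x := a) (y := b) (z := c))
    rw [Finset.card_eq_three.2 ⟨a, b, c, hab, hac, hbc, rfl⟩] at this
    omega
  -- the blocks on `Ω ∖ {x, y}`
  have hblocks : ∀ {x y : α}, x ≠ y →
      (k - 2) * ((Finset.univ \ {x, y}).image fun d => stab3 G x y d).card = p - 2 := by
    intro x y hxy
    set W : Finset α := Finset.univ \ {x, y}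
    have hW : ∀ d ∈ W, x ≠ d ∧ y ≠ d := fun d hd => by
      simp only [W, Finset.mem_sdiff, Finset.mem_univ, true_and, Finset.mem_insert,
        Finset.mem_singleton, not_or] at hd
      exact ⟨Ne.symm hd.1, Ne.symm hd.2⟩
    have hfib' : ∀ Q ∈ W.image (fun d => stab3 G x y d),
        (W.filter fun d => stab3 G x y d = Q).card = k - 2 := by
      intro Q hQ
      obtain ⟨d, hd, rfl⟩ := Finset.mem_image.1 hQ
      obtain ⟨q2, q3⟩ := hW d hd
      have hset : (W.filter fun d' => stab3 G x y d' = stab3 G x y d) = F x y d \ {x, y} := by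
        ext d'
        simp only [Finset.mem_filter, Finset.mem_sdiff]
        constructor
        · rintro ⟨hd', he⟩
          refine ⟨hF.2 fun h hh => ?_, (Finset.mem_sdiff.1 hd').2⟩
          rw [← he, mem_stab3] at hh
          exact hh.2.2
        · rintro ⟨hd', hne⟩
          have hdW : d' ∈ W := Finset.mem_sdiff.2 ⟨Finset.mem_univ _, hne⟩
          obtain ⟨r2, r3⟩ := hW d' hdW
          refine ⟨hdW, (hEq hxy q2 q3 hxy r2 r3 fun h hh => ?_).symm⟩
          have hh' := mem_stab3.1 hh
          exact mem_stab3.2 ⟨hh'.1, hh'.2.1, hF.1 hd' h hh⟩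
      rw [hset, Finset.card_sdiff_of_subset ((Finset.insert_subset_iff.2 ⟨hFsub (by simp),
        Finset.singleton_subset_iff.2 (hFsub (by simp))⟩)), (hconst hxy q2 q3).1,
        Finset.card_pair hxy]
    have h := Finset.card_eq_sum_card_image (fun d => stab3 G x y d) W
    rw [Finset.sum_congr rfl hfib', Finset.sum_const, smul_eq_mul,
      Finset.card_sdiff_of_subset (Finset.subset_univ _), Finset.card_univ, hα,
      Finset.card_pair hxy] at h
    rw [h, mul_comm]
  by_contra hg
  obtain ⟨x, hx⟩ : ∃ x : α, g • x ≠ x := by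
    by_contra h
    push Not at h
    exact hg (eq_of_smul_eq_smul (α := α) fun x => by rw [h, one_smul])
  have hgE : g ∈ E := mem_stab3.2 ⟨ha, hb, hc⟩
  have hxF : x ∉ F a b c := fun h => hx (hF.1 h g hgE)
  have hax : a ≠ x := fun h => hx (h ▸ ha)
  have hinj : (F a b c).card - 1 ≤
      ((Finset.univ \ {a, x}).image fun d => stab3 G a x d).card := by
    rw [← Finset.card_erase_of_mem (hFsub (by simp : a ∈ ({a, b, c} : Finset α)))]
    refine Finset.card_le_card_of_injOn (fun d => stab3 G a x d) (fun d hd => ?_) ?_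
    · rw [Finset.mem_coe, Finset.mem_erase] at hd
      rw [Finset.mem_coe]
      exact Finset.mem_image_of_mem _ (Finset.mem_sdiff.2 ⟨Finset.mem_univ _, by
        simp only [Finset.mem_insert, Finset.mem_singleton, not_or]
        exact ⟨hd.1, fun h => hxF (h ▸ hd.2)⟩⟩)
    · intro d hd d' hd' he
      rw [Finset.mem_coe, Finset.mem_erase] at hd hd'
      by_contra hne
      have he' : stab3 G a x d = stab3 G a x d' := he
      have hxd : x ≠ d := fun h => hxF (h ▸ hd.2)
      have hEle : E ≤ stab3 G a d d' := fun h hh =>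
        mem_stab3.2 ⟨(mem_stab3.1 hh).1, hF.1 hd.2 h hh, hF.1 hd'.2 h hh⟩
      have e1 : E = stab3 G a d d' := hEq hab hac hbc (Ne.symm hd.1) (Ne.symm hd'.1) hne hEle
      have e2 : stab3 G a x d = stab3 G a d d' := hEq hax (Ne.symm hd.1) hxd (Ne.symm hd.1)
        (Ne.symm hd'.1) hne fun h hh =>
          mem_stab3.2 ⟨(mem_stab3.1 hh).1, (mem_stab3.1 hh).2.2, (mem_stab3.1 (he' ▸ hh)).2.2⟩
      exact hx (mem_stab3.1 (show g ∈ stab3 G a x d by rw [e2, ← e1]; exact hgE)).2.1
  have hb2 := hblocks (x := a) (y := x) hax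
  rw [← hk] at hinj
  rw [hΩc] at hsum
  have hk3 : 3 ≤ k := by omega
  obtain ⟨z, hz⟩ : ∃ z, k = z + 2 := ⟨k - 2, by omega⟩
  have hmul := Nat.mul_le_mul_left z (show z + 1 ≤ _ by omega : z + 1 ≤
    ((Finset.univ \ {a, x}).image fun d => stab3 G a x d).card)
  rw [hz, Nat.add_sub_cancel] at hb2
  rw [hb2] at hmul
  have hle : z * (z + 1) + 3 ≤ 4 * z := by omega
  rcases Nat.lt_or_ge z 3 with h | h
  · interval_cases z <;> omega
  · have : 4 * z ≤ z * (z + 1) := by rw [mul_comm 4 z]; exact Nat.mul_le_mul_left z (by omega)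
    omega

end CfsgLib.Perm.DihedralPrime
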