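import Cfsg.Agent.Lib.Perm.PermCentralizer

/-!
Degrees of the constituents of a permutation character and the subdegrees.
-/

set_option autoImplicit false

namespace CfsgLib.Perm.Isotypic

open Module Cfsg
open scoped ComplexConjugate

universe u v

variable {G : Type u} [Group G] [Fintype G] {Ω : Type v} [Fintype Ω] [MulAction G Ω]
  [MulAction.IsPretransitive G Ω]

/-- A common divisor of the degrees of the nonprincipal constituents divides the subdegrees. -/
theorem dvd_subdegree (f : ℕ)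
    (hf : ∀ χ : IrrCharacter G, χ ≠ CfsgLib.Chars.principal G →
      classInner (Cfsg.permRep ℂ G Ω).character χ ≠ 0 → ∃ m : ℕ, (χ : G → ℂ) 1 = (f : ℂ) * m)
    {a b : Ω} (hab : b ≠ a) :
    f ∣ Nat.card (MulAction.orbit (MulAction.stabilizer G a) b) := by
  classical
  have := CfsgLib.Chars.irrFintype G
  have : Nonempty Ω := ⟨a⟩
  set ρ := Cfsg.permRep ℂ G Ω with hρ
  set k := Nat.card (MulAction.orbit (MulAction.stabilizer G a) b)
  set M := orbOp G a b with hM
  set P := CfsgLib.Chars.principal G with hP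
  have hsum : LinearMap.trace ℂ (Ω → ℂ) M =
      ∑ χ, LinearMap.trace ℂ (Ω → ℂ) (M ∘ₗ proj ρ χ) := by
    rw [← map_sum]
    congr 1
    refine LinearMap.ext fun x => ?_
    simp only [LinearMap.sum_apply, LinearMap.comp_apply, ← map_sum, sum_proj]
  have hP1 : LinearMap.trace ℂ (Ω → ℂ) (M ∘ₗ proj ρ P) = k := by
    have e : M ∘ₗ proj ρ P = (k : ℂ) • proj ρ P := LinearMap.ext fun x => funext fun y => by
      rw [LinearMap.comp_apply, apply_eq_sum, LinearMap.smul_apply, Pi.smul_apply, smul_eq_mul,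
        ← sum_entry_orbOp (G := G) a b y, Finset.sum_mul]
      exact Finset.sum_congr rfl fun z _ => by rw [proj_principal_apply x z y]
    rw [e, map_smul, trace_proj, inner_principal, mul_one, CfsgLib.Chars.principal_apply, smul_eq_mul, mul_one]
  rw [trace_orbOp hab, ← Finset.add_sum_erase _ _ (Finset.mem_univ P), hP1] at hsum
  have key : ∀ χ : IrrCharacter G, χ ≠ P → ∃ z : ℂ, IsIntegral ℤ z ∧
      LinearMap.trace ℂ (Ω → ℂ) (M ∘ₗ proj ρ χ) = (f : ℂ) * z := by
    intro χ hχ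
    rcases eq_or_ne (classInner ρ.character χ) 0 with h0 | h0
    · exact ⟨0, isIntegral_zero, by rw [proj_eq_zero h0]; simp⟩
    · exact trace_orbOp_proj a b χ (hf χ hχ h0)
  choose z hzi hz using key
  let w : IrrCharacter G → ℂ := fun χ => if h : χ = P then 0 else z χ h
  have hw : IsIntegral ℤ (∑ χ ∈ Finset.univ.erase P, w χ) := IsIntegral.sum _ fun χ hχ => by
    simp only [w, dif_neg (Finset.ne_of_mem_erase hχ)]
    exact hzi _ _
  have hk : (k : ℂ) + (f : ℂ) * ∑ χ ∈ Finset.univ.erase P, w χ = 0 := by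
    rw [Finset.mul_sum, hsum]
    congr 1
    refine Finset.sum_congr rfl fun χ hχ => ?_
    simp only [w, dif_neg (Finset.ne_of_mem_erase hχ)]
    exact (hz _ _).symm
  rcases Nat.eq_zero_or_pos f with rfl | hf0
  · rw [Nat.cast_zero, zero_mul, add_zero, Nat.cast_eq_zero] at hk
    rw [hk]
  refine CfsgLib.Chars.dvd_of_isIntegral_div hf0.ne' ?_
  have hf' : (f : ℂ) ≠ 0 := Nat.cast_ne_zero.2 hf0.ne'
  rw [eq_neg_of_add_eq_zero_left hk, neg_div, mul_div_cancel_left₀ _ hf']
  exact hw.neg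

/-- The multiplicities, the degree and the rank. -/
theorem sum_mult [Fintype (IrrCharacter G)] (a : Ω) :
    ∃ μ : IrrCharacter G → ℕ, (∀ χ : IrrCharacter G, classInner (Cfsg.permRep ℂ G Ω).character χ = (μ χ : ℂ)) ∧
      μ (CfsgLib.Chars.principal G) = 1 ∧
      (Nat.card Ω : ℂ) = ∑ χ : IrrCharacter G, (χ : G → ℂ) 1 * (μ χ : ℂ) ∧
      ∑ χ, μ χ * μ χ = Nat.card (MulAction.orbitRel.Quotient (MulAction.stabilizer G a) Ω) := by
  classical
  have : Nonempty Ω := ⟨a⟩
  set ρ := Cfsg.permRep ℂ G Ω with hρ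
  choose μ hμ using fun χ => CfsgLib.Chars.inner_irr_right_nat (CfsgLib.Chars.isCharacter_character ρ) χ
  have hch : ρ.character = fun g : G => (Nat.card (MulAction.fixedBy Ω g) : ℂ) := funext character_perm
  refine ⟨μ, hμ, ?_, ?_, ?_⟩
  · have h := inner_principal (G := G) (Ω := Ω)
    rw [hμ] at h
    exact_mod_cast h
  · have h : LinearMap.trace ℂ (Ω → ℂ) LinearMap.id = ∑ χ, LinearMap.trace ℂ (Ω → ℂ) (proj ρ χ) := by
      rw [← map_sum]
      congr 1
      exact LinearMap.ext fun x => by simp [LinearMap.sum_apply, sum_proj]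
    simp only [LinearMap.trace_id, Module.finrank_pi, trace_proj, hμ] at h
    rw [Nat.card_eq_fintype_card]; exact h
  · have h := CfsgLib.Chars.inner_eq_sum (φ := ρ.character)
      (CfsgLib.Chars.isClassFunction_character ρ) (ψ := ρ.character)
    simp only [hμ, map_natCast] at h
    have h2 : classInner ρ.character ρ.character =
        (Nat.card (MulAction.orbitRel.Quotient (MulAction.stabilizer G a) Ω) : ℂ) := by
      rw [hch]; exact CfsgLib.Chars.inner_fixedBy_self a
    rw [h2] at h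
    exact_mod_cast h.symm

omit [Fintype G] in
/-- The number of points is the sum of the orbit lengths. -/
theorem card_eq_sum_orbits (H : Subgroup G) [Fintype (MulAction.orbitRel.Quotient H Ω)] :
    Nat.card Ω = ∑ q : MulAction.orbitRel.Quotient H Ω, Nat.card (MulAction.orbit H q.out) := by
  classical
  rw [← Nat.card_sigma]
  exact Nat.card_congr (MulAction.selfEquivSigmaOrbits H Ω)

/-- Equal degrees: multiplicity free, and all subdegrees equal to the degree. -/
theorem equal_degrees (a : Ω) {f : ℕ}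
    (hf : ∀ χ : IrrCharacter G, χ ≠ CfsgLib.Chars.principal G →
      classInner (Cfsg.permRep ℂ G Ω).character χ ≠ 0 → (χ : G → ℂ) 1 = f) :
    (∀ χ : IrrCharacter G, classInner (Cfsg.permRep ℂ G Ω).character χ = 0 ∨
        classInner (Cfsg.permRep ℂ G Ω).character χ = 1) ∧
      ∀ b : Ω, b ≠ a → Nat.card (MulAction.orbit (MulAction.stabilizer G a) b) = f := by
  classical
  have := CfsgLib.Chars.irrFintype G
  obtain ⟨μ, hμ, hμ1, hn, hr⟩ := sum_mult (G := G) a
  set P := CfsgLib.Chars.principal G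
  set H := MulAction.stabilizer G a
  have := Fintype.ofFinite (MulAction.orbitRel.Quotient H Ω)
  let q₀ : MulAction.orbitRel.Quotient H Ω := Quotient.mk'' a
  have hq₀ : q₀.out = a := by
    obtain ⟨h, hh⟩ := MulAction.orbitRel_apply.1 (Quotient.exact' (q₀.out_eq : Quotient.mk'' q₀.out = Quotient.mk'' a))
    rw [← hh]; exact h.2
  have hk₀ : Nat.card (MulAction.orbit H a) = 1 := by
    rw [Nat.card_eq_one_iff_unique]
    refine ⟨⟨fun u v => Subtype.ext ?_⟩, ⟨⟨a, MulAction.mem_orbit_self a⟩⟩⟩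
    obtain ⟨⟨g, hg⟩, hu⟩ := u.2
    obtain ⟨⟨g', hg'⟩, hv⟩ := v.2
    rw [← hu, ← hv]; exact hg.trans hg'.symm
  have hne : ∀ q, q ≠ q₀ → q.out ≠ a := fun q hq h => hq (by rw [← q.out_eq, h])
  have hN : 1 + ∑ q ∈ Finset.univ.erase q₀, Nat.card (MulAction.orbit H q.out) =
      1 + f * ∑ χ ∈ Finset.univ.erase P, μ χ := by
    rw [← @Nat.cast_inj ℂ]
    have e1 : 1 + ∑ q ∈ Finset.univ.erase q₀, Nat.card (MulAction.orbit H q.out) = Nat.card Ω := by
      rw [card_eq_sum_orbits H, ← Finset.add_sum_erase _ _ (Finset.mem_univ q₀), hq₀, hk₀]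
    rw [e1, hn, ← Finset.add_sum_erase _ _ (Finset.mem_univ P), hμ1]
    push_cast
    rw [Finset.mul_sum]
    congr 1
    · simp [P, CfsgLib.Chars.principal_apply]
    refine Finset.sum_congr rfl fun χ hχ => ?_
    rcases Nat.eq_zero_or_pos (μ χ) with h0 | h0
    · rw [h0]; simp
    · rw [hf χ (Finset.ne_of_mem_erase hχ) (by rw [hμ]; exact_mod_cast h0.ne')]
  have hR : 1 + (Finset.univ.erase q₀).card = 1 + ∑ χ ∈ Finset.univ.erase P, μ χ * μ χ := by
    rw [Finset.card_erase_of_mem (Finset.mem_univ q₀), Finset.card_univ, ← Nat.card_eq_fintype_card, ← hr,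
      ← Finset.add_sum_erase _ _ (Finset.mem_univ P), hμ1]
    omega
  have hk : ∀ b : Ω, b ≠ a → f ≤ Nat.card (MulAction.orbit H b) := fun b hb => by
    have : Nonempty (MulAction.orbit H b) := ⟨⟨b, MulAction.mem_orbit_self b⟩⟩
    exact Nat.le_of_dvd Nat.card_pos (dvd_subdegree f (fun χ h1 h2 => ⟨1, by rw [Nat.cast_one, mul_one]; exact hf χ h1 h2⟩) hb)
  have hsq : ∀ χ, μ χ ≤ μ χ * μ χ := fun χ => Nat.le_mul_self _
  have h1 : f * (Finset.univ.erase q₀).card ≤ ∑ q ∈ Finset.univ.erase q₀, Nat.card (MulAction.orbit H q.out) := by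
    rw [mul_comm, ← smul_eq_mul, ← Finset.sum_const]
    exact Finset.sum_le_sum fun q hq => hk _ (hne q (Finset.ne_of_mem_erase hq))
  have hfpos : ∀ χ, χ ≠ P → μ χ ≠ 0 → 0 < f := fun χ hχ1 hχ2 => by
    rcases Nat.eq_zero_or_pos f with hf0 | h
    · have := hf χ hχ1 (by rw [hμ]; exact_mod_cast hχ2)
      rw [hf0, Nat.cast_zero] at this
      exact absurd this (CfsgLib.Chars.irr_degree_ne_zero χ.2)
    · exact h
  have h2 := Finset.sum_le_sum (s := Finset.univ.erase P) (fun χ _ => hsq χ)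
  have hmf : ∀ χ, μ χ = 0 ∨ μ χ = 1 := by
    intro χ
    by_contra! hc
    have hχ : χ ≠ P := fun h => hc.2 (h ▸ hμ1)
    have hpos := hfpos χ hχ hc.1
    have h3 : ∑ χ ∈ Finset.univ.erase P, μ χ < ∑ χ ∈ Finset.univ.erase P, μ χ * μ χ :=
      Finset.sum_lt_sum (fun χ _ => hsq χ) ⟨χ, Finset.mem_erase.2 ⟨hχ, Finset.mem_univ _⟩, by
        have : 2 ≤ μ χ := by omega
        nlinarith⟩
    have h4 := Nat.mul_lt_mul_of_pos_left h3 hpos
    rw [show (Finset.univ.erase q₀).card = ∑ χ ∈ Finset.univ.erase P, μ χ * μ χ by omega] at h1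
    omega
  refine ⟨fun χ => (hmf χ).imp (fun h => by rw [hμ, h, Nat.cast_zero]) (fun h => by rw [hμ, h, Nat.cast_one]),
    fun b hb => ?_⟩
  have heq : ∑ χ ∈ Finset.univ.erase P, μ χ * μ χ = ∑ χ ∈ Finset.univ.erase P, μ χ :=
    Finset.sum_congr rfl fun χ _ => by rcases hmf χ with h | h <;> simp [h]
  have htot : ∑ q ∈ Finset.univ.erase q₀, Nat.card (MulAction.orbit H q.out) =
      ∑ q ∈ Finset.univ.erase q₀, f := by
    rw [Finset.sum_const, smul_eq_mul, show (Finset.univ.erase q₀).card = ∑ χ ∈ Finset.univ.erase P, μ χ by omega,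
      mul_comm]
    omega
  let q : MulAction.orbitRel.Quotient H Ω := Quotient.mk'' b
  have hq : q ≠ q₀ := fun h => by
    obtain ⟨g, hg⟩ := MulAction.orbitRel_apply.1 (Quotient.exact' h)
    exact hb (hg.symm.trans g.2)
  have h5 := (Finset.sum_eq_sum_iff_of_le (fun q hq => hk _ (hne q (Finset.ne_of_mem_erase hq)))).1 htot.symm q
    (Finset.mem_erase.2 ⟨hq, Finset.mem_univ _⟩)
  have horb : MulAction.orbit H q.out = MulAction.orbit H b :=
    MulAction.orbit_eq_iff.2 (MulAction.orbitRel_apply.1 (Quotient.exact' (q.out_eq : Quotient.mk'' q.out = Quotient.mk'' b)))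
  rw [h5, horb]

/-- Rank at most five: multiplicity free. -/
theorem multFree_of_rank_le_five (a : Ω)
    (h5 : Nat.card (MulAction.orbitRel.Quotient (MulAction.stabilizer G a) Ω) ≤ 5) (χ : IrrCharacter G) :
    classInner (Cfsg.permRep ℂ G Ω).character χ = 0 ∨ classInner (Cfsg.permRep ℂ G Ω).character χ = 1 := by
  classical
  have := CfsgLib.Chars.irrFintype G
  obtain ⟨μ, hμ, hμ1, -, hr⟩ := sum_mult (G := G) a
  set P := CfsgLib.Chars.principal G
  by_contra hc
  have hχP : χ ≠ P := fun h => hc (Or.inr (by rw [hμ, h, hμ1, Nat.cast_one]))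
  have h2 : 2 ≤ μ χ := by
    rcases Nat.lt_or_ge (μ χ) 2 with h | h
    · exfalso; interval_cases hh : μ χ
      · exact hc (Or.inl (by rw [hμ, hh, Nat.cast_zero]))
      · exact hc (Or.inr (by rw [hμ, hh, Nat.cast_one]))
    · exact h
  obtain ⟨d, -, hd⟩ := CfsgLib.Chars.irr_degree_nat χ.2
  refine hc ((equal_degrees a (f := d) fun ψ hψ hψ0 => ?_).1 χ)
  by_contra hne
  have hψχ : ψ ≠ χ := fun h => hne (h ▸ hd)
  have hψ1 : 1 ≤ μ ψ := Nat.pos_of_ne_zero fun h => hψ0 (by rw [hμ, h, Nat.cast_zero])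
  have h3 : ∑ φ ∈ ({P, χ, ψ} : Finset _), μ φ * μ φ ≤ ∑ φ, μ φ * μ φ :=
    Finset.sum_le_sum_of_subset (Finset.subset_univ _)
  rw [Finset.sum_insert (by simp only [Finset.mem_insert, Finset.mem_singleton, not_or]; exact ⟨Ne.symm hχP, Ne.symm hψ⟩), Finset.sum_pair hψχ.symm, hμ1] at h3
  nlinarith

end CfsgLib.Perm.Isotypic
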