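import Mathlib

/-!
The minimal degree of a multiply transitive group.
-/

open MulAction Equiv

namespace CfsgLib.Perm

variable {α : Type*} [Fintype α] [DecidableEq α] {G : Subgroup (Perm α)} {k : ℕ}

/-- In a `k`-transitive group any injection of at most `k` points is realised. -/
theorem exists_map_of_transitive (hkn : k ≤ Fintype.card α) (hG : IsMultiplyPretransitive G α k)
    (F : Finset α) (hF : F.card ≤ k) (ψ : α → α) (hψ : Set.InjOn ψ F) :
    ∃ g ∈ G, ∀ x ∈ F, g x = ψ x := by
  have hle : IsMultiplyPretransitive G α F.card :=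
    isMultiplyPretransitive_of_le hF (by rw [Nat.card_eq_fintype_card]; exact hkn)
  let x : Fin F.card ↪ α := F.equivFin.symm.toEmbedding.trans ⟨Subtype.val, Subtype.val_injective⟩
  let y : Fin F.card ↪ α := ⟨fun i => ψ (x i), fun i j h =>
    x.injective (hψ (F.equivFin.symm i).2 (F.equivFin.symm j).2 h)⟩
  obtain ⟨⟨g, hg⟩, hgxy⟩ := (isMultiplyPretransitive_iff (G := G) (α := α)).1 hle x y
  refine ⟨g, hg, fun a ha => ?_⟩
  have := DFunLike.congr_fun hgxy (F.equivFin ⟨a, ha⟩)
  simpa [x, y, Subgroup.smul_def] using this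

/-- Fix `S` and move `f` to `f'`. -/
theorem exists_fix_move (hkn : k ≤ Fintype.card α) (hG : IsMultiplyPretransitive G α k)
    (S : Finset α) (hS : S.card < k) {f f' : α} (hf : f ∉ S) (hf' : f' ∉ S) :
    ∃ h ∈ G, (∀ x ∈ S, h x = x) ∧ h f = f' := by
  have hinj : Set.InjOn (fun x => if x = f then f' else x) (insert f S : Finset α) := by
    intro a ha b hb hab
    simp only [Finset.coe_insert, Set.mem_insert_iff, Finset.mem_coe] at ha hb
    simp only at hab
    split_ifs at hab with h1 h2 h2
    · rw [h1, h2]
    · exact absurd (hb.resolve_left h2) (hab ▸ hf')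
    · exact absurd (ha.resolve_left h1) (hab.symm ▸ hf')
    · exact hab
  obtain ⟨h, hh, hhS⟩ := exists_map_of_transitive hkn hG (insert f S)
    ((Finset.card_insert_le f S).trans hS) _ hinj
  refine ⟨h, hh, fun x hx => ?_, ?_⟩
  · rw [hhS x (Finset.mem_insert_of_mem hx), if_neg (fun e : x = f => hf (e ▸ hx))]
  · rw [hhS f (Finset.mem_insert_self f S), if_pos rfl]

/-- The points in both supports where `g` and a conjugate agree drop out of `g⁻¹ h g h⁻¹`. -/
theorem support_bound (g h : Perm α) (S : Finset α) (hSg : S ⊆ g.support) (hS : ∀ x ∈ S, ∃ y ∈ g.support, h y = x)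
    (J : Finset α) (hJ : ∀ x ∈ J, g x ≠ x ∧ (h * g * h⁻¹) x = g x) :
    (g⁻¹ * (h * g * h⁻¹)).support.card + J.card ≤ (g.support ∪ (h * g * h⁻¹).support).card ∧
      (g.support ∪ (h * g * h⁻¹).support).card + S.card ≤ 2 * g.support.card := by
  constructor
  · have hdisj : Disjoint (g⁻¹ * (h * g * h⁻¹)).support J := by
      rw [Finset.disjoint_left]
      intro x hx hxJ
      rw [Perm.mem_support, Perm.mul_apply, (hJ x hxJ).2] at hx
      simp at hx
    rw [← Finset.card_union_of_disjoint hdisj]
    refine Finset.card_le_card (Finset.union_subset ?_ ?_)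
    · refine (Perm.support_mul_le _ _).trans ?_
      rw [Perm.support_inv]
      exact le_rfl
    · exact fun x hx => Finset.mem_union_left _ (Perm.mem_support.2 (hJ x hx).1)
  · have hsub : S ⊆ g.support ∩ (h * g * h⁻¹).support := by
      intro x hx
      refine Finset.mem_inter.2 ⟨hSg hx, ?_⟩
      rw [Perm.support_conj, Finset.mem_map]
      exact hS x hx
    have h1 := Finset.card_le_card hsub
    have h2 := Finset.card_union_add_card_inter g.support (h * g * h⁻¹).support
    have h3 : (h * g * h⁻¹).support.card = g.support.card := Perm.card_support_conj ..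
    omega

/-- A set of `i` support points having at most one point whose successor is outside. -/
theorem exists_chain (g : Perm α) :
    ∀ i ≤ g.support.card, ∃ S ⊆ g.support, S.card = i ∧ (S.filter fun x => g x ∉ S).card ≤ 1 := by
  intro i
  induction i with
  | zero => exact fun _ => ⟨∅, Finset.empty_subset _, rfl, by simp⟩
  | succ i ih =>
    intro hi
    obtain ⟨S, hSg, hSc, hS⟩ := ih (by omega)
    rcases (S.filter fun x => g x ∉ S).eq_empty_or_nonempty with he | ⟨e, he⟩
    · obtain ⟨y, hy, hyS⟩ := Finset.exists_mem_notMem_of_card_lt_card (s := S) (t := g.support) (by omega)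
      refine ⟨insert y S, Finset.insert_subset hy hSg, by rw [Finset.card_insert_of_notMem hyS, hSc], ?_⟩
      refine (Finset.card_le_card (t := {y}) fun x hx => ?_).trans (by simp)
      simp only [Finset.mem_filter, Finset.mem_insert, not_or] at hx
      rcases hx.1 with rfl | h
      · simp
      · have : x ∈ S.filter fun x => g x ∉ S := Finset.mem_filter.2 ⟨h, hx.2.2⟩
        rw [he] at this
        simp at this
    · obtain ⟨heS, hge⟩ := Finset.mem_filter.1 he
      refine ⟨insert (g e) S, Finset.insert_subset (Perm.apply_mem_support.2 (hSg heS)) hSg,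
        by rw [Finset.card_insert_of_notMem hge, hSc], ?_⟩
      refine (Finset.card_le_card (t := {g e}) fun x hx => ?_).trans (by simp)
      simp only [Finset.mem_filter, Finset.mem_insert, not_or] at hx
      rcases hx.1 with rfl | h
      · simp
      · have hxe : x = e := Finset.card_le_one.1 hS x (Finset.mem_filter.2 ⟨h, hx.2.2⟩) e he
        exact absurd (by rw [hxe]) hx.2.1

theorem exists_smaller_support (hk : 3 ≤ k) (hkn : k ≤ Fintype.card α)
    (hG : IsMultiplyPretransitive G α k) {g : Perm α} (hg : g ∈ G) (h4 : 4 ≤ g.support.card)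
    (hlt : g.support.card < 2 * k - 2) :
    ∃ g' ∈ G, g' ≠ 1 ∧ g'.support.card < g.support.card := by
  have key : ∀ h ∈ G, h * g * h⁻¹ ≠ g →
      (g⁻¹ * (h * g * h⁻¹)).support.card < g.support.card →
      ∃ g' ∈ G, g' ≠ 1 ∧ g'.support.card < g.support.card := fun h hh hne hcard =>
    ⟨_, G.mul_mem (G.inv_mem hg) (G.mul_mem (G.mul_mem hh hg) (G.inv_mem hh)),
      fun e => hne (inv_mul_eq_one.1 e).symm, hcard⟩
  have hmoved : ∀ h : Perm α, ∀ f, f ∈ g.support → h f ∉ g.support → h * g * h⁻¹ ≠ g := by
    intro h f hf hhf e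
    have : h f ∈ (h * g * h⁻¹).support := by
      rw [Perm.support_conj, Finset.mem_map]; exact ⟨f, hf, rfl⟩
    rw [e] at this
    exact hhf this
  -- the conjugate agrees with `g` along fixed arcs
  have hagree : ∀ (h : Perm α) (S : Finset α), (∀ x ∈ S, h x = x) → ∀ x ∈ S, g x ∈ S →
      (h * g * h⁻¹) x = g x := by
    intro h S hS x hx hgx
    rw [Perm.mul_apply, Perm.mul_apply, Perm.inv_eq_iff_eq.2 (hS x hx).symm, hS _ hgx]
  obtain ⟨a, ha⟩ : ∃ a, g a ≠ a := by
    by_contra! h
    rw [show g = 1 from Equiv.ext h, Perm.support_one] at h4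
    simp at h4
  rcases eq_or_lt_of_le (Finset.card_le_univ g.support) with hfull | hout
  · by_cases hmk : g.support.card ≤ k
    · -- `G` is the symmetric group
      obtain ⟨h, hh, hhx⟩ := exists_map_of_transitive hkn hG Finset.univ
        (by rw [Finset.card_univ]; omega) (Equiv.swap a (g a)) (Equiv.injective _).injOn
      have hswap : h = Equiv.swap a (g a) := Equiv.ext fun x => hhx x (Finset.mem_univ x)
      refine ⟨h, hh, fun h1 => ha ?_, ?_⟩
      · exact (Equiv.swap_eq_one_iff.1 (hswap ▸ h1)).symm
      · rw [hswap, Perm.card_support_swap (Ne.symm ha)]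
        omega
    · obtain ⟨y, hy⟩ : ∃ y, y ∉ ({a, g a, g⁻¹ a} : Finset α) := by
        by_contra! hcon
        have := (Finset.card_le_card (s := Finset.univ) fun x _ => hcon x).trans Finset.card_le_three
        rw [Finset.card_univ] at this
        omega
      simp only [Finset.mem_insert, Finset.mem_singleton, not_or] at hy
      have hgy : g y ≠ a ∧ g y ≠ g a := ⟨fun e => hy.2.2 (by rw [← e]; simp), fun e => hy.1 (g.injective e)⟩
      obtain ⟨f', hf'⟩ : ∃ f', f' ∉ ({a, g a, y, g y} : Finset α) := by
        by_contra! hcon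
        have := (Finset.card_le_card (s := Finset.univ) fun x _ => hcon x).trans Finset.card_le_four
        rw [Finset.card_univ] at this
        omega
      simp only [Finset.mem_insert, Finset.mem_singleton, not_or] at hf'
      obtain ⟨h, hh, hfix, hf⟩ := exists_fix_move hkn hG {a, y, g y}
        (lt_of_le_of_lt Finset.card_le_three (by omega)) (f := g a) (f' := f')
        (by simp only [Finset.mem_insert, Finset.mem_singleton, not_or]
            exact ⟨ha, Ne.symm hy.2.1, Ne.symm hgy.2⟩)
        (by simp only [Finset.mem_insert, Finset.mem_singleton, not_or]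
            exact ⟨hf'.1, hf'.2.2.1, hf'.2.2.2⟩)
      refine key h hh (fun e => hf'.2.1 ?_) ?_
      · have := DFunLike.congr_fun e a
        rw [Perm.mul_apply, Perm.mul_apply,
          Perm.inv_eq_iff_eq.2 (hfix a (by simp)).symm, hf] at this
        exact this
      · have hy' : (h * g * h⁻¹) y = g y := hagree h _ hfix y (by simp) (by simp)
        have hsub : (g⁻¹ * (h * g * h⁻¹)).support ⊆ Finset.univ.erase y := fun x hx =>
          Finset.mem_erase.2 ⟨fun e => by
            rw [Perm.mem_support, Perm.mul_apply, e, hy'] at hx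
            simp at hx, Finset.mem_univ x⟩
        have := Finset.card_le_card hsub
        rw [Finset.card_erase_of_mem (Finset.mem_univ y), Finset.card_univ, ← hfull] at this
        omega
  obtain ⟨o, ho⟩ : ∃ o, o ∉ g.support := by
    by_contra! hcon
    have := Finset.card_le_card (s := Finset.univ) fun x _ => hcon x
    rw [Finset.card_univ] at this
    omega
  by_cases hmk : g.support.card ≤ k
  · have hS : (g.support.erase a).card = g.support.card - 1 :=
      Finset.card_erase_of_mem (Perm.mem_support.2 ha)
    obtain ⟨h, hh, hfix, hf⟩ := exists_fix_move hkn hG (g.support.erase a) (by omega)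
      (f := a) (f' := o) (Finset.notMem_erase a _) (fun e => ho (Finset.mem_of_mem_erase e))
    refine key h hh (hmoved h a (Perm.mem_support.2 ha) (hf ▸ ho)) ?_
    obtain ⟨hb1, hb2⟩ := support_bound g h (g.support.erase a) (Finset.erase_subset _ _)
      (fun x hx => ⟨x, Finset.mem_of_mem_erase hx, hfix x hx⟩)
      ((g.support.erase a).erase (g⁻¹ a)) (fun x hx => by
        obtain ⟨hx1, hx2⟩ := Finset.mem_erase.1 hx
        refine ⟨Perm.mem_support.1 (Finset.mem_of_mem_erase hx2), hagree h _ hfix x hx2 ?_⟩
        refine Finset.mem_erase.2 ⟨fun e => hx1 (by rw [← e]; simp), ?_⟩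
        exact Perm.apply_mem_support.2 (Finset.mem_of_mem_erase hx2))
    have := Finset.pred_card_le_card_erase (s := g.support.erase a) (a := g⁻¹ a)
    omega
  · obtain ⟨S, hSg, hSc, hSe⟩ := exists_chain g (k - 1) (by omega)
    have hpart := Finset.card_filter_add_card_filter_not (s := S) (fun x => g x ∉ S)
    have hJ : ∀ (h : Perm α), (∀ x ∈ S, h x = x) → ∀ x ∈ S.filter (fun x => ¬ g x ∉ S),
        g x ≠ x ∧ (h * g * h⁻¹) x = g x := fun h hfix x hx => by
      obtain ⟨hxS, hgx⟩ := Finset.mem_filter.1 hx
      exact ⟨Perm.mem_support.1 (hSg hxS), hagree h S hfix x hxS (not_not.1 hgx)⟩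
    rcases (S.filter fun x => g x ∉ S).eq_empty_or_nonempty with he | ⟨e, he⟩
    · obtain ⟨f, hf, hfS⟩ := Finset.exists_mem_notMem_of_card_lt_card (s := S) (t := g.support) (by omega)
      obtain ⟨h, hh, hfix, hhf⟩ := exists_fix_move hkn hG S (by omega) (f' := o) hfS
        (fun e => ho (hSg e))
      refine key h hh (hmoved h f hf (hhf ▸ ho)) ?_
      obtain ⟨hb1, hb2⟩ := support_bound g h S hSg (fun x hx => ⟨x, hSg hx, hfix x hx⟩) _ (hJ h hfix)
      rw [he, Finset.card_empty] at hpart
      omega
    · obtain ⟨heS, hge⟩ := Finset.mem_filter.1 he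
      have hges : g e ∈ g.support := Perm.apply_mem_support.2 (hSg heS)
      obtain ⟨f', hf', hf'S⟩ := Finset.exists_mem_notMem_of_card_lt_card
        (s := insert (g e) S) (t := g.support) (by rw [Finset.card_insert_of_notMem hge]; omega)
      simp only [Finset.mem_insert, not_or] at hf'S
      obtain ⟨h, hh, hfix, hhf⟩ := exists_fix_move hkn hG S (by omega) hge hf'S.2
      refine key h hh (fun e' => hf'S.1 ?_) ?_
      · have := DFunLike.congr_fun e' e
        rw [Perm.mul_apply, Perm.mul_apply, Perm.inv_eq_iff_eq.2 (hfix e heS).symm, hhf] at this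
        exact this
      · obtain ⟨hb1, hb2⟩ := support_bound g h (insert f' S)
          (Finset.insert_subset hf' hSg) (fun x hx => by
            rcases Finset.mem_insert.1 hx with rfl | hx
            · exact ⟨g e, hges, hhf⟩
            · exact ⟨x, hSg hx, hfix x hx⟩) _ (hJ h hfix)
        rw [Finset.card_insert_of_notMem hf'S.2] at hb2
        omega

theorem exists_support_le_three (hk : 3 ≤ k) (hkn : k ≤ Fintype.card α)
    (hG : IsMultiplyPretransitive G α k) {g : Perm α} (hg : g ∈ G) (hg1 : g ≠ 1)
    (hlt : g.support.card < 2 * k - 2) : ∃ h ∈ G, h ≠ 1 ∧ h.support.card ≤ 3 := by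
  induction hm : g.support.card using Nat.strong_induction_on generalizing g with
  | h m ih =>
    by_cases h3 : g.support.card ≤ 3
    · exact ⟨g, hg, hg1, h3⟩
    · obtain ⟨g', hg', hg'1, hlt'⟩ := exists_smaller_support hk hkn hG hg (by omega) hlt
      exact ih _ (hm ▸ hlt') hg' hg'1 (hlt'.trans hlt) rfl

end CfsgLib.Perm
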