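import Cfsg.Agent.Lib.Perm.PrimeDegreeOrbits

/-!
Nonsoluble groups of prime degree `p > 7` with a dilation of order `(p - 1) / 2`: a point
stabiliser is primitive on the other points.

A nontrivial block gives an invariant linear space; its lines have three points and it satisfies
the Pasch identity, so it is a projective space over `ZMod 2`, and then `p ≤ 7`.
-/

set_option autoImplicit false

namespace CfsgLib.PrimeHalf

open MulAction

section LinearAlgebra

/-- An endomorphism of order `p` without fixed vectors that is conjugate to its power by `c` needs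
dimension at least the order of `c`. -/
theorem orderOf_le_finrank {K V : Type*} [Field K] [AddCommGroup V] [Module K V]
    [FiniteDimensional K V] [Nontrivial V] {p : ℕ} [Fact p.Prime] (T : Module.End K V)
    (U : V ≃ₗ[K] V) (c : (ZMod p)ˣ) (hT : T ^ p = 1) (hfix : ∀ v, T v = v → v = 0)
    (hconj : ∀ v, U (T v) = (T ^ (c : ZMod p).val) (U v)) :
    orderOf c ≤ Module.finrank K V := by
  classical
  set k := (c : ZMod p).val with hk
  set m := minpoly K T with hm
  have hint : IsIntegral K T := IsIntegral.of_finite K T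
  let Kbar := AlgebraicClosure K
  obtain ⟨ζ, hζ⟩ := IsAlgClosed.exists_aeval_eq_zero Kbar m
    (ne_of_gt (minpoly.degree_pos hint))
  have hdvd : m ∣ (Polynomial.X ^ p - 1 : Polynomial K) := minpoly.dvd K T (by simp [hT])
  have hζp : ζ ^ p = 1 := by
    have := Polynomial.aeval_eq_zero_of_dvd_aeval_eq_zero hdvd hζ
    simpa [sub_eq_zero] using this
  have hζ1 : ζ ≠ 1 := by
    intro h
    rw [h] at hζ
    have hev : m.eval 1 = 0 := by
      rw [← map_one (algebraMap K Kbar), Polynomial.aeval_algebraMap_apply_eq_algebraMap_eval,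
        map_eq_zero] at hζ
      exact hζ
    have hev' : Module.End.HasEigenvalue T (1 : K) :=
      Module.End.hasEigenvalue_of_isRoot hev
    obtain ⟨v, hv⟩ := hev'.exists_hasEigenvector
    exact hv.2 (hfix v (by simpa using hv.apply_eq_smul))
  have hord : orderOf ζ = p := orderOf_eq_prime hζp hζ1
  have hconj' : U.conjAlgEquiv K T = T ^ k := by
    refine LinearMap.ext fun v => ?_
    obtain ⟨w, rfl⟩ := U.surjective v
    simpa [LinearEquiv.conjAlgEquiv_apply] using hconj w
  have hpow : Polynomial.aeval (T ^ k) m = 0 := by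
    rw [← hconj', Polynomial.aeval_algHom_apply, minpoly.aeval, map_zero]
  have hroot : ∀ i : ℕ, Polynomial.aeval (ζ ^ k ^ i) m = 0 := by
    intro i
    induction i with
    | zero => simpa using hζ
    | succ i ih =>
      have h : m ∣ m.comp (Polynomial.X ^ k) := minpoly.dvd K T (by
        rw [Polynomial.aeval_comp]; simpa using hpow)
      have := Polynomial.aeval_eq_zero_of_dvd_aeval_eq_zero h ih
      rw [Polynomial.aeval_comp] at this
      simpa [pow_succ, pow_mul] using this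
  have hm0 : m ≠ 0 := minpoly.ne_zero hint
  calc orderOf c = (Finset.univ : Finset (Fin (orderOf c))).card := by simp
    _ ≤ (m.aroots Kbar).toFinset.card := by
      refine Finset.card_le_card_of_injOn (fun i => ζ ^ k ^ (i : ℕ)) (fun i _ => ?_) ?_
      · simp only [Finset.mem_coe, Multiset.mem_toFinset, Polynomial.mem_aroots]
        exact ⟨hm0, hroot i⟩
      · intro i _ j _ hij
        have h : ζ ^ k ^ (i : ℕ) = ζ ^ k ^ (j : ℕ) := hij
        rw [(orderOf_pos_iff.1 (hord ▸ (Fact.out : p.Prime).pos)).pow_eq_pow_iff_modEq, hord, ← ZMod.natCast_eq_natCast_iff, Nat.cast_pow,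
          Nat.cast_pow, hk, ZMod.natCast_val, ZMod.cast_id] at h
        exact Fin.ext (pow_injOn_Iio_orderOf i.2 j.2 (Units.ext (by simpa using h)))
    _ ≤ Multiset.card (m.aroots Kbar) := Multiset.toFinset_card_le _
    _ ≤ m.natDegree := (Polynomial.card_roots' _).trans Polynomial.natDegree_map_le
    _ ≤ Module.finrank K V := by
      rw [← LinearMap.charpoly_natDegree T]
      exact Polynomial.natDegree_le_of_dvd (LinearMap.minpoly_dvd_charpoly T)
        (LinearMap.charpoly_monic T).ne_zero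

end LinearAlgebra

variable {Ω : Type*}

/-- An invariant linear space, given by its collinearity relation. -/
structure IsLineRel (G : Subgroup (Equiv.Perm Ω)) (R : Ω → Ω → Ω → Prop) : Prop where
  ne : ∀ {a b d}, R a b d → a ≠ b ∧ a ≠ d ∧ b ≠ d
  smul : ∀ (g : G) {a b d}, R a b d → R (g • a) (g • b) (g • d)
  swap₁₂ : ∀ {a b d}, R a b d → R b a d
  swap₂₃ : ∀ {a b d}, R a b d → R a d b
  trans : ∀ {a b d d'}, R a b d → R a b d' → d ≠ d' → R a d d'
  exists_mem : ∀ {a b}, a ≠ b → ∃ d, R a b d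
  exists_notMem : ∀ {a b}, a ≠ b → ∃ d, d ≠ a ∧ d ≠ b ∧ ¬ R a b d

/-- The line through `a` and `b`. -/
def OnLine (R : Ω → Ω → Ω → Prop) (a b d : Ω) : Prop := d = a ∨ d = b ∨ R a b d

section Line

variable {G : Subgroup (Equiv.Perm Ω)} {R : Ω → Ω → Ω → Prop}

theorem IsLineRel.onLine_comm (h : IsLineRel G R) {a b d : Ω} :
    OnLine R a b d ↔ OnLine R b a d := by
  constructor <;>
  · rintro (h1 | h1 | h1)
    · exact Or.inr (Or.inl h1)
    · exact Or.inl h1
    · exact Or.inr (Or.inr (h.swap₁₂ h1))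

theorem IsLineRel.onLine_replace (h : IsLineRel G R) {a b x d : Ω} (hx : OnLine R a b x)
    (hxa : x ≠ a) : OnLine R a x d ↔ OnLine R a b d := by
  rcases hx with h1 | rfl | hx
  · exact absurd h1 hxa
  · exact Iff.rfl
  constructor
  · rintro (h1 | rfl | h1)
    · exact Or.inl h1
    · exact Or.inr (Or.inr hx)
    · by_cases hdb : d = b
      · exact Or.inr (Or.inl hdb)
      · exact Or.inr (Or.inr (h.trans (h.swap₂₃ hx) h1 (Ne.symm hdb)))
  · rintro (h1 | rfl | h1)
    · exact Or.inl h1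
    · exact Or.inr (Or.inr (h.swap₂₃ hx))
    · by_cases hdx : d = x
      · exact Or.inr (Or.inl hdx)
      · exact Or.inr (Or.inr (h.trans hx h1 (Ne.symm hdx)))

/-- Two distinct points of a line determine it. -/
theorem IsLineRel.onLine_eq (h : IsLineRel G R) {a b x y : Ω} (hx : OnLine R a b x)
    (hy : OnLine R a b y) (hxy : x ≠ y) (d : Ω) : OnLine R x y d ↔ OnLine R a b d := by
  by_cases hxa : x = a
  · subst hxa
    exact h.onLine_replace hy (Ne.symm hxy)
  · have h1 : ∀ d, OnLine R a x d ↔ OnLine R a b d := fun d => h.onLine_replace hx hxa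
    have h2 : OnLine R x a y := h.onLine_comm.1 ((h1 y).2 hy)
    rw [h.onLine_replace h2 (Ne.symm hxy), h.onLine_comm, h1]

theorem IsLineRel.onLine_smul (h : IsLineRel G R) (g : G) {a b d : Ω} :
    OnLine R (g • a) (g • b) (g • d) ↔ OnLine R a b d := by
  simp only [OnLine, (MulAction.injective g).eq_iff]
  constructor
  · rintro (h1 | h1 | h1)
    · exact Or.inl h1
    · exact Or.inr (Or.inl h1)
    · exact Or.inr (Or.inr (by simpa using h.smul g⁻¹ h1))
  · rintro (h1 | h1 | h1)
    · exact Or.inl h1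
    · exact Or.inr (Or.inl h1)
    · exact Or.inr (Or.inr (h.smul g h1))

end Line

variable [Fintype Ω] {p : ℕ} [Fact p.Prime] {G : Subgroup (Equiv.Perm Ω)}

/-- The two orbits of a two-point stabiliser on the other points are the two classes of `R`. -/
theorem exists_smul_of_iff
    (h6 : Nat.card (orbitRel.Quotient G (Ω × Ω × Ω)) ≤ 6) {R : Ω → Ω → Ω → Prop}
    (hsmul : ∀ (g : G) {a b d}, R a b d → R (g • a) (g • b) (g • d))
    (hne : ∀ {a b d}, R a b d → a ≠ b ∧ a ≠ d ∧ b ≠ d)
    {a b : Ω} (hab : a ≠ b) (hmem : ∃ d, R a b d) (hnot : ∃ d, d ≠ a ∧ d ≠ b ∧ ¬ R a b d)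
    {d d' : Ω} (hd : d ≠ a ∧ d ≠ b) (hd' : d' ≠ a ∧ d' ≠ b) (hiff : R a b d ↔ R a b d') :
    ∃ g : G, g • a = a ∧ g • b = b ∧ g • d = d' := by
  classical
  by_contra hno
  push Not at hno
  have h4 := card_quotient_le_four h6 hab
  set H := stabilizer G a ⊓ stabilizer G b with hH
  let O : Ω → Prop := fun x => ∃ g : H, g • d = x
  let F : Ω → Fin 5 := fun x =>
    if x = a then 0 else if x = b then 1 else if O x then 2 else if R a b x then 3 else 4
  have hF : ∀ (g : H) x, F (g • x) = F x := by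
    intro g x
    have ga : (g : G) • a = a := g.2.1
    have gb : (g : G) • b = b := g.2.2
    have h1 : g • x = a ↔ x = a := by
      conv_lhs => rw [← ga]
      exact (MulAction.injective (g : G)).eq_iff
    have h2 : g • x = b ↔ x = b := by
      conv_lhs => rw [← gb]
      exact (MulAction.injective (g : G)).eq_iff
    have h3 : O (g • x) ↔ O x :=
      ⟨fun ⟨k, hk⟩ => ⟨g⁻¹ * k, by rw [mul_smul, hk, inv_smul_smul]⟩,
        fun ⟨k, hk⟩ => ⟨g * k, by rw [mul_smul, hk]⟩⟩
    have h4 : R a b (g • x) ↔ R a b x := by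
      constructor
      · intro h
        have := hsmul (g : G)⁻¹ h
        rw [inv_smul_eq_iff.2 ga.symm, inv_smul_eq_iff.2 gb.symm] at this
        simpa [Subgroup.smul_def] using this
      · intro h
        have := hsmul (g : G) h
        rwa [ga, gb] at this
    simp only [F, h1, h2, h3, h4]
  let Φ : orbitRel.Quotient H Ω → Fin 5 := Quotient.lift F fun x y ⟨g, hg⟩ => by
    rw [← hg]; exact hF g y
  have hsurj : Function.Surjective Φ := by
    have hw : ∀ i : Fin 5, ∃ x, F x = i := by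
      have hOd : ∀ x, O x → (R a b x ↔ R a b d) := by
        rintro x ⟨g, rfl⟩
        have hF' := hF g d
        have hOd : O d := ⟨1, one_smul _ _⟩
        constructor
        · intro h
          have := hsmul (g : G)⁻¹ h
          rw [inv_smul_eq_iff.2 (g.2.1 : (g : G) • a = a).symm,
            inv_smul_eq_iff.2 (g.2.2 : (g : G) • b = b).symm] at this
          simpa [Subgroup.smul_def] using this
        · intro h
          have := hsmul (g : G) h
          rwa [(g.2.1 : (g : G) • a = a), (g.2.2 : (g : G) • b = b)] at this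
      have hd'O : ¬ O d' := fun ⟨g, hg⟩ => hno (g : G) g.2.1 g.2.2 hg
      obtain ⟨u, hu⟩ := hmem
      obtain ⟨w, hwa, hwb, hw⟩ := hnot
      intro i
      fin_cases i
      · exact ⟨a, by simp [F]⟩
      · exact ⟨b, by simp [F, hab.symm]⟩
      · exact ⟨d, by simp [F, hd.1, hd.2, show O d from ⟨1, one_smul _ _⟩]⟩
      · by_cases hR : R a b d'
        · exact ⟨d', by simp [F, hd'.1, hd'.2, hd'O, hR]⟩
        · refine ⟨u, ?_⟩
          have hO : ¬ O u := fun h => hR (hiff.1 ((hOd u h).1 hu))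
          simp [F, (hne hu).2.1.symm, (hne hu).2.2.symm, hO, hu]
      · by_cases hR : R a b d'
        · refine ⟨w, ?_⟩
          have hO : ¬ O w := fun h => hw ((hOd w h).2 (hiff.2 hR))
          simp [F, hwa, hwb, hO, hw]
        · exact ⟨d', by simp [F, hd'.1, hd'.2, hd'O, hR]⟩
    intro i
    obtain ⟨x, hx⟩ := hw i
    exact ⟨Quotient.mk'' x, hx⟩
  have := Nat.card_le_card_of_surjective Φ hsurj
  rw [Nat.card_fin] at this
  omega

/-- A block of a point stabiliser yields an invariant linear space. -/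
theorem exists_lineRel_of_block (hα : Fintype.card Ω = p) (hp : 2 < p)
    (h2 : IsMultiplyPretransitive G Ω 2) (h6 : Nat.card (orbitRel.Quotient G (Ω × Ω × Ω)) ≤ 6)
    {α β : Ω} (hαβ : α ≠ β) {B : Set Ω} (hαB : α ∉ B) (hβB : β ∈ B)
    (hblock : ∀ g : G, g • α = α → ∀ x ∈ B, g • x ∈ B → ∀ y ∈ B, g • y ∈ B)
    (hbig : ∃ d ∈ B, d ≠ β) (hsmall : ∃ d, d ≠ α ∧ d ∉ B) :
    ∃ R, IsLineRel G R := by
  classical
  let R : Ω → Ω → Ω → Prop := fun a b d =>
    ∃ g : G, g • α = a ∧ g • β = b ∧ d ≠ b ∧ g⁻¹ • d ∈ B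
  have htwo : ∀ {a b a' b' : Ω}, a ≠ b → a' ≠ b' → ∃ g : G, g • a = a' ∧ g • b = b' :=
    MulAction.is_two_pretransitive_iff.1 h2
  have hwd : ∀ {a b d : Ω} (g : G), g • α = a → g • β = b → R a b d → d ≠ b ∧ g⁻¹ • d ∈ B := by
    rintro a b d g rfl rfl ⟨k, hka, hkb, hd, hdB⟩
    refine ⟨hd, ?_⟩
    have h1 : (g⁻¹ * k) • α = α := by rw [mul_smul, hka, inv_smul_smul]
    have := hblock (g⁻¹ * k) h1 β hβB (by rw [mul_smul, hkb, inv_smul_smul]; exact hβB) _ hdB
    rwa [mul_smul, smul_inv_smul] at this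
  have hne : ∀ {a b d : Ω}, R a b d → a ≠ b ∧ a ≠ d ∧ b ≠ d := by
    rintro a b d ⟨g, rfl, rfl, hd, hdB⟩
    refine ⟨(MulAction.injective g).ne hαβ, fun h => hαB ?_, hd.symm⟩
    rwa [← h, inv_smul_smul] at hdB
  have hsmul : ∀ (g : G) {a b d : Ω}, R a b d → R (g • a) (g • b) (g • d) := by
    rintro g a b d ⟨k, rfl, rfl, hd, hdB⟩
    refine ⟨g * k, mul_smul _ _ _, mul_smul _ _ _, (MulAction.injective g).ne hd, ?_⟩
    rwa [mul_inv_rev, mul_smul, inv_smul_smul]
  have hex : ∀ {a b : Ω}, a ≠ b → ∃ d, R a b d := by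
    intro a b hab
    obtain ⟨g, ga, gb⟩ := htwo hαβ hab
    obtain ⟨d, hdB, hd⟩ := hbig
    exact ⟨g • d, g, ga, gb, gb ▸ (MulAction.injective g).ne hd, by rwa [inv_smul_smul]⟩
  have hnot : ∀ {a b : Ω}, a ≠ b → ∃ d, d ≠ a ∧ d ≠ b ∧ ¬ R a b d := by
    intro a b hab
    obtain ⟨g, ga, gb⟩ := htwo hαβ hab
    obtain ⟨d, hd, hdB⟩ := hsmall
    refine ⟨g • d, ga ▸ (MulAction.injective g).ne hd,
      gb ▸ (MulAction.injective g).ne (fun h => hdB (h ▸ hβB)), fun h => hdB ?_⟩
    have := (hwd g ga gb h).2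
    rwa [inv_smul_smul] at this
  have key : ∀ {a b d : Ω}, R a b d → ∃ h : G, h • a = a ∧ h • b = d ∧
      ∀ y, R a b y → y ≠ d → R a d y := by
    intro a b d hR
    obtain ⟨g, rfl, rfl, hd, hdB⟩ := id hR
    have h0 : α ≠ g⁻¹ • d := fun h => hαB (h ▸ hdB)
    obtain ⟨k, hkα, hkβ⟩ := htwo hαβ h0
    have hkinv : k⁻¹ • α = α := inv_smul_eq_iff.2 hkα.symm
    refine ⟨g * k * g⁻¹, ?_, ?_, fun y hy hyd => ?_⟩
    · simp [mul_smul, hkα]
    · simp [mul_smul, hkβ]
    · refine ⟨g * k, by rw [mul_smul, hkα], by rw [mul_smul, hkβ, smul_inv_smul], hyd, ?_⟩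
      rw [mul_inv_rev, mul_smul]
      refine hblock k⁻¹ hkinv _ hdB ?_ _ (hwd g rfl rfl hy).2
      rw [← hkβ, inv_smul_smul]
      exact hβB
  have htrans : ∀ {a b d d' : Ω}, R a b d → R a b d' → d ≠ d' → R a d d' := by
    intro a b d d' h h' hdd
    obtain ⟨-, -, -, hk⟩ := key h
    exact hk d' h' hdd.symm
  have h23 : ∀ {a b d : Ω}, R a b d → R a d b := by
    intro a b d hR
    obtain ⟨g, rfl, rfl, hd, hdB⟩ := id hR
    have h0 : α ≠ g⁻¹ • d := fun h => hαB (h ▸ hdB)
    obtain ⟨k, hkα, hkβ⟩ := htwo hαβ h0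
    have hkinv : k⁻¹ • α = α := inv_smul_eq_iff.2 hkα.symm
    refine ⟨g * k, by rw [mul_smul, hkα], by rw [mul_smul, hkβ, smul_inv_smul], hd.symm, ?_⟩
    rw [mul_inv_rev, mul_smul, inv_smul_smul]
    refine hblock k⁻¹ hkinv _ hdB ?_ _ hβB
    rw [← hkβ, inv_smul_smul]
    exact hβB
  -- symmetry in the first two arguments
  have horb : ∀ {a b d d' : Ω}, a ≠ b → d ≠ a ∧ d ≠ b → d' ≠ a ∧ d' ≠ b →
      (R a b d ↔ R a b d') → ∃ g : G, g • a = a ∧ g • b = b ∧ g • d = d' :=
    fun hab hd hd' h => exists_smul_of_iff h6 hsmul hne hab (hex hab) (hnot hab) hd hd' h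
  have horb3 : ∀ {a b d a' b' d' : Ω}, a ≠ b → d ≠ a ∧ d ≠ b → a' ≠ b' → d' ≠ a' ∧ d' ≠ b' →
      (R a b d ↔ R a' b' d') → ∃ g : G, g • a = a' ∧ g • b = b' ∧ g • d = d' := by
    intro a b d a' b' d' hab hd hab' hd' h
    obtain ⟨g, ga, gb⟩ := htwo hab hab'
    have hiff : R a' b' (g • d) ↔ R a b d := by
      constructor
      · intro h
        have := hsmul g⁻¹ h
        rwa [inv_smul_eq_iff.2 ga.symm, inv_smul_eq_iff.2 gb.symm, inv_smul_smul] at this
      · intro h
        have := hsmul g h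
        rwa [ga, gb] at this
    obtain ⟨k, ka, kb, kd⟩ := horb hab'
      (d := g • d) ⟨ga ▸ (MulAction.injective g).ne hd.1, gb ▸ (MulAction.injective g).ne hd.2⟩ hd'
      (hiff.trans h)
    exact ⟨k * g, by rw [mul_smul, ga, ka], by rw [mul_smul, gb, kb], by rw [mul_smul, kd]⟩
  have h12 : ∀ {a b d : Ω}, R a b d → R b a d := by
    intro a b d hR
    by_contra hn
    obtain ⟨hab, had, hbd⟩ := hne hR
    have hsw : ∀ x, x ≠ a → x ≠ b → (R b a x ↔ ¬ R a b x) := by
      intro x hxa hxb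
      constructor
      · intro h1 h2
        obtain ⟨g, ga, gb, gd⟩ := horb hab ⟨hxa, hxb⟩ ⟨had.symm, hbd.symm⟩
          (iff_of_true h2 hR)
        have := hsmul g h1
        rw [ga, gb, gd] at this
        exact hn this
      · intro h2
        obtain ⟨g, gb, ga, gd⟩ := horb3 hab.symm (d := d) ⟨hbd.symm, had.symm⟩ hab ⟨hxa, hxb⟩
          (iff_of_false hn h2)
        have := hsmul g hR
        rwa [gb, ga, gd] at this
    obtain ⟨w, wa, wb⟩ := htwo hab hab.symm
    set A : Finset Ω := Finset.univ.filter fun x => R a b x with hA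
    set A' : Finset Ω := Finset.univ.filter fun x => R b a x with hA'
    have hcard : A.card = A'.card := by
      refine Finset.card_bij' (fun x _ => w • x) (fun x _ => w⁻¹ • x) ?_ ?_ ?_ ?_
      · intro x hx
        have := hsmul w (Finset.mem_filter.1 hx).2
        rw [wa, wb] at this
        exact Finset.mem_filter.2 ⟨Finset.mem_univ _, this⟩
      · intro x hx
        have := hsmul w⁻¹ (Finset.mem_filter.1 hx).2
        rw [inv_smul_eq_iff.2 wa.symm, inv_smul_eq_iff.2 wb.symm] at this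
        exact Finset.mem_filter.2 ⟨Finset.mem_univ _, this⟩
      · intro x _; exact inv_smul_smul w x
      · intro x _; exact smul_inv_smul w x
    have hdisj : Disjoint A A' := by
      rw [Finset.disjoint_filter]
      intro x _ hx hx'
      obtain ⟨-, hxa, hxb⟩ := hne hx
      exact (hsw x hxa.symm hxb.symm).1 hx' hx
    have hunion : A ∪ A' = Finset.univ \ {a, b} := by
      ext x
      simp only [hA, hA', Finset.mem_union, Finset.mem_filter, Finset.mem_univ, true_and,
        Finset.mem_sdiff, Finset.mem_insert, Finset.mem_singleton, not_or]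
      constructor
      · rintro (h | h)
        · exact ⟨(hne h).2.1.symm, (hne h).2.2.symm⟩
        · exact ⟨(hne h).2.2.symm, (hne h).2.1.symm⟩
      · rintro ⟨hxa, hxb⟩
        rw [hsw x hxa hxb]
        exact em _
    have := congrArg Finset.card hunion
    rw [Finset.card_union_of_disjoint hdisj, Finset.card_sdiff_of_subset (Finset.subset_univ _),
      Finset.card_pair hab, Finset.card_univ, hα, ← hcard] at this
    have hodd := (Fact.out : p.Prime).odd_of_ne_two (by omega)
    obtain ⟨t, ht⟩ := hodd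
    omega
  exact ⟨R, hne, hsmul, h12, h23, htrans, hex, hnot⟩

omit [Fintype Ω] in
/-- In coordinates, lines have three points, and some element permutes the points of a line
cyclically and fixes exactly one point. -/
theorem lines_of_dilation (hp : 3 < p) (h2 : IsMultiplyPretransitive G Ω 2)
    {R : Ω → Ω → Ω → Prop} (hR : IsLineRel G R) (σ s : G) (e : ZMod p ≃ Ω)
    (he : Perm.IsCoord σ e) (c : (ZMod p)ˣ) (hc : 2 * orderOf c = p - 1)
    (hs : ∀ j, s • e j = e ((c : ZMod p) * j)) :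
    (∀ {a b d d'}, R a b d → R a b d' → d = d') ∧
      ∃ (g : G) (l₀ l₁ l₂ z : Ω), R l₀ l₁ l₂ ∧ g • l₀ = l₁ ∧ g • l₁ = l₂ ∧ g • l₂ = l₀ ∧
        g • z = z ∧ (∀ w, g • w = w → w = z) ∧ ¬ OnLine R l₀ l₁ z := by
  classical
  have hspow : ∀ (k : ℕ) j, s ^ k • e j = e ((c : ZMod p) ^ k * j) := by
    intro k
    induction k with
    | zero => simp
    | succ k ih => intro j; rw [pow_succ', mul_smul, ih, hs, pow_succ', mul_assoc]
  have haff : ∀ (k : ℕ) (t : ZMod p), ∃ g : G, ∀ j, g • e j = e ((c : ZMod p) ^ k * j + t) :=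
    fun k t => ⟨σ ^ t.val * s ^ k, fun j => by
      rw [mul_smul, hspow, Perm.IsCoord.pow_smul he, ZMod.natCast_val, ZMod.cast_id]⟩
  set S : Set (ZMod p) := {j | OnLine R (e 0) (e 1) (e j)} with hS
  have hS0 : (0 : ZMod p) ∈ S := Or.inl rfl
  have hS1 : (1 : ZMod p) ∈ S := Or.inr (Or.inl rfl)
  have h01 : e 0 ≠ e 1 := fun h => zero_ne_one (e.injective h)
  -- an affine map that moves two points of `S` into `S` preserves `S`
  have hpres : ∀ (k : ℕ) (t x y : ZMod p), x ∈ S → y ∈ S → x ≠ y →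
      (c : ZMod p) ^ k * x + t ∈ S → (c : ZMod p) ^ k * y + t ∈ S →
      ∀ j, ((c : ZMod p) ^ k * j + t ∈ S ↔ j ∈ S) := by
    intro k t x y hx hy hxy hx' hy' j
    obtain ⟨g, hg⟩ := haff k t
    have hne : e x ≠ e y := e.injective.ne hxy
    have h1 := hR.onLine_eq hx' hy' (by rw [← hg, ← hg]; exact (MulAction.injective g).ne hne)
      (e ((c : ZMod p) ^ k * j + t))
    rw [← hg, ← hg, ← hg, hR.onLine_smul, hR.onLine_eq hx hy hne (e j)] at h1
    rw [hg] at h1
    exact h1.symm
  obtain ⟨γ, hγ⟩ : ∃ γ, R (e 0) (e 1) (e γ) := by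
    obtain ⟨d, hd⟩ := hR.exists_mem h01
    exact ⟨e.symm d, by simpa using hd⟩
  have hSγ : γ ∈ S := Or.inr (Or.inr hγ)
  have hγ0 : γ ≠ 0 := fun h => (hR.ne hγ).2.1 (by rw [h])
  have hγ1 : γ ≠ 1 := fun h => (hR.ne hγ).2.2 (by rw [h])
  -- squares
  let Sq : ZMod p → Prop := fun d => ∃ k : ℕ, (c : ZMod p) ^ k = d
  have hidx : (Subgroup.zpowers c).index = 2 := by
    have h := (Subgroup.zpowers c).card_mul_index
    rw [Nat.card_zpowers, Nat.card_eq_fintype_card, ZMod.card_units, ← hc, mul_comm 2] at h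
    exact Nat.eq_of_mul_eq_mul_left (orderOf_pos c) h
  have hSq : ∀ {d : ZMod p} (hd : d ≠ 0), Sq d ↔ Units.mk0 d hd ∈ Subgroup.zpowers c := by
    intro d hd
    rw [← mem_powers_iff_mem_zpowers]
    constructor
    · rintro ⟨k, rfl⟩; exact ⟨k, Units.ext (by simp)⟩
    · rintro ⟨k, hk⟩; exact ⟨k, by simpa using congrArg Units.val hk⟩
  have hSqmul : ∀ {a b : ZMod p}, a ≠ 0 → b ≠ 0 → (Sq (a * b) ↔ (Sq a ↔ Sq b)) := by
    intro a b ha hb
    rw [hSq (mul_ne_zero ha hb), hSq ha, hSq hb,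
      show Units.mk0 (a * b) (mul_ne_zero ha hb) = Units.mk0 a ha * Units.mk0 b hb from
        Units.ext rfl, Subgroup.mul_mem_iff_of_index_two hidx]
  have hSq1 : Sq 1 := ⟨0, pow_zero _⟩
  -- no nontrivial dilation preserves `S`
  have hno : ∀ k : ℕ, (c : ZMod p) ^ k ≠ 1 → ∀ x ∈ S, x ≠ 0 → (c : ZMod p) ^ k * x ∈ S → False := by
    intro k hk x hxS hx0 hkx
    have hdil : ∀ j, ((c : ZMod p) ^ k * j ∈ S ↔ j ∈ S) := fun j => by
      simpa using hpres k 0 0 x hS0 hxS (Ne.symm hx0) (by simpa using hS0) (by simpa using hkx) j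
    obtain ⟨l, t, ht0, ht, hl⟩ : ∃ (l : ℕ) (t : ZMod p), t ≠ 0 ∧ t ∈ S ∧
        (c : ZMod p) ^ l + t ∈ S := by
      by_cases hm : Sq (-1)
      · obtain ⟨l, hl⟩ := hm
        exact ⟨l, 1, one_ne_zero, hS1, by simpa [hl] using hS0⟩
      · have hd : γ - 1 ≠ 0 := sub_ne_zero.2 hγ1
        by_cases hd' : Sq (γ - 1)
        · obtain ⟨l, hl⟩ := hd'
          exact ⟨l, 1, one_ne_zero, hS1, by simpa [hl] using hSγ⟩
        · have h := (hSqmul (a := -1) (b := γ - 1) (by simp) hd).2 (iff_of_false hm hd')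
          obtain ⟨l, hl⟩ := h
          refine ⟨l, γ, hγ0, hSγ, ?_⟩
          rw [hl, show -1 * (γ - 1) + γ = 1 by ring]
          exact hS1
    have htr : ∀ j, ((c : ZMod p) ^ l * j + t ∈ S ↔ j ∈ S) :=
      hpres l t 0 1 hS0 hS1 zero_ne_one (by simpa using ht) (by simpa using hl)
    set v := ((c : ZMod p) ^ k - 1) * t with hv
    have hv0 : v ≠ 0 := mul_ne_zero (sub_ne_zero.2 hk) ht0
    have hshift : ∀ j, j ∈ S → j + v ∈ S := by
      intro j hj
      set q : ZMod p := ((c : ZMod p) ^ k * (c : ZMod p) ^ l)⁻¹ * (j - t) with hq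
      have hqne : (c : ZMod p) ^ k * (c : ZMod p) ^ l ≠ 0 :=
        mul_ne_zero (pow_ne_zero _ c.ne_zero) (pow_ne_zero _ c.ne_zero)
      have hj' : (c : ZMod p) ^ l * ((c : ZMod p) ^ k * q) + t = j := by
        rw [hq, ← mul_assoc, mul_comm ((c : ZMod p) ^ l), mul_inv_cancel_left₀ hqne]
        ring
      have hqS : q ∈ S := (hdil q).1 ((htr _).1 (by rw [hj']; exact hj))
      have h1 := (hdil _).2 ((htr q).2 hqS)
      convert h1 using 1
      rw [← hj', hv]
      ring
    have hall : ∀ j, j ∈ S := by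
      intro j
      have : ∀ n : ℕ, (n : ZMod p) * v ∈ S := by
        intro n
        induction n with
        | zero => simpa using hS0
        | succ n ih => rw [Nat.cast_succ, add_mul, one_mul]; exact hshift _ ih
      have hh := this (j * v⁻¹).val
      rwa [ZMod.natCast_val, ZMod.cast_id, inv_mul_cancel_right₀ hv0] at hh
    obtain ⟨d, hd0, hd1, hd⟩ := hR.exists_notMem h01
    have := hall (e.symm d)
    simp only [hS, Set.mem_ofPred_eq, Equiv.apply_symm_apply, OnLine, hd0, hd1, hd, or_self] at this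
  have hγsq : ¬ Sq γ := fun ⟨k, hk⟩ =>
    hno k (by rw [hk]; exact hγ1) 1 hS1 one_ne_zero (by rw [mul_one, hk]; exact hSγ)
  have hS3 : ∀ j ∈ S, j = 0 ∨ j = 1 ∨ j = γ := by
    intro j hj
    by_contra hc'
    push Not at hc'
    by_cases hq : Sq j
    · obtain ⟨k, hk⟩ := hq
      exact hno k (by rw [hk]; exact hc'.2.1) 1 hS1 one_ne_zero (by rw [mul_one, hk]; exact hj)
    · have hi : γ⁻¹ ≠ 0 := inv_ne_zero hγ0
      have hqi : ¬ Sq γ⁻¹ := by
        intro h
        have := (hSqmul hγ0 hi).1 (by rwa [mul_inv_cancel₀ hγ0])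
        exact hγsq (this.2 h)
      obtain ⟨k, hk⟩ := (hSqmul hc'.1 hi).2 (iff_of_false hq hqi)
      refine hno k ?_ γ hSγ hγ0 (by rw [hk, inv_mul_cancel_right₀ hγ0]; exact hj)
      rw [hk, ne_eq, mul_inv_eq_one₀ hγ0]
      exact hc'.2.2
  have huniq : ∀ {a b d d'}, R a b d → R a b d' → d = d' := by
    intro a b d d' h h'
    obtain ⟨g, ga, gb⟩ := MulAction.is_two_pretransitive_iff.1 h2 (hR.ne h).1 h01
    have key : ∀ d, R a b d → g • d = e γ := by
      intro d h
      have h1 := hR.smul g h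
      rw [ga, gb] at h1
      rcases hS3 (e.symm (g • d)) (by
          rw [hS, Set.mem_ofPred_eq, e.apply_symm_apply]; exact Or.inr (Or.inr h1))
        with h3 | h3 | h3 <;> rw [Equiv.symm_apply_eq] at h3
      · exact absurd h3.symm (hR.ne h1).2.1
      · exact absurd h3.symm (hR.ne h1).2.2
      · exact h3
    exact MulAction.injective g ((key d h).trans (key d' h').symm)
  refine ⟨huniq, ?_⟩
  -- the affine map permuting `0, 1, γ`
  have finish : ∀ (k : ℕ) (t a₀ a₁ a₂ : ZMod p), R (e a₀) (e a₁) (e a₂) →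
      (∀ j, j ∈ S ↔ (j = a₀ ∨ j = a₁ ∨ j = a₂)) →
      (c : ZMod p) ^ k * a₀ + t = a₁ → (c : ZMod p) ^ k * a₁ + t = a₂ →
      (c : ZMod p) ^ k * a₂ + t = a₀ →
      ∃ (g : G) (l₀ l₁ l₂ z : Ω), R l₀ l₁ l₂ ∧ g • l₀ = l₁ ∧ g • l₁ = l₂ ∧ g • l₂ = l₀ ∧
        g • z = z ∧ (∀ w, g • w = w → w = z) ∧ ¬ OnLine R l₀ l₁ z := by
    intro k t a₀ a₁ a₂ hR3 hmem h0 h1 h2'
    obtain ⟨hn01, hn02, hn12⟩ := hR.ne hR3
    have hn : (c : ZMod p) ^ k ≠ 1 := by
      intro h
      rw [h, one_mul] at h0 h1 h2'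
      have h3t : ((3 : ℕ) : ZMod p) * t = 0 := by
        push_cast; linear_combination h0 + h1 + h2'
      rcases mul_eq_zero.1 h3t with h3 | h3
      · rw [ZMod.natCast_eq_zero_iff] at h3
        have := Nat.le_of_dvd (by norm_num) h3
        omega
      · rw [h3, add_zero] at h0
        exact hn01 (by rw [h0])
    obtain ⟨g, hg⟩ := haff k t
    set z : ZMod p := t * (1 - (c : ZMod p) ^ k)⁻¹ with hz
    have hd : (1 : ZMod p) - (c : ZMod p) ^ k ≠ 0 := sub_ne_zero.2 hn.symm
    have hfix : ∀ j, (c : ZMod p) ^ k * j + t = j ↔ j = z := by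
      intro j
      rw [hz, eq_mul_inv_iff_mul_eq₀ hd]
      constructor
      · intro h; linear_combination -h
      · intro h; linear_combination -h
    refine ⟨g, e a₀, e a₁, e a₂, e z, hR3, by rw [hg, h0], by rw [hg, h1], by rw [hg, h2'],
      by rw [hg, (hfix z).2 rfl], fun w hw => ?_, ?_⟩
    · obtain ⟨j, rfl⟩ := e.surjective w
      rw [hg, e.apply_eq_iff_eq] at hw
      rw [(hfix j).1 hw]
    · intro hon
      have hz3 : z = a₀ ∨ z = a₁ ∨ z = a₂ := by
        rcases hon with h | h | h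
        · exact Or.inl (e.injective h)
        · exact Or.inr (Or.inl (e.injective h))
        · exact Or.inr (Or.inr (e.injective (huniq h hR3)))
      have := (hfix z).2 rfl
      rcases hz3 with h | h | h <;> rw [h] at this
      · exact hn01 (by rw [← h0, this])
      · exact hn12 (by rw [← h1, this])
      · exact hn02 (by rw [← h2', this])
  have hiff3 : ∀ j, j ∈ S ↔ (j = 0 ∨ j = 1 ∨ j = γ) := fun j =>
    ⟨hS3 j, by rintro (rfl | rfl | rfl) <;> assumption⟩
  by_cases hA : Sq (γ - 1)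
  · obtain ⟨k, hk⟩ := hA
    have h := (hpres k 1 0 1 hS0 hS1 zero_ne_one (by simpa using hS1)
      (by simpa [hk] using hSγ) γ).2 hSγ
    refine finish k 1 0 1 γ hγ hiff3 (by simp) (by simp [hk]) ?_
    rcases hS3 _ h with h' | h' | h'
    · exact h'
    · exfalso
      have h0 : (c : ZMod p) ^ k * γ = 0 := by linear_combination h'
      exact mul_ne_zero (pow_ne_zero _ c.ne_zero) hγ0 h0
    · exfalso
      refine mul_ne_zero (pow_ne_zero k c.ne_zero) (sub_ne_zero.2 hγ1) ?_
      linear_combination h' - hk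
  by_cases hB : Sq (-γ)
  · obtain ⟨k, hk⟩ := hB
    have h := (hpres k γ 0 1 hS0 hS1 zero_ne_one (by simpa using hSγ)
      (by simpa [hk] using hS0) γ).2 hSγ
    refine finish k γ 0 γ 1 (hR.swap₂₃ hγ) (fun j => by rw [hiff3]; tauto) (by simp) ?_ (by simp [hk])
    rcases hS3 _ h with h' | h' | h'
    · exfalso
      refine mul_ne_zero (pow_ne_zero k c.ne_zero) (sub_ne_zero.2 hγ1) ?_
      linear_combination h' - hk
    · exact h'
    · exfalso
      have h0 : (c : ZMod p) ^ k * γ = 0 := by linear_combination h'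
      exact mul_ne_zero (pow_ne_zero _ c.ne_zero) hγ0 h0
  exfalso
  have hm : Sq (-1) := by
    by_contra hm
    apply hB
    rw [show -γ = -1 * γ by ring]
    exact (hSqmul (by simp) hγ0).2 (iff_of_false hm hγsq)
  obtain ⟨k, hk⟩ := hm
  have r1 := (hpres k 1 0 1 hS0 hS1 zero_ne_one (by simpa using hS1)
    (by simpa [hk] using hS0) γ).2 hSγ
  have r2 := (hpres k γ 0 γ hS0 hSγ (Ne.symm hγ0) (by simpa using hSγ)
    (by simpa [hk] using hS0) 1).2 hS1
  rw [hk] at r1 r2
  have hhalf : 2 * γ = 1 := by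
    rcases hS3 _ r1 with h | h | h
    · exact absurd (by linear_combination -h) hγ1
    · exact absurd (by linear_combination -h) hγ0
    · linear_combination -h
  rcases hS3 _ r2 with h | h | h
  · exact hγ1 (by linear_combination h)
  · have h3 : ((3 : ℕ) : ZMod p) = 0 := by push_cast; linear_combination hhalf - 2 * h
    rw [ZMod.natCast_eq_zero_iff] at h3
    have := Nat.le_of_dvd (by norm_num) h3
    omega
  · exact one_ne_zero (α := ZMod p) (by linear_combination -h)

/-- The Pasch identity for an invariant triple system with a suitable three cycle. -/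
theorem pasch (h2 : IsMultiplyPretransitive G Ω 2)
    {R : Ω → Ω → Ω → Prop} (hR : IsLineRel G R)
    (horb : ∀ {a b d d' : Ω}, a ≠ b → ¬ OnLine R a b d → ¬ OnLine R a b d' →
      ∃ g : G, g • a = a ∧ g • b = b ∧ g • d = d')
    (huniq : ∀ {a b d d'}, R a b d → R a b d' → d = d')
    (op : Ω → Ω → Ω) (hop : ∀ {a b}, a ≠ b → R a b (op a b))
    (g : G) {l₀ l₁ l₂ z : Ω} (hl : R l₀ l₁ l₂) (g₀ : g • l₀ = l₁) (g₁ : g • l₁ = l₂)
    (g₂ : g • l₂ = l₀) (hz : g • z = z) (hzu : ∀ w, g • w = w → w = z)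
    (hzL : ¬ OnLine R l₀ l₁ z) :
    ∀ a b t, a ≠ b → ¬ OnLine R a b t → op a (op b t) = op (op a b) t := by
  classical
  have hopeq : ∀ {a b d}, R a b d → op a b = d := fun h => huniq (hop (hR.ne h).1) h
  have hopg : ∀ (h : G) {a b : Ω}, a ≠ b → op (h • a) (h • b) = h • op a b :=
    fun h _ _ hab => hopeq (hR.smul h (hop hab))
  let L : Ω → Prop := OnLine R l₀ l₁
  have hL0 : L l₀ := Or.inl rfl
  have hL1 : L l₁ := Or.inr (Or.inl rfl)
  have hL2 : L l₂ := Or.inr (Or.inr hl)
  have hstep : ∀ {a t}, L a → ¬ L t → a ≠ t ∧ ¬ L (op a t) ∧ op a (op a t) = t := by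
    intro a t ha ht
    have hat : a ≠ t := fun h => ht (h ▸ ha)
    refine ⟨hat, fun h => ht ?_, hopeq (hR.swap₂₃ (hop hat))⟩
    exact (hR.onLine_eq ha h (hR.ne (hop hat)).2.1 t).1 (Or.inr (Or.inr (hR.swap₂₃ (hop hat))))
  let S : Ω → Equiv.Perm Ω := fun a => if ha : L a then
    Function.Involutive.toPerm (fun t => if L t then t else op a t) (fun t => by
      by_cases ht : L t
      · simp [ht]
      · obtain ⟨-, h1, h2⟩ := hstep ha ht
        simp [ht, h1, h2]) else 1
  have hS : ∀ {a}, L a → ∀ {t}, ¬ L t → S a t = op a t := fun {a} ha {t} ht => by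
    simp only [S, dif_pos ha]
    exact if_neg ht
  have hSL : ∀ {a}, ∀ {t}, L t → S a t = t := fun {a t} ht => by
    by_cases ha : L a
    · simp only [S, dif_pos ha]
      exact if_pos ht
    · simp only [S, dif_neg ha, Equiv.Perm.one_apply]
  have hLiff : ∀ (h : G), (∀ d, L (h • d) ↔ L d) → ∀ {a}, L a →
      (h : Equiv.Perm Ω) * S a * (h : Equiv.Perm Ω)⁻¹ = S (h • a) := by
    intro h hh a ha
    rw [mul_inv_eq_iff_eq_mul]
    ext t
    simp only [Equiv.Perm.mul_apply]
    change h • (S a t) = S (h • a) (h • t)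
    by_cases ht : L t
    · rw [hSL ht, hSL ((hh t).2 ht)]
    · rw [hS ha ht, hS ((hh a).2 ha) (fun h' => ht ((hh t).1 h')), hopg h (hstep ha ht).1]
  have hgL : ∀ d, L (g • d) ↔ L d := by
    intro d
    have h1 := hR.onLine_smul g (a := l₀) (b := l₁) (d := d)
    rw [g₀, g₁] at h1
    exact (hR.onLine_eq hL1 hL2 (hR.ne hl).2.2 _).symm.trans h1
  set M : Subgroup (Equiv.Perm Ω) := Subgroup.closure {S l₀, S l₁, S l₂} with hM
  have hfixL : ∀ r ∈ M, ∀ t, L t → r t = t := by
    intro r hr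
    induction hr using Subgroup.closure_induction with
    | mem r hr =>
      intro t ht
      rcases hr with rfl | rfl | rfl <;> exact hSL ht
    | one => intro t _; rfl
    | mul a b _ _ ha hb => intro t ht; rw [Equiv.Perm.mul_apply, hb t ht, ha t ht]
    | inv a _ ha => intro t ht; rw [Equiv.Perm.inv_eq_iff_eq, ha t ht]
  have hcomm : ∀ h : G, h • l₀ = l₀ → h • l₁ = l₁ → ∀ r ∈ M,
      (h : Equiv.Perm Ω) * r = r * (h : Equiv.Perm Ω) := by
    intro h h0 h1 r hr
    have h2' : h • l₂ = l₂ := by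
      have := hR.smul h hl
      rw [h0, h1] at this
      exact huniq this hl
    have hh : ∀ d, L (h • d) ↔ L d := fun d => by
      have := hR.onLine_smul h (a := l₀) (b := l₁) (d := d)
      rwa [h0, h1] at this
    have hle : M ≤ Subgroup.centralizer {(h : Equiv.Perm Ω)} := by
      rw [hM, Subgroup.closure_le]
      rintro r (rfl | rfl | rfl) <;> rw [SetLike.mem_coe, Subgroup.mem_centralizer_singleton_iff,
        eq_comm, ← mul_inv_eq_iff_eq_mul]
      · rw [hLiff h hh hL0, h0]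
      · rw [hLiff h hh hL1, h1]
      · rw [hLiff h hh hL2, h2']
    exact (Subgroup.mem_centralizer_singleton_iff.1 (hle hr)).symm
  have hsemi : ∀ r ∈ M, ∀ t, ¬ L t → r t = t → r = 1 := by
    intro r hr t ht hrt
    ext u
    by_cases hu : L u
    · exact hfixL r hr u hu
    · obtain ⟨h, h0, h1, hu'⟩ := horb (hR.ne hl).1 ht hu
      have := congrArg (fun π : Equiv.Perm Ω => π t) (hcomm h h0 h1 r hr)
      simp only [Equiv.Perm.mul_apply, hrt] at this
      change h • t = r (h • t) at this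
      rw [hu'] at this
      exact this.symm
  let gp : Equiv.Perm Ω := g
  have hnorm : ∀ r ∈ M, gp * r * gp⁻¹ ∈ M := by
    intro r hr
    have hle : M ≤ M.comap (MulAut.conj gp).toMonoidHom := by
      conv_lhs => rw [hM]
      rw [Subgroup.closure_le]
      intro r hr
      simp only [SetLike.mem_coe, Subgroup.mem_comap, MulEquiv.coe_toMonoidHom, MulAut.conj_apply]
      rcases hr with rfl | rfl | rfl
      · rw [hLiff g hgL hL0, g₀]; exact Subgroup.subset_closure (by simp)
      · rw [hLiff g hgL hL1, g₁]; exact Subgroup.subset_closure (by simp)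
      · rw [hLiff g hgL hL2, g₂]; exact Subgroup.subset_closure (by simp)
    simpa using hle hr
  let φ : M → M := fun x => ⟨(x : Equiv.Perm Ω)⁻¹ * (gp * x * gp⁻¹),
    M.mul_mem (M.inv_mem x.2) (hnorm x x.2)⟩
  have hinj : Function.Injective φ := by
    intro x y hxy
    have h : (x : Equiv.Perm Ω)⁻¹ * (gp * x * gp⁻¹) = (y : Equiv.Perm Ω)⁻¹ * (gp * y * gp⁻¹) :=
      congrArg Subtype.val hxy
    set w : Equiv.Perm Ω := (y : Equiv.Perm Ω) * (x : Equiv.Perm Ω)⁻¹ with hw
    have hwc : gp * w * gp⁻¹ = w := by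
      have h' : w * (gp * x * gp⁻¹) = gp * y * gp⁻¹ := by
        rw [hw, mul_assoc, h, mul_inv_cancel_left]
      calc gp * w * gp⁻¹ = (gp * y * gp⁻¹) * (gp * x * gp⁻¹)⁻¹ := by rw [hw]; group
        _ = w * (gp * x * gp⁻¹) * (gp * x * gp⁻¹)⁻¹ := by rw [h']
        _ = w := by group
    have hwM : w ∈ M := M.mul_mem y.2 (M.inv_mem x.2)
    have hgw : g • (w z) = w z := by
      have := congrArg (fun π : Equiv.Perm Ω => π z) (mul_inv_eq_iff_eq_mul.1 hwc)
      simp only [Equiv.Perm.mul_apply] at this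
      change g • (w z) = w (g • z) at this
      rwa [hz] at this
    have := hsemi w hwM z hzL (hzu _ hgw)
    exact Subtype.ext (mul_inv_eq_one.1 this).symm
  obtain ⟨x, hx⟩ := (Finite.injective_iff_surjective.1 hinj)
    ⟨S l₀, Subgroup.subset_closure (by simp)⟩
  have hx' : (x : Equiv.Perm Ω)⁻¹ * (gp * x * gp⁻¹) = S l₀ := congrArg Subtype.val hx
  have h3 : gp * gp * gp * (x : Equiv.Perm Ω) = x * (gp * gp * gp) := by
    refine hcomm (g * g * g) ?_ ?_ x x.2
    · simp [mul_smul, g₀, g₁, g₂]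
    · simp [mul_smul, g₀, g₁, g₂]
  have hprod : S l₀ * S l₁ * S l₂ = 1 := by
    have e1 : gp * S l₀ * gp⁻¹ = S l₁ := by rw [hLiff g hgL hL0, g₀]
    have e2 : gp * S l₁ * gp⁻¹ = S l₂ := by rw [hLiff g hgL hL1, g₁]
    rw [← e2, ← e1, ← hx']
    calc (x : Equiv.Perm Ω)⁻¹ * (gp * x * gp⁻¹) * (gp * ((x : Equiv.Perm Ω)⁻¹ * (gp * x * gp⁻¹)) * gp⁻¹) *
        (gp * (gp * ((x : Equiv.Perm Ω)⁻¹ * (gp * x * gp⁻¹)) * gp⁻¹) * gp⁻¹)
        = (x : Equiv.Perm Ω)⁻¹ * (gp * gp * gp * x) * (gp * gp * gp)⁻¹ := by group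
      _ = 1 := by rw [h3]; group
  have hbase : ∀ t, ¬ L t → op l₁ (op l₂ t) = op l₀ t := by
    intro t ht
    obtain ⟨-, ht2, -⟩ := hstep hL2 ht
    obtain ⟨-, ht12, -⟩ := hstep hL1 ht2
    have := congrArg (fun π : Equiv.Perm Ω => π t) hprod
    simp only [Equiv.Perm.mul_apply, Equiv.Perm.one_apply] at this
    rw [hS hL2 ht, hS hL1 ht2, hS hL0 ht12] at this
    conv_rhs => rw [← this]
    exact (hstep hL0 ht12).2.2.symm
  intro a b t hab ht
  obtain ⟨h, ha, hb⟩ := MulAction.is_two_pretransitive_iff.1 h2 (hR.ne hl).2.2 hab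
  obtain ⟨t', rfl⟩ : ∃ t', t = h • t' := ⟨h⁻¹ • t, (smul_inv_smul h t).symm⟩
  subst ha hb
  rw [hR.onLine_smul, hR.onLine_eq hL1 hL2 (hR.ne hl).2.2] at ht
  obtain ⟨n2, ht2, -⟩ := hstep hL2 ht
  rw [hopg h n2, hopg h (hstep hL1 ht2).1, hbase t' ht, hopg h (hR.ne hl).2.2,
    hopeq (hR.swap₂₃ (hR.swap₁₂ hl)), hopg h (hstep hL0 ht).1]

/-- A projective space over `ZMod 2` of `p` points with these symmetries has at most seven points. -/
theorem le_seven_of_pasch (hα : Fintype.card Ω = p)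
    {R : Ω → Ω → Ω → Prop} (hR : IsLineRel G R)
    (huniq : ∀ {a b d d'}, R a b d → R a b d' → d = d')
    (op : Ω → Ω → Ω) (hop : ∀ {a b}, a ≠ b → R a b (op a b))
    (hP : ∀ a b t, a ≠ b → ¬ OnLine R a b t → op a (op b t) = op (op a b) t)
    (σ s : G) (e : ZMod p ≃ Ω) (he : Perm.IsCoord σ e) (c : (ZMod p)ˣ)
    (hc : 2 * orderOf c = p - 1) (hs : ∀ j, s • e j = e ((c : ZMod p) * j)) :
    p ≤ 7 := by
  classical
  have hopeq : ∀ {a b d}, R a b d → op a b = d := fun h => huniq (hop (hR.ne h).1) h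
  let : Zero (Option Ω) := ⟨none⟩
  let : Neg (Option Ω) := ⟨id⟩
  let : Add (Option Ω) := ⟨fun x y => x.elim y fun a => y.elim (some a) fun b =>
    if a = b then none else some (op a b)⟩
  have h0l : ∀ y : Option Ω, (0 : Option Ω) + y = y := fun y => rfl
  have h0r : ∀ y : Option Ω, y + (0 : Option Ω) = y := fun y => by cases y <;> rfl
  have hadd : ∀ a b : Ω, (some a + some b : Option Ω) = if a = b then none else some (op a b) :=
    fun a b => rfl
  have hself : ∀ a : Ω, (some a + some a : Option Ω) = 0 := fun a => by rw [hadd, if_pos rfl]; rfl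
  have hne' : ∀ {a b : Ω}, a ≠ b → (some a + some b : Option Ω) = some (op a b) := fun h => by
    rw [hadd, if_neg h]
  have hassoc : ∀ x y w : Option Ω, x + y + w = x + (y + w) := by
    intro x y w
    rcases x with _ | a
    · rfl
    rcases y with _ | b
    · rw [show (none : Option Ω) = 0 from rfl, h0r, h0l]
    rcases w with _ | d
    · rw [show (none : Option Ω) = 0 from rfl, h0r, h0r]
    by_cases hab : a = b
    · subst hab
      rw [hself, h0l]
      by_cases had : a = d
      · subst had; rw [hself, h0r]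
      · rw [hne' had, hne' (hR.ne (hop had)).2.1, hopeq (hR.swap₂₃ (hop had))]
    · have r := hop hab
      rw [hne' hab]
      by_cases hon : OnLine R a b d
      · rcases hon with rfl | rfl | hd
        · rw [hne' (hR.ne r).2.1.symm, hne' (Ne.symm hab), hopeq (hR.swap₁₂ (hR.swap₂₃ r)),
            hopeq (hR.swap₁₂ r), hne' (hR.ne r).2.1, hopeq (hR.swap₂₃ r)]
        · rw [hne' (hR.ne r).2.2.symm, hself, h0r,
            hopeq (hR.swap₁₂ (hR.swap₂₃ (hR.swap₁₂ r)))]
        · rw [← hopeq hd, hself, hne' (hR.ne r).2.2, hopeq (hR.swap₂₃ (hR.swap₁₂ r)), hself]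
      · have hbd : b ≠ d := fun h => hon (Or.inr (Or.inl h.symm))
        have h1 : op a b ≠ d := fun h => hon (Or.inr (Or.inr (h ▸ r)))
        have h2 : a ≠ op b d := fun h => hon (Or.inr (Or.inr (by
          have := hop hbd
          rw [← h] at this
          exact hR.swap₁₂ (hR.swap₂₃ this))))
        rw [hne' h1, hne' hbd, hne' h2, hP a b d hab hon]
  have hneg : ∀ x : Option Ω, -x + x = 0 := fun x => by
    cases x with
    | none => rfl
    | some a => exact hself a
  have hcomm : ∀ x y : Option Ω, x + y = y + x := by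
    intro x y
    rcases x with _ | a <;> rcases y with _ | b <;> try rfl
    by_cases hab : a = b
    · rw [hab]
    · rw [hne' hab, hne' (Ne.symm hab), hopeq (hR.swap₁₂ (hop hab))]
  let : AddCommGroup (Option Ω) :=
    { AddGroup.ofLeftAxioms hassoc h0l hneg with add_comm := hcomm }
  let : Module (ZMod 2) (Option Ω) := AddCommGroup.zmodModule fun x => by
    rw [two_nsmul]
    cases x with
    | none => rfl
    | some a => exact hself a
  have hmap : ∀ (g : G) (x y : Option Ω),
      Option.map (g • ·) (x + y) = Option.map (g • ·) x + Option.map (g • ·) y := by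
    intro g x y
    rcases x with _ | a <;> rcases y with _ | b <;> try rfl
    simp only [Option.map_some]
    by_cases hab : a = b
    · rw [hab, hself, hself]; rfl
    · rw [hne' hab, hne' ((MulAction.injective g).ne hab), Option.map_some,
        hopeq (hR.smul g (hop hab))]
  let ρ : G → (Option Ω →ₗ[ZMod 2] Option Ω) := fun g =>
    (AddMonoidHom.mk' (Option.map (g • ·)) (hmap g)).toZModLinearMap 2
  have hρ : ∀ g x, ρ g x = Option.map (g • ·) x := fun g x => rfl
  have hρmul : ∀ g k, ρ (g * k) = ρ g * ρ k := fun g k => LinearMap.ext fun x => by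
    cases x with
    | none => rfl
    | some a => simp [hρ, mul_smul]
  have hρ1 : ρ 1 = 1 := LinearMap.ext fun x => by
    cases x with
    | none => rfl
    | some a => simp [hρ]
  have hρpow : ∀ g (k : ℕ), ρ (g ^ k) = ρ g ^ k := fun g k => by
    induction k with
    | zero => simpa using hρ1
    | succ k ih => rw [pow_succ, pow_succ, hρmul, ih]
  let U : Option Ω ≃ₗ[ZMod 2] Option Ω :=
    LinearEquiv.ofBijective (ρ s) (Option.map_injective (MulAction.injective s) |> fun h =>
      Finite.injective_iff_bijective.1 h)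
  have hσp : σ ^ p = 1 := Subtype.ext (Equiv.ext fun x => by
    obtain ⟨j, rfl⟩ := e.surjective x
    change σ ^ p • e j = e j
    rw [Perm.IsCoord.pow_smul he, ZMod.natCast_self, add_zero])
  have hconjσ : s * σ = σ ^ (c : ZMod p).val * s := Subtype.ext (Equiv.ext fun x => by
    obtain ⟨j, rfl⟩ := e.surjective x
    change (s * σ) • e j = (σ ^ (c : ZMod p).val * s) • e j
    rw [mul_smul, mul_smul, he, hs, hs, Perm.IsCoord.pow_smul he, ZMod.natCast_val, ZMod.cast_id]
    congr 1; ring)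
  have : Nontrivial (Option Ω) := ⟨⟨none, some (e 0), by simp⟩⟩
  have hle := orderOf_le_finrank (K := ZMod 2) (ρ σ) U c (by rw [← hρpow, hσp, hρ1])
    (fun v hv => by
      cases v with
      | none => rfl
      | some a =>
        exfalso
        rw [hρ, Option.map_some, Option.some.injEq] at hv
        obtain ⟨j, rfl⟩ := e.surjective a
        rw [he, e.apply_eq_iff_eq] at hv
        exact one_ne_zero (left_eq_add.1 hv.symm))
    (fun v => by
      rw [← hρpow]
      change (ρ s * ρ σ) v = (ρ (σ ^ (c : ZMod p).val) * ρ s) v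
      rw [← hρmul, ← hρmul, hconjσ])
  have hcard := Module.card_eq_pow_finrank (K := ZMod 2) (V := Option Ω)
  rw [Fintype.card_option, hα, ZMod.card] at hcard
  set n := Module.finrank (ZMod 2) (Option Ω)
  have hbound : ∀ k, 4 ≤ k → 2 * k + 2 < 2 ^ k := by
    intro k hk
    induction k, hk using Nat.le_induction with
    | base => norm_num
    | succ k hk ih => rw [pow_succ]; omega
  have hpos := (Fact.out : p.Prime).two_le
  by_contra h7
  rcases Nat.lt_or_ge n 4 with h | h
  · have := Nat.pow_le_pow_right (show 1 ≤ 2 by norm_num) (show n ≤ 3 by omega)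
    omega
  · have := hbound n h
    omega

/-- For `p > 7` a point stabiliser has only trivial blocks on the other points. -/
theorem stabilizer_block_trivial [IsPretransitive G Ω] (hα : Fintype.card Ω = p)
    (hG : ¬ Group.IsSolvable G) (hp : 7 < p) (σ s : G) (e : ZMod p ≃ Ω) (he : Perm.IsCoord σ e)
    (c : (ZMod p)ˣ) (hc : 2 * orderOf c = p - 1) (hs : ∀ j, s • e j = e ((c : ZMod p) * j))
    {α β : Ω} (hαβ : α ≠ β) {B : Set Ω} (hαB : α ∉ B) (hβB : β ∈ B)
    (hblock : ∀ g : G, g • α = α → ∀ x ∈ B, g • x ∈ B → ∀ y ∈ B, g • y ∈ B) :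
    (∀ d ∈ B, d = β) ∨ ∀ d, d ≠ α → d ∈ B := by
  classical
  by_contra hcon
  push Not at hcon
  obtain ⟨hbig, hsmall⟩ := hcon
  have h2 := Perm.two_transitive hα hG
  have h6 := card_orbits_triples_le_six hα hG σ s e he c hc hs
  obtain ⟨R, hR⟩ := exists_lineRel_of_block hα (by omega) h2 h6 hαβ hαB hβB hblock hbig hsmall
  obtain ⟨huniq, g, l₀, l₁, l₂, z, hl, g₀, g₁, g₂, hz, hzu, hzL⟩ :=
    lines_of_dilation (by omega) h2 hR σ s e he c hc hs
  let op : Ω → Ω → Ω := fun a b => if h : a ≠ b then (hR.exists_mem h).choose else a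
  have hop : ∀ {a b}, a ≠ b → R a b (op a b) := fun {a b} h => by
    simp only [op, dif_pos h]; exact (hR.exists_mem h).choose_spec
  have horb : ∀ {a b d d' : Ω}, a ≠ b → ¬ OnLine R a b d → ¬ OnLine R a b d' →
      ∃ g : G, g • a = a ∧ g • b = b ∧ g • d = d' := by
    intro a b d d' hab hd hd'
    simp only [OnLine, not_or] at hd hd'
    exact exists_smul_of_iff h6 (fun g _ _ _ => hR.smul g) (fun h => hR.ne h) hab
      (hR.exists_mem hab) (hR.exists_notMem hab) ⟨hd.1, hd.2.1⟩ ⟨hd'.1, hd'.2.1⟩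
      (iff_of_false hd.2.2 hd'.2.2)
  have hP := pasch h2 hR horb huniq op hop g hl g₀ g₁ g₂ hz hzu hzL
  have := le_seven_of_pasch hα hR huniq op hop hP σ s e he c hc hs
  omega

end CfsgLib.PrimeHalf
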