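import Cfsg.Agent.Lib.Perm.CirculantRing

/-!
Strongly regular graphs on two regular orbits of a cyclic group of odd order `m` with equal
diagonal blocks do not exist (nontrivially).
-/

set_option autoImplicit false

namespace CfsgLib.Circulant

open Finset

section Classify

variable {A : Type*} [AddCommGroup A] [Fintype A]

/-- An element periodic off the origin has `α ^ 3 = n ^ 2 α` for its excess `α` at the origin. -/
theorem shift_cubed [DecidableEq A] {E : AddMonoidAlgebra ℤ A} {n c α : ℤ}
    (h : E ^ 3 = n ^ 2 • E + c • allOne A) (f : A → ℤ)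
    (hE : ∀ g, E.coeff g = (if g = 0 then α else 0) + f g) {s : A} (hs : s ≠ 0)
    (hf : ∀ g, f (g + s) = f g) : α ^ 3 = n ^ 2 * α := by
  set d : AddMonoidAlgebra ℤ A := AddMonoidAlgebra.single 0 α with hd
  have hE' : E = d + ofFun f := ext_coeff fun g => by
    rw [hE, AddMonoidAlgebra.coeff_add, Finsupp.add_apply, coeff_single_zero_int, coeff_ofFun]
  set Z := 3 * d * d + 3 * d * ofFun f + ofFun f * ofFun f with hZ
  have hcube : E ^ 3 = d ^ 3 + ofFun f * Z := by rw [hE', hZ]; ring
  have hper : ∀ g, (ofFun f * Z).coeff (g + s) = (ofFun f * Z).coeff g := by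
    intro g
    simp only [coeff_mul_sum, coeff_ofFun]
    refine (Fintype.sum_equiv (Equiv.addRight s) _ _ fun a => ?_).symm
    simp only [Equiv.coe_addRight, hf]
    rw [show g + s - (a + s) = g - a by abel]
  have hd3 : d ^ 3 = AddMonoidAlgebra.single 0 (α ^ 3) := by
    rw [hd, AddMonoidAlgebra.single_pow, smul_zero]
  have e0 := congrArg (fun z : AddMonoidAlgebra ℤ A => z.coeff 0) h
  have es := congrArg (fun z : AddMonoidAlgebra ℤ A => z.coeff s) h
  simp only [hcube, hd3, AddMonoidAlgebra.coeff_add, Finsupp.add_apply, coeff_smul_int,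
    coeff_single_zero_int, coeff_allOne, hE, hs, if_true, if_false, if_pos] at e0 es
  have h0 := hper 0
  have hf0 := hf 0
  rw [zero_add] at h0 hf0
  rw [h0, hf0] at es
  linarith

theorem eq_of_cubed {x : ℤ} {n : ℕ} (h : x ^ 3 = (n : ℤ) ^ 2 * x) :
    x = 0 ∨ x = n ∨ x = -(n : ℤ) := by
  have : x * ((x - n) * (x + n)) = 0 := by linear_combination h
  rcases mul_eq_zero.1 this with h1 | h1
  · exact Or.inl h1
  rcases mul_eq_zero.1 h1 with h2 | h2
  · exact Or.inr (Or.inl (by linarith))
  · exact Or.inr (Or.inr (by linarith))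

variable {B : Type*} [AddCommGroup B] [Fintype B]

omit [Fintype B] in
theorem coeff_push [DecidableEq B] (π : A →+ B) (x : AddMonoidAlgebra ℤ A) (y : B) :
    (AddMonoidAlgebra.mapDomainRingHom ℤ π x).coeff y = ∑ g, if π g = y then x.coeff g else 0 := by
  classical
  have hx : x = ∑ g, AddMonoidAlgebra.single g (x.coeff g) := ext_coeff fun g => by
    rw [AddMonoidAlgebra.coeff_sum, Finsupp.finsetSum_apply]
    simp [Finsupp.single_apply]
  conv_lhs => rw [hx]
  rw [map_sum, AddMonoidAlgebra.coeff_sum, Finsupp.finsetSum_apply]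
  exact Finset.sum_congr rfl fun g _ => by simp [Finsupp.single_apply]

theorem card_fibre [DecidableEq B] (π : A →+ B) (hπ : Function.Surjective π) (y : B) :
    (Finset.univ.filter fun g => π g = y).card * Fintype.card B = Fintype.card A := by
  classical
  have hall : ∀ z, (Finset.univ.filter fun g => π g = z).card =
      (Finset.univ.filter fun g => π g = y).card := fun z => by
    obtain ⟨a, ha⟩ := hπ (y - z)
    refine Finset.card_equiv (Equiv.addRight a) fun g => ?_
    simp only [Finset.mem_filter, Finset.mem_univ, true_and, Equiv.coe_addRight, map_add, ha]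
    constructor
    · intro h; rw [h]; abel
    · intro h; exact add_right_cancel (h.trans (by abel : y = z + (y - z)))
  have h := Finset.card_eq_sum_card_fiberwise (f := π) (s := Finset.univ) (t := Finset.univ)
    fun g _ => Finset.mem_univ _
  simp only [hall, Finset.sum_const, smul_eq_mul, Finset.card_univ] at h
  rw [h, mul_comm]

end Classify

/-- Multiplication by units fixes a solution of the cubic. -/
theorem IsCubic.unit_eq {m n : ℕ} [NeZero m] {E : AddMonoidAlgebra ℤ (ZMod m)} (h : IsCubic n E)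
    (hn : 0 < n) (u : (ZMod m)ˣ) (g : ZMod m) : E.coeff ((u : ZMod m) * g) = E.coeff g := by
  have : NeZero (2 * n * m) := ⟨by have := NeZero.ne m; positivity⟩
  obtain ⟨U, rfl⟩ := ZMod.unitsMap_surjective (show m ∣ 2 * n * m from dvd_mul_left _ _) u
  have key : ∀ k : ℕ, k.Coprime (2 * n * m) → ∀ g : ZMod m, E.coeff (k • g) = E.coeff g := by
    intro k
    induction k using induction_on_primes with
    | zero =>
      intro hk
      rw [Nat.coprime_zero_left] at hk
      have := Nat.eq_one_of_dvd_one (hk ▸ dvd_mul_of_dvd_left (dvd_mul_right 2 n) m)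
      omega
    | one => intro _ g; rw [one_smul]
    | prime_mul p a hp ih =>
      intro hk g
      have hpc := Nat.Coprime.coprime_dvd_left (dvd_mul_right p a) hk
      have h1 : p ≠ 2 := by
        rintro rfl
        exact absurd (Nat.Coprime.eq_one_of_dvd hpc (dvd_mul_of_dvd_left (dvd_mul_right 2 n) m)) (by norm_num)
      rw [mul_smul, h.nsmul_eq hp h1 (fun hd => hp.ne_one
          (Nat.Coprime.eq_one_of_dvd hpc (dvd_mul_of_dvd_left (dvd_mul_of_dvd_right hd 2) m)))
          (by rw [ZMod.card]; exact (Nat.Coprime.coprime_dvd_right (dvd_mul_left m _) hpc).symm) _,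
        ih (Nat.Coprime.coprime_dvd_left (dvd_mul_left a p) hk)]
  have := key (U : ZMod (2 * n * m)).val (ZMod.val_coe_unit_coprime U) g
  rw [nsmul_eq_mul] at this
  convert this using 3
  rw [ZMod.unitsMap_val, ZMod.natCast_val]

/-- Solutions of the cubic are constant on a nontrivial subgroup minus the origin and off it. -/
theorem IsCubic.classify : ∀ (n m : ℕ) [NeZero m] (E : AddMonoidAlgebra ℤ (ZMod m)),
    0 < n → Odd m → 1 < m → IsCubic n E →
    ∃ S : AddSubgroup (ZMod m), S ≠ ⊥ ∧ ∃ a b : ℤ, (a = 0 ∨ a = 1) ∧ (b = 0 ∨ b = 1) ∧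
      (∀ g, g ≠ 0 → g ∈ S → E.coeff g = a) ∧ ∀ g, g ∉ S → E.coeff g = b := by
  intro n
  induction n using Nat.strong_induction_on with
  | _ n ih =>
  intro m _ E hn hmodd hm h
  classical
  have := Fact.mk hm
  -- the constant case
  have hconst : (∀ g g' : ZMod m, g ≠ 0 → g' ≠ 0 → E.coeff g = E.coeff g') →
      ∃ S : AddSubgroup (ZMod m), S ≠ ⊥ ∧ ∃ a b : ℤ, (a = 0 ∨ a = 1) ∧ (b = 0 ∨ b = 1) ∧
        (∀ g, g ≠ 0 → g ∈ S → E.coeff g = a) ∧ ∀ g, g ∉ S → E.coeff g = b := fun hc =>
    ⟨⊤, top_ne_bot, E.coeff 1, E.coeff 1, h.zero_one 1 one_ne_zero, h.zero_one 1 one_ne_zero,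
      fun g hg _ => hc g 1 hg one_ne_zero, fun g hg => absurd (AddSubgroup.mem_top g) hg⟩
  rcases Nat.lt_or_ge 1 n with hn1 | hn1
  swap
  · obtain rfl : n = 1 := by omega
    exact hconst fun g g' hg hg' => h.const_of_one (by rwa [ZMod.card]) hg hg'
  set t := n.minFac with ht_def
  have ht : t.Prime := Nat.minFac_prime (by omega)
  have htn : t ∣ n := Nat.minFac_dvd n
  by_cases htm : t ∣ m
  swap
  · exact hconst fun g g' hg hg' => h.const_of_coprime ht htn
      (by rw [ZMod.card]; exact ((Nat.Prime.coprime_iff_not_dvd ht).2 htm).symm) hg hg'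
  clear_value t
  obtain ⟨m', rfl⟩ := htm
  obtain ⟨n', rfl⟩ := htn
  have := Fact.mk ht
  have hm' : 0 < m' := by rcases Nat.eq_zero_or_pos m' with rfl | h; · simp at hm
                          · exact h
  have : NeZero m' := ⟨hm'.ne'⟩
  have ht2 : t ≠ 2 := fun h2 => (Nat.not_even_iff_odd.2 hmodd) (h2 ▸ (even_two.mul_right m'))
  have hm'odd : Odd m' := (Nat.odd_mul.1 hmodd).2
  have hn'0 : 0 < n' := Nat.pos_of_mul_pos_left hn
  let π : ZMod (t * m') →+ ZMod m' := (ZMod.castHom (dvd_mul_left m' t) (ZMod m')).toAddMonoidHom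
  have hπsurj : Function.Surjective π := ZMod.castHom_surjective (dvd_mul_left m' t)
  have hπnat : ∀ k : ℕ, π (k : ZMod (t * m')) = (k : ZMod m') := fun k =>
    map_natCast (ZMod.castHom (dvd_mul_left m' t) (ZMod m')) k
  have hker : ∀ g, t • g = 0 ↔ π g = 0 := by
    intro g
    obtain ⟨k, rfl⟩ := ZMod.natCast_zmod_surjective g
    rw [hπnat, ZMod.natCast_eq_zero_iff, nsmul_eq_mul, ← Nat.cast_mul, ZMod.natCast_eq_zero_iff,
      Nat.mul_dvd_mul_iff_left ht.pos]
  have hfib : ∀ g g', t • g = t • g' ↔ π g = π g' := by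
    intro g g'
    rw [← sub_eq_zero, ← smul_sub, hker, map_sub, sub_eq_zero]
  have hcard : ∀ y, (Finset.univ.filter fun g => π g = y).card = t := by
    intro y
    have := card_fibre π hπsurj y
    rw [ZMod.card, ZMod.card] at this
    exact Nat.eq_of_mul_eq_mul_right hm' this
  obtain ⟨c, hc⟩ := h.cubic
  obtain ⟨i, hi⟩ := ht.odd_of_ne_two ht2
  have hi0 : i ≠ 0 := by rintro rfl; exact ht.ne_one hi
  obtain ⟨c', hc'⟩ := pow_odd hc i
  rw [← hi] at hc'
  have hsum0 : ∀ y, (∑ g, if π g = y then (E.coeff g : ZMod t) else 0) = 0 := by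
    have hfr : ∀ y, (∑ g, if t • g = y then (E.coeff g : ZMod t) else 0) = (c' : ZMod t) := by
      intro y
      rw [← pow_prime_coeff t E y, hc', AddMonoidAlgebra.coeff_add, Finsupp.add_apply,
        coeff_smul_int, coeff_smul_int]
      simp [hi0]
    have hc0 : (c' : ZMod t) = 0 := by
      rw [← hfr 1, Finset.sum_eq_zero]
      intro g _
      rw [if_neg]
      intro hg
      have := congrArg (ZMod.castHom (dvd_mul_right t m') (ZMod t)) hg
      rw [map_nsmul, map_one, nsmul_eq_mul, ZMod.natCast_self, zero_mul] at this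
      exact zero_ne_one this
    intro y
    obtain ⟨g₀, rfl⟩ := hπsurj y
    refine Eq.trans ?_ ((hfr (t • g₀)).trans hc0)
    exact Finset.sum_congr rfl fun g _ => by simp only [hfib]
  -- constancy on the fibres off the kernel
  have hper : ∀ g g', π g = π g' → π g ≠ 0 → E.coeff g = E.coeff g' := by
    intro g g' hgg hg0
    set F := Finset.univ.filter fun a => π a = π g with hF
    set r := (F.filter fun a => E.coeff a = 1).card with hr
    have h01 : ∀ a ∈ F, E.coeff a = 0 ∨ E.coeff a = 1 := fun a ha => h.zero_one a (by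
      rintro rfl; exact hg0 (by simpa [hF, eq_comm] using ha))
    have hsum := hsum0 (π g)
    rw [← Finset.sum_filter, ← hF, Finset.sum_congr rfl
      (g := fun a => if E.coeff a = 1 then (1 : ZMod t) else 0) (fun a ha => by
        rcases h01 a ha with h1 | h1 <;> simp [h1]),
      ← Finset.sum_filter, Finset.sum_const, nsmul_eq_mul, mul_one, ← hr,
      ZMod.natCast_eq_zero_iff] at hsum
    have hle : r ≤ t := (Finset.card_filter_le _ _).trans (hcard _).le
    have hgF : g ∈ F := by simp [hF]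
    have hg'F : g' ∈ F := by simp [hF, hgg]
    rcases Nat.eq_zero_or_pos r with hr0 | hr0
    · rw [hr, Finset.card_eq_zero, Finset.filter_eq_empty_iff] at hr0
      rw [(h01 g hgF).resolve_right (hr0 hgF), (h01 g' hg'F).resolve_right (hr0 hg'F)]
    · have hall : (F.filter fun a => E.coeff a = 1) = F := Finset.eq_of_subset_of_card_le
        (Finset.filter_subset _ _) (by rw [hcard]; exact Nat.le_of_dvd hr0 hsum)
      rw [← hall, Finset.mem_filter] at hgF hg'F
      rw [hgF.2, hg'F.2]
  -- constancy on the kernel minus the origin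
  set τ : ZMod (t * m') := (m' : ZMod (t * m')) with hτ
  have hτ0 : τ ≠ 0 := by
    rw [hτ, ne_eq, ZMod.natCast_eq_zero_iff]
    intro hd
    have := Nat.le_of_dvd hm' hd
    nlinarith [ht.two_le]
  have hπτ : π τ = 0 := by rw [hτ, hπnat, ZMod.natCast_self]
  have hkerval : ∀ g, g ≠ 0 → π g = 0 → E.coeff g = E.coeff τ := by
    intro g hg0 hg
    obtain ⟨k, rfl⟩ := ZMod.natCast_zmod_surjective g
    rw [hπnat, ZMod.natCast_eq_zero_iff] at hg
    obtain ⟨j, rfl⟩ := hg
    have hj : ¬ t ∣ j := fun hd => hg0 (by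
      rw [ZMod.natCast_eq_zero_iff, mul_comm t]; exact Nat.mul_dvd_mul_left m' hd)
    obtain ⟨u, hu⟩ := ZMod.unitsMap_surjective (dvd_mul_right t m')
      (Units.mk0 (j : ZMod t) (by rwa [ne_eq, ZMod.natCast_eq_zero_iff]))
    have hju : ((u : ZMod (t * m')).val : ZMod t) = (j : ZMod t) := by
      rw [ZMod.natCast_val, ← ZMod.unitsMap_val (dvd_mul_right t m'), hu, Units.val_mk0]
    rw [show ((m' * j : ℕ) : ZMod (t * m')) = (u : ZMod (t * m')) * τ by
      rw [hτ]
      conv_rhs => rw [← ZMod.natCast_zmod_val (u : ZMod (t * m')), ← Nat.cast_mul,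
        mul_comm (u : ZMod (t * m')).val m']
      rw [ZMod.natCast_eq_natCast_iff]
      exact (Nat.ModEq.mul_left' m' ((ZMod.natCast_eq_natCast_iff _ _ _).1 hju.symm)).of_dvd
        (mul_comm t m').dvd, h.unit_eq hn u τ]
  set b₀ := E.coeff τ with hb₀
  have hb₀01 : b₀ = 0 ∨ b₀ = 1 := h.zero_one τ hτ0
  -- push forward
  let Q : ZMod m' → ℤ := fun x => if x = 0 then b₀ else E.coeff (Function.surjInv hπsurj x)
  set ε : ℤ := E.coeff 0 - b₀ with hε
  have hQ01 : ∀ x, Q x = 0 ∨ Q x = 1 := fun x => by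
    simp only [Q]
    split_ifs with hx
    · exact hb₀01
    · exact h.zero_one _ fun h0 => hx (by rw [← Function.surjInv_eq hπsurj x, h0, map_zero])
  have hEdec : ∀ g, E.coeff g = (if g = 0 then ε else 0) + Q (π g) := by
    intro g
    by_cases hg : g = 0
    · subst hg; simp [Q, hε]
    · rw [if_neg hg, zero_add]
      simp only [Q]
      split_ifs with hx
      · exact hkerval g hg hx
      · exact hper g _ (Function.surjInv_eq hπsurj _).symm hx
  have hpush : ∀ x, (∑ g, if π g = x then E.coeff g else 0) = (if x = 0 then ε else 0) + t * Q x := by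
    intro x
    rw [← Finset.sum_filter, Finset.sum_congr rfl (g := fun g => (if g = 0 then ε else 0) + Q x)
      (fun g hg => by rw [hEdec, (Finset.mem_filter.1 hg).2]), Finset.sum_add_distrib,
      Finset.sum_const, hcard, nsmul_eq_mul, Finset.sum_ite_eq']
    congr 1
    simp [eq_comm]
  obtain ⟨ε', hε'⟩ : (t : ℤ) ∣ ε := by
    rw [← ZMod.intCast_zmod_eq_zero_iff_dvd]
    have := hsum0 0
    have e := congrArg (fun z : ℤ => (z : ZMod t)) (hpush 0)
    simp only [Int.cast_sum, apply_ite (fun z : ℤ => (z : ZMod t)), Int.cast_zero] at e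
    rw [this] at e
    simpa using e.symm
  let E' : AddMonoidAlgebra ℤ (ZMod m') := ofFun fun x => (if x = 0 then ε' else 0) + Q x
  set P := AddMonoidAlgebra.mapDomainRingHom ℤ π with hP
  have hPE : P E = (t : ℤ) • E' := ext_coeff fun x => by
    rw [hP, coeff_push, hpush, coeff_smul_int, coeff_ofFun, hε', mul_add]
    split_ifs <;> simp
  have hPJ : P (allOne _) = (t : ℤ) • allOne _ := ext_coeff fun x => by
    rw [hP, coeff_push, coeff_smul_int, coeff_allOne, mul_one]
    simp only [coeff_allOne]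
    rw [← Finset.sum_filter, Finset.sum_const, hcard]
    simp
  have heq := congrArg P hc
  rw [map_pow, map_add, map_zsmul, map_zsmul, hPE, hPJ, smul_pow, smul_smul, smul_smul] at heq
  have heq' : ∀ x, (t : ℤ) ^ 3 * ((E' ^ 3).coeff x - (n' : ℤ) ^ 2 * E'.coeff x) = c * t := by
    intro x
    have := congrArg (fun z : AddMonoidAlgebra ℤ (ZMod m') => z.coeff x) heq
    simp only [AddMonoidAlgebra.coeff_add, Finsupp.add_apply, coeff_smul_int, coeff_allOne] at this
    rw [mul_sub, this]
    push_cast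
    ring
  have ht0 : (t : ℤ) ≠ 0 := by exact_mod_cast ht.ne_zero
  have h' : IsCubic n' E' := by
    refine ⟨fun x => ?_, fun x hx => ?_, ⟨(E' ^ 3).coeff 0 - (n' : ℤ) ^ 2 * E'.coeff 0,
      ext_coeff fun x => ?_⟩⟩
    · simp only [E', coeff_ofFun, neg_eq_zero]
      congr 1
      simp only [Q, neg_eq_zero]
      split_ifs with hx
      · rfl
      · rw [← h.symm]
        refine hper _ _ ?_ ?_
        · rw [map_neg, Function.surjInv_eq hπsurj, Function.surjInv_eq hπsurj, neg_neg]
        · rw [map_neg, Function.surjInv_eq hπsurj, neg_neg]; exact hx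
    · simp only [E', coeff_ofFun, if_neg hx, zero_add]
      exact hQ01 x
    · rw [AddMonoidAlgebra.coeff_add, Finsupp.add_apply, coeff_smul_int, coeff_smul_int,
        coeff_allOne, mul_one]
      have := mul_left_cancel₀ (pow_ne_zero 3 ht0) ((heq' x).trans (heq' 0).symm)
      linarith
  have hbot : π.ker ≠ ⊥ := fun hb => hτ0 (by
    have hmem : τ ∈ π.ker := hπτ
    rw [hb] at hmem
    exact (AddSubgroup.mem_bot).1 hmem)
  -- trivial quotient or `n' = 1`
  have hflat : (∀ x x' : ZMod m', x ≠ 0 → x' ≠ 0 → Q x = Q x') →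
      ∃ S : AddSubgroup (ZMod (t * m')), S ≠ ⊥ ∧ ∃ a b : ℤ, (a = 0 ∨ a = 1) ∧ (b = 0 ∨ b = 1) ∧
        (∀ g, g ≠ 0 → g ∈ S → E.coeff g = a) ∧ ∀ g, g ∉ S → E.coeff g = b := by
    intro hQ
    refine ⟨π.ker, hbot, b₀, Q 1, hb₀01, hQ01 1, fun g hg hgS => hkerval g hg hgS, fun g hg => ?_⟩
    have hg0 : g ≠ 0 := fun h0 => hg (by rw [h0]; exact π.ker.zero_mem)
    have hg' : π g ≠ 0 := hg
    rw [hEdec g, if_neg hg0, zero_add]
    have h1 : (1 : ZMod m') ≠ 0 := fun h1 => hg' (by rw [← mul_one (π g), h1, mul_zero])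
    exact hQ _ 1 hg' h1
  rcases Nat.lt_or_ge 1 m' with hm1 | hm1
  swap
  · obtain rfl : m' = 1 := by omega
    exact hflat fun x x' hx => absurd (Subsingleton.elim x 0) hx
  have := Fact.mk hm1
  rcases Nat.lt_or_ge 1 n' with hn2 | hn2
  swap
  · obtain rfl : n' = 1 := by omega
    refine hflat fun x x' hx hx' => ?_
    have := h'.const_of_one (by rwa [ZMod.card]) hx hx'
    simpa [E', hx, hx'] using this
  obtain ⟨S, hS, a, b, ha, hb, hSa, hSb⟩ := ih n' (by nlinarith [ht.two_le]) m' E' hn'0 hm'odd hm1 h'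
  obtain ⟨s, hsS, hs0⟩ := (AddSubgroup.bot_or_exists_ne_zero S).resolve_left hS
  obtain ⟨c₁, hc₁⟩ := h'.cubic
  have hα := shift_cubed hc₁ (fun x => if x ∈ S then a else b) (α := E'.coeff 0 - a) (fun x => by
      by_cases hx : x = 0
      · subst hx; simp [S.zero_mem]
      · by_cases hxS : x ∈ S
        · simp [hx, hxS, hSa x hx hxS]
        · simp [hx, hxS, hSb x hxS]) hs0 (fun x => by simp [S.add_mem_cancel_right hsS])
  have hεc : ε ^ 3 = ((t * n' : ℕ) : ℤ) ^ 2 * ε :=
    shift_cubed hc (fun g => Q (π g)) hEdec hτ0 fun g => by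
      simp only [map_add, hπτ, add_zero]
  have hε'c : ε' ^ 3 = (n' : ℤ) ^ 2 * ε' := by
    rw [hε'] at hεc
    refine mul_left_cancel₀ (pow_ne_zero 3 ht0) ?_
    push_cast at hεc
    linear_combination hεc
  have hE'0 : E'.coeff 0 = ε' + b₀ := by simp [E', Q]
  rw [hE'0] at hα
  have hab : b₀ = a := by
    have hn3 : (2 : ℤ) ≤ n' := by exact_mod_cast hn2
    rcases eq_of_cubed hα with h1 | h1 | h1 <;> rcases eq_of_cubed hε'c with h2 | h2 | h2 <;>
      rcases hb₀01 with h3 | h3 <;> rcases ha with h4 | h4 <;> omega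
  refine ⟨S.comap π, fun hb => hbot (le_bot_iff.1 (hb ▸ AddSubgroup.ker_le_comap π S)), a, b, ha, hb,
    fun g hg hgS => ?_, fun g hg => ?_⟩
  · rw [hEdec g, if_neg hg, zero_add]
    by_cases hg' : π g = 0
    · simp [Q, hg', hab]
    · have := hSa (π g) hg' hgS
      simpa [E', hg'] using this
  · have hg0 : g ≠ 0 := fun h0 => hg (by rw [h0]; exact (S.comap π).zero_mem)
    have hg' : π g ≠ 0 := fun h0 => hg (by rw [AddSubgroup.mem_comap, h0]; exact S.zero_mem)
    have := hSb (π g) hg
    rw [hEdec g, if_neg hg0, zero_add]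
    simpa [E', hg'] using this

section Srg

variable {m : ℕ} [NeZero m]

/-- Two circulant blocks `C`, `D` of a strongly regular graph with parameters `k`, `μ`, `L = λ - μ`. -/
structure IsData (C D : ZMod m → ℤ) (k L μ : ℤ) : Prop where
  c_zero : C 0 = 0
  c_symm : ∀ g, C (-g) = C g
  c_val : ∀ g, C g = 0 ∨ C g = 1
  d_val : ∀ g, D g = 0 ∨ D g = 1
  deg : k = total (ofFun C) + total (ofFun D)
  eq_diag : ofFun C * ofFun C + ofFun D * ofFun (fun g => D (-g)) =
    AddMonoidAlgebra.single 0 (k - μ) + L • ofFun C + μ • allOne (ZMod m)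
  eq_off : (2 : ℤ) • (ofFun C * ofFun D) = L • ofFun D + μ • allOne (ZMod m)
  mu_pos : 0 < μ
  mu_lt : μ < k
  k_lt : k < 2 * (m : ℤ) - 1

theorem total_single (n : ℤ) : total (AddMonoidAlgebra.single (0 : ZMod m) n) = n := by
  simp [total]

theorem single_eq_smul (e : ℤ) : (AddMonoidAlgebra.single 0 e : AddMonoidAlgebra ℤ (ZMod m)) =
    e • AddMonoidAlgebra.single 0 1 :=
  ext_coeff fun g => by
    rw [coeff_smul_int, coeff_single_zero_int, coeff_single_zero_int]; split_ifs <;> simp

theorem total_neg (D : ZMod m → ℤ) : total (ofFun fun g => D (-g)) = total (ofFun D) :=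
  Fintype.sum_equiv (Equiv.neg _) _ _ fun g => rfl

variable {C D : ZMod m → ℤ} {k L μ : ℤ}

theorem IsData.d_const_false (h : IsData C D k L μ) (hD : ∀ g, D g = D 0) : False := by
  rcases h.d_val 0 with h0 | h0
  · have := congrArg (fun z : AddMonoidAlgebra ℤ (ZMod m) => z.coeff 0) h.eq_off
    simp only [AddMonoidAlgebra.coeff_add, Finsupp.add_apply, coeff_smul_int, coeff_mul_sum,
      coeff_ofFun, hD, h0, coeff_allOne, mul_zero, Finset.sum_const_zero] at this
    linarith [h.mu_pos]
  · have hJ : ofFun D = allOne (ZMod m) := ext_coeff fun g => by simp [hD g, h0]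
    have hJ' : ofFun (fun g => D (-g)) = allOne (ZMod m) := ext_coeff fun g => by simp [hD (-g), h0]
    have e1 := congrArg (fun z : AddMonoidAlgebra ℤ (ZMod m) => z.coeff 0) h.eq_off
    have e2 := congrArg total h.eq_diag
    have e3 := h.deg
    rw [hJ] at e1 e2 e3
    rw [hJ'] at e2
    rw [mul_allOne] at e1
    rw [total_allOne] at e3
    simp only [AddMonoidAlgebra.coeff_add, Finsupp.add_apply, coeff_smul_int, coeff_allOne,
      mul_one] at e1
    simp only [total_add, total_mul, total_smul, total_allOne, total_single] at e2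
    simp only [ZMod.card] at e2 e3
    set a := total (ofFun C)
    have hfac : ((m : ℤ) - a - 1) * ((m : ℤ) + a - μ) = 0 := by
      linear_combination e2 + e3 - a * e1
    rcases mul_eq_zero.1 hfac with h1 | h1
    · linarith [h.k_lt]
    · linarith [h.mu_lt]

/-- `C` is not a subgroup minus the origin. -/
theorem IsData.subgroup_false (h : IsData C D k L μ) (hm : Odd m) (S : AddSubgroup (ZMod m))
    (hC : ∀ g, g ≠ 0 → (g ∈ S → C g = 1) ∧ (g ∉ S → C g = 0)) : False := by
  classical
  set U : AddMonoidAlgebra ℤ (ZMod m) := ofFun fun g => if g ∈ S then 1 else 0 with hU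
  have hCU : ofFun C = U - AddMonoidAlgebra.single 0 1 := ext_coeff fun g => by
    rw [AddMonoidAlgebra.coeff_sub, Finsupp.sub_apply, hU, coeff_ofFun, coeff_ofFun,
      coeff_single_zero_int]
    by_cases hg : g = 0
    · simp [hg, h.c_zero, S.zero_mem]
    · by_cases hgS : g ∈ S
      · simp [hg, hgS, (hC g hg).1 hgS]
      · simp [hg, hgS, (hC g hg).2 hgS]
  set u : ℤ := total U with hu
  have hu' : u = ((Finset.univ.filter fun g => g ∈ S).card : ℤ) := by
    simp [hu, hU, total, Finset.sum_boole]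
  have hper : ∀ (F : AddMonoidAlgebra ℤ (ZMod m)) (g s : ZMod m), s ∈ S →
      (U * F).coeff (g + s) = (U * F).coeff g := by
    intro F g s hs
    simp only [coeff_mul_sum, hU, coeff_ofFun]
    refine (Fintype.sum_equiv (Equiv.addRight s) _ _ fun a => ?_).symm
    simp only [Equiv.coe_addRight, S.add_mem_cancel_right hs]
    rw [show g + s - (a + s) = g - a by abel]
  have hUper : ∀ F : AddMonoidAlgebra ℤ (ZMod m), (∀ g, ∀ s ∈ S, F.coeff (g + s) = F.coeff g) →
      U * F = u • F := fun F hF => ext_coeff fun g => by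
    rw [coeff_smul_int, coeff_mul_sum, hu, total, Finset.sum_mul]
    refine Finset.sum_congr rfl fun a _ => ?_
    simp only [hU, coeff_ofFun]
    split_ifs with ha
    · rw [one_mul, one_mul, ← hF (g - a) a ha, sub_add_cancel]
    · simp
  have hUU : U * U = u • U := hUper U fun g s hs => by
    simp [hU, S.add_mem_cancel_right hs]
  have hone : (AddMonoidAlgebra.single 0 1 : AddMonoidAlgebra ℤ (ZMod m)) = 1 :=
    AddMonoidAlgebra.one_def.symm
  have off : (2 : ℤ) • (U * ofFun D) = (L + 2) • ofFun D + μ • allOne (ZMod m) := by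
    have := h.eq_off
    rw [hCU, hone, sub_mul, one_mul, smul_sub, sub_eq_iff_eq_add] at this
    rw [this, add_smul]; abel
  by_cases hL : L + 2 = 0
  swap
  · have hDper : ∀ g, ∀ s ∈ S, (ofFun D).coeff (g + s) = (ofFun D).coeff g := fun g s hs => by
      have e1 := congrArg (fun z : AddMonoidAlgebra ℤ (ZMod m) => z.coeff (g + s)) off
      have e2 := congrArg (fun z : AddMonoidAlgebra ℤ (ZMod m) => z.coeff g) off
      simp only [AddMonoidAlgebra.coeff_add, Finsupp.add_apply, coeff_smul_int, coeff_allOne,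
        hper _ g s hs] at e1 e2
      exact mul_left_cancel₀ hL (by linarith)
    refine h.d_const_false fun g => ?_
    have e : ∀ g, (2 * u - (L + 2)) * D g = μ := fun g => by
      have e1 := congrArg (fun z : AddMonoidAlgebra ℤ (ZMod m) => z.coeff g) off
      rw [hUper _ hDper] at e1
      simp only [AddMonoidAlgebra.coeff_add, Finsupp.add_apply, coeff_smul_int, coeff_allOne,
        coeff_ofFun, mul_one] at e1
      linear_combination e1
    have eg := e g
    have e₀ := e 0
    rcases h.d_val g with h1 | h1 <;> rcases h.d_val 0 with h2 | h2 <;>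
      simp only [h1, h2, mul_zero, mul_one] at eg e₀ ⊢ <;> linarith [h.mu_pos]
  set DD := ofFun D * ofFun (fun g => D (-g)) with hDD
  have diag : u • U + DD = AddMonoidAlgebra.single 0 (k - μ + 1) + μ • allOne (ZMod m) := by
    have := h.eq_diag
    rw [hCU, hone, show L = -2 by linarith, ← hDD] at this
    rw [AddMonoidAlgebra.single_add, hone, ← hUU]
    rw [show (U - 1) * (U - 1) = U * U - (2 : ℤ) • U + 1 by
      rw [two_smul]; ring] at this
    rw [smul_sub, neg_smul, neg_smul, two_smul ℤ (1 : AddMonoidAlgebra ℤ (ZMod m))] at this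
    calc U * U + DD = (U * U - (2 : ℤ) • U + 1 + DD) + (2 : ℤ) • U - 1 := by abel
      _ = _ := by rw [this]; abel
  have offJ : (2 : ℤ) • (U * ofFun D) = μ • allOne (ZMod m) := by
    rw [off, hL, zero_smul, zero_add]
  set d : ℤ := total (ofFun D) with hd
  have hUDD : (2 : ℤ) • (U * DD) = (μ * d) • allOne (ZMod m) := by
    rw [hDD, ← mul_assoc, ← smul_mul_assoc, offJ, smul_mul_assoc, mul_comm, mul_allOne, total_neg,
      smul_smul]
  have main : (2 * u ^ 2) • U + (μ * d) • allOne (ZMod m) =
      (2 * (k - μ + 1)) • U + (2 * μ * u) • allOne (ZMod m) := by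
    have h1 : U * (u • U + DD) = U * (AddMonoidAlgebra.single 0 (k - μ + 1) + μ • allOne (ZMod m)) := by
      rw [diag]
    rw [mul_add, mul_add, mul_smul_comm, hUU, smul_smul, mul_smul_comm, mul_allOne, smul_smul,
      ← hu] at h1
    have h2 : U * AddMonoidAlgebra.single 0 (k - μ + 1) = (k - μ + 1) • U := ext_coeff fun g => by
      rw [coeff_smul_int, AddMonoidAlgebra.coeff_mul_single_zero, mul_comm]
    rw [h2] at h1
    have h3 := congrArg (fun z => (2 : ℤ) • z) h1
    simp only [smul_add, hUDD, smul_smul] at h3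
    convert h3 using 3 <;> ring
  have hdk : k = u - 1 + d := by rw [h.deg, hCU, hd]; simp [total, hu, Finset.sum_sub_distrib, coeff_single_zero_int]
  have e0 := congrArg (fun z : AddMonoidAlgebra ℤ (ZMod m) => z.coeff 0) main
  simp only [AddMonoidAlgebra.coeff_add, Finsupp.add_apply, coeff_smul_int, coeff_allOne, hU,
    coeff_ofFun, S.zero_mem, if_true, mul_one] at e0
  by_cases htop : S = ⊤
  · have hum : u = (m : ℤ) := by rw [hu']; simp [htop]
    have hJ : U = allOne (ZMod m) := ext_coeff fun g => by simp [hU, htop]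
    have e1 := congrArg (fun z : AddMonoidAlgebra ℤ (ZMod m) => z.coeff 0) offJ
    rw [hJ, mul_comm, mul_allOne, ← hd] at e1
    simp only [coeff_smul_int, coeff_allOne, mul_one] at e1
    have hμ : μ = 2 * d := by linarith
    rw [hum] at e0 hdk
    have hfac : ((m : ℤ) - d) * ((m : ℤ) - d - 1) = 0 := by
      subst hμ hdk
      linarith
    rcases mul_eq_zero.1 hfac with h1 | h1
    · linarith [h.k_lt]
    · linarith [h.mu_lt]
  obtain ⟨g, hg⟩ : ∃ g, g ∉ S := by
    by_contra hno
    push Not at hno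
    exact htop (eq_top_iff.2 fun g _ => hno g)
  have e1 := congrArg (fun z : AddMonoidAlgebra ℤ (ZMod m) => z.coeff g) main
  simp only [AddMonoidAlgebra.coeff_add, Finsupp.add_apply, coeff_smul_int, coeff_allOne, hU,
    coeff_ofFun, hg, if_false, mul_zero, zero_add, mul_one] at e1
  have hd2 : d = 2 * u := mul_left_cancel₀ h.mu_pos.ne' (by linarith)
  have hu2 : u ^ 2 = 3 * u - μ := by rw [hd2] at e0 hdk; rw [hdk] at e0; linarith
  have hu1 : 1 ≤ u := by
    rw [hu']; exact_mod_cast Finset.card_pos.2 ⟨0, by simp [S.zero_mem]⟩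
  rcases (eq_or_lt_of_le hu1) with h1 | h1
  · rw [← h1] at hu2 hdk hd2
    linarith [h.mu_lt]
  obtain ⟨s, hs, hs0⟩ : ∃ s ∈ S, s ≠ 0 := by
    have : 1 < (Finset.univ.filter fun g => g ∈ S).card := by rw [hu'] at h1; exact_mod_cast h1
    obtain ⟨s, hs, hs'⟩ := Finset.exists_mem_ne this 0
    exact ⟨s, (Finset.mem_filter.1 hs).2, hs'⟩
  have hμu : u ≤ μ := by
    have e := congrArg (fun z : AddMonoidAlgebra ℤ (ZMod m) => z.coeff s) diag
    simp only [AddMonoidAlgebra.coeff_add, Finsupp.add_apply, coeff_smul_int, coeff_allOne, hU,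
      coeff_ofFun, hs, if_true, coeff_single_zero_int, hs0, if_false, mul_one, zero_add] at e
    have : 0 ≤ DD.coeff s := by
      rw [hDD, coeff_mul_sum]
      refine Finset.sum_nonneg fun a _ => mul_nonneg ?_ ?_ <;> simp only [coeff_ofFun]
      · rcases h.d_val a with h3 | h3 <;> simp [h3]
      · rw [neg_sub]; rcases h.d_val (a - s) with h3 | h3 <;> simp [h3]
    linarith
  have hu22 : u = 2 := by nlinarith
  have hdvd : (Finset.univ.filter fun g => g ∈ S).card ∣ m := by
    have h3 := S.card_addSubgroup_dvd_card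
    simpa [Nat.card_eq_fintype_card, Fintype.card_subtype] using h3
  rw [hu'] at hu22
  have h22 : (Finset.univ.filter fun g => g ∈ S).card = 2 := by exact_mod_cast hu22
  rw [h22] at hdvd
  exact (Nat.not_even_iff_odd.2 hm) (even_iff_two_dvd.2 hdvd)

/-- No graph and complementary graph with these blocks exist. -/
theorem IsData.false_of_compl (h : IsData C D k L μ) (hm : Odd m) (hm1 : 1 < m)
    {C' D' : ZMod m → ℤ} {k' L' μ' : ℤ} (h' : IsData C' D' k' L' μ')
    (hCC : ∀ g, g ≠ 0 → C' g = 1 - C g) : False := by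
  rcases Int.even_or_odd L with ⟨e, he⟩ | ⟨e, he⟩
  swap
  · have key : ∀ g, ((D g : ℤ) : ZMod 2) = (μ : ZMod 2) := by
      intro g
      have := congrArg (fun z : AddMonoidAlgebra ℤ (ZMod m) => ((z.coeff g : ℤ) : ZMod 2)) h.eq_off
      simp only [AddMonoidAlgebra.coeff_add, Finsupp.add_apply, coeff_smul_int, coeff_allOne,
        coeff_ofFun, mul_one, he] at this
      push_cast at this
      rw [show (2 : ZMod 2) = 0 from rfl] at this
      simp only [zero_mul, zero_add, one_mul] at this
      rw [eq_neg_of_add_eq_zero_left this.symm, ZMod.neg_eq_self_mod_two]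
    exact h.d_const_false fun g =>
      eq_of_cast_eq one_lt_two (h.d_val g) (h.d_val 0) ((key g).trans (key 0).symm)
  set E : AddMonoidAlgebra ℤ (ZMod m) := ofFun C - AddMonoidAlgebra.single 0 e with hE
  set dd := ofFun D with hdd
  set dn := ofFun (fun g => D (-g)) with hdn
  have hsq : (AddMonoidAlgebra.single 0 e : AddMonoidAlgebra ℤ (ZMod m)) = e • 1 := by
    rw [AddMonoidAlgebra.one_def]; exact single_eq_smul _
  have off : (2 : ℤ) • (E * dd) = μ • allOne (ZMod m) := by
    rw [hE, hsq, sub_mul, smul_sub, h.eq_off, smul_mul_assoc, one_mul, smul_smul,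
      show 2 * e = L by rw [he]; ring]
    abel
  have diag : E * E + dd * dn = (k - μ + e ^ 2) • 1 + μ • allOne (ZMod m) := by
    have h1 : (ofFun C - e • 1) * (ofFun C - e • 1) + dd * dn =
        (ofFun C * ofFun C + dd * dn) - (2 * e) • ofFun C + (e ^ 2) • (1 : AddMonoidAlgebra ℤ (ZMod m)) := by
      simp only [zsmul_eq_mul]; push_cast; ring
    have h2 : (AddMonoidAlgebra.single 0 (k - μ) : AddMonoidAlgebra ℤ (ZMod m)) = (k - μ) • 1 := by
      rw [AddMonoidAlgebra.one_def]; exact single_eq_smul _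
    rw [hE, hsq, h1, h.eq_diag, h2, show L = 2 * e by rw [he]; ring, add_smul]
    abel
  have t1 := congrArg total off
  have t2 := congrArg total diag
  have htone : total (1 : AddMonoidAlgebra ℤ (ZMod m)) = 1 := by
    rw [AddMonoidAlgebra.one_def, total_single]
  simp only [total_smul, total_mul, total_add, total_allOne, htone, mul_one, hdn, total_neg,
    ← hdd, ZMod.card] at t1 t2
  set n : ℕ := (total E - total dd).natAbs with hn
  have hn2 : ((n : ℤ)) ^ 2 = k - μ + e ^ 2 := by
    rw [hn, Int.natAbs_sq]; linear_combination t2 - t1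
  have hn0 : 0 < n := by
    rcases Nat.eq_zero_or_pos n with h0 | h0
    · rw [h0, Nat.cast_zero] at hn2
      nlinarith [h.mu_lt, sq_nonneg e]
    · exact h0
  have hcubic : IsCubic n E := by
    refine ⟨fun g => ?_, fun g hg => ?_, ?_⟩
    · simp [hE, AddMonoidAlgebra.coeff_sub, Finsupp.single_apply, h.c_symm, eq_comm (a := (0 : ZMod m))]
    · simpa [hE, AddMonoidAlgebra.coeff_sub, coeff_single_zero_int, hg] using h.c_val g
    · have hX : ∀ g, (E * dd).coeff g = (E * dd).coeff 0 := fun g => by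
        have e1 := congrArg (fun z : AddMonoidAlgebra ℤ (ZMod m) => z.coeff g) off
        have e2 := congrArg (fun z : AddMonoidAlgebra ℤ (ZMod m) => z.coeff 0) off
        simp only [coeff_smul_int, coeff_allOne] at e1 e2
        linarith
      have hX' : E * dd = ((E * dd).coeff 0) • allOne (ZMod m) := ext_coeff fun g => by
        rw [coeff_smul_int, coeff_allOne, mul_one]; exact hX g
      refine ⟨μ * total E - (E * dd).coeff 0 * total dn, ?_⟩
      have h1 : E * (E * E + dd * dn) = E ^ 3 + (E * dd) * dn := by ring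
      rw [diag, mul_add, mul_smul_comm, mul_one, mul_smul_comm, mul_allOne, smul_smul, hX',
        smul_mul_assoc, mul_comm (allOne _) dn, mul_allOne, smul_smul] at h1
      rw [hn2, sub_smul, ← add_sub_assoc, h1, add_sub_cancel_right]
  obtain ⟨S, -, a, b, ha, hb, hSa, hSb⟩ := IsCubic.classify n m E hn0 hm hm1 hcubic
  have hval : ∀ g, g ≠ 0 → E.coeff g = C g := fun g hg => by
    simp [hE, AddMonoidAlgebra.coeff_sub, coeff_single_zero_int, hg]
  rcases ha with rfl | rfl <;> rcases hb with rfl | rfl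
  · refine h.subgroup_false hm ⊥ fun g hg => ⟨fun h0 => absurd (AddSubgroup.mem_bot.1 h0) hg,
      fun _ => ?_⟩
    rw [← hval g hg]
    by_cases hgS : g ∈ S
    exacts [hSa g hg hgS, hSb g hgS]
  · refine h'.subgroup_false hm S fun g hg => ⟨fun hgS => ?_, fun hgS => ?_⟩
    · rw [hCC g hg, ← hval g hg, hSa g hg hgS, sub_zero]
    · rw [hCC g hg, ← hval g hg, hSb g hgS, sub_self]
  · refine h.subgroup_false hm S fun g hg => ⟨fun hgS => ?_, fun hgS => ?_⟩
    · rw [← hval g hg, hSa g hg hgS]
    · rw [← hval g hg, hSb g hgS]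
  · refine h.subgroup_false hm ⊤ fun g hg => ⟨fun _ => ?_, fun h0 => absurd (AddSubgroup.mem_top g) h0⟩
    rw [← hval g hg]
    by_cases hgS : g ∈ S
    exacts [hSa g hg hgS, hSb g hgS]

end Srg

end CfsgLib.Circulant
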