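import Cfsg.Agent.Lib.Perm.PrimeDegreeLines
import Cfsg.Agent.Lib.Perm.CirculantRigid

/-!
Nonsoluble groups of prime degree `p > 7` with a dilation of order `(p - 1) / 2` are triply
transitive if `p ≡ 1 (mod 4)`, and also if `p ≡ 3 (mod 4)` and some odd permutation fixing a
point normalises its stabiliser and inverts the dilation.

Otherwise the stabiliser of a point is of rank three on the other points.  For `p ≡ 1` the
coordinate function is an eigenvector modulo `p` of the graph, with an impossible eigenvalue;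
for `p ≡ 3` the graph is a circulant on two orbits with equal diagonal blocks, which is impossible.
-/

set_option autoImplicit false

namespace CfsgLib.PrimeHalf

open MulAction

variable {Ω : Type*} [Fintype Ω] {p : ℕ} [Fact p.Prime] {G : Subgroup (Equiv.Perm Ω)}

/-- A symmetric relation describing one of the two orbits on triples of distinct points. -/
structure IsTripleRel (G : Subgroup (Equiv.Perm Ω)) (R : Ω → Ω → Ω → Prop) : Prop where
  ne : ∀ {a b d}, R a b d → a ≠ b ∧ a ≠ d ∧ b ≠ d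
  smul : ∀ (g : G) {a b d}, R a b d → R (g • a) (g • b) (g • d)
  swap₁₂ : ∀ {a b d}, R a b d → R b a d
  swap₂₃ : ∀ {a b d}, R a b d → R a d b
  exists_mem : ∀ {a b}, a ≠ b → ∃ d, R a b d
  exists_notMem : ∀ {a b}, a ≠ b → ∃ d, d ≠ a ∧ d ≠ b ∧ ¬ R a b d
  orb : ∀ {a b d a' b' d'}, a ≠ b → d ≠ a ∧ d ≠ b → a' ≠ b' → d' ≠ a' ∧ d' ≠ b' →
    (R a b d ↔ R a' b' d') → ∃ g : G, g • a = a' ∧ g • b = b' ∧ g • d = d'

theorem IsTripleRel.smul_iff {R : Ω → Ω → Ω → Prop} (h : IsTripleRel G R) (g : G) {a b d : Ω} :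
    R (g • a) (g • b) (g • d) ↔ R a b d :=
  ⟨fun h1 => by simpa using h.smul g⁻¹ h1, h.smul g⟩

/-- The complementary relation. -/
theorem IsTripleRel.compl {R : Ω → Ω → Ω → Prop} (h : IsTripleRel G R) :
    IsTripleRel G (fun a b d => a ≠ b ∧ a ≠ d ∧ b ≠ d ∧ ¬ R a b d) where
  ne h1 := ⟨h1.1, h1.2.1, h1.2.2.1⟩
  smul g a b d h1 := ⟨(MulAction.injective g).ne h1.1, (MulAction.injective g).ne h1.2.1,
    (MulAction.injective g).ne h1.2.2.1, fun h2 => h1.2.2.2 ((h.smul_iff g).1 h2)⟩
  swap₁₂ h1 := ⟨h1.1.symm, h1.2.2.1, h1.2.1, fun h2 => h1.2.2.2 (h.swap₁₂ h2)⟩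
  swap₂₃ h1 := ⟨h1.2.1, h1.1, h1.2.2.1.symm, fun h2 => h1.2.2.2 (h.swap₂₃ h2)⟩
  exists_mem hab := by
    obtain ⟨d, hda, hdb, hd⟩ := h.exists_notMem hab
    exact ⟨d, hab, hda.symm, hdb.symm, hd⟩
  exists_notMem hab := by
    obtain ⟨d, hd⟩ := h.exists_mem hab
    exact ⟨d, (h.ne hd).2.1.symm, (h.ne hd).2.2.symm, fun h1 => h1.2.2.2 hd⟩
  orb hab hd hab' hd' hiff := h.orb hab hd hab' hd'
    (not_iff_not.1 ⟨fun h1 => (hiff.1 ⟨hab, hd.1.symm, hd.2.symm, h1⟩).2.2.2,
      fun h1 => (hiff.2 ⟨hab', hd'.1.symm, hd'.2.symm, h1⟩).2.2.2⟩)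

/-- If `G` is not triply transitive, its triples of distinct points form two symmetric orbits. -/
theorem exists_tripleRel (hα : Fintype.card Ω = p) (hp : 2 < p)
    (h2 : IsMultiplyPretransitive G Ω 2) (h6 : Nat.card (orbitRel.Quotient G (Ω × Ω × Ω)) ≤ 6)
    (h3 : ¬ IsMultiplyPretransitive G Ω 3) : ∃ R, IsTripleRel G R := by
  classical
  have htwo : ∀ {a b a' b' : Ω}, a ≠ b → a' ≠ b' → ∃ g : G, g • a = a' ∧ g • b = b' :=
    MulAction.is_two_pretransitive_iff.1 h2
  obtain ⟨α, β, c, c', hαβ, hc, hc', hcc⟩ : ∃ α β c c' : Ω, α ≠ β ∧ (c ≠ α ∧ c ≠ β) ∧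
      (c' ≠ α ∧ c' ≠ β) ∧ ∀ g : G, g • α = α → g • β = β → g • c ≠ c' := by
    by_contra hno
    push Not at hno
    refine h3 ⟨fun u w => ?_⟩
    have hu := fun i j (h : i ≠ j) => u.injective.ne h
    have hw := fun i j (h : i ≠ j) => w.injective.ne h
    obtain ⟨g, g0, g1⟩ := htwo (hu 0 1 (by decide)) (hw 0 1 (by decide))
    obtain ⟨k, k0, k1, k2⟩ := hno (w 0) (w 1) (g • u 2) (w 2) (hw 0 1 (by decide))
      ⟨g0 ▸ (MulAction.injective g).ne (hu 2 0 (by decide)),
        g1 ▸ (MulAction.injective g).ne (hu 2 1 (by decide))⟩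
      ⟨hw 2 0 (by decide), hw 2 1 (by decide)⟩
    refine ⟨k * g, ?_⟩
    ext i
    simp only [Function.Embedding.smul_apply, mul_smul]
    fin_cases i
    · simp [g0, k0]
    · simp [g1, k1]
    · simpa using k2
  let R : Ω → Ω → Ω → Prop := fun a b d => ∃ g : G, g • α = a ∧ g • β = b ∧ g • c = d
  have hne : ∀ {a b d : Ω}, R a b d → a ≠ b ∧ a ≠ d ∧ b ≠ d := by
    rintro a b d ⟨g, rfl, rfl, rfl⟩
    exact ⟨(MulAction.injective g).ne hαβ, (MulAction.injective g).ne hc.1.symm,
      (MulAction.injective g).ne hc.2.symm⟩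
  have hsmul : ∀ (g : G) {a b d : Ω}, R a b d → R (g • a) (g • b) (g • d) := by
    rintro g a b d ⟨k, rfl, rfl, rfl⟩
    exact ⟨g * k, mul_smul _ _ _, mul_smul _ _ _, mul_smul _ _ _⟩
  have hsmul' : ∀ (g : G) {a b d : Ω}, R (g • a) (g • b) (g • d) → R a b d := fun g a b d h => by
    simpa using hsmul g⁻¹ h
  have hex : ∀ {a b : Ω}, a ≠ b → ∃ d, R a b d := by
    intro a b hab
    obtain ⟨g, ga, gb⟩ := htwo hαβ hab
    exact ⟨g • c, g, ga, gb, rfl⟩
  have hnot : ∀ {a b : Ω}, a ≠ b → ∃ d, d ≠ a ∧ d ≠ b ∧ ¬ R a b d := by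
    intro a b hab
    obtain ⟨g, ga, gb⟩ := htwo hαβ hab
    refine ⟨g • c', ga ▸ (MulAction.injective g).ne hc'.1, gb ▸ (MulAction.injective g).ne hc'.2, ?_⟩
    intro h
    rw [← ga, ← gb] at h
    obtain ⟨k, ka, kb, kc⟩ := hsmul' g h
    exact hcc k ka kb kc
  have horb : ∀ {a b d a' b' d' : Ω}, a ≠ b → d ≠ a ∧ d ≠ b → a' ≠ b' → d' ≠ a' ∧ d' ≠ b' →
      (R a b d ↔ R a' b' d') → ∃ g : G, g • a = a' ∧ g • b = b' ∧ g • d = d' := by
    intro a b d a' b' d' hab hd hab' hd' h
    obtain ⟨g, ga, gb⟩ := htwo hab hab'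
    have hiff : R a' b' (g • d) ↔ R a b d := by
      rw [← ga, ← gb]; exact ⟨hsmul' g, hsmul g⟩
    obtain ⟨k, ka, kb, kd⟩ := exists_smul_of_iff h6 hsmul hne hab' (hex hab') (hnot hab')
      (d := g • d) ⟨ga ▸ (MulAction.injective g).ne hd.1, gb ▸ (MulAction.injective g).ne hd.2⟩ hd'
      (hiff.trans h)
    exact ⟨k * g, by rw [mul_smul, ga, ka], by rw [mul_smul, gb, kb], by rw [mul_smul, kd]⟩
  have hodd : ∀ n : ℕ, n + n ≠ p - 2 := fun n hn => by
    obtain ⟨t, ht⟩ := (Fact.out : p.Prime).odd_of_ne_two (by omega)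
    omega
  -- the two symmetries
  have hcount : ∀ (f : Ω → Ω → Ω → Prop), ∀ {a b : Ω}, a ≠ b →
      (∀ x, x ≠ a → x ≠ b → (f a b x ↔ ¬ R a b x)) → (∀ x, f a b x → x ≠ a ∧ x ≠ b) →
      (Finset.univ.filter fun x => R a b x).card + (Finset.univ.filter fun x => f a b x).card =
        p - 2 := by
    intro f a b hab hf hf'
    rw [← Finset.card_union_of_disjoint (by
      rw [Finset.disjoint_filter]; intro x _ hx hx'
      exact (hf x (hf' x hx').1 (hf' x hx').2).1 hx' hx)]
    rw [show (Finset.univ.filter fun x => R a b x) ∪ (Finset.univ.filter fun x => f a b x) =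
      Finset.univ \ {a, b} by
        ext x
        simp only [Finset.mem_union, Finset.mem_filter, Finset.mem_univ, true_and,
          Finset.mem_sdiff, Finset.mem_insert, Finset.mem_singleton, not_or]
        constructor
        · rintro (h | h)
          · exact ⟨(hne h).2.1.symm, (hne h).2.2.symm⟩
          · exact hf' x h
        · rintro ⟨hxa, hxb⟩
          rw [hf x hxa hxb]; exact em _,
      Finset.card_sdiff_of_subset (Finset.subset_univ _), Finset.card_pair hab, Finset.card_univ, hα]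
  have hdeg : ∀ {a b a' b' : Ω}, a ≠ b → a' ≠ b' →
      (Finset.univ.filter fun x => R a b x).card = (Finset.univ.filter fun x => R a' b' x).card := by
    intro a b a' b' hab hab'
    obtain ⟨g, ga, gb⟩ := htwo hab hab'
    refine Finset.card_equiv (MulAction.toPerm g) fun x => ?_
    simp only [Finset.mem_filter, Finset.mem_univ, true_and, MulAction.toPerm_apply]
    rw [← ga, ← gb]
    exact ⟨hsmul g, hsmul' g⟩
  have h12 : ∀ {a b d : Ω}, R a b d → R b a d := by
    intro a b d hR
    by_contra hn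
    obtain ⟨hab, had, hbd⟩ := hne hR
    have hsw : ∀ x, x ≠ a → x ≠ b → (R b a x ↔ ¬ R a b x) := by
      intro x hxa hxb
      constructor
      · intro h1 h2
        obtain ⟨g, ga, gb, gd⟩ := horb hab ⟨hxa, hxb⟩ hab ⟨had.symm, hbd.symm⟩ (iff_of_true h2 hR)
        have := hsmul g h1
        rw [ga, gb, gd] at this
        exact hn this
      · intro h2
        obtain ⟨g, gb, ga, gd⟩ := horb hab.symm (d := d) ⟨hbd.symm, had.symm⟩ hab ⟨hxa, hxb⟩
          (iff_of_false hn h2)
        have := hsmul g hR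
        rwa [gb, ga, gd] at this
    have h1 := hcount (fun u v x => R v u x) hab hsw
      fun x hx => ⟨(hne hx).2.2.symm, (hne hx).2.1.symm⟩
    have h2 := hdeg hab.symm hab
    refine hodd (Finset.univ.filter fun x => R a b x).card ?_
    convert h1 using 2
    convert h2.symm using 3
  have h23 : ∀ {a b d : Ω}, R a b d → R a d b := by
    intro a b d hR
    by_contra hn
    obtain ⟨hab, had, hbd⟩ := hne hR
    have hsw : ∀ u v, u ≠ a → v ≠ a → u ≠ v → (R a v u ↔ ¬ R a u v) := by
      intro u v hu hv huv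
      constructor
      · intro h1 h2
        obtain ⟨g, ga, gb, gd⟩ := horb hu.symm (d := v) ⟨hv, huv.symm⟩ hab (d' := d)
          ⟨had.symm, hbd.symm⟩ (iff_of_true h2 hR)
        have := hsmul g h1
        rw [ga, gb, gd] at this
        exact hn this
      · intro h2
        obtain ⟨g, ga, gd, gb⟩ := horb had (d := b) ⟨hab.symm, hbd⟩ hu.symm (d' := v)
          ⟨hv, huv.symm⟩ (iff_of_false hn h2)
        have := hsmul g hR
        rwa [ga, gb, gd] at this
    set n := (Finset.univ.filter fun x => R a b x).card with hn'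
    set P : Finset (Ω × Ω) := Finset.univ.filter fun q => R a q.1 q.2 with hP
    set P' : Finset (Ω × Ω) := Finset.univ.filter fun q => R a q.2 q.1 with hP'
    have hPP : P.card = P'.card := Finset.card_equiv (Equiv.prodComm _ _) fun q => by simp [hP, hP']
    have hPn : P.card = (p - 1) * n := by
      rw [hP, Finset.card_filter, Fintype.sum_prod_type,
        ← Finset.add_sum_erase _ _ (Finset.mem_univ a),
        Finset.sum_eq_zero (s := (Finset.univ : Finset Ω)) (fun x _ => if_neg fun hx => (hne hx).1 rfl),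
        zero_add, Finset.sum_congr rfl (g := fun _ => n) fun u hu => by
          rw [hn', ← hdeg (Finset.ne_of_mem_erase hu).symm hab, Finset.card_filter],
        Finset.sum_const, Finset.card_erase_of_mem (Finset.mem_univ a), Finset.card_univ, hα,
        smul_eq_mul]
    have hunion : P ∪ P' = (Finset.univ.erase a).offDiag := by
      ext ⟨u, v⟩
      simp only [hP, hP', Finset.mem_union, Finset.mem_filter, Finset.mem_univ, true_and,
        Finset.mem_offDiag, Finset.mem_erase, and_true]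
      constructor
      · rintro (h | h)
        · exact ⟨(hne h).1.symm, (hne h).2.1.symm, (hne h).2.2⟩
        · exact ⟨(hne h).2.1.symm, (hne h).1.symm, (hne h).2.2.symm⟩
      · rintro ⟨hu, hv, huv⟩
        rw [hsw u v hu hv huv]; exact em _
    have hdisj : Disjoint P P' := by
      rw [hP, hP', Finset.disjoint_filter]
      intro q _ h h'
      obtain ⟨h1, h2, h3⟩ := hne h
      exact (hsw q.1 q.2 h1.symm h2.symm h3).1 h' h
    have := congrArg Finset.card hunion
    rw [Finset.card_union_of_disjoint hdisj, ← hPP, hPn, Finset.offDiag_card,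
      Finset.card_erase_of_mem (Finset.mem_univ a), Finset.card_univ, hα] at this
    apply hodd n
    refine Nat.eq_of_mul_eq_mul_left (show 0 < p - 1 by omega) ?_
    rw [mul_add, this, Nat.mul_sub (p - 1) p 2]
    obtain ⟨p', rfl⟩ : ∃ p', p = p' + 3 := ⟨p - 3, by omega⟩
    simp only [show p' + 3 - 1 = p' + 2 from rfl]
    have : (p' + 2) * (p' + 3) = (p' + 2) * (p' + 2) + (p' + 2) := by ring
    omega
  exact ⟨R, hne, hsmul, h12, h23, hex, hnot, horb⟩

/-- The parameters of the graph `R o · ·` on the points other than `o`. -/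
structure IsParams (R : Ω → Ω → Ω → Prop) [∀ a b d, Decidable (R a b d)] (o : Ω) (p k l μ : ℕ) :
    Prop where
  deg : ∀ a, a ≠ o → (Finset.univ.filter fun x => R o a x).card = k
  adj : ∀ a b, R o a b → (Finset.univ.filter fun x => R o a x ∧ R o b x).card = l
  nadj : ∀ a b, a ≠ o → b ≠ o → a ≠ b → ¬ R o a b →
    (Finset.univ.filter fun x => R o a x ∧ R o b x).card = μ
  count : k * k = k + k * l + (p - 2 - k) * μ
  mu_pos : 0 < μ
  mu_lt : μ < k
  k_lt : k < p - 2

theorem IsTripleRel.exists_params {R : Ω → Ω → Ω → Prop} [∀ a b d, Decidable (R a b d)]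
    (hR : IsTripleRel G R) (hα : Fintype.card Ω = p) (o : Ω)
    (hblock : ∀ {β : Ω}, o ≠ β → ∀ {B : Set Ω}, o ∉ B → β ∈ B →
      (∀ g : G, g • o = o → ∀ x ∈ B, g • x ∈ B → ∀ y ∈ B, g • y ∈ B) →
      (∀ d ∈ B, d = β) ∨ ∀ d, d ≠ o → d ∈ B) :
    ∃ k l μ, IsParams R o p k l μ := by
  classical
  have : Nontrivial Ω := Fintype.one_lt_card_iff_nontrivial.1 (hα ▸ (Fact.out : p.Prime).one_lt)
  obtain ⟨a₀, ha₀⟩ := exists_ne o
  obtain ⟨b₁, hb₁⟩ := hR.exists_mem ha₀.symm
  obtain ⟨b₂, hb₂o, hb₂a, hb₂⟩ := hR.exists_notMem ha₀.symm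
  set k := (Finset.univ.filter fun x => R o a₀ x).card with hk
  set l := (Finset.univ.filter fun x => R o a₀ x ∧ R o b₁ x).card with hl
  set μ := (Finset.univ.filter fun x => R o a₀ x ∧ R o b₂ x).card with hμ
  have hpair : ∀ {a b a' b' : Ω}, o ≠ a → b ≠ o ∧ b ≠ a → o ≠ a' → b' ≠ o ∧ b' ≠ a' →
      (R o a b ↔ R o a' b') →
      (Finset.univ.filter fun x => R o a x).card = (Finset.univ.filter fun x => R o a' x).card ∧
      (Finset.univ.filter fun x => R o a x ∧ R o b x).card =
        (Finset.univ.filter fun x => R o a' x ∧ R o b' x).card := by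
    intro a b a' b' ha hb ha' hb' hiff
    obtain ⟨g, go, ga, gb⟩ := hR.orb ha hb ha' hb' hiff
    constructor <;> refine Finset.card_equiv (MulAction.toPerm g) fun x => ?_ <;>
      simp only [Finset.mem_filter, Finset.mem_univ, true_and, MulAction.toPerm_apply] <;>
      nth_rewrite 1 [← hR.smul_iff g] <;> [skip; nth_rewrite 2 [← hR.smul_iff g]] <;>
      simp only [go, ga, gb]
  have hdeg : ∀ a, a ≠ o → (Finset.univ.filter fun x => R o a x).card = k := by
    intro a ha
    obtain ⟨b, hb⟩ := hR.exists_mem ha.symm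
    exact (hpair ha.symm ⟨(hR.ne hb).2.1.symm, (hR.ne hb).2.2.symm⟩ ha₀.symm
      ⟨(hR.ne hb₁).2.1.symm, (hR.ne hb₁).2.2.symm⟩ (iff_of_true hb hb₁)).1
  have hadj : ∀ a b, R o a b → (Finset.univ.filter fun x => R o a x ∧ R o b x).card = l :=
    fun a b hab => (hpair (hR.ne hab).1 ⟨(hR.ne hab).2.1.symm, (hR.ne hab).2.2.symm⟩ ha₀.symm
      ⟨(hR.ne hb₁).2.1.symm, (hR.ne hb₁).2.2.symm⟩ (iff_of_true hab hb₁)).2
  have hnadj : ∀ a b, a ≠ o → b ≠ o → a ≠ b → ¬ R o a b →
      (Finset.univ.filter fun x => R o a x ∧ R o b x).card = μ :=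
    fun a b ha hb hab hn => (hpair ha.symm ⟨hb, hab.symm⟩ ha₀.symm ⟨hb₂o, hb₂a⟩
      (iff_of_false hn hb₂)).2
  have hklt : k < p - 2 := by
    have hlt : k < (Finset.univ \ ({o, a₀} : Finset Ω)).card := by
      rw [hk]
      refine Finset.card_lt_card ⟨fun x hx => ?_, fun hsub => hb₂ ?_⟩
      · have h := hR.ne (Finset.mem_filter.1 hx).2
        simp [h.2.1.symm, h.2.2.symm]
      · exact (Finset.mem_filter.1 (hsub (by simp [hb₂o, hb₂a]))).2
    rwa [Finset.card_sdiff_of_subset (Finset.subset_univ _), Finset.card_pair ha₀.symm,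
      Finset.card_univ, hα] at hlt
  have hcount : k * k = k + k * l + (p - 2 - k) * μ := by
    set F := Finset.univ.filter fun x => R o a₀ x with hF
    set M := Finset.univ \ insert o (insert a₀ F) with hM
    have e1 : ∑ b, (Finset.univ.filter fun x => R o a₀ x ∧ R o b x).card = k * k := by
      simp only [Finset.card_filter]
      rw [Finset.sum_comm, Finset.sum_congr rfl (g := fun x => if R o a₀ x then k else 0) fun x _ => by
        by_cases hx : R o a₀ x
        · rw [if_pos hx, ← hdeg x (hR.ne hx).2.1.symm, Finset.card_filter]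
          refine Finset.sum_congr rfl fun b _ => ?_
          simp only [hx, true_and]
          exact if_congr ⟨hR.swap₂₃, hR.swap₂₃⟩ rfl rfl
        · simp [hx]]
      rw [← Finset.sum_filter, Finset.sum_const, smul_eq_mul]
    have hoF : o ∉ insert a₀ F := by
      simp only [Finset.mem_insert, hF, Finset.mem_filter, Finset.mem_univ, true_and, not_or]
      exact ⟨ha₀.symm, fun h => (hR.ne h).2.1 rfl⟩
    have haF : a₀ ∉ F := by
      simp only [hF, Finset.mem_filter, Finset.mem_univ, true_and]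
      exact fun h => (hR.ne h).2.2 rfl
    rw [← e1, ← Finset.sum_sdiff (Finset.subset_univ (insert o (insert a₀ F))),
      Finset.sum_insert hoF, Finset.sum_insert haF, ← hM,
      Finset.sum_congr rfl (s₁ := M) (g := fun _ => μ) fun b hb => by
        simp only [hM, Finset.mem_sdiff, Finset.mem_univ, true_and, Finset.mem_insert, hF,
          Finset.mem_filter, not_or] at hb
        exact hnadj a₀ b ha₀ hb.1 (Ne.symm hb.2.1) hb.2.2,
      Finset.sum_congr rfl (s₁ := F) (g := fun _ => l) fun b hb =>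
        hadj a₀ b (Finset.mem_filter.1 hb).2,
      Finset.sum_const, Finset.sum_const, smul_eq_mul, smul_eq_mul]
    have hMc : M.card = p - 2 - k := by
      rw [hM, Finset.card_sdiff_of_subset (Finset.subset_univ _), Finset.card_insert_of_notMem hoF,
        Finset.card_insert_of_notMem haF, Finset.card_univ, hα]
      omega
    have ho : (Finset.univ.filter fun x => R o a₀ x ∧ R o o x).card = 0 := by
      rw [Finset.card_eq_zero, Finset.filter_eq_empty_iff]
      exact fun x _ h => (hR.ne h.2).1 rfl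
    have ha : (Finset.univ.filter fun x => R o a₀ x ∧ R o a₀ x).card = k := by
      simp only [and_self]; rfl
    rw [hMc, ho, ha]
    ring
  have hblock' : ∀ (Q : Ω → Prop), Q a₀ → ¬ Q o →
      (∀ g : G, g • o = o → ∀ x, Q x → Q (g • x) → ∀ y, Q y → Q (g • y)) →
      (∀ d, Q d → d = a₀) ∨ ∀ d, d ≠ o → Q d := fun Q h1 h2 h3 =>
    hblock (B := {x | Q x}) ha₀.symm h2 h1 fun g hg x hx hgx y hy => h3 g hg x hx hgx y hy
  have hμ0 : 0 < μ := by
    rw [Nat.pos_iff_ne_zero]
    intro h0
    -- adjacency would be transitive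
    have htr : ∀ a b d, R o a b → R o b d → a ≠ d → R o a d := by
      intro a b d h1 h2 had
      by_contra hn
      have := hnadj a d (hR.ne h1).1.symm (hR.ne h2).2.1.symm had hn
      rw [h0, Finset.card_eq_zero, Finset.filter_eq_empty_iff] at this
      exact this (Finset.mem_univ b) ⟨h1, hR.swap₂₃ h2⟩
    let E : Ω → Ω → Prop := fun a b => a = b ∨ R o a b
    have hsymm : ∀ {a b}, E a b → E b a := by
      rintro a b (rfl | h)
      exacts [Or.inl rfl, Or.inr (hR.swap₂₃ h)]
    have htrans : ∀ {a b d}, E a b → E b d → E a d := by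
      rintro a b d (rfl | h) h'
      · exact h'
      rcases h' with rfl | h'
      · exact Or.inr h
      by_cases had : a = d
      exacts [Or.inl had, Or.inr (htr a b d h h' had)]
    have hmap : ∀ g : G, g • o = o → ∀ {a b}, E a b → E (g • a) (g • b) := by
      rintro g hg a b (rfl | h)
      · exact Or.inl rfl
      · refine Or.inr ?_
        have := hR.smul g h
        rwa [hg] at this
    rcases hblock' (fun x => E a₀ x) (Or.inl rfl)
      (by rintro (h | h); exacts [ha₀ h, (hR.ne h).2.1 rfl])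
      (fun g hg x hx hgx y hy => htrans hgx (hmap g hg (htrans (hsymm hx) hy))) with h | h
    · exact (hR.ne hb₁).2.2 (h b₁ (Or.inr hb₁)).symm
    · rcases h b₂ hb₂o with h1 | h1
      exacts [hb₂a h1.symm, hb₂ h1]
  have hμk : μ < k := by
    refine lt_of_le_of_ne (Finset.card_le_card fun x hx => by simp at hx ⊢; exact hx.1) fun h0 => ?_
    have hsame : ∀ a b, a ≠ o → b ≠ o → a ≠ b → ¬ R o a b → ∀ x, R o a x → R o b x := by
      intro a b ha hb hab hn x hx
      have hsub : (Finset.univ.filter fun y => R o a y ∧ R o b y) ⊆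
          Finset.univ.filter fun y => R o a y := fun y hy => by simp at hy ⊢; exact hy.1
      have heq := Finset.eq_of_subset_of_card_le hsub (by rw [hnadj a b ha hb hab hn, hdeg a ha]; exact h0.ge)
      have : x ∈ Finset.univ.filter fun y => R o a y := by simp [hx]
      rw [← heq] at this
      exact (Finset.mem_filter.1 this).2.2
    let E : Ω → Ω → Prop := fun a b => a ≠ o ∧ b ≠ o ∧ ¬ R o a b
    have hsymm : ∀ {a b}, E a b → E b a := fun ⟨h1, h2, h3⟩ => ⟨h2, h1, fun h => h3 (hR.swap₂₃ h)⟩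
    have htrans : ∀ {a b d}, E a b → E b d → E a d := by
      rintro a b d ⟨h1, h2, h3⟩ ⟨-, h5, h6⟩
      refine ⟨h1, h5, fun h => ?_⟩
      by_cases hab : a = b
      · exact h6 (hab ▸ h)
      · exact h6 (hsame a b h1 h2 hab h3 d h)
    have hmap : ∀ g : G, g • o = o → ∀ {a b}, E a b → E (g • a) (g • b) := by
      rintro g hg a b ⟨h1, h2, h3⟩
      refine ⟨hg ▸ (MulAction.injective g).ne h1, hg ▸ (MulAction.injective g).ne h2, fun h => h3 ?_⟩
      rwa [← hR.smul_iff g, hg]
    rcases hblock' (fun x => E a₀ x) ⟨ha₀, ha₀, fun h => (hR.ne h).2.2 rfl⟩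
      (fun h => h.2.1 rfl)
      (fun g hg x hx hgx y hy => htrans hgx (hmap g hg (htrans (hsymm hx) hy))) with h | h
    · exact hb₂a (h b₂ ⟨ha₀, hb₂o, hb₂⟩)
    · exact (h b₁ (hR.ne hb₁).2.1.symm).2.2 hb₁
  exact ⟨k, l, μ, hdeg, hadj, hnadj, hcount, hμ0, hμk, hklt⟩

/-- For `p ≡ 1 (mod 4)` the coordinate function rules out a graph with these parameters. -/
theorem false_of_one_mod_four {R : Ω → Ω → Ω → Prop} [∀ a b d, Decidable (R a b d)]
    (hR : IsTripleRel G R) (hp : 7 < p) (hp1 : p % 4 = 1) (σ s : G) (e : ZMod p ≃ Ω)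
    (he : Perm.IsCoord σ e) (c : (ZMod p)ˣ) (hc : 2 * orderOf c = p - 1)
    (hs : ∀ j, s • e j = e ((c : ZMod p) * j)) {k l μ : ℕ} (hP : IsParams R (e 0) p k l μ) :
    False := by
  classical
  let x : Ω → ZMod p := fun a => e.symm a
  let M : Ω → Ω → ZMod p := fun b d => ∑ a, if R b d a then x a else 0
  have hshift : ∀ (n : ℕ) (b d : Ω), M (σ ^ n • b) (σ ^ n • d) =
      M b d + n * ((Finset.univ.filter fun a => R b d a).card : ZMod p) := by
    intro n b d
    simp only [M]
    rw [← Equiv.sum_comp (MulAction.toPerm (σ ^ n)), Finset.card_filter, Nat.cast_sum, Finset.mul_sum,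
      ← Finset.sum_add_distrib]
    refine Finset.sum_congr rfl fun a _ => ?_
    simp only [MulAction.toPerm_apply, hR.smul_iff]
    obtain ⟨j, rfl⟩ := e.surjective a
    simp only [x, he.pow_smul, Equiv.symm_apply_apply]
    split_ifs <;> simp
  have hhalf : (c : ZMod p) ^ (orderOf c / 2) = -1 := by
    have h2 : orderOf c / 2 * 2 = orderOf c := by omega
    have hsq : ((c : ZMod p) ^ (orderOf c / 2)) * ((c : ZMod p) ^ (orderOf c / 2)) = 1 := by
      rw [← pow_add, ← mul_two, h2, ← Units.val_pow_eq_pow_val, pow_orderOf_eq_one, Units.val_one]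
    refine (mul_self_eq_one_iff.1 hsq).resolve_left fun h => ?_
    rw [← Units.val_pow_eq_pow_val, Units.val_eq_one] at h
    exact pow_ne_one_of_lt_orderOf (by omega) (by omega) h
  have hspow : ∀ (n : ℕ) j, s ^ n • e j = e ((c : ZMod p) ^ n * j) := by
    intro n
    induction n with
    | zero => simp
    | succ n ih => intro j; rw [pow_succ', mul_smul, ih, hs, pow_succ', mul_assoc]
  have hscale : ∀ t, M (e 0) (e (-t)) = - M (e 0) (e t) := by
    intro t
    simp only [M]
    rw [← Equiv.sum_comp (MulAction.toPerm (s ^ (orderOf c / 2))), ← Finset.sum_neg_distrib]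
    refine Finset.sum_congr rfl fun a _ => ?_
    obtain ⟨j, rfl⟩ := e.surjective a
    simp only [MulAction.toPerm_apply, hspow, hhalf, neg_one_mul]
    have := hR.smul_iff (s ^ (orderOf c / 2)) (a := e 0) (b := e t) (d := e j)
    simp only [hspow, hhalf, neg_one_mul, neg_zero] at this
    rw [if_congr this rfl rfl]
    split_ifs <;> simp [x]
  have hMsymm : ∀ b d, M b d = M d b := fun b d =>
    Finset.sum_congr rfl fun a _ => if_congr ⟨hR.swap₁₂, hR.swap₁₂⟩ rfl rfl
  have hA : ∀ t : ZMod p, t ≠ 0 → 2 * M (e 0) (e t) = (k : ZMod p) * t := by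
    intro t ht
    have h1 := hshift t.val (e 0) (e (-t))
    rw [he.pow_smul, he.pow_smul, ZMod.natCast_val, ZMod.cast_id, zero_add, neg_add_cancel,
      hscale, hMsymm, hP.deg _ (by simpa using fun h => ht (neg_eq_zero.1 (e.injective h)))] at h1
    linear_combination h1
  set o := e 0
  set t₀ := e 1
  have ht₀ : t₀ ≠ o := fun h => one_ne_zero (e.injective h)
  have hxo : x o = 0 := by simp [x, o]
  have hx1 : x t₀ = 1 := by simp [x, t₀]
  have hA1 : 2 * M o t₀ = (k : ZMod p) := by simpa using hA 1 one_ne_zero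
  have hsum : ∑ a, x a = 0 := by
    rw [Equiv.sum_comp e.symm (fun j : ZMod p => j)]
    simpa using FiniteField.sum_pow_lt_card_sub_one (K := ZMod p) 1 (by rw [ZMod.card]; omega)
  let N : Ω → ℕ := fun y => (Finset.univ.filter fun a => R o t₀ a ∧ R o y a).card
  have e1 : ∑ a, (if R o t₀ a then M o a else 0) = ∑ y, x y * (N y : ZMod p) := by
    simp only [M, N, Finset.card_filter, Nat.cast_sum, Finset.mul_sum]
    rw [Finset.sum_comm (γ := Ω) (f := fun y a => x y * ((if R o t₀ a ∧ R o y a then 1 else 0 : ℕ) : ZMod p))]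
    refine Finset.sum_congr rfl fun a _ => ?_
    split_ifs with h
    · refine Finset.sum_congr rfl fun y _ => ?_
      simp only [h, true_and]
      by_cases hy : R o a y
      · rw [if_pos hy, if_pos (hR.swap₂₃ hy)]; simp
      · rw [if_neg hy, if_neg (fun h' => hy (hR.swap₂₃ h'))]; simp
    · simp [h]
  have e2 : 4 * ∑ a, (if R o t₀ a then M o a else 0) = (k : ZMod p) * k := by
    have : (2 : ZMod p) * ∑ a, (if R o t₀ a then M o a else 0) = (k : ZMod p) * M o t₀ := by
      simp only [M] at hA ⊢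
      rw [Finset.mul_sum, Finset.mul_sum]
      refine Finset.sum_congr rfl fun a _ => ?_
      split_ifs with h
      · obtain ⟨j, rfl⟩ := e.surjective a
        rw [hA j (fun h0 => (hR.ne h).2.1 (by rw [h0]))]
        simp [x]
      · simp
    linear_combination 2 * this + (k : ZMod p) * hA1
  have e3 : ∑ y, x y * (N y : ZMod p) =
      ((k : ZMod p) - μ) + ((l : ZMod p) - μ) * M o t₀ := by
    have hval : ∀ y, x y * (N y : ZMod p) = x y * (μ : ZMod p) +
        (if y = t₀ then ((k : ZMod p) - μ) else 0) +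
        ((l : ZMod p) - μ) * (if R o t₀ y then x y else 0) := by
      intro y
      by_cases hyo : y = o
      · subst hyo
        have : ¬ R o t₀ o := fun h => (hR.ne h).2.1 rfl
        simp [hxo, this, Ne.symm ht₀]
      by_cases hy : y = t₀
      · subst hy
        have h1 : ¬ R o t₀ t₀ := fun h => (hR.ne h).2.2 rfl
        have h2 : N t₀ = k := by simp only [N, and_self]; exact hP.deg t₀ ht₀
        simp only [h2, hx1, if_pos, if_neg h1]; ring
      by_cases hRy : R o t₀ y
      · rw [show N y = l from hP.adj t₀ y hRy, if_neg hy, if_pos hRy]; ring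
      · rw [show N y = μ from hP.nadj t₀ y ht₀ hyo (Ne.symm hy) hRy, if_neg hy, if_neg hRy]; ring
    simp only [hval, Finset.sum_add_distrib, ← Finset.sum_mul, hsum, zero_mul, zero_add,
      Finset.sum_ite_eq', Finset.mem_univ, if_true, ← Finset.mul_sum]
    rfl
  have hcount : (k : ZMod p) * k = k + k * l + (-2 - k) * μ := by
    have := congrArg (Nat.cast (R := ZMod p)) hP.count
    rw [Nat.cast_mul, Nat.cast_add, Nat.cast_add, Nat.cast_mul, Nat.cast_mul,
      Nat.cast_sub (show k ≤ p - 2 from hP.k_lt.le), Nat.cast_sub (show 2 ≤ p by omega),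
      ZMod.natCast_self] at this
    linear_combination this
  have key : (k : ZMod p) * (k + 2) = 0 := by
    linear_combination (2 : ZMod p) * hcount + e2 - 4 * e1 - 4 * e3 -
      (2 * (l : ZMod p) - 2 * μ) * hA1
  rcases mul_eq_zero.1 key with h | h
  · rw [ZMod.natCast_eq_zero_iff] at h
    have := Nat.le_of_dvd (by have := hP.mu_lt; omega) h
    have := hP.k_lt
    omega
  · have h' : ((k + 2 : ℕ) : ZMod p) = 0 := by push_cast; exact h
    rw [ZMod.natCast_eq_zero_iff] at h'
    have := Nat.le_of_dvd (by omega) h'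
    have := hP.k_lt
    omega

/-- A permutation normalising the stabiliser of `o` preserves the relation at `o`. -/
theorem IsTripleRel.normalizer_iff {R : Ω → Ω → Ω → Prop} (hR : IsTripleRel G R)
    (hα : Fintype.card Ω = p) (hp : 2 < p) {o : Ω} {W : Equiv.Perm Ω} (hWo : W o = o)
    (hW : ∀ g : G, g • o = o → W * (g : Equiv.Perm Ω) * W⁻¹ ∈ G) (a b : Ω) :
    R o (W a) (W b) ↔ R o a b := by
  classical
  have hWne : ∀ {y}, y ≠ o → W y ≠ o := fun hy h => hy (W.injective (h.trans hWo.symm))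
  have htr : ∀ {a b a' b'}, a ≠ o → b ≠ o → a ≠ b → a' ≠ o → b' ≠ o → a' ≠ b' →
      (R o a b ↔ R o a' b') → (R o (W a) (W b) ↔ R o (W a') (W b')) := by
    intro a b a' b' ha hb hab ha' hb' hab' hiff
    obtain ⟨g, go, ga, gb⟩ := hR.orb ha.symm ⟨hb, hab.symm⟩ ha'.symm ⟨hb', hab'.symm⟩ hiff
    have key : ∀ y, (⟨_, hW g go⟩ : G) • W y = W (g • y) := fun y => by
      change (W * (g : Equiv.Perm Ω) * W⁻¹) (W y) = W (g • y)
      simp [Equiv.Perm.mul_apply, Subgroup.smul_def]
    have ko : (⟨_, hW g go⟩ : G) • o = o := by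
      conv_lhs => rw [← hWo]
      rw [key, go, hWo]
    rw [← hR.smul_iff ⟨_, hW g go⟩, ko, key, key, ga, gb]
  by_cases hb0 : a = o ∨ b = o ∨ a = b
  · refine iff_of_false (fun h => ?_) (fun h => ?_)
    · obtain ⟨h1, h2, h3⟩ := hR.ne h
      rcases hb0 with rfl | rfl | rfl
      exacts [h1 hWo.symm, h2 hWo.symm, h3 rfl]
    · obtain ⟨h1, h2, h3⟩ := hR.ne h
      rcases hb0 with rfl | rfl | rfl
      exacts [h1 rfl, h2 rfl, h3 rfl]
  simp only [not_or] at hb0
  obtain ⟨ha, hb, hab⟩ := hb0
  obtain ⟨b₁, hb₁⟩ := hR.exists_mem (Ne.symm ha)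
  obtain ⟨b₂, hb₂o, hb₂a, hb₂⟩ := hR.exists_notMem (Ne.symm ha)
  obtain ⟨-, h1o, h1a⟩ := hR.ne hb₁
  have hWa := hWne ha
  set K := (Finset.univ.filter fun x => R o (W a) x).card with hK
  have hKW : (Finset.univ.filter fun x => R o (W a) (W x)).card = K :=
    Finset.card_equiv W fun x => by simp
  have hKa : (Finset.univ.filter fun x => R o a x).card = K := by
    obtain ⟨d, hd⟩ := hR.exists_mem (Ne.symm hWa)
    obtain ⟨g, go, ga, -⟩ := hR.orb (Ne.symm ha) ⟨h1o.symm, h1a.symm⟩ (Ne.symm hWa)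
      ⟨(hR.ne hd).2.1.symm, (hR.ne hd).2.2.symm⟩ (iff_of_true hb₁ hd)
    refine Finset.card_equiv (MulAction.toPerm g) fun x => ?_
    simp only [Finset.mem_filter, Finset.mem_univ, true_and, MulAction.toPerm_apply]
    rw [← hR.smul_iff g, go, ga]
  have hadj : ∀ x, R o a x → (R o (W a) (W x) ↔ R o (W a) (W b₁)) := fun x hx =>
    htr ha (hR.ne hx).2.1.symm (hR.ne hx).2.2 ha h1o.symm h1a (iff_of_true hx hb₁)
  have hnadj : ∀ x, x ≠ o → x ≠ a → ¬ R o a x → (R o (W a) (W x) ↔ R o (W a) (W b₂)) :=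
    fun x hxo hxa hx => htr ha hxo (Ne.symm hxa) ha hb₂o (Ne.symm hb₂a) (iff_of_false hx hb₂)
  by_cases h1 : R o (W a) (W b₁)
  · have h2 : ¬ R o (W a) (W b₂) := fun h2 => by
      have hsub : (Finset.univ.filter fun x => R o a x) ⊆
          Finset.univ.filter fun x => R o (W a) (W x) := fun x hx => by
        simp only [Finset.mem_filter, Finset.mem_univ, true_and] at hx ⊢
        exact (hadj x hx).2 h1
      have heq := Finset.eq_of_subset_of_card_le hsub (by rw [hKW, hKa])
      have : b₂ ∈ Finset.univ.filter fun x => R o (W a) (W x) := by simp [h2]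
      rw [← heq] at this
      exact hb₂ (Finset.mem_filter.1 this).2
    by_cases hx : R o a b
    · exact iff_of_true ((hadj b hx).2 h1) hx
    · exact iff_of_false (fun h => h2 ((hnadj b hb (Ne.symm hab) hx).1 h)) hx
  · exfalso
    have hiff : ∀ x, x ≠ o → x ≠ a → (R o (W a) (W x) ↔ ¬ R o a x) := by
      intro x hxo hxa
      constructor
      · exact fun h hx => h1 ((hadj x hx).1 h)
      · intro hx
        refine (hnadj x hxo hxa hx).2 ?_
        by_contra h2
        have : (Finset.univ.filter fun y => R o (W a) (W y)) = ∅ := by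
          rw [Finset.filter_eq_empty_iff]
          intro y _ hy
          obtain ⟨-, hy1, hy2⟩ := hR.ne hy
          have hyo : y ≠ o := fun h => hy1 (h ▸ hWo.symm)
          have hya : y ≠ a := fun h => hy2 (h ▸ rfl)
          by_cases hay : R o a y
          · exact h1 ((hadj y hay).1 hy)
          · exact h2 ((hnadj y hyo hya hay).1 hy)
        rw [this, Finset.card_empty, ← hKa, eq_comm, Finset.card_eq_zero,
          Finset.filter_eq_empty_iff] at hKW
        exact hKW (Finset.mem_univ b₁) hb₁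
    have hsum : K + K = p - 2 := by
      nth_rewrite 1 [← hKa]
      rw [← hKW, ← Finset.card_union_of_disjoint (by
        rw [Finset.disjoint_filter]
        intro x _ hx hx'
        exact h1 ((hadj x hx).1 hx'))]
      rw [show (Finset.univ.filter fun x => R o a x) ∪ (Finset.univ.filter fun x => R o (W a) (W x)) =
        Finset.univ \ {o, a} by
          ext x
          simp only [Finset.mem_union, Finset.mem_filter, Finset.mem_univ, true_and, Finset.mem_sdiff,
            Finset.mem_insert, Finset.mem_singleton, not_or]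
          constructor
          · rintro (h | h) <;> obtain ⟨-, h2, h3⟩ := hR.ne h
            · exact ⟨h2.symm, h3.symm⟩
            · exact ⟨fun h => h2 (h ▸ hWo.symm), fun h => h3 (h ▸ rfl)⟩
          · rintro ⟨hxo, hxa⟩
            rw [hiff x hxo hxa]; exact em _,
        Finset.card_sdiff_of_subset (Finset.subset_univ _), Finset.card_pair (Ne.symm ha),
        Finset.card_univ, hα]
    obtain ⟨t, ht⟩ := (Fact.out : p.Prime).odd_of_ne_two (by omega)
    omega

/-- The circulant blocks of the graph at `o`, indexed by the two orbits `U`, `V` of the dilation. -/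
theorem isData_of_params {R : Ω → Ω → Ω → Prop} [∀ a b d, Decidable (R a b d)]
    (hR : IsTripleRel G R) {o : Ω} {m k l μ : ℕ} [NeZero m] (hP : IsParams R o p k l μ)
    (hpm : p = 2 * m + 1) (U V : ZMod m → Ω) (Φ : Option (ZMod m ⊕ ZMod m) ≃ Ω)
    (hΦo : Φ none = o) (hΦU : ∀ i, Φ (some (.inl i)) = U i) (hΦV : ∀ i, Φ (some (.inr i)) = V i)
    (hUU : ∀ i j, R o (U i) (U j) ↔ R o (U 0) (U (j - i)))
    (hVV : ∀ i j, R o (V i) (V j) ↔ R o (U 0) (U (j - i)))
    (hUV : ∀ i j, R o (U i) (V j) ↔ R o (U 0) (V (j - i))) :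
    Circulant.IsData (fun i => if R o (U 0) (U i) then (1 : ℤ) else 0)
      (fun i => if R o (U 0) (V i) then (1 : ℤ) else 0) k ((l : ℤ) - μ) μ := by
  classical
  set C : ZMod m → ℤ := fun i => if R o (U 0) (U i) then 1 else 0 with hC
  set D : ZMod m → ℤ := fun i => if R o (U 0) (V i) then 1 else 0 with hD
  have hUne : ∀ i, U i ≠ o := fun i h => by
    rw [← hΦU, ← hΦo] at h; exact absurd (Φ.injective h) (by simp)
  have hVne : ∀ i, V i ≠ o := fun i h => by
    rw [← hΦV, ← hΦo] at h; exact absurd (Φ.injective h) (by simp)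
  have hUinj : ∀ i j, U i = U j → i = j := fun i j h => by
    rw [← hΦU, ← hΦU] at h; simpa using Φ.injective h
  have hUVne : ∀ i j, U i ≠ V j := fun i j h => by
    rw [← hΦU, ← hΦV] at h; simpa using Φ.injective h
  have hsum : ∀ f : Ω → ℤ, ∑ x, f x = f o + ((∑ i, f (U i)) + ∑ i, f (V i)) := fun f => by
    rw [← Equiv.sum_comp Φ, Fintype.sum_option, Fintype.sum_sum_type]
    simp only [hΦo, hΦU, hΦV]
  have hCs : ∀ i, C (-i) = C i := fun i => by
    have hiff : R o (U 0) (U (-i)) ↔ R o (U 0) (U i) := by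
      rw [show -i = 0 - i from (zero_sub i).symm, ← hUU i 0]
      exact ⟨hR.swap₂₃, hR.swap₂₃⟩
    simp only [hC]
    exact if_congr hiff rfl rfl
  have hN : ∀ a, ((Finset.univ.filter fun x => R o (U 0) x ∧ R o a x).card : ℤ) =
      (∑ i, C i * (if R o a (U i) then 1 else 0)) + ∑ i, D i * (if R o a (V i) then 1 else 0) := by
    intro a
    rw [Finset.card_filter, Nat.cast_sum, hsum]
    have h0 : ¬ (R o (U 0) o ∧ R o a o) := fun h => (hR.ne h.1).2.1 rfl
    rw [if_neg h0, Nat.cast_zero, zero_add]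
    congr 1 <;> refine Finset.sum_congr rfl fun i _ => ?_
    · by_cases h1 : R o (U 0) (U i) <;> by_cases h2 : R o a (U i) <;> simp [hC, h1, h2]
    · by_cases h1 : R o (U 0) (V i) <;> by_cases h2 : R o a (V i) <;> simp [hD, h1, h2]
  refine ⟨?_, hCs, fun g => ?_, fun g => ?_, ?_, ?_, ?_, ?_, ?_, ?_⟩
  · simp only [hC]
    rw [if_neg (fun h => (hR.ne h).2.2 rfl)]
  · simp only [hC]; split_ifs <;> simp
  · simp only [hD]; split_ifs <;> simp
  · rw [← hP.deg (U 0) (hUne 0), Finset.card_filter, Nat.cast_sum, hsum]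
    have h0 : ¬ R o (U 0) o := fun h => (hR.ne h).2.1 rfl
    rw [if_neg h0, Nat.cast_zero, zero_add]
    simp only [Circulant.total, Circulant.coeff_ofFun, hC, hD]
    congr 1 <;> exact Finset.sum_congr rfl fun i _ => by split_ifs <;> simp
  · refine Circulant.ext_coeff fun g => ?_
    rw [AddMonoidAlgebra.coeff_add, Finsupp.add_apply, Circulant.coeff_mul_sum,
      Circulant.coeff_mul_sum, AddMonoidAlgebra.coeff_add, Finsupp.add_apply,
      AddMonoidAlgebra.coeff_add, Finsupp.add_apply, Circulant.coeff_smul_int,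
      Circulant.coeff_smul_int, Circulant.coeff_single_zero_int]
    simp only [Circulant.coeff_ofFun, Circulant.coeff_allOne, mul_one]
    have e : (∑ a, C a * C (g - a)) + ∑ a, D a * D (-(g - a)) =
        ((Finset.univ.filter fun x => R o (U 0) x ∧ R o (U g) x).card : ℤ) := by
      rw [hN]
      congr 1 <;> refine Finset.sum_congr rfl fun a _ => ?_
      · rw [← hCs (g - a), neg_sub]
        simp only [hC, hUU g a]
      · rw [neg_sub]
        simp only [hD, hUV g a]
    rw [e]
    by_cases hg : g = 0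
    · subst hg
      simp only [and_self, hP.deg (U 0) (hUne 0), hC]
      rw [if_neg (fun h => (hR.ne h).2.2 rfl)]
      simp
    by_cases hRg : R o (U 0) (U g)
    · simp [hC, hP.adj _ _ hRg, hg, hRg]
    · simp [hC, hP.nadj _ _ (hUne 0) (hUne g) (fun h => hg (hUinj _ _ h).symm) hRg, hg, hRg]
  · refine Circulant.ext_coeff fun g => ?_
    rw [Circulant.coeff_smul_int, Circulant.coeff_mul_sum, AddMonoidAlgebra.coeff_add,
      Finsupp.add_apply, Circulant.coeff_smul_int, Circulant.coeff_smul_int]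
    simp only [Circulant.coeff_ofFun, Circulant.coeff_allOne, mul_one]
    have e : 2 * (∑ a, C a * D (g - a)) =
        ((Finset.univ.filter fun x => R o (U 0) x ∧ R o (V g) x).card : ℤ) := by
      rw [hN, two_mul]
      congr 1
      · refine Finset.sum_congr rfl fun a _ => ?_
        simp only [hC, hD]
        congr 1
        refine if_congr ?_ rfl rfl
        rw [← hUV a g]
        exact ⟨hR.swap₂₃, hR.swap₂₃⟩
      · rw [← Equiv.sum_comp (Equiv.subLeft g)]
        refine Finset.sum_congr rfl fun a _ => ?_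
        simp only [Equiv.subLeft_apply, sub_sub_cancel]
        rw [mul_comm]
        congr 1
        rw [← hCs (g - a), neg_sub]
        simp only [hC, hVV g a]
    rw [e]
    by_cases hRg : R o (U 0) (V g)
    · simp [hD, hP.adj _ _ hRg, hRg]
    · simp [hD, hP.nadj _ _ (hUne 0) (hVne g) (hUVne 0 g) hRg, hRg]
  · exact_mod_cast hP.mu_pos
  · exact_mod_cast hP.mu_lt
  · have := hP.k_lt
    omega

/-- A nonsoluble group of prime degree with a dilation of order `(p - 1) / 2` is triply transitive,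
given for `p ≡ 3 (mod 4)` an odd permutation normalising a point stabiliser and inverting the
dilation. -/
theorem three_transitive [IsPretransitive G Ω] [DecidableEq Ω] (hα : Fintype.card Ω = p)
    (hG : ¬ Group.IsSolvable G) (hp : 7 < p) (σ s : G) (e : ZMod p ≃ Ω) (he : Perm.IsCoord σ e)
    (c : (ZMod p)ˣ) (hc : 2 * orderOf c = p - 1) (hs : ∀ j, s • e j = e ((c : ZMod p) * j))
    (hW : p % 4 = 3 → ∃ W : Equiv.Perm Ω, W (e 0) = e 0 ∧ Equiv.Perm.sign W = -1 ∧
      (∀ g : G, g • e 0 = e 0 → W * (g : Equiv.Perm Ω) * W⁻¹ ∈ G) ∧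
      W * (s : Equiv.Perm Ω) * W⁻¹ = (s : Equiv.Perm Ω)⁻¹) :
    IsMultiplyPretransitive G Ω 3 := by
  classical
  by_contra h3
  have h2 := Perm.two_transitive hα hG
  have h6 := card_orbits_triples_le_six hα hG σ s e he c hc hs
  obtain ⟨R, hR⟩ := exists_tripleRel hα (by omega) h2 h6 h3
  set o := e 0 with ho
  have hblock : ∀ {β : Ω}, o ≠ β → ∀ {B : Set Ω}, o ∉ B → β ∈ B →
      (∀ g : G, g • o = o → ∀ x ∈ B, g • x ∈ B → ∀ y ∈ B, g • y ∈ B) →
      (∀ d ∈ B, d = β) ∨ ∀ d, d ≠ o → d ∈ B := fun hβ _ hB hβB hb =>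
    stabilizer_block_trivial hα hG hp σ s e he c hc hs hβ hB hβB hb
  obtain ⟨k, l, μ, hP⟩ := hR.exists_params hα o hblock
  have hodd := (Fact.out : p.Prime).odd_of_ne_two (by omega)
  rcases (show p % 4 = 1 ∨ p % 4 = 3 by obtain ⟨t, rfl⟩ := hodd; omega) with h4 | h4
  · exact false_of_one_mod_four hR hp h4 σ s e he c hc hs hP
  obtain ⟨W, hWo, hsign, hWG, hWs⟩ := hW h4
  set m := orderOf c with hm
  have : NeZero m := ⟨(orderOf_pos c).ne'⟩
  have hmodd : Odd m := ⟨(m - 1) / 2, by omega⟩
  let u : ZMod m → ZMod p := fun i => (c : ZMod p) ^ i.val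
  let U : ZMod m → Ω := fun i => e (u i)
  let V : ZMod m → Ω := fun i => e (- u i)
  have hu1 : ∀ i, u (i + 1) = (c : ZMod p) * u i := by
    intro i
    simp only [u, ← Units.val_pow_eq_pow_val, ← Units.val_mul, ← pow_succ']
    rw [ZMod.val_add, Units.val_inj, pow_inj_mod, ← hm, Nat.mod_mod, Nat.add_mod, ZMod.val_one_eq_one_mod]
    simp [Nat.mod_mod, Nat.add_mod]
  have huinj : ∀ i j, u i = u j → i = j := fun i j h => by
    simp only [u, ← Units.val_pow_eq_pow_val, Units.val_inj] at h
    exact ZMod.val_injective m (pow_injOn_Iio_orderOf (ZMod.val_lt i) (ZMod.val_lt j) h)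
  have hu0 : ∀ i, u i ≠ 0 := fun i => pow_ne_zero _ c.ne_zero
  have huneg : ∀ i j, u i ≠ - u j := by
    intro i j h
    have h' := congrArg (· ^ m) h
    simp only [u, neg_pow (_ ^ _) m, ← pow_mul, mul_comm _ m, hmodd.neg_one_pow, neg_mul, one_mul] at h'
    simp only [pow_mul, ← Units.val_pow_eq_pow_val, hm, pow_orderOf_eq_one, one_pow, Units.val_one] at h'
    have h2' : ((2 : ℕ) : ZMod p) = 0 := by push_cast; linear_combination h'
    rw [ZMod.natCast_eq_zero_iff] at h2'
    have := Nat.le_of_dvd (by norm_num) h2'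
    omega
  let Φ₀ : Option (ZMod m ⊕ ZMod m) → Ω
    | none => o
    | some (.inl i) => U i
    | some (.inr i) => V i
  have hΦinj : Function.Injective Φ₀ := by
    rintro (_ | i | i) (_ | j | j) h <;>
      simp only [Φ₀, U, V, ho, e.apply_eq_iff_eq] at h
    · rfl
    · exact absurd h.symm (hu0 j)
    · exact absurd (neg_eq_zero.1 h.symm) (hu0 j)
    · exact absurd h (hu0 i)
    · rw [huinj i j h]
    · exact absurd h (huneg i j)
    · exact absurd (neg_eq_zero.1 h) (hu0 i)
    · exact absurd h.symm (huneg j i)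
    · rw [huinj i j (neg_injective h)]
  have hcard : Fintype.card (Option (ZMod m ⊕ ZMod m)) = Fintype.card Ω := by
    rw [Fintype.card_option, Fintype.card_sum, ZMod.card, hα]
    omega
  let Φ := Equiv.ofBijective Φ₀ ((Fintype.bijective_iff_injective_and_card _).2 ⟨hΦinj, hcard⟩)
  have hall : ∀ x, x = o ∨ (∃ i, x = U i) ∨ ∃ i, x = V i := fun x => by
    obtain ⟨y, rfl⟩ := Φ.surjective x
    rcases y with _ | i | i
    exacts [Or.inl rfl, Or.inr (Or.inl ⟨i, rfl⟩), Or.inr (Or.inr ⟨i, rfl⟩)]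
  have hso : (s : Equiv.Perm Ω) o = o := (hs 0).trans (by rw [mul_zero])
  have hsU : ∀ i, (s : Equiv.Perm Ω) (U i) = U (i + 1) := fun i =>
    (hs (u i)).trans (by simp only [U, hu1])
  have hsV : ∀ i, (s : Equiv.Perm Ω) (V i) = V (i + 1) := fun i =>
    (hs (-u i)).trans (by simp only [V, hu1, mul_neg])
  have hspow : ∀ (n : ℕ) (i : ZMod m), (s ^ n) • o = o ∧ (s ^ n) • U i = U (i + n) ∧
      (s ^ n) • V i = V (i + n) := by
    intro n i
    induction n with
    | zero => simp
    | succ n ih =>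
      refine ⟨?_, ?_, ?_⟩
      · rw [pow_succ', mul_smul, ih.1]; exact hso
      · rw [pow_succ', mul_smul, ih.2.1, Nat.cast_succ, ← add_assoc]; exact hsU _
      · rw [pow_succ', mul_smul, ih.2.2, Nat.cast_succ, ← add_assoc]; exact hsV _
  have hWstep : ∀ y, W ((s : Equiv.Perm Ω) y) = (s : Equiv.Perm Ω)⁻¹ (W y) := fun y => by
    rw [← hWs]; simp [Equiv.Perm.mul_apply]
  -- reflections on each orbit
  have hrefl : ∀ (A B : ZMod m → Ω), (∀ i, (s : Equiv.Perm Ω) (A i) = A (i + 1)) →
      (∀ i, (s : Equiv.Perm Ω) (B i) = B (i + 1)) → ∀ b, W (A 0) = B b → ∀ i, W (A i) = B (b - i) := by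
    intro A B hA hB b hb
    have key : ∀ n : ℕ, W (A n) = B (b - n) := by
      intro n
      induction n with
      | zero => simpa using hb
      | succ n ih =>
        rw [Nat.cast_succ, ← hA, hWstep, ih, Equiv.Perm.inv_eq_iff_eq, hB]
        congr 1; ring
    intro i
    simpa using key i.val
  have hUne : ∀ i, U i ≠ o := fun i h => hu0 i (e.injective h)
  have hVne : ∀ i, V i ≠ o := fun i h => hu0 i (neg_eq_zero.1 (e.injective h))
  have hUVne : ∀ i j, U i ≠ V j := fun i j h => huneg i j (e.injective h)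
  have hWne : ∀ {y}, y ≠ o → W y ≠ o := fun hy h => hy (W.injective (h.trans hWo.symm))
  -- `W` exchanges the two orbits
  obtain ⟨b, hb⟩ : ∃ b, W (U 0) = V b := by
    rcases hall (W (U 0)) with h | ⟨b, hb⟩ | h
    · exact absurd h (hWne (hUne 0))
    swap
    · exact h
    exfalso
    have hWU := hrefl U U hsU hsU b hb
    obtain ⟨b', hb'⟩ : ∃ b', W (V 0) = V b' := by
      rcases hall (W (V 0)) with h | ⟨j, hj⟩ | h
      · exact absurd h (hWne (hVne 0))
      · refine absurd (W.injective ?_) (hUVne (b - j) 0)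
        rw [hWU, hj, sub_sub_cancel]
      · exact h
    have hWV := hrefl V V hsV hsV b' hb'
    have hinv : W ^ 2 = 1 := Equiv.ext fun x => by
      rw [pow_two, Equiv.Perm.mul_apply, Equiv.Perm.one_apply]
      rcases hall x with rfl | ⟨i, rfl⟩ | ⟨i, rfl⟩
      · rw [hWo, hWo]
      · rw [hWU, hWU, sub_sub_cancel]
      · rw [hWV, hWV, sub_sub_cancel]
    set h : ZMod m := (((m + 1) / 2 : ℕ) : ZMod m) with hh
    have h2h : h + h = 1 := by
      rw [hh, ← Nat.cast_add, show (m + 1) / 2 + (m + 1) / 2 = m + 1 by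
        obtain ⟨t, ht⟩ := hmodd; omega, Nat.cast_add, ZMod.natCast_self, Nat.cast_one, zero_add]
    have hfix : ∀ (b : ZMod m) i, b - i = i ↔ i = b * h := by
      intro b i
      constructor
      · intro h'
        linear_combination (-h) * h' - i * h2h
      · rintro rfl
        linear_combination -b * h2h
    have hset : (Finset.univ.filter fun x => W x = x) = {o, U (b * h), V (b' * h)} := by
      ext x
      simp only [Finset.mem_filter, Finset.mem_univ, true_and, Finset.mem_insert, Finset.mem_singleton]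
      rcases hall x with rfl | ⟨i, rfl⟩ | ⟨i, rfl⟩
      · simp [hWo]
      · rw [hWU]
        constructor
        · intro h'
          rw [← (hfix b i).1 (huinj _ _ (e.injective h'))]; tauto
        · rintro (h' | h' | h')
          · exact absurd h' (hUne i)
          · rw [(hfix b i).2 (huinj _ _ (e.injective h'))]
          · exact absurd h' (hUVne _ _)
      · rw [hWV]
        constructor
        · intro h'
          rw [← (hfix b' i).1 (huinj _ _ (neg_injective (e.injective h')))]; tauto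
        · rintro (h' | h' | h')
          · exact absurd h' (hVne i)
          · exact absurd h'.symm (hUVne _ _)
          · rw [(hfix b' i).2 (huinj _ _ (neg_injective (e.injective h')))]
    have hfc : Fintype.card (Function.fixedPoints W) = 3 := by
      rw [Fintype.card_subtype]
      simp only [Function.mem_fixedPoints_iff]
      rw [hset, Finset.card_eq_three]
      exact ⟨o, U (b * h), V (b' * h), (hUne _).symm, (hVne _).symm, hUVne _ _, rfl⟩
    rw [Equiv.Perm.sign_of_pow_two_eq_one hinv, hfc, hα] at hsign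
    obtain ⟨t, ht⟩ := hmodd
    rw [show (p - 3) / 2 = 2 * t by omega, pow_mul, neg_one_sq, one_pow] at hsign
    exact absurd hsign (by decide)
  have hWU := hrefl U V hsU hsV b hb
  -- blocks
  have hblocks : ∀ {R : Ω → Ω → Ω → Prop}, IsTripleRel G R →
      (∀ i j, R o (U i) (U j) ↔ R o (U 0) (U (j - i))) ∧
      (∀ i j, R o (V i) (V j) ↔ R o (U 0) (U (j - i))) ∧
      (∀ i j, R o (U i) (V j) ↔ R o (U 0) (V (j - i))) := by
    intro R hR
    have hUU : ∀ i j, R o (U i) (U j) ↔ R o (U 0) (U (j - i)) := fun i j => by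
      rw [← hR.smul_iff (s ^ i.val) (a := o) (b := U 0) (d := U (j - i)), (hspow _ 0).1,
        (hspow _ 0).2.1, (hspow _ (j - i)).2.1, ZMod.natCast_val, ZMod.cast_id, zero_add,
        sub_add_cancel]
    refine ⟨hUU, fun i j => ?_, fun i j => ?_⟩
    · rw [show V i = W (U (b - i)) by rw [hWU, sub_sub_cancel],
        show V j = W (U (b - j)) by rw [hWU, sub_sub_cancel],
        hR.normalizer_iff hα (by omega) hWo hWG, hUU, sub_sub_sub_cancel_left]
      rw [show i - j = 0 - (j - i) by ring, ← hUU (j - i) 0]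
      exact ⟨hR.swap₂₃, hR.swap₂₃⟩
    · rw [← hR.smul_iff (s ^ i.val) (a := o) (b := U 0) (d := V (j - i)), (hspow _ 0).1,
        (hspow _ 0).2.1, (hspow _ (j - i)).2.2, ZMod.natCast_val, ZMod.cast_id, zero_add,
        sub_add_cancel]
  obtain ⟨k', l', μ', hP'⟩ := hR.compl.exists_params hα o hblock
  obtain ⟨b1, b2, b3⟩ := hblocks hR
  obtain ⟨c1, c2, c3⟩ := hblocks hR.compl
  have d1 := isData_of_params hR hP (by omega) U V Φ rfl (fun i => rfl) (fun i => rfl) b1 b2 b3
  have d2 := isData_of_params hR.compl hP' (by omega) U V Φ rfl (fun i => rfl) (fun i => rfl)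
    c1 c2 c3
  refine d1.false_of_compl hmodd (by omega) d2 fun g hg => ?_
  have hne : U 0 ≠ U g := fun h => hg (huinj _ _ (e.injective h)).symm
  by_cases hRg : R o (U 0) (U g) <;> simp [hRg, (hUne 0).symm, (hUne g).symm, hne]

end CfsgLib.PrimeHalf
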