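import Cfsg.Agent.Lib.Perm.PrimeDegreeNeg
import Cfsg.Agent.Lib.Perm.PrimeDegreeRankThree
import Cfsg.Agent.Lib.Perm.PrimeDegreeLines
import Cfsg.Agent.Lib.Perm.PrimeSylow
import Cfsg.Agent.Lib.Perm.MinimalDegree

/-!
Nonsoluble groups of degree `p = q + 2` (`p`, `q` prime) with a Sylow `p`-normaliser of order
`p (p - 1) / 2` are quintuply transitive.
-/

set_option autoImplicit false

namespace CfsgLib.PrimeHalf

open MulAction

variable {Ω : Type*} [Fintype Ω] [DecidableEq Ω] {G : Subgroup (Equiv.Perm Ω)}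

/-- If `p - 2` is prime, a dilation of order `(p - 1) / 2` gives triple transitivity. -/
theorem three_transitive_of_prime_sub_two {p : ℕ} [Fact p.Prime] [IsPretransitive G Ω]
    (hα : Fintype.card Ω = p) (hG : ¬ Group.IsSolvable G) (hp : 7 < p) (hq : (p - 2).Prime)
    (σ s : G) (e : ZMod p ≃ Ω) (he : Perm.IsCoord σ e) (c : (ZMod p)ˣ)
    (hc : 2 * orderOf c = p - 1) (hs : ∀ j, s • e j = e ((c : ZMod p) * j)) :
    IsMultiplyPretransitive G Ω 3 := by
  classical
  by_contra h3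
  have h2 := Perm.two_transitive hα hG
  have h6 := card_orbits_triples_le_six hα hG σ s e he c hc hs
  obtain ⟨R, hR⟩ := exists_tripleRel hα (by omega) h2 h6 h3
  obtain ⟨k, l, μ, hP⟩ := hR.exists_params hα (e 0) fun hβ _ hB hβB hb =>
    stabilizer_block_trivial hα hG hp σ s e he c hc hs hβ hB hβB hb
  have hk : k < p - 2 := hP.k_lt
  have hcop : Nat.Coprime k (p - 2 - k) := by
    have h1 : Nat.Coprime k (p - 2) :=
      Nat.Coprime.symm ((hq.coprime_iff_not_dvd).2 fun h => by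
        have := Nat.le_of_dvd (by have := hP.mu_lt; omega) h
        omega)
    exact (Nat.coprime_sub_self_right hk.le).2 h1
  have hdvd : k ∣ (p - 2 - k) * μ := by
    have h1 : k ∣ k + k * l + (p - 2 - k) * μ := hP.count ▸ dvd_mul_right k k
    exact (Nat.dvd_add_right (Dvd.intro (1 + l) (by ring))).1 h1
  have := Nat.le_of_dvd hP.mu_pos (hcop.dvd_of_dvd_mul_left hdvd)
  have := hP.mu_lt
  omega

/-- The action of the stabiliser of `a` and `b` on the other points. -/
def pairHom (G : Subgroup (Equiv.Perm Ω)) (a b : Ω) :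
    ↥(stabilizer G a ⊓ stabilizer G b) →* Equiv.Perm {x : Ω // x ≠ a ∧ x ≠ b} where
  toFun g := Equiv.Perm.subtypePerm ((g : G) : Equiv.Perm Ω) fun x => by
    have ha : ((g : G) : Equiv.Perm Ω) a = a := g.2.1
    have hb : ((g : G) : Equiv.Perm Ω) b = b := g.2.2
    constructor
    · rintro ⟨h1, h2⟩
      exact ⟨fun e => h1 (by rw [e, ha]), fun e => h2 (by rw [e, hb])⟩
    · rintro ⟨h1, h2⟩
      exact ⟨fun e => h1 (((g : G) : Equiv.Perm Ω).injective (e.trans ha.symm)),
        fun e => h2 (((g : G) : Equiv.Perm Ω).injective (e.trans hb.symm))⟩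
  map_one' := rfl
  map_mul' _ _ := rfl

theorem pairHom_apply (a b : Ω) (g : ↥(stabilizer G a ⊓ stabilizer G b))
    (x : {x : Ω // x ≠ a ∧ x ≠ b}) : (pairHom G a b g x : Ω) = (g : G) • (x : Ω) := rfl

theorem pairHom_injective (a b : Ω) : Function.Injective (pairHom G a b) := by
  intro g g' h
  refine Subtype.ext (Subtype.ext (Equiv.ext fun x => ?_))
  by_cases hxa : x = a
  · subst hxa; exact g.2.1.trans g'.2.1.symm
  by_cases hxb : x = b
  · subst hxb; exact g.2.2.trans g'.2.2.symm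
  exact congrArg Subtype.val (Equiv.congr_fun h ⟨x, hxa, hxb⟩)

theorem card_pairType {a b : Ω} (hab : a ≠ b) {n : ℕ} (hn : Fintype.card Ω = n + 2) :
    Fintype.card {x : Ω // x ≠ a ∧ x ≠ b} = n := by
  rw [Fintype.card_subtype, show (Finset.univ.filter fun x => x ≠ a ∧ x ≠ b) =
    ((Finset.univ.erase a).erase b) by ext; simp [and_comm],
    Finset.card_erase_of_mem (Finset.mem_erase.2 ⟨hab.symm, Finset.mem_univ _⟩),
    Finset.card_erase_of_mem (Finset.mem_univ _), Finset.card_univ, hn]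
  omega

theorem pairHom_isPretransitive (h3 : IsMultiplyPretransitive G Ω 3) (hn : 3 ≤ Fintype.card Ω)
    {a b : Ω} (hab : a ≠ b) :
    IsPretransitive (pairHom G a b).range {x : Ω // x ≠ a ∧ x ≠ b} := by
  refine ⟨fun x y => ?_⟩
  obtain ⟨g, hg, hgS, hgx⟩ := Perm.exists_fix_move hn h3 {a, b} (by simp [hab]) (f := (x : Ω))
    (f' := (y : Ω)) (by simp [x.2.1, x.2.2]) (by simp [y.2.1, y.2.2])
  exact ⟨⟨pairHom G a b ⟨⟨g, hg⟩, hgS a (by simp), hgS b (by simp)⟩, _, rfl⟩, Subtype.ext hgx⟩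

theorem card_eq_mul_pairStab (h2 : IsMultiplyPretransitive G Ω 2) {a b : Ω} (hab : a ≠ b) :
    Nat.card G = (Fintype.card Ω * Fintype.card Ω - Fintype.card Ω) *
      Nat.card ↥(stabilizer G a ⊓ stabilizer G b) := by
  classical
  rw [← (stabilizer G a ⊓ stabilizer G b).card_mul_index, mul_comm]
  congr 1
  have hstab : stabilizer G a ⊓ stabilizer G b = stabilizer G (a, b) := by
    ext g; simp [Prod.ext_iff]
  rw [hstab, MulAction.index_stabilizer]
  have horb : MulAction.orbit G (a, b) = ↑(Finset.univ.offDiag : Finset (Ω × Ω)) := by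
    ext ⟨x, y⟩
    simp only [Finset.coe_offDiag, Finset.coe_univ, Set.mem_offDiag, Set.mem_univ, true_and]
    constructor
    · rintro ⟨g, hg⟩
      simp only [Prod.smul_mk, Prod.mk.injEq] at hg
      rw [← hg.1, ← hg.2]
      exact (MulAction.injective g).ne hab
    · intro hxy
      obtain ⟨g, h1, h1'⟩ := MulAction.is_two_pretransitive_iff.1 h2 hab hxy
      exact ⟨g, Prod.ext h1 h1'⟩
  rw [horb, Set.ncard_coe_finset, Finset.offDiag_card, Finset.card_univ]

omit [DecidableEq Ω] in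
/-- The order of a soluble transitive group of prime degree `q` is `q e` with `e ∣ q - 1`. -/
theorem card_of_isSolvable {q : ℕ} [Fact q.Prime] {H : Subgroup (Equiv.Perm Ω)}
    [IsPretransitive H Ω] (hα : Fintype.card Ω = q) (hsol : Group.IsSolvable H) :
    ∃ e, Nat.card H = q * e ∧ e ∣ q - 1 := by
  classical
  obtain ⟨σ, ε, hσ, hε⟩ := Perm.exists_coord (G := H) hα
  have haff : ∀ g : H, ∃ A B : ZMod q, ∀ j, g • ε j = ε (A * j + B) :=
    fun g => Perm.affine_of_isSolvable hα hsol hσ hε g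
  refine ⟨Nat.card (stabilizer H (ε 0)), ?_, ?_⟩
  · rw [← (stabilizer H (ε 0)).card_mul_index, index_stabilizer_of_transitive,
      Nat.card_eq_fintype_card (α := Ω), hα, mul_comm]
  have hlin : ∀ g : stabilizer H (ε 0), ∀ j, (g : H) • ε j =
      ε (ε.symm ((g : H) • ε 1) * j) := by
    intro g j
    obtain ⟨A, B, hAB⟩ := haff g
    have h0 := hAB 0
    rw [show (g : H) • ε 0 = ε 0 from g.2] at h0
    have hB : B = 0 := by simpa using h0.symm
    subst hB
    simp [hAB]
  let f : stabilizer H (ε 0) →* ZMod q :=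
    { toFun := fun g => ε.symm ((g : H) • ε 1)
      map_one' := by simp
      map_mul' := fun g g' => by
        apply ε.injective
        rw [Equiv.apply_symm_apply, ← hlin g, Equiv.apply_symm_apply, Subgroup.coe_mul, mul_smul] }
  have hinj : Function.Injective f.toHomUnits := by
    intro g g' h
    have h1 : f g = f g' := congrArg Units.val h
    refine Subtype.ext (Subtype.ext (Equiv.ext fun x => ?_))
    obtain ⟨j, rfl⟩ := ε.surjective x
    have := (hlin g j).trans ((congrArg (fun t => ε (t * j)) h1).trans (hlin g' j).symm)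
    exact this
  have hd := Subgroup.card_dvd_of_injective f.toHomUnits hinj
  rwa [Nat.card_eq_fintype_card (α := (ZMod q)ˣ), ZMod.card_units] at hd

/-- The stabiliser of two points is not soluble. -/
theorem pairHom_not_solvable {p q : ℕ} [Fact p.Prime] [Fact q.Prime] [IsPretransitive G Ω]
    (hα : Fintype.card Ω = p) (hpq : p = q + 2) (hq5 : 5 < q)
    (h3 : IsMultiplyPretransitive G Ω 3) (P : Sylow p G)
    (hN : 2 * Nat.card (Subgroup.normalizer ((P : Subgroup G) : Set G)) = p * (p - 1))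
    {a b : Ω} (hab : a ≠ b) : ¬ Group.IsSolvable (pairHom G a b).range := by
  classical
  intro hsol
  have hp := (Fact.out : p.Prime)
  have hq := (Fact.out : q.Prime)
  have hΔ := card_pairType hab (hα.trans hpq)
  have := pairHom_isPretransitive h3 (by omega) hab
  obtain ⟨e, he, hed⟩ := card_of_isSolvable hΔ hsol
  have he' : Nat.card ↥(stabilizer G a ⊓ stabilizer G b) = q * e := by
    rw [← he]
    exact Nat.card_congr (MonoidHom.ofInjective (pairHom_injective a b)).toEquiv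
  have h2 : IsMultiplyPretransitive G Ω 2 :=
    isMultiplyPretransitive_of_le (n := 3) (by norm_num)
      (by rw [Nat.card_eq_fintype_card]; omega)
  have hcard := card_eq_mul_pairStab h2 hab
  rw [he', hα, ← Nat.mul_sub_one] at hcard
  set N := Nat.card (Subgroup.normalizer ((P : Subgroup G) : Set G)) with hNdef
  have hidx : Nat.card (Sylow p G) = 2 * (q * e) := by
    have hsy := (Subgroup.normalizer ((P : Subgroup G) : Set G)).card_mul_index
    rw [← hNdef, hcard, ← hN] at hsy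
    rw [P.card_eq_index_normalizer]
    refine Nat.eq_of_mul_eq_mul_left (Nat.card_pos : 0 < N) ?_
    refine hsy.trans ?_; ring
  have hmod := card_sylow_modEq_one p G
  rw [hidx] at hmod
  have h4 : p ∣ 4 * e + 1 := by
    rw [← ZMod.natCast_eq_zero_iff]
    have h := (ZMod.natCast_eq_natCast_iff _ _ _).2 hmod
    have hqp : (q : ZMod p) + 2 = 0 := by
      have : ((q + 2 : ℕ) : ZMod p) = 0 := by rw [← hpq, ZMod.natCast_self]
      simpa using this
    push_cast at h ⊢
    linear_combination -h + 2 * (e : ZMod p) * hqp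
  have hepos : 0 < e := by
    rcases Nat.eq_zero_or_pos e with rfl | h
    · exact absurd he (by rw [mul_zero]; exact Nat.card_pos.ne')
    · exact h
  have hele : e ≤ q - 1 := Nat.le_of_dvd (by omega) hed
  obtain ⟨m, hm⟩ := h4
  have hm4 : m < 4 := by
    by_contra h
    have : p * 4 ≤ p * m := Nat.mul_le_mul_left p (by omega)
    omega
  have hpodd := hp.odd_of_ne_two (by omega)
  have hq7 : q ≠ 7 := by rintro rfl; norm_num [hpq] at hp
  have hq9 : q ≠ 9 := by rintro rfl; norm_num at hq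
  interval_cases m
  · omega
  · -- `4 e = q + 1`
    obtain ⟨j, hj⟩ := hed
    have he2 : e ∣ 2 := by
      have h1 : e ∣ q + 1 := ⟨4, by omega⟩
      have h2 : e ∣ q - 1 := ⟨j, hj⟩
      have := Nat.dvd_sub h1 h2
      rwa [show q + 1 - (q - 1) = 2 by omega] at this
    have := Nat.le_of_dvd (by norm_num) he2
    omega
  · obtain ⟨t, ht⟩ := hpodd; omega
  · obtain ⟨j, hj⟩ := hed
    rcases j with _ | _ | j
    · omega
    · omega
    · have : e * 2 ≤ q - 1 := hj ▸ Nat.mul_le_mul_left e (by omega)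
      omega

/-- A prime degree stabiliser of two points is normalised by a negation, unless there is a
transposition. -/
theorem exists_neg_or_swap {q : ℕ} [Fact q.Prime] {a b : Ω} (hab : a ≠ b) (hq2 : q ≠ 2)
    (hΔ : Fintype.card {x : Ω // x ≠ a ∧ x ≠ b} = q)
    (h2 : IsMultiplyPretransitive G Ω 2)
    [IsPretransitive (pairHom G a b).range {x : Ω // x ≠ a ∧ x ≠ b}] :
    (∃ (σ : (pairHom G a b).range) (e : ZMod q ≃ {x : Ω // x ≠ a ∧ x ≠ b})
      (η : Equiv.Perm {x : Ω // x ≠ a ∧ x ≠ b}), Perm.IsCoord σ e ∧ (∀ j, η (e j) = e (-j)) ∧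
      ∀ g ∈ (pairHom G a b).range, η * g * η⁻¹ ∈ (pairHom G a b).range) ∨
    Equiv.swap a b ∈ G := by
  classical
  set Δ := {x : Ω // x ≠ a ∧ x ≠ b}
  set H := (pairHom G a b).range with hH
  obtain ⟨σ, e, hσ, he⟩ := Perm.exists_coord (G := H) hΔ
  obtain ⟨σ₀, hσ₀⟩ := σ.2
  have hσ₀' : ∀ (n : ℕ) (j : ZMod q), ((σ₀ ^ n : ↥(stabilizer G a ⊓ stabilizer G b)) : G) • (e j : Ω) =
      e (j + n) := by
    intro n j
    rw [← pairHom_apply, map_pow, hσ₀, ← SubgroupClass.coe_pow]
    exact congrArg Subtype.val (he.pow_smul n j)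
  obtain ⟨t, hta, htb⟩ := MulAction.is_two_pretransitive_iff.1 h2 hab hab.symm
  -- permutations of the pair act on the other points
  have hpres : ∀ g : G, (g • a = a ∧ g • b = b) ∨ (g • a = b ∧ g • b = a) → ∀ x : Ω,
      ((g : Equiv.Perm Ω) x ≠ a ∧ (g : Equiv.Perm Ω) x ≠ b) ↔ (x ≠ a ∧ x ≠ b) := by
    intro g hg x
    change g • x ≠ a ∧ g • x ≠ b ↔ _
    rcases hg with ⟨ha, hb⟩ | ⟨ha, hb⟩
    · conv_lhs => rw [← ha]; enter [2]; rw [← hb]
      simp
    · conv_lhs => rw [← hb]; enter [2]; rw [← ha]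
      simp [and_comm]
  let res : ∀ g : G, ((g • a = a ∧ g • b = b) ∨ (g • a = b ∧ g • b = a)) → Equiv.Perm Δ :=
    fun g hg => Equiv.Perm.subtypePerm (g : Equiv.Perm Ω) (hpres g hg)
  have hres : ∀ g hg (x : Δ), (res g hg x : Ω) = g • (x : Ω) := fun g hg x => rfl
  have hnorm : ∀ g hg, ∀ h ∈ H, res g hg * h * (res g hg)⁻¹ ∈ H := by
    rintro g hg _ ⟨⟨h, hha, hhb⟩, rfl⟩
    have ha : g * h * g⁻¹ ∈ stabilizer G a ⊓ stabilizer G b := by
      rw [Subgroup.mem_inf, mem_stabilizer_iff, mem_stabilizer_iff]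
      have hha' : h • a = a := hha
      have hhb' : h • b = b := hhb
      rcases hg with ⟨hga, hgb⟩ | ⟨hga, hgb⟩
      · simp [mul_smul, inv_smul_eq_iff.2 hga.symm, inv_smul_eq_iff.2 hgb.symm, hha', hhb', hga, hgb]
      · simp [mul_smul, inv_smul_eq_iff.2 hgb.symm, inv_smul_eq_iff.2 hga.symm, hha', hhb', hga, hgb]
    refine ⟨⟨g * h * g⁻¹, ha⟩, ?_⟩
    rw [eq_mul_inv_iff_mul_eq]
    refine Equiv.ext fun x => Subtype.ext ?_
    rw [Equiv.Perm.mul_apply, Equiv.Perm.mul_apply, pairHom_apply, hres g hg, hres g hg, pairHom_apply,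
      mul_smul, mul_smul, inv_smul_smul]
  -- move `t` into the normaliser of the cycle
  obtain ⟨τ, hτ⟩ : ∃ τ : H, (τ : Equiv.Perm Δ) = res t (Or.inr ⟨hta, htb⟩) * σ * (res t (Or.inr ⟨hta, htb⟩))⁻¹ :=
    ⟨⟨_, hnorm t (Or.inr ⟨hta, htb⟩) _ σ.2⟩, rfl⟩
  have hτord : orderOf τ = q := by
    rw [← Subgroup.orderOf_coe, hτ, ← hσ, ← Subgroup.orderOf_coe]
    exact orderOf_injective (MulAut.conj (res t (Or.inr ⟨hta, htb⟩))).toMonoidHom (MulEquiv.injective _) _
  have hH1 : ∀ x : H, orderOf x = q → ∃ S : Sylow q H, (S : Subgroup H) = Subgroup.zpowers x := by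
    intro x hx
    obtain ⟨S, hS⟩ := (IsPGroup.of_card (n := 1) (by rw [Nat.card_zpowers, hx, pow_one] :
      Nat.card (Subgroup.zpowers x) = q ^ 1)).exists_le_sylow
    exact ⟨S, (Subgroup.eq_of_le_of_card_ge hS
      (by rw [Nat.card_zpowers, hx, Perm.card_sylow_eq_prime hΔ S])).symm⟩
  obtain ⟨S, hS⟩ := hH1 σ hσ
  obtain ⟨T, hT⟩ := hH1 τ hτord
  obtain ⟨h, hh⟩ := MulAction.exists_smul_eq H T S
  have hconj : h * τ * h⁻¹ ∈ Subgroup.zpowers σ := by
    rw [← hS, ← hh, Sylow.smul_def, Sylow.pointwise_smul_def]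
    exact ⟨τ, hT ▸ Subgroup.mem_zpowers τ, rfl⟩
  obtain ⟨k, hk⟩ := mem_powers_iff_mem_zpowers.2 hconj
  obtain ⟨h₀, hh₀⟩ := h.2
  set g₁ : G := (h₀ : G) * t with hg₁
  have hg₁' : g₁ • a = b ∧ g₁ • b = a :=
    ⟨by rw [hg₁, mul_smul, hta]; exact h₀.2.2, by rw [hg₁, mul_smul, htb]; exact h₀.2.1⟩
  set ν := res g₁ (Or.inr hg₁') with hν
  have hνt : ν = (h : Equiv.Perm Δ) * res t (Or.inr ⟨hta, htb⟩) := by
    refine Equiv.ext fun x => Subtype.ext ?_
    rw [Equiv.Perm.mul_apply, ← hh₀, pairHom_apply, hres g₁ (Or.inr hg₁'), hres t (Or.inr ⟨hta, htb⟩), hg₁, mul_smul]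
  have hνσ : ν * σ = ((σ ^ k : H) : Equiv.Perm Δ) * ν := by
    change σ ^ k = h * τ * h⁻¹ at hk
    rw [hνt, hk, Subgroup.coe_mul, Subgroup.coe_mul, hτ, Subgroup.coe_inv]
    group
  have haff : ∀ j, ν (e j) = e ((k : ZMod q) * j + e.symm (ν (e 0))) := by
    have hnat : ∀ n : ℕ, ν (e (n : ZMod q)) = e ((k : ZMod q) * n + e.symm (ν (e 0))) := by
      intro n
      induction n with
      | zero => simp
      | succ n ih =>
        have h1 := Equiv.congr_fun hνσ (e (n : ZMod q))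
        simp only [Equiv.Perm.mul_apply] at h1
        have h2' : (σ : Equiv.Perm Δ) (e (n : ZMod q)) = e ((n : ZMod q) + 1) := he _
        rw [h2', ih] at h1
        rw [Nat.cast_succ, h1]
        refine (he.pow_smul k _).trans ?_
        congr 1; ring
    intro j
    have := hnat j.val
    rwa [ZMod.natCast_val, ZMod.cast_id] at this
  have hk0 : (k : ZMod q) ≠ 0 := fun h0 => by
    have h1 := haff 1
    rw [h0, zero_mul, zero_add, Equiv.apply_symm_apply, EmbeddingLike.apply_eq_iff_eq,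
      EmbeddingLike.apply_eq_iff_eq] at h1
    exact one_ne_zero h1
  set u : (ZMod q)ˣ := Units.mk0 _ hk0 with hu
  have hpow : ∀ n : ℕ, ∃ B : ZMod q, ∀ j, (g₁ ^ n) • (e j : Ω) = e ((u : ZMod q) ^ n * j + B) := by
    intro n
    induction n with
    | zero => exact ⟨0, fun j => by simp⟩
    | succ n ih =>
      obtain ⟨B, hB⟩ := ih
      refine ⟨(u : ZMod q) * B + e.symm (ν (e 0)), fun j => ?_⟩
      rw [pow_succ', mul_smul, hB, ← hres g₁ (Or.inr hg₁'), ← hν, haff]
      simp only [hu, Units.val_mk0]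
      congr 2; ring
  have hpair : ∀ n : ℕ, (g₁ ^ n • a = a ∧ g₁ ^ n • b = b ∧ Even n) ∨
      (g₁ ^ n • a = b ∧ g₁ ^ n • b = a ∧ Odd n) := by
    intro n
    induction n with
    | zero => simp
    | succ n ih =>
      simp only [pow_succ', mul_smul, Nat.even_add_one, Nat.odd_add_one, ← Nat.not_even_iff_odd]
      rcases ih with ⟨h1, h1', h4⟩ | ⟨h1, h1', h4⟩
      · exact Or.inr ⟨by rw [h1, hg₁'.1], by rw [h1', hg₁'.2], not_not.2 h4⟩
      · exact Or.inl ⟨by rw [h1, hg₁'.2], by rw [h1', hg₁'.1], Nat.not_even_iff_odd.2 h4⟩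
  rcases Nat.even_or_odd (orderOf u) with ⟨m, hm⟩ | hodd
  · left
    obtain ⟨B, hB⟩ := hpow m
    have hneg : (u : ZMod q) ^ m = -1 := by
      have hsq : (u : ZMod q) ^ m * (u : ZMod q) ^ m = 1 := by
        rw [← pow_add, ← hm, ← Units.val_pow_eq_pow_val, pow_orderOf_eq_one, Units.val_one]
      refine (mul_self_eq_one_iff.1 hsq).resolve_left fun h1 => ?_
      rw [← Units.val_pow_eq_pow_val, Units.val_eq_one] at h1
      have := orderOf_pos u
      exact pow_ne_one_of_lt_orderOf (by omega) (by omega) h1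
    set g := ((σ₀ ^ (-B).val : ↥(stabilizer G a ⊓ stabilizer G b)) : G) * g₁ ^ m with hg
    have hgp : (g • a = a ∧ g • b = b) ∨ (g • a = b ∧ g • b = a) := by
      have ha : ((σ₀ ^ (-B).val : ↥(stabilizer G a ⊓ stabilizer G b)) : G) • a = a := (σ₀ ^ (-B).val).2.1
      have hb : ((σ₀ ^ (-B).val : ↥(stabilizer G a ⊓ stabilizer G b)) : G) • b = b := (σ₀ ^ (-B).val).2.2
      rcases hpair m with ⟨h1, h1', -⟩ | ⟨h1, h1', -⟩
      · exact Or.inl ⟨by rw [hg, mul_smul, h1, ha], by rw [hg, mul_smul, h1', hb]⟩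
      · exact Or.inr ⟨by rw [hg, mul_smul, h1, hb], by rw [hg, mul_smul, h1', ha]⟩
    refine ⟨σ, e, res g hgp, he, fun j => Subtype.ext ?_, hnorm g hgp⟩
    rw [hres g hgp, hg, mul_smul, hB, hσ₀', hneg, ZMod.natCast_val, ZMod.cast_id]
    congr 2; ring
  · right
    obtain ⟨B, hB⟩ := hpow (orderOf u)
    rw [← Units.val_pow_eq_pow_val, pow_orderOf_eq_one, Units.val_one] at hB
    set g := ((σ₀ ^ (-B).val : ↥(stabilizer G a ⊓ stabilizer G b)) : G) * g₁ ^ orderOf u with hg
    rcases hpair (orderOf u) with ⟨-, -, h4⟩ | ⟨h1, h1', -⟩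
    · exact absurd h4 (Nat.not_even_iff_odd.2 hodd)
    have hgΔ : ∀ x : Δ, g • (x : Ω) = x := fun x => by
      obtain ⟨j, rfl⟩ := e.surjective x
      rw [hg, mul_smul, hB, hσ₀', ZMod.natCast_val, ZMod.cast_id]
      congr 2; ring
    have heq : (g : Equiv.Perm Ω) = Equiv.swap a b := by
      refine Equiv.ext fun x => ?_
      change g • x = _
      by_cases hxa : x = a
      · rw [hxa, Equiv.swap_apply_left, hg, mul_smul, h1]
        exact (σ₀ ^ (-B).val).2.2
      by_cases hxb : x = b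
      · rw [hxb, Equiv.swap_apply_right, hg, mul_smul, h1']
        exact (σ₀ ^ (-B).val).2.1
      rw [Equiv.swap_apply_of_ne_of_ne hxa hxb]
      exact hgΔ ⟨x, hxa, hxb⟩
    exact heq ▸ g.2

/-- Degree `p = q + 2` with both prime and half normaliser: the group is quintuply transitive. -/
theorem five_transitive {p q : ℕ} [Fact p.Prime] [Fact q.Prime] [IsPretransitive G Ω]
    (hα : Fintype.card Ω = p) (hG : ¬ Group.IsSolvable G) (P : Sylow p G)
    (hN : 2 * Nat.card (Subgroup.normalizer ((P : Subgroup G) : Set G)) = p * (p - 1))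
    (hpq : p = q + 2) (hq5 : 5 < q) : IsMultiplyPretransitive G Ω 5 := by
  classical
  have hq := (Fact.out : q.Prime)
  obtain ⟨σ, s, e, c, he, hc, hs⟩ := exists_dilation hα (by omega) P hN
  have h3 : IsMultiplyPretransitive G Ω 3 :=
    three_transitive_of_prime_sub_two hα hG (by omega)
      (by rwa [show p - 2 = q by omega]) σ s e he c hc hs
  have h2 : IsMultiplyPretransitive G Ω 2 :=
    isMultiplyPretransitive_of_le (n := 3) (by norm_num)
      (by rw [Nat.card_eq_fintype_card]; omega)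
  refine Perm.isMultiplyPretransitive_of_fixing (by omega) fun T hT x y hx hy => ?_
  obtain ⟨a, b, c', d, hab, hac, had, hbc, hbd, hcd, rfl⟩ :=
    Finset.card_eq_four.1 (show T.card = 4 from hT)
  simp only [Finset.mem_insert, Finset.mem_singleton, not_or] at hx hy
  have hΔ := card_pairType hab (hα.trans hpq)
  have := pairHom_isPretransitive h3 (by omega) hab
  have hsolv := pairHom_not_solvable hα hpq hq5 h3 P hN hab
  rcases exists_neg_or_swap hab (by omega) hΔ h2 with ⟨σ', e', η, he', hη, hnorm⟩ | hswap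
  · have h := three_transitive_of_neg hΔ hsolv σ' e' he' η hη hnorm
    obtain ⟨g', hg', hgS, hgx⟩ := Perm.exists_fix_move (by omega : 3 ≤ Fintype.card _) h
      {⟨c', hac.symm, hbc.symm⟩, ⟨d, had.symm, hbd.symm⟩}
      (lt_of_le_of_lt Finset.card_le_two (by norm_num))
      (f := ⟨x, hx.1, hx.2.1⟩) (f' := ⟨y, hy.1, hy.2.1⟩)
      (by simp [hx.2.2.1, hx.2.2.2]) (by simp [hy.2.2.1, hy.2.2.2])
    obtain ⟨g, rfl⟩ := hg'
    refine ⟨g, ?_, congrArg Subtype.val hgx⟩
    simp only [Finset.mem_insert, Finset.mem_singleton]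
    rintro t (rfl | rfl | rfl | rfl)
    · exact g.2.1
    · exact g.2.2
    · exact congrArg Subtype.val (hgS _ (Finset.mem_insert_self _ _))
    · exact congrArg Subtype.val (hgS _ (Finset.mem_insert_of_mem (Finset.mem_singleton_self _)))
  · have hprim : IsPreprimitive G Ω := isPreprimitive_of_is_two_pretransitive h2
    have htop := Equiv.Perm.subgroup_eq_top_of_isPreprimitive_of_isSwap_mem hprim _ ⟨a, b, hab, rfl⟩ hswap
    refine ⟨⟨Equiv.swap x y, by rw [htop]; trivial⟩, ?_, Equiv.swap_apply_left x y⟩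
    simp only [Finset.mem_insert, Finset.mem_singleton]
    rintro t (rfl | rfl | rfl | rfl) <;>
      exact Equiv.swap_apply_of_ne_of_ne (by tauto) (by tauto)

end CfsgLib.PrimeHalf
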