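import Cfsg.Agent.Lib.Perm.ClassTwoQ8

/-!
The automorphism groups of the quaternion group of order 8 and of the alternating group of degree 5.
-/

namespace CfsgLib.Perm

open QuaternionGroup

/-- Inverses of a set of quaternions. -/
def q8Inv (S : Finset (QuaternionGroup 2)) : Finset (QuaternionGroup 2) := S.image fun g => g⁻¹

/-- Four representatives of the eight positively or negatively oriented frames. -/
def q8Rep : Fin 4 → Finset (QuaternionGroup 2) :=
  ![{a 1, xa 0, a 1 * xa 0}, {a 1, xa 0, (a 1 * xa 0)⁻¹}, {a 1, (xa 0)⁻¹, a 1 * xa 0},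
    {a 1, (xa 0)⁻¹, (a 1 * xa 0)⁻¹}]

/-- The index of a frame up to inversion. -/
def q8Cls (S : Finset (QuaternionGroup 2)) : Fin 4 :=
  if S = q8Rep 0 ∨ S = q8Inv (q8Rep 0) then 0
  else if S = q8Rep 1 ∨ S = q8Inv (q8Rep 1) then 1
  else if S = q8Rep 2 ∨ S = q8Inv (q8Rep 2) then 2 else 3

/-- The action on the four diagonals. -/
def q8Act (f : QuaternionGroup 2 → QuaternionGroup 2) (i : Fin 4) : Fin 4 :=
  q8Cls ((q8Rep i).image f)

theorem q8Cls_rep : ∀ j : Fin 4, q8Cls (q8Rep j) = j ∧ q8Cls (q8Inv (q8Rep j)) = j := by decide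

theorem q8Inv_inv : ∀ j : Fin 4, q8Inv (q8Inv (q8Rep j)) = q8Rep j := by decide

theorem q8Act_good : ∀ s : QuaternionGroup 2 × QuaternionGroup 2, s.1 * s.2 ≠ s.2 * s.1 → ∀ i : Fin 4,
    (q8Rep i).image (q8Map s) = q8Rep (q8Act (q8Map s) i) ∨
      (q8Rep i).image (q8Map s) = q8Inv (q8Rep (q8Act (q8Map s) i)) := by
  decide +kernel

theorem q8Act_faithful : ∀ s : QuaternionGroup 2 × QuaternionGroup 2, s.1 * s.2 ≠ s.2 * s.1 →
    (∀ i : Fin 4, q8Act (q8Map s) i = i) → s = (a 1, xa 0) := by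
  decide +kernel

theorem mulAut_q8_eq (σ : MulAut (QuaternionGroup 2)) :
    ⇑σ = q8Map (σ (a 1), σ (xa 0)) ∧ σ (a 1) * σ (xa 0) ≠ σ (xa 0) * σ (a 1) := by
  refine ⟨funext fun w => ?_, ?_⟩
  · have h1 : ∀ i : ZMod (2 * 2), σ (a i) = σ (a 1) ^ i.val := by
      intro i
      rw [← map_pow, a_one_pow, ZMod.natCast_zmod_val]
    cases w with
    | a i => exact h1 i
    | xa i =>
      change σ (xa i) = σ (xa 0) * σ (a 1) ^ i.val
      rw [← h1, ← map_mul, xa_mul_a, zero_add]
  · rw [← map_mul, ← map_mul, σ.injective.ne_iff]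
    decide

theorem mulAut_q8_good (σ : MulAut (QuaternionGroup 2)) (i : Fin 4) :
    (q8Rep i).image σ = q8Rep (q8Act σ i) ∨ (q8Rep i).image σ = q8Inv (q8Rep (q8Act σ i)) := by
  obtain ⟨h, hne⟩ := mulAut_q8_eq σ
  rw [h]
  exact q8Act_good _ hne i

theorem q8Act_mul (σ τ : MulAut (QuaternionGroup 2)) (i : Fin 4) :
    q8Act (σ * τ : MulAut (QuaternionGroup 2)) i = q8Act σ (q8Act τ i) := by
  have hinv : ∀ S : Finset (QuaternionGroup 2), (q8Inv S).image σ = q8Inv (S.image σ) := by
    intro S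
    simp only [q8Inv, Finset.image_image]
    congr 1
    funext g
    exact map_inv σ g
  have hcomp : (q8Rep i).image (σ * τ : MulAut (QuaternionGroup 2)) = ((q8Rep i).image τ).image σ := by
    rw [Finset.image_image]; rfl
  change q8Cls _ = _
  rw [hcomp]
  rcases mulAut_q8_good τ i with h | h <;> rw [h]
  · rfl
  · rw [hinv]
    rcases mulAut_q8_good σ (q8Act τ i) with h' | h' <;> rw [h']
    · exact (q8Cls_rep _).2
    · rw [q8Inv_inv]; exact (q8Cls_rep _).1

theorem q8Act_one (i : Fin 4) : q8Act (1 : MulAut (QuaternionGroup 2)) i = i := by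
  change q8Cls ((q8Rep i).image id) = i
  rw [Finset.image_id]
  exact (q8Cls_rep i).1

/-- Automorphisms of `Q₈` acting on the four diagonals. -/
def q8Perm : MulAut (QuaternionGroup 2) →* Equiv.Perm (Fin 4) where
  toFun σ :=
    { toFun := q8Act σ
      invFun := q8Act (σ⁻¹ : MulAut (QuaternionGroup 2))
      left_inv := fun i => by rw [← q8Act_mul, inv_mul_cancel, q8Act_one]
      right_inv := fun i => by rw [← q8Act_mul, mul_inv_cancel, q8Act_one] }
  map_one' := Equiv.ext fun i => q8Act_one i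
  map_mul' σ τ := Equiv.ext fun i => q8Act_mul σ τ i

/-- `Aut Q₈` is the symmetric group of degree 4. -/
theorem q8Perm_bijective : Function.Bijective q8Perm := by
  have hinj : Function.Injective q8Perm := by
    refine (injective_iff_map_eq_one _).2 fun σ h => ?_
    obtain ⟨hσ, hne⟩ := mulAut_q8_eq σ
    have hs := q8Act_faithful _ hne fun i => by
      rw [← hσ]; exact DFunLike.congr_fun h i
    refine MulEquiv.ext fun w => ?_
    rw [hσ, hs]
    have : ∀ w, q8Map (a 1, xa 0) w = w := by decide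
    exact this w
  refine hinj.bijective_of_nat_card_le ?_
  rw [card_mulAut_quaternion, Nat.card_perm, Nat.card_fin]
  rfl

theorem alternating_centralizer_five : ∀ σ : Equiv.Perm (Fin 5),
    (∀ τ ∈ [c[(0 : Fin 5), 1, 2, 3, 4], c[(0 : Fin 5), 1, 2]], σ * τ = τ * σ) → σ = 1 := by
  decide +kernel

end CfsgLib.Perm
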