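import Cfsg.Agent.Lib.Perm.NearFieldExceptional
import Cfsg.Agent.Lib.Techniques.IndexP

/-!
A regular linear group of even order with at most two elements of order three has a subgroup of
index two.
-/

open scoped commutatorElement

namespace CfsgLib.Perm

/-- A subgroup of index two gives a sign homomorphism. -/
theorem exists_hom_of_index_two {G : Type*} [Group G] {N : Subgroup G} (h : N.index = 2) :
    ∃ μ : G →* ℤˣ, ∃ x, μ x ≠ 1 := by
  classical
  obtain ⟨a, ha⟩ := Subgroup.index_eq_two_iff.1 h
  refine ⟨{ toFun := fun x => if x ∈ N then 1 else -1, map_one' := if_pos N.one_mem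
            map_mul' := fun x y => ?_ }, a, ?_⟩
  · by_cases hx : x ∈ N <;> by_cases hy : y ∈ N <;>
      simp [Subgroup.mul_mem_iff_of_index_two h, hx, hy]
  · show (if a ∈ N then (1 : ℤˣ) else -1) ≠ 1
    have h1 := ha 1
    rw [one_mul] at h1
    rcases h1 with ⟨-, h2⟩ | ⟨-, h2⟩
    · exact absurd N.one_mem h2
    · simp [h2]

/-- A normal subgroup of index `2 ^ k`, `k ≥ 1`, gives a subgroup of index two. -/
theorem exists_index_two_of_normal {G : Type*} [Group G] [Finite G] (R : Subgroup G) [R.Normal]
    {k : ℕ} (hk : R.index = 2 ^ (k + 1)) : ∃ N : Subgroup G, N.index = 2 := by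
  have : Fact (Nat.Prime 2) := ⟨Nat.prime_two⟩
  have hc : Nat.card (G ⧸ R) = 2 ^ (k + 1) := hk
  obtain ⟨K, hK⟩ := Sylow.exists_subgroup_card_pow_prime (G := G ⧸ R) 2
    (n := k) (hc ▸ pow_dvd_pow 2 k.le_succ)
  refine ⟨K.comap (QuotientGroup.mk' R), ?_⟩
  rw [Subgroup.index_comap_of_surjective _ (QuotientGroup.mk'_surjective R)]
  have := K.card_mul_index
  rw [hK, hc, pow_succ] at this
  exact Nat.eq_of_mul_eq_mul_left (by positivity) this

theorem exists_index_two_of_card {G : Type*} [Group G] [Finite G]
    (h : Nat.card G = 8 ∨ Nat.card G = 16 ∨ Nat.card G = 40 ∨ Nat.card G = 176) :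
    ∃ N : Subgroup G, N.index = 2 := by
  rcases h with h | h | h | h
  · exact exists_index_two_of_normal ⊥ (k := 2) (by rw [Subgroup.index_bot, h]; rfl)
  · exact exists_index_two_of_normal ⊥ (k := 3) (by rw [Subgroup.index_bot, h]; rfl)
  · exact aux 5 2 Nat.prime_five h (by decide)
  · exact aux 11 3 (by norm_num) h (by decide)
where
  aux (r k : ℕ) (hr : r.Prime) (h : Nat.card G = 2 ^ (k + 1) * r)
      (hd : r ≠ 2 ∧ ∀ d ∈ (2 ^ (k + 1)).divisors, d % r = 1 → d = 1) :
      ∃ N : Subgroup G, N.index = 2 := by
    have := Fact.mk hr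
    let R : Sylow r G := default
    have hcop : ¬ r ∣ 2 ^ (k + 1) := fun hh =>
      hd.1 ((Nat.prime_dvd_prime_iff_eq hr Nat.prime_two).1 (hr.dvd_of_dvd_pow hh))
    have hR : Nat.card R = r := by
      rw [R.card_eq_multiplicity, h, Nat.factorization_mul (by positivity) hr.ne_zero,
        Finsupp.add_apply, Nat.factorization_eq_zero_of_not_dvd hcop, hr.factorization_self, zero_add,
        pow_one]
    have hidx : (R : Subgroup G).index = 2 ^ (k + 1) := by
      have := (R : Subgroup G).card_mul_index
      rw [hR, h, mul_comm (2 ^ (k + 1))] at this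
      exact Nat.eq_of_mul_eq_mul_left hr.pos this
    have hone : Nat.card (Sylow r G) = 1 := by
      refine hd.2 _ (Nat.mem_divisors.2 ⟨hidx ▸ R.card_dvd_index, by positivity⟩) ?_
      have := card_sylow_modEq_one r G
      rwa [Nat.ModEq, Nat.mod_eq_of_lt hr.one_lt] at this
    have : Subsingleton (Sylow r G) := (Nat.card_eq_one_iff_unique.1 hone).1
    have := R.normal_of_subsingleton
    exact exists_index_two_of_normal (R : Subgroup G) hidx

/-- A cyclic Sylow `2`-subgroup is not inside the derived group. -/
theorem not_le_commutator_of_isCyclic {G : Type*} [Group G] [Finite G] (he : 2 ∣ Nat.card G)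
    (S : Sylow 2 G) [hS : IsCyclic (S : Subgroup G)] : ¬ (S : Subgroup G) ≤ commutator G := by
  have : Fact (Nat.Prime 2) := ⟨Nat.prime_two⟩
  have hmin : (Nat.card G).minFac = 2 := (Nat.minFac_eq_two_iff _).2 he
  intro hle
  set φ := MonoidHom.transferSylow S (hS.normalizer_le_centralizer hmin)
  have hker : commutator G ≤ φ.ker := by
    rw [commutator_def, Subgroup.commutator_le]
    intro x _ y _
    rw [MonoidHom.mem_ker, map_commutatorElement, commutatorElement_eq_one_iff_mul_comm]
    exact (IsCyclic.isMulCommutative (α := (S : Subgroup G))).is_comm.comm (φ x) (φ y)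
  have hbot : (S : Subgroup G) = ⊥ :=
    (hS.isComplement' hmin).disjoint.symm.eq_bot_of_le (hle.trans hker)
  have h1 := S.ne_bot_of_dvd_card he
  exact h1 hbot

/-- `SL(2,5)` has three elements of order three. -/
theorem exists_three_order_three :
    ∃ x y z : Matrix.SpecialLinearGroup (Fin 2) (ZMod 5),
      x ≠ y ∧ x ≠ z ∧ y ≠ z ∧ orderOf x = 3 ∧ orderOf y = 3 ∧ orderOf z = 3 := by
  have : Fact (Nat.Prime 3) := ⟨Nat.prime_three⟩
  exact ⟨⟨!![0, 1; -1, -1], by decide⟩, ⟨!![-1, -1; 1, 0], by decide⟩, ⟨!![0, -1; 1, -1], by decide⟩,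
    fun h => absurd (congrArg Subtype.val h) (by decide), fun h => absurd (congrArg Subtype.val h) (by decide),
    fun h => absurd (congrArg Subtype.val h) (by decide),
    orderOf_eq_prime (Subtype.ext (by decide)) (fun h => absurd (congrArg Subtype.val h) (by decide)),
    orderOf_eq_prime (Subtype.ext (by decide)) (fun h => absurd (congrArg Subtype.val h) (by decide)),
    orderOf_eq_prime (Subtype.ext (by decide)) (fun h => absurd (congrArg Subtype.val h) (by decide))⟩

variable {p : ℕ} [Fact p.Prime] {V : Type*} [AddCommGroup V] [Module (ZMod p) V]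
  {H : Subgroup (V ≃ₗ[ZMod p] V)}

/-- A regular linear group of even order with at most two elements of order three has a subgroup of
index two. -/
theorem IsRegularLinear.exists_index_two (hreg : IsRegularLinear H) [Finite V] (he : 2 ∣ Nat.card H)
    (h3 : ∀ x y z : H, orderOf x = 3 → orderOf y = 3 → orderOf z = 3 → x = y ∨ x = z ∨ y = z) :
    ∃ N : Subgroup H, N.index = 2 := by
  classical
  have : Fact (Nat.Prime 2) := ⟨Nat.prime_two⟩
  have : Fact (Nat.Prime 3) := ⟨Nat.prime_three⟩
  have : Fact (Nat.Prime 5) := ⟨Nat.prime_five⟩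
  have : Finite (V ≃ₗ[ZMod p] V) := Finite.of_injective _ DFunLike.coe_injective
  have : Nontrivial V := by
    rcases subsingleton_or_nontrivial V with h | h
    · have : Subsingleton H := ⟨fun x y => Subtype.ext (LinearEquiv.ext fun v => Subsingleton.elim _ _)⟩
      rw [Nat.card_unique] at he
      omega
    · exact h
  by_cases hI : ∀ A : Subgroup H, A.Normal → IsCyclic A →
      ∃ W : Submodule (ZMod p) V, W ≠ ⊥ ∧ W ≠ ⊤ ∧ LinInv A W
  · by_cases hsolv : Group.IsSolvable H
    · have hcard := hreg.card_eq
      have hV := hreg.card_soluble_type_two hI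
      have h3d : 3 ∣ Nat.card H := by omega
      obtain ⟨x, hx⟩ := exists_prime_orderOf_dvd_card' 3 h3d
      by_cases hcen : ∀ g : H, g * x * g⁻¹ = x
      · have : (Subgroup.zpowers x).Normal := by
          refine ⟨fun m hm g => ?_⟩
          obtain ⟨i, rfl⟩ := Subgroup.mem_zpowers_iff.1 hm
          rw [← conj_zpow, hcen]
          exact zpow_mem (Subgroup.mem_zpowers x) i
        have hq := Subgroup.card_eq_card_quotient_mul_card_subgroup (Subgroup.zpowers x)
        rw [Nat.card_zpowers, hx] at hq
        obtain ⟨N, hN⟩ := exists_index_two_of_card (G := H ⧸ Subgroup.zpowers x) (by omega)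
        exact ⟨N.comap (QuotientGroup.mk' _), by
          rw [Subgroup.index_comap_of_surjective _ (QuotientGroup.mk'_surjective _), hN]⟩
      · push Not at hcen
        obtain ⟨a, ha⟩ := hcen
        have ho : ∀ g : H, orderOf (g * x * g⁻¹) = 3 := fun g => by rw [← MulAut.conj_apply, MulEquiv.orderOf_eq, hx]
        refine ⟨Subgroup.centralizer {x}, Subgroup.index_eq_two_iff.2 ⟨a, fun b => ?_⟩⟩
        have hmem : ∀ g : H, g ∈ Subgroup.centralizer ({x} : Set H) ↔ g * x * g⁻¹ = x := fun g => by
          rw [Subgroup.mem_centralizer_singleton_iff, mul_inv_eq_iff_eq_mul]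
        rw [hmem, hmem]
        have hne : b * a * x * (b * a)⁻¹ ≠ b * x * b⁻¹ := fun h => ha (by
          calc a * x * a⁻¹ = b⁻¹ * (b * a * x * (b * a)⁻¹) * b := by group
            _ = x := by rw [h]; group)
        by_cases hb : b * x * b⁻¹ = x
        · exact Or.inr ⟨hb, fun h => hne (h.trans hb.symm)⟩
        · refine Or.inl ⟨?_, hb⟩
          rcases h3 (b * a * x * (b * a)⁻¹) (b * x * b⁻¹) x (ho _) (ho _) hx with h | h | h
          · exact absurd h hne
          · exact h
          · exact absurd h hb
    · exfalso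
      have key : ∀ f : Matrix.SpecialLinearGroup (Fin 2) (ZMod 5) →* H, Function.Injective f → False := by
        intro f hf
        obtain ⟨x, y, z, hxy, hxz, hyz, hox, hoy, hoz⟩ := exists_three_order_three
        rcases h3 (f x) (f y) (f z) (by rw [orderOf_injective f hf, hox])
          (by rw [orderOf_injective f hf, hoy]) (by rw [orderOf_injective f hf, hoz]) with h | h | h
        · exact hxy (hf h)
        · exact hxz (hf h)
        · exact hyz (hf h)
      rcases hreg.insoluble_classification hsolv with ⟨-, ⟨i⟩⟩ | ⟨-, ⟨i⟩⟩ | ⟨-, ⟨i⟩⟩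
      · exact key i.symm.toMonoidHom i.symm.injective
      · exact key (i.symm.toMonoidHom.comp (MonoidHom.inl _ _))
          (i.symm.injective.comp fun u v h => (Prod.ext_iff.1 h).1)
      · exact key (i.symm.toMonoidHom.comp (MonoidHom.inl _ _))
          (i.symm.injective.comp fun u v h => (Prod.ext_iff.1 h).1)
  · push Not at hI
    obtain ⟨A, hAn, hAc, hno⟩ := hI
    have hirr : ∀ W : Submodule (ZMod p) V, LinInv A W → W = ⊥ ∨ W = ⊤ := fun W hW =>
      or_iff_not_imp_left.2 fun h0 => by
        by_contra htop
        exact hno W h0 htop hW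
    have := centralizer_comm_of_irreducible hirr
    have hcyc := hreg.isCyclic_abelian (Subgroup.centralizer (A : Set H))
    have hder : commutator H ≤ Subgroup.centralizer (A : Set H) := by
      rw [commutator_def, Subgroup.commutator_le]
      intro g _ h _
      have hAut : ∀ s t : MulAut A, s * t = t * s := fun s t =>
        (IsCyclic.mulAutMulEquiv A).injective (by rw [map_mul, map_mul, mul_comm])
      have h1 : (MulAut.conjNormal (G := H) (H := A)) ⁅g, h⁆ = 1 := by
        rw [map_commutatorElement, commutatorElement_eq_one_iff_mul_comm]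
        exact hAut _ _
      rw [Subgroup.mem_centralizer_iff]
      intro u hu
      have h2 := congrArg Subtype.val (DFunLike.congr_fun h1 (⟨u, hu⟩ : A))
      rw [MulAut.conjNormal_apply, MulAut.one_apply] at h2
      exact (mul_inv_eq_iff_eq_mul.1 h2).symm
    let S : Sylow 2 H := default
    have hS : ¬ (S : Subgroup H) ≤ commutator H := fun hle => by
      have : IsCyclic (S : Subgroup H) :=
        isCyclic_of_injective (Subgroup.inclusion (hle.trans hder)) (Subgroup.inclusion_injective _)
      exact not_le_commutator_of_isCyclic he S hle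
    obtain ⟨N, -, hN⟩ := CfsgLib.Techniques.exists_index_eq_of_not_le_commutator S hS
    exact ⟨N, hN⟩

end CfsgLib.Perm
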