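import Mathlib

/-!
Products of parts of a partition: the numbers behind the abelian subgroups of largest order of `A_n`.
-/

set_option autoImplicit false

namespace CfsgLib.AltAbelian

/-- The largest order of an abelian subgroup of `A_n`, for `4 ≤ n`. -/
def maxOrd (n : ℕ) : ℕ :=
  if n = 5 then 5 else if n % 3 = 0 then 3 ^ (n / 3) else if n % 3 = 1 then 4 * 3 ^ (n / 3 - 1)
    else 16 * 3 ^ (n / 3 - 2)

/-- The orbit sizes of such a subgroup. -/
def maxParts (n : ℕ) : Multiset ℕ :=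
  if n = 5 then {5} else if n % 3 = 0 then Multiset.replicate (n / 3) 3
    else if n % 3 = 1 then 4 ::ₘ Multiset.replicate (n / 3 - 1) 3
    else 4 ::ₘ 4 ::ₘ Multiset.replicate (n / 3 - 2) 3

theorem maxParts_prod (n : ℕ) : (maxParts n).prod = maxOrd n := by
  unfold maxParts maxOrd
  split_ifs <;> simp [Multiset.prod_replicate, ← mul_assoc]

/-- A multiset of positive parts of sum `n`. -/
def IsParts (n : ℕ) (M : Multiset ℕ) : Prop := (∀ j ∈ M, 0 < j) ∧ M.sum = n

theorem finite_parts (n : ℕ) : {M | IsParts n M}.Finite :=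
  (Set.finite_range fun p : Nat.Partition n => p.parts).subset
    fun M hM => ⟨⟨M, fun {j} hj => hM.1 j hj, hM.2⟩, rfl⟩

theorem prod_pos_of {n : ℕ} {M : Multiset ℕ} (h : IsParts n M) : 0 < M.prod :=
  Nat.pos_of_ne_zero fun e => absurd (h.1 0 (Multiset.prod_eq_zero_iff.1 e)) (lt_irrefl 0)

/-- If everything but `C` can be improved, `C` has the largest product. -/
theorem best_of_improve (S : Set (Multiset ℕ)) (hS : S.Finite) (P : Multiset ℕ → Prop)
    (h : ∀ M ∈ S, ¬ P M → ∃ M' ∈ S, M.prod < M'.prod) (M : Multiset ℕ) (hM : M ∈ S) :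
    ∃ M₀ ∈ S, P M₀ ∧ M.prod ≤ M₀.prod := by
  obtain ⟨M₀, hM₀, hmax⟩ := hS.exists_maximalFor Multiset.prod S ⟨M, hM⟩
  refine ⟨M₀, hM₀, ?_, ?_⟩
  · by_contra hP
    obtain ⟨M', hM', hlt⟩ := h M₀ hM₀ hP
    exact absurd (hmax hM' hlt.le) (not_le.2 hlt)
  · rcases le_total M.prod M₀.prod with h | h
    · exact h
    · exact hmax hM h

theorem eq_replicates {M : Multiset ℕ} (h : ∀ j ∈ M, j = 3 ∨ j = 4) :
    M = Multiset.replicate (M.count 4) 4 + Multiset.replicate (M.count 3) 3 := by
  ext j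
  simp only [Multiset.count_add, Multiset.count_replicate]
  by_cases h4 : j = 4
  · subst h4; simp
  by_cases h3 : j = 3
  · subst h3; simp
  rw [if_neg (Ne.symm h4), if_neg (Ne.symm h3), Multiset.count_eq_zero.2 fun hj => (h j hj).elim h3 h4]

theorem improve_noTwo {n : ℕ} (hn : 4 ≤ n) {M : Multiset ℕ} (hM : IsParts n M) (h2 : 2 ∉ M) (hne : M ≠ maxParts n) :
    ∃ M', (IsParts n M' ∧ 2 ∉ M') ∧ M.prod < M'.prod := by
  by_cases hbig : ∃ j ∈ M, 6 ≤ j
  · obtain ⟨j, hj, hj6⟩ := hbig
    obtain ⟨R, rfl⟩ := Multiset.exists_cons_of_mem hj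
    refine ⟨3 ::ₘ (j - 3) ::ₘ R, ⟨⟨?_, ?_⟩, ?_⟩, ?_⟩
    · simp only [Multiset.mem_cons, forall_eq_or_imp]
      exact ⟨by omega, by omega, fun a ha => hM.1 a (Multiset.mem_cons_of_mem ha)⟩
    · have := hM.2; simp only [Multiset.sum_cons] at this ⊢; omega
    · simp only [Multiset.mem_cons, not_or] at h2 ⊢
      exact ⟨by omega, by omega, h2.2⟩
    · have hR : 0 < R.prod := prod_pos_of (n := R.sum) ⟨fun a ha => hM.1 a (Multiset.mem_cons_of_mem ha), rfl⟩
      simp only [Multiset.prod_cons, ← mul_assoc]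
      exact Nat.mul_lt_mul_of_pos_right (by omega) hR
  push Not at hbig
  by_cases h1 : 1 ∈ M
  · obtain ⟨R, rfl⟩ := Multiset.exists_cons_of_mem h1
    by_cases hR : ∃ j ∈ R, 3 ≤ j
    · obtain ⟨j, hj, hj3⟩ := hR
      obtain ⟨R', rfl⟩ := Multiset.exists_cons_of_mem hj
      refine ⟨(j + 1) ::ₘ R', ⟨⟨?_, ?_⟩, ?_⟩, ?_⟩
      · simp only [Multiset.mem_cons, forall_eq_or_imp]
        exact ⟨by omega, fun a ha => hM.1 a (Multiset.mem_cons_of_mem (Multiset.mem_cons_of_mem ha))⟩
      · have := hM.2; simp only [Multiset.sum_cons] at this ⊢; omega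
      · simp only [Multiset.mem_cons, not_or] at h2 ⊢
        exact ⟨by omega, h2.2.2⟩
      · have hR : 0 < R'.prod := prod_pos_of (n := R'.sum)
          ⟨fun a ha => hM.1 a (Multiset.mem_cons_of_mem (Multiset.mem_cons_of_mem ha)), rfl⟩
        simp only [Multiset.prod_cons, one_mul]
        exact Nat.mul_lt_mul_of_pos_right (by omega) hR
    · push Not at hR
      refine ⟨{n}, ⟨⟨by simp; omega, by simp⟩, by simp; omega⟩, ?_⟩
      have hone : (1 ::ₘ R).prod = 1 := Multiset.prod_eq_one fun a ha => by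
        rcases Multiset.mem_cons.1 ha with rfl | ha
        · rfl
        · have := hR a ha
          have := hM.1 a (Multiset.mem_cons_of_mem ha)
          have : a ≠ 2 := fun e => h2 (e ▸ Multiset.mem_cons_of_mem ha)
          omega
      rw [hone, Multiset.prod_singleton]
      omega
  by_cases h5 : 5 ∈ M
  · obtain ⟨R, rfl⟩ := Multiset.exists_cons_of_mem h5
    rcases Multiset.empty_or_exists_mem R with rfl | ⟨j, hj⟩
    · refine absurd ?_ hne
      have : n = 5 := by simpa using hM.2.symm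
      subst this
      simp [maxParts]
    obtain ⟨R', rfl⟩ := Multiset.exists_cons_of_mem hj
    have hj' : j = 3 ∨ j = 4 ∨ j = 5 := by
      have := hbig j (by simp)
      have := hM.1 j (by simp)
      have : j ≠ 2 := fun e => h2 (by simp [e])
      have : j ≠ 1 := fun e => h1 (by simp [e])
      omega
    have hR : 0 < R'.prod := prod_pos_of (n := R'.sum)
      ⟨fun a ha => hM.1 a (Multiset.mem_cons_of_mem (Multiset.mem_cons_of_mem ha)), rfl⟩
    have hrest : ∀ a ∈ R', 0 < a := fun a ha => hM.1 a (Multiset.mem_cons_of_mem (Multiset.mem_cons_of_mem ha))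
    simp only [Multiset.mem_cons, not_or] at h2
    have hsum := hM.2
    simp only [Multiset.sum_cons] at hsum
    rcases hj' with rfl | rfl | rfl
    · refine ⟨4 ::ₘ 4 ::ₘ R', ⟨⟨by simpa using hrest, by simp; omega⟩, by simp [h2.2.2]⟩, ?_⟩
      simp only [Multiset.prod_cons, ← mul_assoc]; omega
    · refine ⟨3 ::ₘ 3 ::ₘ 3 ::ₘ R', ⟨⟨by simpa using hrest, by simp; omega⟩, by simp [h2.2.2]⟩, ?_⟩
      simp only [Multiset.prod_cons, ← mul_assoc]; omega
    · refine ⟨3 ::ₘ 3 ::ₘ 4 ::ₘ R', ⟨⟨by simpa using hrest, by simp; omega⟩, by simp [h2.2.2]⟩, ?_⟩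
      simp only [Multiset.prod_cons, ← mul_assoc]; omega
  have h34 : ∀ j ∈ M, j = 3 ∨ j = 4 := fun j hj => by
    have := hbig j hj
    have := hM.1 j hj
    have : j ≠ 2 := fun e => h2 (e ▸ hj)
    have : j ≠ 1 := fun e => h1 (e ▸ hj)
    have : j ≠ 5 := fun e => h5 (e ▸ hj)
    omega
  have heq := eq_replicates h34
  set a := M.count 4
  set b := M.count 3
  have hsum : a * 4 + b * 3 = n := by
    have := hM.2
    rw [heq] at this
    simpa using this
  by_cases ha : 3 ≤ a
  · obtain ⟨c, hc⟩ : ∃ c, a = c + 3 := ⟨a - 3, by omega⟩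
    rw [hc] at hsum heq
    refine ⟨Multiset.replicate c 4 + Multiset.replicate (b + 4) 3, ⟨⟨?_, ?_⟩, ?_⟩, ?_⟩
    · intro j hj
      rcases Multiset.mem_add.1 hj with h | h <;> rw [Multiset.eq_of_mem_replicate h] <;> omega
    · simp; omega
    · intro hj
      rcases Multiset.mem_add.1 hj with h | h <;> simpa using Multiset.eq_of_mem_replicate h
    · rw [heq]
      simp only [Multiset.prod_add, Multiset.prod_replicate, pow_add]
      have : 0 < 4 ^ c * 3 ^ b := by positivity
      nlinarith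
  · refine absurd ?_ hne
    rw [heq, maxParts]
    rcases (by omega : a = 0 ∨ a = 1 ∨ a = 2) with e | e | e <;> rw [e] at hsum ⊢
    · rw [if_neg (by omega), if_pos (by omega), Multiset.replicate_zero, zero_add]
      congr 1; omega
    · rw [if_neg (by omega), if_neg (by omega), if_pos (by omega), Multiset.replicate_one, Multiset.singleton_add]
      congr 2; omega
    · rw [if_neg (by omega), if_neg (by omega), if_neg (by omega),
        show Multiset.replicate 2 4 = (4 ::ₘ 4 ::ₘ 0 : Multiset ℕ) from rfl]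
      simp only [Multiset.cons_add, zero_add]
      congr 3; omega

theorem prod_le_maxOrd {n : ℕ} (hn : 4 ≤ n) {M : Multiset ℕ} (hM : IsParts n M) (h2 : 2 ∉ M) :
    M.prod ≤ maxOrd n ∧ (M.prod = maxOrd n → M = maxParts n) := by
  have key : ∀ N, IsParts n N → 2 ∉ N → N.prod ≤ maxOrd n := fun N hN hN2 => by
    obtain ⟨M₀, -, hP, hle⟩ := best_of_improve {M | IsParts n M ∧ 2 ∉ M}
      ((finite_parts n).subset fun _ h => h.1) (fun M => M = maxParts n)
      (fun M h hne => improve_noTwo hn h.1 h.2 hne) N ⟨hN, hN2⟩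
    rwa [hP, maxParts_prod] at hle
  refine ⟨key M hM h2, fun he => by_contra fun hne => ?_⟩
  obtain ⟨M', ⟨h', h2'⟩, hlt⟩ := improve_noTwo hn hM h2 hne
  exact absurd (key M' h' h2') (by omega)

theorem prod_lt_maxOrd {n : ℕ} (hn : 4 ≤ n) {M : Multiset ℕ} (hM : IsParts (n - 2) M) :
    M.prod < maxOrd n := by
  have himp : ∀ N ∈ {N | IsParts (n - 2) N}, ¬ ((∀ j ∈ N, j = 2 ∨ j = 3 ∨ j = 4) ∧ N.count 4 * 2 + N.count 2 ≤ 2) →
      ∃ N' ∈ {N | IsParts (n - 2) N}, N.prod < N'.prod := by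
    intro N hN hP
    by_cases hbig : ∃ j ∈ N, 5 ≤ j
    · obtain ⟨j, hj, hj5⟩ := hbig
      obtain ⟨R, rfl⟩ := Multiset.exists_cons_of_mem hj
      refine ⟨3 ::ₘ (j - 3) ::ₘ R, ⟨?_, ?_⟩, ?_⟩
      · simp only [Multiset.mem_cons, forall_eq_or_imp]
        exact ⟨by omega, by omega, fun a ha => hN.1 a (Multiset.mem_cons_of_mem ha)⟩
      · have := hN.2; simp only [Multiset.sum_cons] at this ⊢; omega
      · have hR : 0 < R.prod := prod_pos_of (n := R.sum) ⟨fun a ha => hN.1 a (Multiset.mem_cons_of_mem ha), rfl⟩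
        simp only [Multiset.prod_cons, ← mul_assoc]
        exact Nat.mul_lt_mul_of_pos_right (by omega) hR
    push Not at hbig
    by_cases h1 : 1 ∈ N
    · obtain ⟨R, rfl⟩ := Multiset.exists_cons_of_mem h1
      rcases Multiset.empty_or_exists_mem R with rfl | ⟨j, hj⟩
      · have := hN.2; simp at this; omega
      obtain ⟨R', rfl⟩ := Multiset.exists_cons_of_mem hj
      refine ⟨(j + 1) ::ₘ R', ⟨?_, ?_⟩, ?_⟩
      · simp only [Multiset.mem_cons, forall_eq_or_imp]
        exact ⟨by omega, fun a ha => hN.1 a (Multiset.mem_cons_of_mem (Multiset.mem_cons_of_mem ha))⟩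
      · have := hN.2; simp only [Multiset.sum_cons] at this ⊢; omega
      · have hR : 0 < R'.prod := prod_pos_of (n := R'.sum)
          ⟨fun a ha => hN.1 a (Multiset.mem_cons_of_mem (Multiset.mem_cons_of_mem ha)), rfl⟩
        simp only [Multiset.prod_cons, one_mul]
        exact Nat.mul_lt_mul_of_pos_right (by omega) hR
    have h234 : ∀ j ∈ N, j = 2 ∨ j = 3 ∨ j = 4 := fun j hj => by
      have := hbig j hj
      have := hN.1 j hj
      have : j ≠ 1 := fun e => h1 (e ▸ hj)
      omega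
    have hc : 2 < N.count 4 * 2 + N.count 2 := by
      by_contra hc; exact hP ⟨h234, by omega⟩
    have go : ∀ X Y : Multiset ℕ, X ≤ N → (∀ j ∈ Y, 0 < j) → Y.sum = X.sum → X.prod < Y.prod →
        ∃ N' ∈ {N | IsParts (n - 2) N}, N.prod < N'.prod := by
      intro X Y hX hY hs hp
      obtain ⟨R, rfl⟩ := Multiset.le_iff_exists_add.1 hX
      refine ⟨Y + R, ⟨fun j hj => ?_, ?_⟩, ?_⟩
      · rcases Multiset.mem_add.1 hj with h | h
        · exact hY j h
        · exact hN.1 j (Multiset.mem_add.2 (Or.inr h))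
      · have := hN.2
        simp only [Multiset.sum_add] at this ⊢; omega
      · have hR : 0 < R.prod := prod_pos_of (n := R.sum) ⟨fun a ha => hN.1 a (Multiset.mem_add.2 (Or.inr ha)), rfl⟩
        simp only [Multiset.prod_add]
        exact Nat.mul_lt_mul_of_pos_right hp hR
    rcases (by omega : 3 ≤ N.count 2 ∨ 2 ≤ N.count 4 ∨ (1 ≤ N.count 4 ∧ 1 ≤ N.count 2)) with h | h | ⟨h, h'⟩
    · exact go (Multiset.replicate 3 2) {3, 3} (Multiset.le_count_iff_replicate_le.1 h) (by simp) rfl (by norm_num)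
    · exact go (Multiset.replicate 2 4) {3, 3, 2} (Multiset.le_count_iff_replicate_le.1 h) (by simp) rfl (by norm_num)
    · refine go {4, 2} {3, 3} ?_ (by simp) rfl (by norm_num)
      refine Multiset.le_iff_count.2 fun j => ?_
      rcases eq_or_ne j 4 with rfl | h4
      · simpa using h
      rcases eq_or_ne j 2 with rfl | h2
      · simpa using h'
      simp [h4, h2]
  obtain ⟨M₀, hM₀, ⟨h234, hc⟩, hle⟩ := best_of_improve _ (finite_parts (n - 2)) _ himp M hM
  refine lt_of_le_of_lt hle ?_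
  have heq : M₀ = Multiset.replicate (M₀.count 4) 4 + Multiset.replicate (M₀.count 2) 2 +
      Multiset.replicate (M₀.count 3) 3 := by
    ext j
    simp only [Multiset.count_add, Multiset.count_replicate]
    by_cases h4 : j = 4
    · subst h4; simp
    by_cases h2 : j = 2
    · subst h2; simp
    by_cases h3 : j = 3
    · subst h3; simp
    rw [if_neg (Ne.symm h4), if_neg (Ne.symm h2), if_neg (Ne.symm h3),
      Multiset.count_eq_zero.2 fun hj => by rcases h234 j hj with e | e | e <;> omega]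
  set a := M₀.count 4
  set c := M₀.count 2
  set b := M₀.count 3
  have hsum : a * 4 + c * 2 + b * 3 = n - 2 := by
    have := hM₀.2
    rw [heq] at this
    simpa using this
  rw [heq]
  simp only [Multiset.prod_add, Multiset.prod_replicate]
  have hb : 0 < 3 ^ b := by positivity
  unfold maxOrd
  rcases (by omega : (a = 1 ∧ c = 0) ∨ (a = 0 ∧ c = 0) ∨ (a = 0 ∧ c = 1) ∨ (a = 0 ∧ c = 2))
    with ⟨ea, ec⟩ | ⟨ea, ec⟩ | ⟨ea, ec⟩ | ⟨ea, ec⟩ <;> rw [ea, ec] at hsum ⊢
  · rw [if_neg (by omega), if_pos (by omega), show n / 3 = b + 2 by omega, pow_add]; omega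
  · by_cases h5 : n = 5
    · rw [if_pos h5, show b = 1 by omega]; norm_num
    · rw [if_neg h5, if_neg (by omega), if_neg (by omega)]
      obtain ⟨d, hd⟩ : ∃ d, b = d + 1 + 1 := ⟨b - 2, by omega⟩
      rw [hd] at hsum ⊢
      rw [show n / 3 - 2 = d by omega, pow_succ, pow_succ]
      have : 0 < 3 ^ d := by positivity
      omega
  · rw [if_neg (by omega), if_neg (by omega), if_pos (by omega), show n / 3 - 1 = b by omega]; omega
  · rw [if_neg (by omega), if_pos (by omega), show n / 3 = b + 2 by omega, pow_add]; omega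

end CfsgLib.AltAbelian
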