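import Cfsg.Agent.Lib.Perm.AltAbelianArith

/-!
Abelian subgroups of largest order of an alternating group are conjugate.
-/

set_option autoImplicit false
set_option linter.unusedSectionVars false

namespace CfsgLib.AltAbelian

open Equiv Equiv.Perm Pointwise

variable {α : Type*} [Fintype α] [DecidableEq α]

/-- An abelian group of even permutations. -/
def EvenAbelian (H : Subgroup (Perm α)) : Prop :=
  (∀ a ∈ H, ∀ b ∈ H, a * b = b * a) ∧ ∀ a ∈ H, sign a = 1

/-! ### Restrictions to blocks -/

section blocks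

variable {I : Type*} (π : α → I)

/-- The permutations preserving the blocks of `π`, regular on each block and of exponent two on blocks of four. -/
def blockSet : Set (Perm α) :=
  {g | ∀ x, π (g x) = π x ∧ (g x = x → ∀ y, π y = π x → g y = y) ∧
    (Nat.card {y // π y = π x} = 4 → g (g x) = x)}

variable [DecidableEq I]

/-- The permutation of a block, as a permutation of `Fin s`. -/
noncomputable def blockPerm {s : ℕ} (i : I) (hs : Fintype.card {y // π y = i} = s) (g : Perm α)
    (hg : ∀ x, π (g x) = i ↔ π x = i) : Perm (Fin s) :=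
  (Fintype.equivFinOfCardEq hs).permCongr (g.subtypePerm hg)

theorem blockPerm_apply {s : ℕ} (i : I) (hs : Fintype.card {y // π y = i} = s) (g : Perm α)
    (hg : ∀ x, π (g x) = i ↔ π x = i) (z : {y // π y = i}) :
    ((Fintype.equivFinOfCardEq hs).symm (blockPerm π i hs g hg (Fintype.equivFinOfCardEq hs z)) : α) = g z := by
  simp [blockPerm, Equiv.permCongr_apply]

set_option maxRecDepth 100000 in
theorem det_three : ∀ σ : Perm (Fin 3), (σ = 1 ∨ ∀ j, σ j ≠ j) → ∀ τ : Perm (Fin 3), (τ = 1 ∨ ∀ j, τ j ≠ j) →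
    ∀ j, σ j = τ j → σ = τ := by decide +kernel

set_option maxRecDepth 100000 in
theorem det_four : ∀ σ : Perm (Fin 4), σ * σ = 1 → (σ = 1 ∨ ∀ j, σ j ≠ j) →
    ∀ τ : Perm (Fin 4), τ * τ = 1 → (τ = 1 ∨ ∀ j, τ j ≠ j) → ∀ j, σ j = τ j → σ = τ := by decide +kernel

set_option maxRecDepth 100000 in
theorem even_four : ∀ σ : Perm (Fin 4), sign σ = 1 → (σ = 1 ∨ ∀ j, σ j ≠ j) → σ * σ = 1 := by decide +kernel

theorem blockPerm_fix {s : ℕ} (i : I) (hs : Fintype.card {y // π y = i} = s) {g : Perm α}
    (hg : ∀ x, π (g x) = i ↔ π x = i) (hfix : ∀ x, π x = i → g x = x → ∀ y, π y = i → g y = y) :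
    blockPerm π i hs g hg = 1 ∨ ∀ j, blockPerm π i hs g hg j ≠ j := by
  by_cases h : ∀ j, blockPerm π i hs g hg j ≠ j
  · exact Or.inr h
  · push Not at h
    obtain ⟨j, hj⟩ := h
    left
    let E := Fintype.equivFinOfCardEq hs
    have hx : g (E.symm j : α) = (E.symm j : α) := by
      have h1 := blockPerm_apply π i hs g hg (E.symm j)
      rw [Equiv.apply_symm_apply, hj] at h1
      exact h1.symm
    refine Equiv.ext fun k => E.symm.injective (Subtype.ext ?_)
    have h1 := blockPerm_apply π i hs g hg (E.symm k)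
    rw [Equiv.apply_symm_apply, hfix _ (E.symm j).2 hx _ (E.symm k).2] at h1
    simpa using h1

theorem blockSet_agree {g g' : Perm α} (hg : g ∈ blockSet π) (hg' : g' ∈ blockSet π) {x : α}
    (hs : Fintype.card {y // π y = π x} = 3 ∨ Fintype.card {y // π y = π x} = 4) (hx : g x = g' x) :
    ∀ y, π y = π x → g y = g' y := by
  have mem : ∀ {h : Perm α}, h ∈ blockSet π → ∀ z, π (h z) = π x ↔ π z = π x := fun hh z => by rw [(hh z).1]
  have fix : ∀ {h : Perm α}, h ∈ blockSet π → ∀ z, π z = π x → h z = z → ∀ y, π y = π x → h y = y :=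
    fun hh z hz hzz y hy => (hh z).2.1 hzz y (hy.trans hz.symm)
  intro y hy
  obtain ⟨s, hcard⟩ : ∃ s, Fintype.card {y // π y = π x} = s := ⟨_, rfl⟩
  have hval : blockPerm π (π x) hcard g (mem hg) (Fintype.equivFinOfCardEq hcard ⟨x, rfl⟩) =
      blockPerm π (π x) hcard g' (mem hg') (Fintype.equivFinOfCardEq hcard ⟨x, rfl⟩) := by
    refine (Fintype.equivFinOfCardEq hcard).symm.injective (Subtype.ext ?_)
    rw [blockPerm_apply, blockPerm_apply]
    exact hx
  have hfg := blockPerm_fix π (π x) hcard (mem hg) (fix hg)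
  have hfg' := blockPerm_fix π (π x) hcard (mem hg') (fix hg')
  have heq : blockPerm π (π x) hcard g (mem hg) = blockPerm π (π x) hcard g' (mem hg') := by
    rcases hs with h | h <;> rw [hcard] at h <;> subst h
    · exact det_three _ hfg _ hfg' _ hval
    · have sq : ∀ {h : Perm α} (hh : h ∈ blockSet π),
          blockPerm π (π x) hcard h (mem hh) * blockPerm π (π x) hcard h (mem hh) = 1 := by
        intro h hh
        refine Equiv.ext fun k => (Fintype.equivFinOfCardEq hcard).symm.injective (Subtype.ext ?_)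
        set E := Fintype.equivFinOfCardEq hcard
        have h1 := blockPerm_apply π (π x) hcard h (mem hh) (E.symm k)
        rw [Equiv.apply_symm_apply] at h1
        have h2 := blockPerm_apply π (π x) hcard h (mem hh) (E.symm (blockPerm π (π x) hcard h (mem hh) k))
        rw [Equiv.apply_symm_apply, h1] at h2
        rw [Perm.mul_apply, h2, Perm.one_apply]
        have hc : Nat.card {z // π z = π (E.symm k : α)} = 4 := by
          rw [(E.symm k).2, Nat.card_eq_fintype_card, hcard]
        exact (hh _).2.2 hc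
      exact det_four _ (sq hg) hfg _ (sq hg') hfg' _ hval
  have h1 := blockPerm_apply π (π x) hcard g (mem hg) ⟨y, hy⟩
  rw [heq, blockPerm_apply] at h1
  exact h1.symm

theorem ncard_blockSet_le [Fintype I] (hsurj : Function.Surjective π)
    (hs : ∀ i, Fintype.card {y // π y = i} = 3 ∨ Fintype.card {y // π y = i} = 4) :
    (blockSet π).ncard ≤ ∏ i, Fintype.card {y // π y = i} := by
  choose r hr using hsurj
  let f : blockSet π → ((i : I) → {y // π y = i}) := fun g i => ⟨g.1 (r i), ((g.2 (r i)).1).trans (hr i)⟩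
  have hf : Function.Injective f := fun g g' h => Subtype.ext (Equiv.ext fun y =>
    blockSet_agree π g.2 g'.2 (by rw [hr]; exact hs (π y))
      (congrArg Subtype.val (congrFun h (π y))) y (hr (π y)).symm)
  have := Nat.card_le_card_of_injective f hf
  rw [Nat.card_coe_set_eq, Nat.card_eq_fintype_card, Fintype.card_pi] at this
  exact this

end blocks

/-! ### Orbits -/

section orbits

variable (H : Subgroup (Perm α))

/-- The orbit of a point. -/
abbrev proj : α → Quotient (MulAction.orbitRel H α) := Quotient.mk _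

noncomputable instance : DecidableEq (Quotient (MulAction.orbitRel H α)) := Classical.decEq _
noncomputable instance : Fintype (Quotient (MulAction.orbitRel H α)) := Fintype.ofFinite _

/-- The orbit sizes. -/
noncomputable def sizes : Multiset ℕ :=
  (Finset.univ : Finset (Quotient (MulAction.orbitRel H α))).val.map fun q => Fintype.card {y // proj H y = q}

theorem proj_eq_iff {x y : α} : proj H x = proj H y ↔ ∃ a ∈ H, a y = x := by
  rw [Quotient.eq, MulAction.orbitRel_apply, MulAction.mem_orbit_iff]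
  exact ⟨fun ⟨a, ha⟩ => ⟨a, a.2, ha⟩, fun ⟨a, ha, h⟩ => ⟨⟨a, ha⟩, h⟩⟩

theorem proj_apply {a : Perm α} (ha : a ∈ H) (x : α) : proj H (a x) = proj H x :=
  (proj_eq_iff H).2 ⟨a, ha, rfl⟩

theorem sizes_isParts : IsParts (Fintype.card α) (sizes H) := by
  refine ⟨fun j hj => ?_, ?_⟩
  · obtain ⟨q, -, rfl⟩ := Multiset.mem_map.1 hj
    obtain ⟨x, rfl⟩ := Quotient.mk_surjective q
    exact Fintype.card_pos_iff.2 ⟨⟨x, rfl⟩⟩
  · show Finset.sum _ _ = _
    rw [← Fintype.card_sigma]
    exact Fintype.card_congr (Equiv.sigmaFiberEquiv (proj H))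

theorem sizes_prod : (sizes H).prod = ∏ q, Fintype.card {y // proj H y = q} := rfl

variable {H}

theorem agree (hH : EvenAbelian H) {a b : Perm α} (ha : a ∈ H) (hb : b ∈ H) {x : α} (h : a x = b x) {y : α}
    (hy : proj H y = proj H x) : a y = b y := by
  obtain ⟨c, hc, rfl⟩ := (proj_eq_iff H).1 hy
  rw [← Perm.mul_apply, hH.1 a ha c hc, Perm.mul_apply, h, ← Perm.mul_apply, hH.1 c hc b hb, Perm.mul_apply]

/-- Evaluation at representatives of the orbits in `S`. -/
noncomputable def coordMap (S : Quotient (MulAction.orbitRel H α) → Prop) (a : H) :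
    (q : {q // S q}) → {y // proj H y = (q : Quotient (MulAction.orbitRel H α))} :=
  fun q => ⟨(a : Perm α) (Quotient.out q.1), (proj_apply H a.2 _).trans (Quotient.out_eq _)⟩

theorem coordMap_agree (hH : EvenAbelian H) {S : Quotient (MulAction.orbitRel H α) → Prop} {a b : H}
    (h : coordMap S a = coordMap S b) {x : α} (hx : S (proj H x)) : (a : Perm α) x = (b : Perm α) x :=
  agree hH a.2 b.2 (congrArg Subtype.val (congrFun h ⟨proj H x, hx⟩)) (Quotient.out_eq _).symm

theorem coordMap_injective (hH : EvenAbelian H) : Function.Injective (coordMap (H := H) fun _ => True) :=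
  fun _ _ h => Subtype.ext (Equiv.ext fun x => coordMap_agree hH h (x := x) trivial)

theorem card_le_prod (hH : EvenAbelian H) : Nat.card H ≤ (sizes H).prod := by
  have := Nat.card_le_card_of_injective _ (coordMap_injective hH)
  rw [Nat.card_pi] at this
  rw [sizes_prod]
  refine this.trans (le_of_eq ?_)
  simp only [Nat.card_eq_fintype_card]
  exact Fintype.prod_equiv (Equiv.subtypeUnivEquiv fun _ => trivial) _ _ fun _ => rfl

theorem card_le_of_two (hH : EvenAbelian H) (h2 : 2 ∈ sizes H) :
    ∃ M, IsParts (Fintype.card α - 2) M ∧ Nat.card H ≤ M.prod := by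
  classical
  obtain ⟨q₀, -, hq₀⟩ := Multiset.mem_map.1 h2
  have hinj : Function.Injective (coordMap (H := H) fun q => q ≠ q₀) := by
    intro a b h
    by_contra hne
    set c : Perm α := (a : Perm α)⁻¹ * b
    have hc : c ∈ H := mul_mem (inv_mem a.2) b.2
    have hsupp : c.support ⊆ Finset.univ.filter fun y => proj H y = q₀ := fun y hy => by
      refine Finset.mem_filter.2 ⟨Finset.mem_univ _, by_contra fun hy' => Perm.mem_support.1 hy ?_⟩
      show (a : Perm α)⁻¹ ((b : Perm α) y) = y
      rw [← coordMap_agree hH h (x := y) hy', Perm.inv_def, Equiv.symm_apply_apply]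
    have hcard : c.support.card ≤ 2 := (Finset.card_le_card hsupp).trans
      (by rw [← hq₀, Fintype.card_subtype])
    have hc1 : c ≠ 1 := fun e => hne (Subtype.ext (inv_mul_eq_one.1 e))
    have h2' : c.support.card = 2 := by
      have := Perm.card_support_le_one.not.2 hc1
      omega
    have := hH.2 c hc
    rw [Perm.IsSwap.sign_eq (Perm.card_support_eq_two.1 h2')] at this
    exact absurd this (by decide)
  refine ⟨(sizes H).erase 2, ⟨fun j hj => (sizes_isParts H).1 j (Multiset.mem_of_mem_erase hj), ?_⟩, ?_⟩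
  · have := (sizes_isParts H).2
    rw [← Multiset.cons_erase h2, Multiset.sum_cons] at this
    omega
  · have h1 := Nat.card_le_card_of_injective _ hinj
    rw [Nat.card_pi] at h1
    simp only [Nat.card_eq_fintype_card] at h1 ⊢
    refine h1.trans (le_of_eq ?_)
    have hm : (sizes H).erase 2 = (Finset.univ.erase q₀).val.map fun q => Fintype.card {y // proj H y = q} := by
      rw [sizes, Finset.erase_val]
      conv_lhs => rw [← Multiset.cons_erase (Finset.mem_univ q₀ : q₀ ∈ (Finset.univ : Finset (Quotient (MulAction.orbitRel H α))).val), Multiset.map_cons, hq₀]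
      rw [Multiset.erase_cons_head]
    rw [hm]
    exact (Finset.prod_subtype (p := fun q => q ≠ q₀) (Finset.univ.erase q₀) (fun q => by simp)
      (fun q => Fintype.card {y // proj H y = q})).symm

theorem card_le_maxOrd (hH : EvenAbelian H) (hn : 4 ≤ Fintype.card α) : Nat.card H ≤ maxOrd (Fintype.card α) := by
  by_cases h2 : 2 ∈ sizes H
  · obtain ⟨M, hM, hle⟩ := card_le_of_two hH h2
    exact hle.trans (prod_lt_maxOrd hn hM).le
  · exact (card_le_prod hH).trans (prod_le_maxOrd hn (sizes_isParts H) h2).1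

theorem max_structure (hH : EvenAbelian H) (hn : 4 ≤ Fintype.card α) (h5 : Fintype.card α ≠ 5)
    (hc : Nat.card H = maxOrd (Fintype.card α)) :
    sizes H = maxParts (Fintype.card α) ∧ (H : Set (Perm α)) = blockSet (proj H) := by
  classical
  have h2 : 2 ∉ sizes H := fun h => by
    obtain ⟨M, hM, hle⟩ := card_le_of_two hH h
    have := prod_lt_maxOrd hn hM
    omega
  obtain ⟨hle, heq⟩ := prod_le_maxOrd hn (sizes_isParts H) h2
  have hprod : (sizes H).prod = maxOrd (Fintype.card α) := le_antisymm hle (hc ▸ card_le_prod hH)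
  have hM := heq hprod
  have h34 : ∀ q, Fintype.card {y // proj H y = q} = 3 ∨ Fintype.card {y // proj H y = q} = 4 := fun q => by
    have hq : Fintype.card {y // proj H y = q} ∈ sizes H := Multiset.mem_map.2 ⟨q, Finset.mem_univ q, rfl⟩
    rw [hM, maxParts, if_neg h5] at hq
    split_ifs at hq <;> simp [Multiset.mem_replicate] at hq <;> omega
  have hsur : Function.Surjective (coordMap (H := H) fun _ => True) := by
    refine ((Fintype.bijective_iff_injective_and_card _).2 ⟨coordMap_injective hH, ?_⟩).2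
    rw [← Nat.card_eq_fintype_card, hc, ← hprod, sizes_prod, Fintype.card_pi]
    exact (Fintype.prod_equiv (Equiv.subtypeUnivEquiv fun _ => trivial) _ _ fun _ => rfl).symm
  have hfour : ∀ g ∈ H, ∀ x, Fintype.card {y // proj H y = proj H x} = 4 → g (g x) = x := by
    intro g hg x hx
    obtain ⟨a, ha⟩ := hsur fun q => if q.1 = proj H x then coordMap (fun _ => True) ⟨g, hg⟩ q
      else coordMap (fun _ => True) 1 q
    have hin : ∀ y, proj H y = proj H x → (a : Perm α) y = g y := fun y hy => by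
      have h1 := congrFun ha ⟨proj H x, trivial⟩
      rw [if_pos rfl] at h1
      exact agree hH a.2 hg (congrArg Subtype.val h1) (hy.trans (Quotient.out_eq _).symm)
    have hout : ∀ y, proj H y ≠ proj H x → (a : Perm α) y = y := fun y hy => by
      have h1 := congrFun ha ⟨proj H y, trivial⟩
      rw [if_neg hy] at h1
      exact agree hH a.2 (one_mem H) (congrArg Subtype.val h1) (Quotient.out_eq _).symm
    have hp : ∀ z, proj H ((a : Perm α) z) = proj H x ↔ proj H z = proj H x := fun z => by rw [proj_apply H a.2]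
    have hsign : sign (blockPerm (proj H) (proj H x) hx a hp) = 1 := by
      rw [blockPerm, Perm.sign_permCongr,
        Perm.sign_subtypePerm _ hp fun z hz => by_contra fun h => hz (hout z h)]
      exact hH.2 _ a.2
    have hfix := blockPerm_fix (proj H) (proj H x) hx hp fun z hz hzz y hy =>
      agree hH a.2 (one_mem H) (x := z) hzz (hy.trans hz.symm)
    have hsq := even_four _ hsign hfix
    have h1 := congrArg (fun σ : Perm (Fin 4) =>
      ((Fintype.equivFinOfCardEq hx).symm (σ (Fintype.equivFinOfCardEq hx ⟨x, rfl⟩)) : α)) hsq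
    simp only [Perm.mul_apply, Perm.one_apply, Equiv.symm_apply_apply] at h1
    rw [show blockPerm (proj H) (proj H x) hx a hp (Fintype.equivFinOfCardEq hx ⟨x, rfl⟩) =
        Fintype.equivFinOfCardEq hx ⟨(a : Perm α) x, (hp x).2 rfl⟩ by simp [blockPerm, Equiv.permCongr_apply],
      blockPerm_apply] at h1
    simpa [hin x rfl, hin (g x) (proj_apply H hg x)] using h1
  have hsub : (H : Set (Perm α)) ⊆ blockSet (proj H) := fun g hg x =>
    ⟨proj_apply H hg x, fun hgx y hy => agree hH hg (one_mem H) (x := x) hgx hy, fun h4 => hfour g hg x (by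
      rwa [Nat.card_eq_fintype_card] at h4)⟩
  refine ⟨hM, Set.eq_of_subset_of_ncard_le hsub ?_ (Set.toFinite _)⟩
  refine (ncard_blockSet_le (proj H) Quotient.mk_surjective h34).trans (le_of_eq ?_)
  rw [← sizes_prod, hprod, ← hc]
  exact Nat.card_coe_set_eq _

theorem blockSet_conj {I J : Type*} {π : α → I} {π' : α → J} (e : I ≃ J) (σ : Perm α)
    (hσ : ∀ x, π' (σ x) = e (π x)) {g : Perm α} (hg : g ∈ blockSet π) : σ * g * σ⁻¹ ∈ blockSet π' := by
  intro x
  have hx : ∀ y, π' y = e (π (σ⁻¹ y)) := fun y => by rw [← hσ, Perm.inv_def, Equiv.apply_symm_apply]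
  simp only [Perm.mul_apply]
  refine ⟨by rw [hσ, (hg _).1, hx x], fun h y hy => ?_, fun h4 => ?_⟩
  · have h1 : g (σ⁻¹ x) = σ⁻¹ x := σ.injective (by rw [h]; simp [Perm.inv_def])
    rw [(hg _).2.1 h1 (σ⁻¹ y) (e.injective (by rw [← hx, ← hx, hy])), Perm.inv_def, Equiv.apply_symm_apply]
  · rw [Perm.inv_def, Equiv.symm_apply_apply, (hg _).2.2, Equiv.apply_symm_apply]
    rw [← h4]
    exact Nat.card_congr (σ.subtypeEquiv fun z => by rw [hσ, hx x, e.apply_eq_iff_eq]; rfl)

theorem conj_of_sizes {A B : Subgroup (Perm α)} (hA : (A : Set (Perm α)) = blockSet (proj A))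
    (hB : (B : Set (Perm α)) = blockSet (proj B)) (hs : sizes A = sizes B) (hc : Nat.card A = Nat.card B)
    {x y : α} (hxy : x ≠ y) (hblock : proj A x = proj A y) :
    ∃ σ : Perm α, sign σ = 1 ∧ MulAut.conj σ • A = B := by
  classical
  let cA := fun q => Fintype.card {z // proj A z = q}
  let cB := fun q => Fintype.card {z // proj B z = q}
  have hcount : ∀ s, Fintype.card {q // cA q = s} = Fintype.card {q // cB q = s} := fun s => by
    have hg : ∀ {I : Type _} [Fintype I] (c : I → ℕ),
        Fintype.card {q // c q = s} = ((Finset.univ : Finset I).val.map c).count s := fun {I} _ c => by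
      rw [Multiset.count_map, Fintype.card_subtype]
      exact congrArg Multiset.card (Multiset.filter_congr fun q _ => eq_comm)
    rw [hg cA, hg cB]
    exact congrArg (Multiset.count s) hs
  let e : Quotient (MulAction.orbitRel A α) ≃ Quotient (MulAction.orbitRel B α) :=
    Equiv.ofFiberEquiv (f := cA) (g := cB) fun s => Fintype.equivOfCardEq (hcount s)
  have he : ∀ q, cB (e q) = cA q := fun q => Equiv.ofFiberEquiv_map _ q
  let σ : Perm α := (Equiv.sigmaFiberEquiv (proj A)).symm.trans
    ((Equiv.sigmaCongr e fun q => Fintype.equivOfCardEq (he q).symm).trans (Equiv.sigmaFiberEquiv (proj B)))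
  have hσ : ∀ z, proj B (σ z) = e (proj A z) := fun z =>
    (Fintype.equivOfCardEq (he (proj A z)).symm ⟨z, rfl⟩).2
  obtain ⟨τ, hτ, hτs⟩ : ∃ τ : Perm α, (∀ z, proj B (τ z) = e (proj A z)) ∧ sign τ = 1 := by
    rcases Int.units_eq_one_or (sign σ) with h | h
    · exact ⟨σ, hσ, h⟩
    · refine ⟨σ * Equiv.swap x y, fun z => ?_, by rw [Perm.sign_mul, h, sign_swap hxy]; rfl⟩
      rw [Perm.mul_apply, hσ]
      congr 1
      rcases eq_or_ne z x with rfl | hzx
      · rw [Equiv.swap_apply_left, hblock]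
      rcases eq_or_ne z y with rfl | hzy
      · rw [Equiv.swap_apply_right, hblock]
      · rw [Equiv.swap_apply_of_ne_of_ne hzx hzy]
  refine ⟨τ, hτs, Subgroup.eq_of_le_of_card_ge ?_ ?_⟩
  · rintro _ ⟨g, hg, rfl⟩
    show τ * g * τ⁻¹ ∈ (B : Set (Perm α))
    rw [hB]
    exact blockSet_conj e τ hτ (hA ▸ hg)
  · rw [← hc]
    exact le_of_eq (Nat.card_congr (Subgroup.equivSMul _ A).toEquiv)

end orbits

/-! ### Examples of the largest order -/

theorem exists_sum {a b : ℕ} {H₁ : Subgroup (Perm (Fin a))} {H₂ : Subgroup (Perm (Fin b))}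
    (h₁ : EvenAbelian H₁) (h₂ : EvenAbelian H₂) :
    ∃ H : Subgroup (Perm (Fin (a + b))), EvenAbelian H ∧ Nat.card H = Nat.card H₁ * Nat.card H₂ := by
  let φ : Perm (Fin a) × Perm (Fin b) →* Perm (Fin (a + b)) :=
    (finSumFinEquiv.permCongrHom : Perm (Fin a ⊕ Fin b) ≃* Perm (Fin (a + b))).toMonoidHom.comp
      (Perm.sumCongrHom (Fin a) (Fin b))
  have hφ : Function.Injective φ := (finSumFinEquiv.permCongrHom : Perm (Fin a ⊕ Fin b) ≃* _).injective.comp
    Perm.sumCongrHom_injective
  refine ⟨(H₁.prod H₂).map φ, ⟨?_, ?_⟩, ?_⟩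
  · rintro _ ⟨p, hp, rfl⟩ _ ⟨p', hp', rfl⟩
    rw [← map_mul, ← map_mul]
    exact congrArg φ (Prod.ext (h₁.1 _ hp.1 _ hp'.1) (h₂.1 _ hp.2 _ hp'.2))
  · rintro _ ⟨p, hp, rfl⟩
    show sign (finSumFinEquiv.permCongr (Equiv.sumCongr p.1 p.2)) = 1
    rw [Perm.sign_permCongr, Perm.sign_sumCongr, h₁.2 _ hp.1, h₂.2 _ hp.2, one_mul]
  · rw [Subgroup.card_map_of_injective hφ, Nat.card_congr (Subgroup.prodEquiv H₁ H₂).toEquiv, Nat.card_prod]

theorem exists_cycle (n : ℕ) (hn : n = 3 ∨ n = 5) : ∃ H : Subgroup (Perm (Fin n)), EvenAbelian H ∧ Nat.card H = n := by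
  refine ⟨Subgroup.zpowers (finRotate n), ⟨?_, ?_⟩, ?_⟩
  · rintro _ ⟨i, rfl⟩ _ ⟨j, rfl⟩; exact (Commute.zpow_zpow_self _ i j).eq
  · rintro _ ⟨i, rfl⟩
    simp only [map_zpow]
    rcases hn with rfl | rfl <;>
      rw [sign_finRotate] <;> norm_num
  · rw [Nat.card_zpowers]
    rcases hn with rfl | rfl <;>
      rw [(isCycle_finRotate).orderOf, support_finRotate] <;> simp

theorem exists_klein : ∃ H : Subgroup (Perm (Fin 4)), EvenAbelian H ∧ Nat.card H = 4 := by
  let S : Finset (Perm (Fin 4)) :=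
    {1, Equiv.swap 0 1 * Equiv.swap 2 3, Equiv.swap 0 2 * Equiv.swap 1 3, Equiv.swap 0 3 * Equiv.swap 1 2}
  let H : Subgroup (Perm (Fin 4)) :=
    { carrier := S
      one_mem' := by simp [S]
      mul_mem' := fun {a b} ha hb => by revert a b; decide +kernel
      inv_mem' := fun {a} ha => by revert a; decide +kernel }
  refine ⟨H, ⟨?_, ?_⟩, ?_⟩
  · show ∀ a ∈ S, ∀ b ∈ S, a * b = b * a
    decide +kernel
  · show ∀ a ∈ S, sign a = 1
    decide +kernel
  · show Nat.card (S : Set (Perm (Fin 4))) = 4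
    rw [Nat.card_coe_set_eq, Set.ncard_coe_finset]
    decide +kernel

theorem exists_maxOrd : ∀ n, 3 ≤ n → ∃ H : Subgroup (Perm (Fin n)), EvenAbelian H ∧ Nat.card H = maxOrd n := by
  intro n
  induction n using Nat.strong_induction_on with
  | _ n ih =>
    intro hn
    rcases (by omega : n = 3 ∨ n = 4 ∨ n = 5 ∨ n = 8 ∨ (6 ≤ n ∧ n ≠ 8)) with rfl | rfl | rfl | rfl | ⟨h6, h8⟩
    · exact exists_cycle 3 (Or.inl rfl)
    · exact exists_klein
    · exact exists_cycle 5 (Or.inr rfl)
    · obtain ⟨H, h, hc⟩ := exists_klein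
      obtain ⟨K, hK, hKc⟩ := exists_sum h h
      exact ⟨K, hK, by rw [hKc, hc]; rfl⟩
    · obtain ⟨m, rfl⟩ : ∃ m, n = m + 3 := ⟨n - 3, by omega⟩
      obtain ⟨H, h, hc⟩ := ih m (by omega) (by omega)
      obtain ⟨C, hC, hCc⟩ := exists_cycle 3 (Or.inl rfl)
      obtain ⟨K, hK, hKc⟩ := exists_sum h hC
      refine ⟨K, hK, ?_⟩
      rw [hKc, hc, hCc]
      unfold maxOrd
      rw [if_neg (by omega : ¬ m + 3 = 5), if_neg (by omega : ¬ m = 5), show (m + 3) % 3 = m % 3 by omega]
      split_ifs with h0 h1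
      · rw [show (m + 3) / 3 = m / 3 + 1 by omega, pow_succ]
      · rw [show (m + 3) / 3 - 1 = m / 3 - 1 + 1 by omega, pow_succ]; ring
      · rw [show (m + 3) / 3 - 2 = m / 3 - 2 + 1 by omega, pow_succ]; ring

theorem conjugate_max (n : ℕ) (A B : Subgroup (alternatingGroup (Fin n))) (hA : IsMulCommutative A)
    (hB : IsMulCommutative B)
    (hAmax : ∀ C : Subgroup (alternatingGroup (Fin n)), IsMulCommutative C → Nat.card C ≤ Nat.card A)
    (hBmax : ∀ C : Subgroup (alternatingGroup (Fin n)), IsMulCommutative C → Nat.card C ≤ Nat.card B) :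
    ∃ g : alternatingGroup (Fin n), B = MulAut.conj g • A := by
  classical
  rcases Nat.lt_or_ge n 4 with hn | hn
  · have hcomm : ∀ a b : alternatingGroup (Fin n), a * b = b * a := by
      interval_cases n <;> decide +kernel
    have htop : IsMulCommutative (⊤ : Subgroup (alternatingGroup (Fin n))) :=
      ⟨⟨fun a b => Subtype.ext (hcomm a b)⟩⟩
    have h1 : ∀ C : Subgroup (alternatingGroup (Fin n)),
        Nat.card (⊤ : Subgroup (alternatingGroup (Fin n))) ≤ Nat.card C → C = ⊤ := fun C h =>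
      Subgroup.eq_of_le_of_card_ge le_top h
    refine ⟨1, ?_⟩
    rw [h1 A (hAmax ⊤ htop), h1 B (hBmax ⊤ htop), map_one, one_smul]
  have hev : ∀ C : Subgroup (alternatingGroup (Fin n)), IsMulCommutative C →
      EvenAbelian (C.map (alternatingGroup (Fin n)).subtype) := fun C hC =>
    ⟨by
      rintro _ ⟨a, ha, rfl⟩ _ ⟨b, hb, rfl⟩
      exact congrArg (fun z : C => ((z : alternatingGroup (Fin n)) : Perm (Fin n)))
        (hC.is_comm.comm ⟨a, ha⟩ ⟨b, hb⟩),
      by rintro _ ⟨a, -, rfl⟩; exact mem_alternatingGroup.1 a.2⟩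
  have hcard : ∀ C : Subgroup (alternatingGroup (Fin n)),
      Nat.card (C.map (alternatingGroup (Fin n)).subtype) = Nat.card C := fun C =>
    Subgroup.card_map_of_injective (Subgroup.subtype_injective _)
  have hex : ∀ C : Subgroup (alternatingGroup (Fin n)), IsMulCommutative C →
      (∀ D : Subgroup (alternatingGroup (Fin n)), IsMulCommutative D → Nat.card D ≤ Nat.card C) →
      Nat.card C = maxOrd n := by
    intro C hC hmax
    obtain ⟨H, hH, hHc⟩ := exists_maxOrd n (by omega)
    have hle : H ≤ alternatingGroup (Fin n) := fun a ha => mem_alternatingGroup.2 (hH.2 a ha)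
    have h1 := hmax (H.subgroupOf (alternatingGroup (Fin n)))
      ⟨⟨fun a b => Subtype.ext (Subtype.ext (hH.1 _ a.2 _ b.2))⟩⟩
    rw [Nat.card_congr (Subgroup.subgroupOfEquivOfLe hle).toEquiv, hHc] at h1
    have h2 := card_le_maxOrd (hev C hC) (by simpa using hn)
    rw [hcard, Fintype.card_fin] at h2
    omega
  have hA' := hex A hA hAmax
  have hB' := hex B hB hBmax
  by_cases h5 : n = 5
  · subst h5
    have hfac : (Nat.card (alternatingGroup (Fin 5))).factorization 5 = 1 := by
      rw [nat_card_alternatingGroup, Nat.card_eq_fintype_card, Fintype.card_fin,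
        show Nat.factorial 5 / 2 = 5 * 12 from rfl, Nat.factorization_mul (by norm_num) (by norm_num),
        Finsupp.add_apply, Nat.Prime.factorization_self (by norm_num),
        Nat.factorization_eq_zero_of_not_dvd (by norm_num)]
    haveI : Fact (Nat.Prime 5) := ⟨by norm_num⟩
    have hp : ∀ C : Subgroup (alternatingGroup (Fin 5)), Nat.card C = maxOrd 5 →
        Nat.card C = 5 ^ (Nat.card (alternatingGroup (Fin 5))).factorization 5 := fun C h => by
      rw [hfac, h]; rfl
    obtain ⟨g, hg⟩ := MulAction.exists_smul_eq (alternatingGroup (Fin 5)) (Sylow.ofCard A (hp A hA'))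
      (Sylow.ofCard B (hp B hB'))
    exact ⟨g, (congrArg Sylow.toSubgroup hg).symm⟩
  obtain ⟨hMA, hA2⟩ := max_structure (hev A hA) (by simpa using hn) (by simpa using h5)
    (by rw [hcard, hA', Fintype.card_fin])
  obtain ⟨hMB, hB2⟩ := max_structure (hev B hB) (by simpa using hn) (by simpa using h5)
    (by rw [hcard, hB', Fintype.card_fin])
  set A₀ := A.map (alternatingGroup (Fin n)).subtype
  let q := proj A₀ ⟨0, by omega⟩
  have h3 : 1 < Fintype.card {y // proj A₀ y = q} := by
    have hq : Fintype.card {y // proj A₀ y = q} ∈ sizes A₀ := Multiset.mem_map.2 ⟨q, Finset.mem_univ q, rfl⟩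
    rw [hMA, maxParts, Fintype.card_fin, if_neg h5] at hq
    split_ifs at hq <;> simp [Multiset.mem_replicate] at hq <;> omega
  obtain ⟨⟨x, hx⟩, ⟨y, hy⟩, hxy⟩ := Fintype.exists_pair_of_one_lt_card h3
  obtain ⟨τ, hτ, hconj⟩ := conj_of_sizes hA2 hB2 (hMA.trans hMB.symm) (by rw [hcard, hcard, hA', hB'])
    (fun e => hxy (Subtype.ext e)) (hx.trans hy.symm)
  refine ⟨⟨τ, mem_alternatingGroup.2 hτ⟩, Subgroup.map_injective (Subgroup.subtype_injective _) ?_⟩
  rw [← hconj]
  ext a
  simp only [Subgroup.mem_map]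
  constructor
  · rintro ⟨_, ⟨b, hb, rfl⟩, rfl⟩
    exact ⟨MulAut.conj (⟨τ, mem_alternatingGroup.2 hτ⟩ : alternatingGroup (Fin n)) b, ⟨b, hb, rfl⟩, rfl⟩
  · rintro ⟨_, ⟨b, hb, rfl⟩, rfl⟩
    exact ⟨_, ⟨b, hb, rfl⟩, rfl⟩

end CfsgLib.AltAbelian
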