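import Cfsg.Agent.Lib.Perm.Sylvester
import Cfsg.Agent.Lib.Perm.JordanCycle

/-!
Elements of order the largest prime divisor of the index of a subgroup of an alternating group,
none of whose conjugates lie in the subgroup.
-/

set_option autoImplicit false
set_option linter.style.haveILetI false

namespace CfsgLib.Perm.AltDerange

open Equiv MulAction
open scoped Pointwise

variable {α : Type*} [Fintype α] [DecidableEq α]

theorem preprimitive_of_cycle (H : Subgroup (Perm α)) [IsPretransitive H α] {g : Perm α}
    (hg : g ∈ H) (hc : g.IsCycle) {q : ℕ} (hq : q.Prime) (hgq : g.support.card = q)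
    (hbig : Fintype.card α < 2 * q) : IsPreprimitive H α := by
  obtain ⟨a, ha⟩ : g.support.Nonempty := Finset.card_pos.1 (hgq ▸ hq.pos)
  refine IsPreprimitive.of_isTrivialBlock_base a fun {B} haB hB => ?_
  by_cases hsub : B.Subsingleton
  · exact .inl hsub
  right
  obtain ⟨b, hbB, c, hcB, hbc⟩ := Set.not_subsingleton_iff.1 hsub
  have h2 : 2 ≤ B.ncard := (Set.one_lt_ncard_iff (Set.toFinite B)).2 ⟨b, c, hbB, hcB, hbc⟩
  have hmul := hB.ncard_block_mul_ncard_orbit_eq ⟨b, hbB⟩
  rw [Nat.card_eq_fintype_card] at hmul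
  set gH : H := ⟨g, hg⟩
  have hord : orderOf gH = q := by rw [← Subgroup.orderOf_coe, hc.orderOf, hgq]
  have hdvd : (stabilizer (Subgroup.zpowers gH) B).index ∣ q := by
    have h := Subgroup.index_dvd_card (stabilizer (Subgroup.zpowers gH) B)
    rwa [Nat.card_zpowers, hord] at h
  rcases (Nat.dvd_prime hq).1 hdvd with h1 | h1
  · -- the block is invariant under the cycle
    have hfix : gH • B = B := by
      have : (⟨gH, Subgroup.mem_zpowers gH⟩ : Subgroup.zpowers gH) ∈ stabilizer (Subgroup.zpowers gH) B := by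
        rw [Subgroup.index_eq_one.1 h1]; exact Subgroup.mem_top _
      exact this
    have hsup : (g.support : Set α) ⊆ B := by
      intro x hx
      have hx' : x ∈ g.support := hx
      obtain ⟨i, hi⟩ := hc.sameCycle (Perm.mem_support.1 ha) (Perm.mem_support.1 hx')
      have hi' : (gH ^ i) • B = B := by
        have : gH ∈ stabilizer H B := hfix
        exact Subgroup.zpow_mem _ this i
      rw [← hi', ← hi]
      refine ⟨a, haB, ?_⟩
      show ((gH ^ i : H) : Perm α) a = _
      rw [SubgroupClass.coe_zpow]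
    have h3 : q ≤ B.ncard := by
      rw [← hgq, ← Set.ncard_coe_finset]
      exact Set.ncard_le_ncard hsup (Set.toFinite B)
    refine Set.eq_univ_of_univ_subset ?_
    rw [Set.eq_of_subset_of_ncard_le (Set.subset_univ B) ?_ (Set.toFinite _)]
    rw [Set.ncard_univ, Nat.card_eq_fintype_card, ← hmul]
    rcases Nat.lt_or_ge (orbit H B).ncard 2 with h4 | h4
    · have := Nat.mul_le_mul_left B.ncard (Nat.lt_succ_iff.1 h4)
      omega
    · exfalso
      have := Nat.mul_le_mul h3 h4
      omega
  · exfalso
    rw [index_stabilizer] at h1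
    have h3 : q ≤ (orbit H B).ncard := by
      rw [← h1]
      refine Set.ncard_le_ncard ?_ (Set.toFinite _)
      rintro _ ⟨z, rfl⟩
      exact ⟨(z : H), rfl⟩
    have := Nat.mul_le_mul h2 h3
    omega

theorem mem_alternatingGroup_of_cycleType {g : Perm α} {s r : ℕ}
    (hg : g.cycleType = Multiset.replicate s r) (h : Even (s * r + s)) : g ∈ alternatingGroup α := by
  rw [Perm.mem_alternatingGroup, Perm.sign_of_cycleType, hg, Multiset.sum_replicate, Multiset.card_replicate,
    smul_eq_mul]
  exact h.neg_one_pow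

theorem orderOf_of_cycleType {g : Perm α} {s r : ℕ} (hr : r.Prime) (hs : 0 < s)
    (hg : g.cycleType = Multiset.replicate s r) : orderOf g = r := by
  have h1 : orderOf g ∣ r := by
    rw [← Perm.lcm_cycleType, hg]
    exact Multiset.lcm_dvd.2 fun b hb => (Multiset.eq_of_mem_replicate hb).symm ▸ dvd_rfl
  have h2 : r ∣ orderOf g := by
    rw [← Perm.lcm_cycleType, hg]
    exact Multiset.dvd_lcm (Multiset.mem_replicate.2 ⟨hs.ne', rfl⟩)
  exact Nat.dvd_antisymm h1 h2

theorem exists_conj_mem_of_not_dvd_index {A : Type*} [Group A] [Finite A] (K : Subgroup A) {p : ℕ}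
    [Fact p.Prime] {x : A} (hx : orderOf x = p) (hK : ¬ p ∣ K.index) : ∃ y : A, y * x * y⁻¹ ∈ K := by
  have hp : IsPGroup p (Subgroup.zpowers x) := IsPGroup.of_card (n := 1) (by rw [Nat.card_zpowers, hx, pow_one])
  obtain ⟨c, hc⟩ := hp.nonempty_fixed_point_of_prime_not_dvd_card (A ⧸ K) hK
  obtain ⟨y, rfl⟩ := QuotientGroup.mk_surjective c
  refine ⟨y⁻¹, ?_⟩
  have h : ((x * y : A) : A ⧸ K) = (y : A ⧸ K) := hc ⟨x, Subgroup.mem_zpowers x⟩
  have h2 := QuotientGroup.eq.1 h.symm
  rwa [inv_inv, mul_assoc]

/-- The index of a `k`-subset stabiliser of the alternating group. -/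
theorem index_stabilizer_subset (h3 : 3 ≤ Fintype.card α) (Δ : Set α) :
    (stabilizer (alternatingGroup α) Δ).index = (Fintype.card α).choose Δ.ncard := by
  haveI := Set.powersetCard.isPretransitive_alternatingGroup (α := α) (n := Δ.ncard)
    (by rwa [Nat.card_eq_fintype_card])
  let s : Set.powersetCard α Δ.ncard := ⟨(Set.toFinite Δ).toFinset, by
    show _ = _
    rw [← Set.ncard_eq_toFinset_card]⟩
  have hs : (s : Set α) = Δ := (Set.toFinite Δ).coe_toFinset
  have h := index_stabilizer_of_transitive (alternatingGroup α) (x := s)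
  have h' : stabilizer (alternatingGroup α) s = stabilizer (alternatingGroup α) Δ := by
    exact (Set.powersetCard.stabilizer_coe s).trans (congrArg _ hs)
  rw [h', Set.powersetCard.card, Nat.card_eq_fintype_card] at h
  exact h

/-- The element of order `r` none of whose conjugates lie in `K`. -/
theorem exists_no_conj (h5 : 5 ≤ Fintype.card α) (K : Subgroup (alternatingGroup α)) (hK : K ≠ ⊤)
    {r : ℕ} (hr : r.Prime) (hrd : r ∣ K.index) (hmax : ∀ s : ℕ, s.Prime → s ∣ K.index → s ≤ r)
    (hint : Fintype.card α ≠ 6 → ∀ x : α, Fintype.card α < 2 * (orbit K x).ncard → orbit K x ≠ Set.univ →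
      stabilizer (alternatingGroup α) (orbit K x) ≤ K) :
    ∃ x : alternatingGroup α, orderOf x = r ∧ ∀ y : alternatingGroup α, y * x * y⁻¹ ∉ K := by
  classical
  haveI := Fact.mk hr
  set n := Fintype.card α with hn
  by_cases hrK : r ∣ Nat.card K
  swap
  · obtain ⟨x, hx⟩ := exists_prime_orderOf_dvd_card' r (hrd.trans K.index_dvd_card)
    refine ⟨x, hx, fun y hy => hrK ?_⟩
    have h := K.orderOf_dvd_natCard hy
    rwa [← MulAut.conj_apply, MulEquiv.orderOf_eq, hx] at h
  have h2r : 2 * r ≤ n := by
    by_contra hlt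
    have h1 : r * r ∣ n.factorial := by
      have e : Nat.card K * K.index ∣ Nat.card (Perm α) := by
        rw [K.card_mul_index]; exact (alternatingGroup α).card_subgroup_dvd_card
      rw [Nat.card_perm, Nat.card_eq_fintype_card (α := α), ← hn] at e
      exact (mul_dvd_mul hrK hrd).trans e
    rw [← pow_two, hr.pow_dvd_iff_le_factorization (Nat.factorial_ne_zero n)] at h1
    rw [Nat.factorization_factorial hr (b := 2) (Nat.log_lt_of_lt_pow (by omega) (by
      have h2 : 2 * r ≤ r ^ 2 := by rw [pow_two]; exact Nat.mul_le_mul_right r hr.two_le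
      omega))] at h1
    simp at h1
    have h2 : n / r < 2 := by rw [Nat.div_lt_iff_lt_mul hr.pos]; omega
    omega
  -- a cycle of prime length more than half the degree
  obtain ⟨q, hq, hnq, hqn⟩ := Nat.exists_prime_lt_and_le_two_mul (n / 2) (by omega)
  haveI := Fact.mk hq
  have hqK : ¬ q ∣ K.index := fun h => by have := hmax q hq h; omega
  obtain ⟨c, hc⟩ : ∃ c : Perm α, c.cycleType = Multiset.replicate 1 q :=
    (Perm.exists_with_cycleType_iff α).2 ⟨by simp; omega, by simp [hq.two_le]⟩
  have hq2 : Odd q := hq.odd_of_ne_two (by omega)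
  have hcA : c ∈ alternatingGroup α :=
    mem_alternatingGroup_of_cycleType hc (by rw [one_mul]; exact hq2.add_odd odd_one)
  obtain ⟨y, hy⟩ := exists_conj_mem_of_not_dvd_index K (x := ⟨c, hcA⟩)
    (by rw [← Subgroup.orderOf_coe]; exact orderOf_of_cycleType hq one_pos hc) hqK
  set K' := K.map (alternatingGroup α).subtype with hK'
  set g : Perm α := (y : Perm α) * c * (y : Perm α)⁻¹ with hg
  have hgK' : g ∈ K' := ⟨_, hy, rfl⟩
  have hgct : g.cycleType = Multiset.replicate 1 q := by rw [hg, Perm.cycleType_conj, hc]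
  have hgc : g.IsCycle := by
    rw [← Perm.card_cycleType_eq_one, hgct, Multiset.card_replicate]
  have hgq : g.support.card = q := by
    rw [← Perm.sum_cycleType, hgct, Multiset.sum_replicate, smul_eq_mul, one_mul]
  have hne : ∀ {z : Perm α}, z ∈ K' → ¬ alternatingGroup α ≤ K' := fun _ hA =>
    hK (eq_top_iff.2 fun w _ => by
      obtain ⟨w', hw', e⟩ := hA w.2
      rwa [← Subtype.ext e])
  have hcast : ∀ (w : alternatingGroup α), w ∈ K → (w : Perm α) ∈ K' := fun w hw => ⟨w, hw, rfl⟩
  obtain ⟨a, ha⟩ : g.support.Nonempty := Finset.card_pos.1 (hgq ▸ hq.pos)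
  set Δ := orbit K a with hΔ
  have hinvΔ : ∀ z ∈ K', ∀ u, u ∈ Δ ↔ z u ∈ Δ := by
    rintro _ ⟨w, hw, rfl⟩ u
    exact (mem_orbit_symm.trans ⟨fun h => mem_orbit_symm.1 (by
        obtain ⟨v, hv⟩ := h
        exact ⟨v * (⟨w, hw⟩ : K)⁻¹, by
          show v • ((⟨w, hw⟩ : K)⁻¹ • ((⟨w, hw⟩ : K) • u)) = a
          rw [inv_smul_smul]; exact hv⟩),
      fun h => by
        obtain ⟨v, hv⟩ := mem_orbit_symm.2 h
        exact ⟨v * (⟨w, hw⟩ : K), by
          show v • ((⟨w, hw⟩ : K) • u) = a
          exact hv⟩⟩)
  have hsupΔ : (g.support : Set α) ⊆ Δ := by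
    intro x hx
    have hx' : x ∈ g.support := hx
    obtain ⟨i, hi⟩ := hgc.sameCycle (Perm.mem_support.1 ha) (Perm.mem_support.1 hx')
    obtain ⟨w, hw, e⟩ := K'.zpow_mem hgK' i
    exact ⟨⟨w, hw⟩, by show (w : Perm α) a = x; rw [← hi, ← e]; rfl⟩
  by_cases huniv : Δ = Set.univ
  · -- the transitive case
    haveI : IsPretransitive K' α := by
      rw [isPretransitive_iff_orbit_eq_univ a]
      refine Set.eq_univ_of_univ_subset fun x _ => ?_
      obtain ⟨v, hv⟩ : x ∈ Δ := huniv ▸ Set.mem_univ x
      exact ⟨⟨_, hcast _ v.2⟩, hv⟩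
    have hprim := preprimitive_of_cycle K' hgK' hgc hq hgq (by omega)
    have hno : ∀ {p : ℕ} (z : Perm α), p.Prime → z ∈ K' → p + 3 ≤ n →
        z.cycleType = Multiset.replicate 1 p → False := fun {p} z hp hz hpn hzct => by
      haveI := Fact.mk hp
      refine hne hz (CfsgLib.Perm.alternatingGroup_le_of_prime_cycle hprim hpn ?_ ?_ hz)
      · rw [← Perm.card_cycleType_eq_one, hzct, Multiset.card_replicate]
      · rw [← Perm.sum_cycleType, hzct, Multiset.sum_replicate, smul_eq_mul, one_mul]
    rcases hr.eq_two_or_odd' with rfl | hodd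
    · exfalso
      haveI := Fact.mk Nat.prime_three
      obtain ⟨t, ht⟩ : ∃ t : Perm α, t.cycleType = Multiset.replicate 1 3 :=
        (Perm.exists_with_cycleType_iff α).2 ⟨by simp; omega, by simp⟩
      have htA : t ∈ alternatingGroup α := mem_alternatingGroup_of_cycleType ht (by decide)
      obtain ⟨u, hu⟩ := exists_conj_mem_of_not_dvd_index K (p := 3) (x := ⟨t, htA⟩)
        (by rw [← Subgroup.orderOf_coe]; exact orderOf_of_cycleType Nat.prime_three one_pos ht)
        (fun h => by have := hmax 3 Nat.prime_three h; omega)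
      refine hne (hcast _ hu) (Perm.alternatingGroup_le_of_isPreprimitive_of_isThreeCycle_mem hprim ?_ (hcast _ hu))
      show Perm.cycleType _ = {3}
      push_cast
      rw [Perm.cycleType_conj, ht, Multiset.replicate_one]
    · have h3 : 3 ≤ r := by
        have := hr.two_le
        rcases Nat.eq_or_lt_of_le this with h | h
        · rw [← h] at hodd; exact absurd hodd (by decide)
        · omega
      obtain ⟨t, ht⟩ : ∃ t : Perm α, t.cycleType = Multiset.replicate 1 r :=
        (Perm.exists_with_cycleType_iff α).2 ⟨by simp; omega, by simp [hr.two_le]⟩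
      have htA : t ∈ alternatingGroup α :=
        mem_alternatingGroup_of_cycleType ht (by rw [one_mul]; exact hodd.add_odd odd_one)
      refine ⟨⟨t, htA⟩, by rw [← Subgroup.orderOf_coe]; exact orderOf_of_cycleType hr one_pos ht, fun u hu => ?_⟩
      exact hno _ hr (hcast _ hu) (by omega) (by push_cast; rw [Perm.cycleType_conj, ht])
  · -- the intransitive case
    set k := Δᶜ.ncard with hk
    have hcard : Δ.ncard + k = n := by rw [hk, Set.ncard_add_ncard_compl, Nat.card_eq_fintype_card]
    have hqΔ : q ≤ Δ.ncard := by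
      rw [← hgq, ← Set.ncard_coe_finset]
      exact Set.ncard_le_ncard hsupΔ (Set.toFinite Δ)
    have hk0 : 0 < k := by
      rw [hk, Set.ncard_pos (Set.toFinite _)]
      exact Set.nonempty_compl.2 huniv
    have hle : K ≤ stabilizer (alternatingGroup α) Δ := fun w hw => by
      rw [mem_stabilizer_iff]
      ext u
      rw [Set.mem_smul_set_iff_inv_smul_mem]
      have h := hinvΔ _ (hcast _ hw) ((w : Perm α)⁻¹ u)
      rw [Perm.inv_def, Equiv.apply_symm_apply] at h
      exact h
    have hidx := index_stabilizer_subset (α := α) (by omega) Δ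
    rw [show Δ.ncard = n - k by omega, ← hn, Nat.choose_symm (by omega)] at hidx
    have hchd : n.choose k ∣ K.index := hidx ▸ Subgroup.index_dvd_of_le hle
    obtain ⟨p, hp, hkp, hpd⟩ := Sylvester.exists_prime_gt_dvd_choose hk0 (m := n) (by omega)
    have hkr : k < r := lt_of_lt_of_le hkp (hmax p hp (hpd.trans hchd))
    have hmod : n % r < k := by
      by_cases h6 : n = 6
      · have : r = 2 ∨ r = 3 := by
          have := hr.two_le
          omega
        rcases this with rfl | rfl <;> omega
      · have hKeq : K = stabilizer (alternatingGroup α) Δ :=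
          le_antisymm hle (hint h6 a (by rw [← hΔ]; omega) huniv)
        rw [← hKeq] at hidx
        rw [hidx] at hrd
        by_contra hge
        have h := Choose.choose_modEq_choose_mod_mul_choose_div_nat (n := n) (k := k) (p := r)
        rw [Nat.mod_eq_of_lt hkr, Nat.div_eq_of_lt hkr, Nat.choose_zero_right, mul_one] at h
        have h2 : r ∣ (n % r).choose k := (Nat.ModEq.dvd_iff h dvd_rfl).1 hrd
        have h3 : r ∣ (n % r).factorial := by
          rw [← Nat.choose_mul_factorial_mul_factorial (show k ≤ n % r by omega)]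
          exact (h2.mul_right _).mul_right _
        have := hr.dvd_factorial.1 h3
        have := Nat.mod_lt n hr.pos
        omega
    set s := n / r with hs
    have hs0 : 0 < s := Nat.div_pos (by omega) hr.pos
    have hsn : s * r + n % r = n := by rw [hs, mul_comm]; exact Nat.div_add_mod n r
    have heven : Even (s * r + s) := by
      rcases hr.eq_two_or_odd' with rfl | hodd
      · have hk1 : k = 1 := by omega
        obtain ⟨e, he⟩ : ∃ e, n = 2 ^ e := ⟨_, Nat.eq_prime_pow_of_unique_prime_dvd (by omega) fun {d} hd hdn => by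
          have h := hmax d hd (dvd_trans (by rw [hk1, Nat.choose_one_right]; exact hdn) hchd)
          have := hd.two_le
          omega⟩
        have he3 : 2 ≤ e := by
          by_contra hlt
          have : 2 ^ e ≤ 2 ^ 2 := Nat.pow_le_pow_right two_pos (by omega)
          omega
        have h4 : 4 ∣ n := he ▸ (show 2 ^ 2 ∣ 2 ^ e from pow_dvd_pow 2 he3)
        exact (even_iff_two_dvd).2 (by omega)
      · rw [← mul_add_one]; exact hodd.add_one.mul_left _
    obtain ⟨t, ht⟩ : ∃ t : Perm α, t.cycleType = Multiset.replicate s r :=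
      (Perm.exists_with_cycleType_iff α).2 ⟨by rw [Multiset.sum_replicate, smul_eq_mul]; omega,
        fun b hb => (Multiset.eq_of_mem_replicate hb).symm ▸ hr.two_le⟩
    refine ⟨⟨t, mem_alternatingGroup_of_cycleType ht heven⟩,
      by rw [← Subgroup.orderOf_coe]; exact orderOf_of_cycleType hr hs0 ht, fun u hu => ?_⟩
    have hz := hcast _ hu
    push_cast at hz
    set z : Perm α := (u : Perm α) * t * (u : Perm α)⁻¹ with hzdef
    have hzct : z.cycleType = Multiset.replicate s r := by rw [hzdef, Perm.cycleType_conj, ht]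
    let σ : Perm {v // v ∉ Δ} := z.subtypePerm fun v => not_congr (hinvΔ z hz v).symm
    have hσr : σ ^ r = 1 := by
      ext v
      have e : z ^ r = 1 := orderOf_of_cycleType hr hs0 hzct ▸ pow_orderOf_eq_one z
      simp [σ, Perm.subtypePerm_pow, e]
    have hσ1 : σ = 1 := by
      rw [← orderOf_eq_one_iff]
      rcases (Nat.dvd_prime hr).1 (orderOf_dvd_of_pow_eq_one hσr) with h | h
      · exact h
      · exfalso
        have h2 := orderOf_dvd_natCard σ
        rw [h, Nat.card_perm] at h2
        have h3 := hr.dvd_factorial.1 h2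
        have h4 : Nat.card {v // v ∉ Δ} = k := rfl
        omega
    have hsupp : z.support.card = s * r := by
      rw [← Perm.sum_cycleType, hzct, Multiset.sum_replicate, smul_eq_mul]
    have hsub : Δᶜ ⊆ ((z.supportᶜ : Finset α) : Set α) := by
      intro v hv
      rw [Finset.mem_coe, Finset.mem_compl, Perm.notMem_support]
      exact congrArg Subtype.val (Perm.congr_fun hσ1 ⟨v, hv⟩)
    have h5 := Set.ncard_le_ncard hsub (Set.toFinite _)
    rw [Set.ncard_coe_finset, Finset.card_compl, hsupp] at h5
    omega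

end CfsgLib.Perm.AltDerange
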