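import Cfsg.Agent.Lib.CharsMore.Frobenius

/-!
Burnside: a minimal normal subgroup of a doubly transitive group is elementary abelian regular, or
simple and primitive.
-/

open MulAction
open scoped Pointwise

namespace CfsgLib.Perm

variable {α : Type*} {N : Type*} [Group N] [MulAction N α]

theorem eq_one_of_commute_transitive [FaithfulSMul N α] {T : Subgroup N}
    (hT : IsPretransitive T α) {u : N} (hu : ∀ t ∈ T, t * u = u * t) {a : α} (hua : u • a = a) :
    u = 1 := by
  refine eq_of_smul_eq_smul (α := α) fun x => ?_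
  obtain ⟨t, ht⟩ := hT.exists_smul_eq a x
  rw [one_smul, ← ht]
  change u • (t : N) • a = (t : N) • a
  rw [← mul_smul, ← hu t t.2, mul_smul, hua]

/-- Commuting elements with the same image of a point have powers with the same image. -/
theorem pow_smul_eq_of_commute {u w : N} (h : Commute u w) {a : α} (he : u • a = w • a) (k : ℕ) :
    u ^ k • a = w ^ k • a := by
  induction k with
  | zero => simp
  | succ k ih =>
    rw [pow_succ', mul_smul, ih, ← mul_smul, (h.pow_right k).eq, mul_smul, he, ← mul_smul,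
      ← pow_succ]

variable {G : Type*} [Group G] [MulAction G α] [FaithfulSMul G α] [Finite G] [Fintype α]

theorem normal_transitive_of_two_transitive (hG : IsMultiplyPretransitive G α 2) (M : Subgroup G)
    [M.Normal] (hM : M ≠ ⊥) : IsPretransitive M α := by
  have : IsPreprimitive G α := isPreprimitive_of_is_two_pretransitive hG
  refine IsQuasiPreprimitive.isPretransitive_of_normal fun h => hM ?_
  refine (Subgroup.eq_bot_iff_forall _).2 fun g hg => ?_
  refine eq_of_smul_eq_smul (α := α) fun x => ?_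
  rw [one_smul]
  have hx : x ∈ fixedPoints M α := h ▸ Set.mem_univ x
  exact hx ⟨g, hg⟩

/-- A group all of whose non-identity elements have the same order is a group of prime power
order, so it has a non-trivial centre. -/
theorem center_ne_bot_of_orderOf_eq {T : Type*} [Group T] [Finite T] [Nontrivial T] {e : ℕ}
    (h : ∀ t : T, t ≠ 1 → orderOf t = e) : Subgroup.center T ≠ ⊥ := by
  obtain ⟨r, hr, hrd⟩ := Nat.exists_prime_and_dvd (n := Nat.card T) Finite.one_lt_card.ne'
  have : Fact r.Prime := ⟨hr⟩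
  obtain ⟨t, ht⟩ := exists_prime_orderOf_dvd_card' r hrd
  have he : e = r := by rw [← h t (fun e' => hr.ne_one (by rw [← ht, e', orderOf_one])), ht]
  have hp : IsPGroup r T := fun u => ⟨1, by
    rw [pow_one]
    by_cases hu : u = 1
    · rw [hu, one_pow]
    · rw [← he, ← h u hu, pow_orderOf_eq_one]⟩
  have := hp.center_nontrivial
  exact (Subgroup.nontrivial_iff_ne_bot _).1 this

theorem orderOf_eq_of_two_transitive (hG : IsMultiplyPretransitive G α 2) (N : Subgroup G)
    [N.Normal] (T : Subgroup N) (hT : IsPretransitive T α)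
    (hTfree : ∀ t ∈ T, ∀ a : α, t • a = a → t = 1)
    (hconj : ∀ g : G, (∀ u ∈ T, ∀ v : N, (v : G) = g * u * g⁻¹ → v ∈ T) ∨
      (∀ u ∈ T, ∀ v : N, (v : G) = g * u * g⁻¹ → ∀ t ∈ T, t * v = v * t))
    {u w : N} (hu : u ∈ T) (hu1 : u ≠ 1) (hw : w ∈ T) (hw1 : w ≠ 1) (a : α) :
    orderOf u = orderOf w := by
  have hua : (u : G) • a ≠ a := fun h => hu1 (hTfree u hu a h)
  have hwa : (w : G) • a ≠ a := fun h => hw1 (hTfree w hw a h)
  obtain ⟨g, hgu, hga⟩ := is_two_pretransitive_iff.1 hG hua hwa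
  let v : N := ⟨g * u * g⁻¹, Subgroup.Normal.conj_mem inferInstance _ u.2 g⟩
  have hva : v • a = w • a := by
    change (g * (u : G) * g⁻¹) • a = (w : G) • a
    rw [mul_smul, mul_smul, inv_smul_eq_iff.2 hga.symm, hgu]
  have hvord : orderOf v = orderOf u := by
    rw [← Subgroup.orderOf_coe, ← Subgroup.orderOf_coe u]
    exact orderOf_injective (MulAut.conj g).toMonoidHom (MulEquiv.injective _) (u : G)
  rw [← hvord]
  rcases hconj g with h | h
  · have hv : v ∈ T := h u hu v rfl
    have : v = w := by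
      refine (inv_mul_eq_one.1 (hTfree _ (T.mul_mem (T.inv_mem hw) hv) a ?_)).symm
      rw [mul_smul, hva, inv_smul_smul]
    rw [this]
  · have hc : ∀ t ∈ T, t * v = v * t := h u hu v rfl
    have hcw : Commute v w := (hc w hw).symm
    have hfree : ∀ k : ℕ, v ^ k • a = a → v ^ k = 1 := fun k hk =>
      eq_one_of_commute_transitive hT (fun t ht => (Commute.pow_right (hc t ht) k).eq) hk
    refine orderOf_eq_orderOf_iff.2 fun k => ⟨fun hk => ?_, fun hk => ?_⟩
    · refine hTfree _ (T.pow_mem hw k) a ?_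
      rw [← pow_smul_eq_of_commute hcw hva k, hk, one_smul]
    · refine hfree k ?_
      rw [pow_smul_eq_of_commute hcw hva k, hk, one_smul]

theorem not_regular_of_nonabelian (hG : IsMultiplyPretransitive G α 2) (N : Subgroup G) [N.Normal]
    (hN : N ≠ ⊥) (hmin : ∀ M : Subgroup G, M.Normal → M ≤ N → M = ⊥ ∨ M = N)
    (hnc : ¬ IsMulCommutative N) : ∃ a : α, stabilizer N a ≠ ⊥ := by
  by_contra! hreg
  have hNt := normal_transitive_of_two_transitive hG N hN
  have : Nontrivial N := (Subgroup.nontrivial_iff_ne_bot N).2 hN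
  have hTt : IsPretransitive (⊤ : Subgroup N) α :=
    ⟨fun x y => ⟨⟨(hNt.exists_smul_eq x y).choose, trivial⟩, (hNt.exists_smul_eq x y).choose_spec⟩⟩
  have hfree : ∀ t ∈ (⊤ : Subgroup N), ∀ a : α, t • a = a → t = 1 := fun t _ a h =>
    (Subgroup.eq_bot_iff_forall _).1 (hreg a) t h
  obtain ⟨a⟩ : Nonempty α := by
    obtain ⟨u, hu⟩ := exists_ne (1 : N)
    by_contra hne
    exact hu (eq_of_smul_eq_smul (α := α) fun x => (hne ⟨x⟩).elim)
  obtain ⟨u, hu⟩ := exists_ne (1 : N)
  have hcen := center_ne_bot_of_orderOf_eq (T := N) (e := orderOf u) fun t ht =>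
    orderOf_eq_of_two_transitive hG N ⊤ hTt hfree (fun g => Or.inl fun _ _ v _ => Subgroup.mem_top v)
      (Subgroup.mem_top t) ht (Subgroup.mem_top u) hu a
  rcases hmin ((Subgroup.center N).map N.subtype) ConjAct.normal_of_characteristic_of_normal
    (Subgroup.map_subtype_le _) with h | h
  · exact hcen ((Subgroup.map_eq_bot_iff_of_injective _ N.subtype_injective).1 h)
  · refine hnc ⟨⟨fun x y => ?_⟩⟩
    have hy : (y : G) ∈ (Subgroup.center N).map N.subtype := by rw [h]; exact y.2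
    obtain ⟨y', hy', he⟩ := hy
    rw [← show y' = y from N.subtype_injective he]
    exact Subgroup.mem_center_iff.1 hy' x

theorem primitive_of_minimal (hG : IsMultiplyPretransitive G α 2) (N : Subgroup G) [N.Normal]
    (hN : N ≠ ⊥) (hmin : ∀ M : Subgroup G, M.Normal → M ≤ N → M = ⊥ ∨ M = N)
    (hnc : ¬ IsMulCommutative N) : IsPreprimitive N α := by
  classical
  have hNt := normal_transitive_of_two_transitive hG N hN
  obtain ⟨a₀, ha₀⟩ := not_regular_of_nonabelian hG N hN hmin hnc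
  by_contra hprim
  -- a smallest non-trivial block
  obtain ⟨B₀, hB₀, hB₀s, hB₀u⟩ : ∃ B : Set α, IsBlock N B ∧ ¬ B.Subsingleton ∧ B ≠ Set.univ := by
    by_contra! h
    exact hprim { isTrivialBlock_of_isBlock := fun {B} hB => or_iff_not_imp_left.2 fun hs => h B hB (Set.not_subsingleton_iff.1 hs) }
  obtain ⟨B, ⟨hB, hBs, hBu⟩, hBmin⟩ := Set.exists_min_image
    {B : Set α | IsBlock N B ∧ ¬ B.Subsingleton ∧ B ≠ Set.univ} Set.ncard (Set.toFinite _)
    ⟨B₀, hB₀, hB₀s, hB₀u⟩
  let L : Set (Set α) := {C | ∃ g : G, C = g • B}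
  have hLb : ∀ C ∈ L, IsBlock N C := by
    rintro _ ⟨g, rfl⟩
    refine isBlock_iff_smul_eq_of_nonempty.2 fun {n} hne => ?_
    obtain ⟨_, ⟨_, ⟨b, hb, rfl⟩, rfl⟩, b', hb', he⟩ := hne
    let n' : N := ⟨g⁻¹ * n * g, by
      have := Subgroup.Normal.conj_mem (H := N) inferInstance _ n.2 g⁻¹
      rwa [inv_inv] at this⟩
    have hkey : ∀ x : α, g • n' • x = n • g • x := fun x => by
      change g • (g⁻¹ * (n : G) * g) • x = (n : G) • g • x
      rw [← mul_smul, ← mul_smul]
      congr 1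
      group
    have hb'' : n' • b = b' := smul_left_cancel g ((hkey b).trans he.symm)
    have heq := hB.smul_eq_of_nonempty (g := n') ⟨b', ⟨b, hb, hb''⟩, hb'⟩
    calc n • g • B = (n : G) • g • B := rfl
      _ = g • (n' : G) • B := by
        rw [← mul_smul, ← mul_smul]
        congr 1
        change (n : G) * g = g * (g⁻¹ * n * g)
        group
      _ = g • B := congrArg (g • ·) heq
  have hLc : ∀ C ∈ L, C.ncard = B.ncard ∧ ¬ C.Subsingleton ∧ C ≠ Set.univ := by
    rintro _ ⟨g, rfl⟩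
    refine ⟨Set.ncard_smul_set g B, fun h => hBs fun x hx y hy =>
      smul_left_cancel g (h (Set.smul_mem_smul_set hx) (Set.smul_mem_smul_set hy)), fun h => hBu ?_⟩
    rw [← inv_smul_smul g B, h, Set.smul_set_univ]
  have hmeet : ∀ C ∈ L, ∀ D ∈ L, ∀ x y : α, x ≠ y → x ∈ C → y ∈ C → x ∈ D → y ∈ D → C = D := by
    intro C hC D hD x y hxy hxC hyC hxD hyD
    have hCD : IsBlock N (C ∩ D) := (hLb C hC).inter (hLb D hD)
    have hmin' := hBmin (C ∩ D) ⟨hCD, fun h => hxy (h ⟨hxC, hxD⟩ ⟨hyC, hyD⟩),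
      fun h => (hLc C hC).2.2 (Set.eq_univ_of_univ_subset (h ▸ Set.inter_subset_left))⟩
    have h1 : C ∩ D = C := Set.eq_of_subset_of_ncard_le Set.inter_subset_left
      (by rw [(hLc C hC).1]; exact hmin') (Set.toFinite _)
    have h2 : C ∩ D = D := Set.eq_of_subset_of_ncard_le Set.inter_subset_right
      (by rw [(hLc D hD).1]; exact hmin') (Set.toFinite _)
    exact h1.symm.trans h2
  have hline : ∀ x y : α, x ≠ y → ∃ C ∈ L, x ∈ C ∧ y ∈ C := by
    intro x y hxy
    obtain ⟨p, hp, q, hq, hpq⟩ := Set.not_subsingleton_iff.1 hBs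
    obtain ⟨g, hgp, hgq⟩ := is_two_pretransitive_iff.1 hG hpq hxy
    exact ⟨g • B, ⟨g, rfl⟩, ⟨p, hp, hgp⟩, ⟨q, hq, hgq⟩⟩
  -- two-point stabilisers are trivial
  have hfrob : ∀ n : N, ∀ a b : α, a ≠ b → n • a = a → n • b = b → n = 1 := by
    intro n a b hab hna hnb
    have hfix : ∀ C ∈ L, ∀ x ∈ C, n • x = x → ∀ y ∈ C, n • y ∈ C := by
      intro C hC x hx hnx y hy
      rw [← (hLb C hC).smul_eq_of_nonempty (g := n) ⟨x, ⟨x, hx, hnx⟩, hx⟩]
      exact Set.smul_mem_smul_set hy
    obtain ⟨ℓ, hℓ, haℓ, hbℓ⟩ := hline a b hab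
    have hout : ∀ x, x ∉ ℓ → n • x = x := by
      intro x hx
      have hax : a ≠ x := fun e => hx (e ▸ haℓ)
      have hbx : b ≠ x := fun e => hx (e ▸ hbℓ)
      obtain ⟨C, hC, haC, hxC⟩ := hline a x hax
      obtain ⟨D, hD, hbD, hxD⟩ := hline b x hbx
      by_contra hne
      have hCD := hmeet C hC D hD (n • x) x hne (hfix C hC a haC hna x hxC) hxC
        (hfix D hD b hbD hnb x hxD) hxD
      exact hx (hmeet C hC ℓ hℓ a b hab haC (hCD ▸ hbD) haℓ hbℓ ▸ hxC)
    obtain ⟨d, hd⟩ : ∃ d, d ∉ ℓ := by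
      by_contra! h
      exact (hLc ℓ hℓ).2.2 (Set.eq_univ_of_forall h)
    refine eq_of_smul_eq_smul (α := α) fun x => ?_
    rw [one_smul]
    by_cases hx : x ∈ ℓ
    · by_contra hne
      have hdx : d ≠ x := fun e => hd (e ▸ hx)
      obtain ⟨D, hD, hdD, hxD⟩ := hline d x hdx
      have := hmeet D hD ℓ hℓ (n • x) x hne (hfix D hD d hdD (hout d hd) x hxD) hxD
        (hfix ℓ hℓ a haℓ hna x hx) hx
      exact hd (this ▸ hdD)
    · exact hout x hx
  -- the Frobenius kernel is a regular normal subgroup of `G`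
  let H := stabilizer N a₀
  obtain ⟨K, -, hKc, hKmem⟩ := CfsgLib.CharsMore.exists_frobenius_kernel H (by
    intro g hg h hh hgh
    refine hfrob h a₀ (g⁻¹ • a₀) (fun e => hg (mem_stabilizer_iff.2 (eq_inv_smul_iff.1 e))) hh ?_
    have := mem_stabilizer_iff.1 hgh
    rw [mul_smul, mul_smul, smul_eq_iff_eq_inv_smul] at this
    exact this)
  have hKfpf : ∀ x : N, x ∈ K ↔ (x = 1 ∨ ∀ z : α, (x : G) • z ≠ z) := by
    intro x
    rw [hKmem x]
    refine or_congr Iff.rfl ⟨fun h z hz => ?_, fun h g hg => ?_⟩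
    · obtain ⟨g, hg⟩ := hNt.exists_smul_eq z a₀
      refine h g (mem_stabilizer_iff.2 ?_)
      rw [mul_smul, mul_smul, inv_smul_eq_iff.2 hg.symm, show x • z = z from hz, hg]
    · refine h (g⁻¹ • a₀) ?_
      have := mem_stabilizer_iff.1 hg
      rw [mul_smul, mul_smul, smul_eq_iff_eq_inv_smul] at this
      exact this
  have hKn : (K.map N.subtype).Normal := ⟨by
    rintro _ ⟨x, hx, rfl⟩ g
    refine ⟨⟨g * x * g⁻¹, Subgroup.Normal.conj_mem inferInstance _ x.2 g⟩, (hKfpf _).2 ?_, rfl⟩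
    rcases (hKfpf x).1 hx with rfl | h
    · left; exact Subtype.ext (by simp)
    · right
      intro z hz
      change (g * (x : G) * g⁻¹) • z = z at hz
      rw [mul_smul, mul_smul, smul_eq_iff_eq_inv_smul] at hz
      exact h _ hz⟩
  rcases hmin _ hKn (Subgroup.map_subtype_le _) with h | h
  · have hK1 : K = ⊥ := (Subgroup.map_eq_bot_iff_of_injective _ N.subtype_injective).1 h
    have h1 := hKc.card_mul_card
    rw [hK1, Subgroup.card_bot, one_mul] at h1
    have h2 : H = ⊤ := Subgroup.eq_top_of_card_eq H h1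
    obtain ⟨b₀, -, hb₀⟩ : ∃ b₀ ∈ (Set.univ : Set α), b₀ ≠ a₀ := by
      obtain ⟨p, -, q, -, hpq⟩ := Set.not_subsingleton_iff.1 hBs
      by_cases hp : p = a₀
      · exact ⟨q, trivial, fun e => hpq (hp.trans e.symm)⟩
      · exact ⟨p, trivial, hp⟩
    obtain ⟨n, hn⟩ := hNt.exists_smul_eq a₀ b₀
    have : n ∈ H := h2 ▸ Subgroup.mem_top n
    exact hb₀ (hn.symm.trans this)
  · obtain ⟨x, hx, hx1⟩ : ∃ x ∈ H, x ≠ 1 := by
      by_contra! hh
      exact ha₀ ((Subgroup.eq_bot_iff_forall _).2 hh)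
    have hxK : (x : G) ∈ K.map N.subtype := by rw [h]; exact x.2
    obtain ⟨x', hx', he⟩ := hxK
    rw [N.subtype_injective he, SetLike.mem_coe, hKfpf] at hx'
    exact (hx'.resolve_left hx1) a₀ hx

theorem simple_of_minimal (hG : IsMultiplyPretransitive G α 2) (N : Subgroup G) [N.Normal]
    (hN : N ≠ ⊥) (hmin : ∀ M : Subgroup G, M.Normal → M ≤ N → M = ⊥ ∨ M = N)
    (hnc : ¬ IsMulCommutative N) : IsSimpleGroup N := by
  classical
  have : Nontrivial N := (Subgroup.nontrivial_iff_ne_bot N).2 hN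
  have hprim := primitive_of_minimal hG N hN hmin hnc
  refine ⟨fun M₀ hM₀ => or_iff_not_imp_left.2 fun hM₀b => ?_⟩
  by_contra hM₀t
  -- a minimal normal subgroup `T` of `N`
  obtain ⟨T, ⟨hTn, hTb, hTle⟩, hTmin⟩ := (wellFounded_lt (α := Subgroup N)).has_min
    {T | T.Normal ∧ T ≠ ⊥ ∧ T ≤ M₀} ⟨M₀, hM₀, hM₀b, le_rfl⟩
  have hTtrans : ∀ S : Subgroup N, S.Normal → S ≠ ⊥ → IsPretransitive S α := by
    intro S hS hSb
    refine IsQuasiPreprimitive.isPretransitive_of_normal fun h => hSb ?_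
    refine (Subgroup.eq_bot_iff_forall _).2 fun g hg => ?_
    refine eq_of_smul_eq_smul (α := α) fun x => ?_
    rw [one_smul]
    have hx : x ∈ fixedPoints S α := h ▸ Set.mem_univ x
    exact hx ⟨g, hg⟩
  let cj : G → Subgroup N := fun g => T.map (MulAut.conjNormal g).toMonoidHom
  have hcjn : ∀ g, (cj g).Normal := fun g =>
    Subgroup.Normal.map hTn _ (MulEquiv.surjective _)
  have hcjb : ∀ g, cj g ≠ ⊥ := fun g h =>
    hTb ((Subgroup.map_eq_bot_iff_of_injective _ (MulEquiv.injective _)).1 h)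
  have hdich : ∀ g, cj g = T ∨ (∀ t ∈ T, ∀ v ∈ cj g, t * v = v * t) := by
    intro g
    by_cases hint : T ⊓ cj g = ⊥
    · exact Or.inr fun t ht v hv =>
        (Subgroup.commute_of_normal_of_disjoint T (cj g) hTn (hcjn g) (disjoint_iff.2 hint) t v ht hv).eq
    · left
      have := hcjn g
      have h1 : T ⊓ cj g = T := by
        by_contra hne
        exact hTmin _ ⟨inferInstance, hint, inf_le_left.trans hTle⟩ (lt_of_le_of_ne inf_le_left hne)
      refine (Subgroup.eq_of_le_of_card_ge (inf_eq_left.1 h1) (le_of_eq ?_)).symm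
      exact Subgroup.card_map_of_injective (MulEquiv.injective _)
  obtain ⟨g₀, hg₀⟩ : ∃ g₀, cj g₀ ≠ T := by
    by_contra! hall
    have hTG : (T.map N.subtype).Normal := ⟨by
      rintro _ ⟨t, ht, rfl⟩ g
      exact ⟨MulAut.conjNormal g t, hall g ▸ ⟨t, ht, rfl⟩, MulAut.conjNormal_apply g t⟩⟩
    rcases hmin _ hTG (Subgroup.map_subtype_le _) with h | h
    · exact hTb ((Subgroup.map_eq_bot_iff_of_injective _ N.subtype_injective).1 h)
    · refine hM₀t (top_le_iff.1 (le_trans ?_ hTle))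
      intro x _
      have hx : (x : G) ∈ T.map N.subtype := by rw [h]; exact x.2
      obtain ⟨x', hx', he⟩ := hx
      exact N.subtype_injective he ▸ hx'
  have hcomm := (hdich g₀).resolve_left hg₀
  have hTt := hTtrans T hTn hTb
  have hUt := hTtrans _ (hcjn g₀) (hcjb g₀)
  have hfree : ∀ t ∈ T, ∀ a : α, t • a = a → t = 1 := fun t ht a h =>
    eq_one_of_commute_transitive hUt (fun v hv => (hcomm t ht v hv).symm) h
  have : Nontrivial T := (Subgroup.nontrivial_iff_ne_bot T).2 hTb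
  obtain ⟨⟨u, huT⟩, hu⟩ := exists_ne (1 : T)
  have hu1 : u ≠ 1 := fun e => hu (Subtype.ext e)
  obtain ⟨a, ha⟩ := not_regular_of_nonabelian hG N hN hmin hnc
  have hcen := center_ne_bot_of_orderOf_eq (T := T) (e := orderOf u) fun t ht => by
    rw [← Subgroup.orderOf_coe]
    refine orderOf_eq_of_two_transitive hG N T hTt hfree (fun g => ?_) t.2
      (fun e => ht (Subtype.ext e)) huT hu1 a
    rcases hdich g with h | h
    · left
      intro w hw v hv
      rw [← h]
      exact ⟨w, hw, Subtype.ext ((MulAut.conjNormal_apply g w).trans hv.symm)⟩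
    · right
      intro w hw v hv t' ht'
      exact h t' ht' v ⟨w, hw, Subtype.ext ((MulAut.conjNormal_apply g w).trans hv.symm)⟩
  have hTab : ∀ s ∈ T, ∀ t ∈ T, s * t = t * s := by
    have hZ : (Subgroup.center T).map T.subtype = T := by
      by_contra hne
      refine hTmin _ ⟨ConjAct.normal_of_characteristic_of_normal, fun h => hcen
        ((Subgroup.map_eq_bot_iff_of_injective _ T.subtype_injective).1 h),
        (Subgroup.map_subtype_le _).trans hTle⟩
        (lt_of_le_of_ne (Subgroup.map_subtype_le _) hne)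
    intro s hs t ht
    obtain ⟨t', ht', rfl⟩ := hZ.symm ▸ ht
    exact congrArg Subtype.val (Subgroup.mem_center_iff.1 ht' ⟨s, hs⟩)
  -- a transitive abelian group is its own centraliser
  apply hg₀
  refine Subgroup.eq_of_le_of_card_ge (fun v hv => ?_)
    (le_of_eq (Subgroup.card_map_of_injective (MulEquiv.injective _)).symm)
  obtain ⟨⟨t, ht⟩, hta⟩ := hTt.exists_smul_eq a (v • a)
  have : t⁻¹ * v = 1 := by
    refine eq_one_of_commute_transitive hTt (fun s hs => ?_) (a := a) ?_
    · rw [← mul_assoc, hTab s hs _ (T.inv_mem ht), mul_assoc, hcomm s hs v hv, mul_assoc]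
    · rw [mul_smul, show v • a = t • a from hta.symm, inv_smul_smul]
  rwa [← inv_mul_eq_one.1 this]

theorem burnside_minimal_normal (hG : IsMultiplyPretransitive G α 2) (N : Subgroup G) [N.Normal]
    (hN : N ≠ ⊥) (hmin : ∀ M : Subgroup G, M.Normal → M ≤ N → M = ⊥ ∨ M = N) :
    (IsMulCommutative N ∧ (∃ p : ℕ, p.Prime ∧ ∀ n ∈ N, n ^ p = 1) ∧
        ∀ a : α, stabilizer N a = ⊥) ∨
      (IsSimpleGroup N ∧ IsPreprimitive N α) := by
  by_cases hc : IsMulCommutative N
  · left
    have hNt := normal_transitive_of_two_transitive hG N hN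
    have : Nontrivial N := (Subgroup.nontrivial_iff_ne_bot N).2 hN
    obtain ⟨p, hp, hpd⟩ := Nat.exists_prime_and_dvd (n := Nat.card N) Finite.one_lt_card.ne'
    have : Fact p.Prime := ⟨hp⟩
    obtain ⟨u, hu⟩ := exists_prime_orderOf_dvd_card' p hpd
    refine ⟨hc, ⟨p, hp, ?_⟩, fun a => (Subgroup.eq_bot_iff_forall _).2 fun n hn => ?_⟩
    · let M : Subgroup G :=
        { carrier := {g | g ∈ N ∧ g ^ p = 1}
          one_mem' := ⟨N.one_mem, one_pow p⟩
          mul_mem' := fun {x y} hx hy => ⟨N.mul_mem hx.1 hy.1, by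
            have hxy : Commute x y := congrArg Subtype.val (mul_comm' (⟨x, hx.1⟩ : N) ⟨y, hy.1⟩)
            rw [hxy.mul_pow, hx.2, hy.2, one_mul]⟩
          inv_mem' := fun {x} hx => ⟨N.inv_mem hx.1, by rw [inv_pow, hx.2, inv_one]⟩ }
      have hMn : M.Normal := ⟨fun x hx g =>
        ⟨Subgroup.Normal.conj_mem inferInstance x hx.1 g, by rw [conj_pow, hx.2]; group⟩⟩
      rcases hmin M hMn (fun x hx => hx.1) with h | h
      · exfalso
        have hu' : (u : G) ∈ M := ⟨u.2, by rw [← SubmonoidClass.coe_pow, ← hu, pow_orderOf_eq_one]; rfl⟩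
        rw [h, Subgroup.mem_bot] at hu'
        rw [show u = 1 from Subtype.ext hu', orderOf_one] at hu
        exact hp.ne_one hu.symm
      · intro n hn
        rw [← h] at hn
        exact hn.2
    · have hTt : IsPretransitive (⊤ : Subgroup N) α :=
        ⟨fun x y => ⟨⟨(hNt.exists_smul_eq x y).choose, trivial⟩,
          (hNt.exists_smul_eq x y).choose_spec⟩⟩
      exact eq_one_of_commute_transitive hTt (fun t _ => mul_comm' t n) hn
  · exact Or.inr ⟨simple_of_minimal hG N hN hmin hc, primitive_of_minimal hG N hN hmin hc⟩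

end CfsgLib.Perm
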