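import Mathlib

/-!
Centralisers of transitive groups in the symmetric group.
-/

namespace CfsgLib.Perm

open MulAction

variable {α : Type*}

theorem eq_of_commute_of_apply_eq {S : Set (Equiv.Perm α)} (htr : ∀ a b : α, ∃ g ∈ S, g a = b)
    {c c' : Equiv.Perm α} (hc : c ∈ Subgroup.centralizer S) (hc' : c' ∈ Subgroup.centralizer S)
    {a : α} (h : c a = c' a) : c = c' := by
  refine Equiv.ext fun x => ?_
  obtain ⟨g, hg, rfl⟩ := htr a x
  have h1 := Equiv.ext_iff.1 (Subgroup.mem_centralizer_iff.1 hc g hg) a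
  have h2 := Equiv.ext_iff.1 (Subgroup.mem_centralizer_iff.1 hc' g hg) a
  simp only [Equiv.Perm.mul_apply] at h1 h2
  rw [← h1, ← h2, h]

theorem exists_mem_apply_eq (G : Subgroup (Equiv.Perm α)) [IsPretransitive G α] (a b : α) :
    ∃ g ∈ (G : Set (Equiv.Perm α)), g a = b := by
  obtain ⟨g, hg⟩ := MulAction.exists_smul_eq G a b
  exact ⟨g, g.2, hg⟩

theorem semiregular_centralizer (G : Subgroup (Equiv.Perm α)) [IsPretransitive G α]
    {c : Equiv.Perm α} (hc : c ∈ Subgroup.centralizer (G : Set (Equiv.Perm α))) {a : α}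
    (h : c a = a) : c = 1 :=
  eq_of_commute_of_apply_eq (exists_mem_apply_eq G) hc (Subgroup.one_mem _) (a := a)
    (by rw [h]; rfl)

theorem stabilizer_eq_bot_of_centralizer (G : Subgroup (Equiv.Perm α))
    (hC : ∀ a b : α, ∃ c ∈ Subgroup.centralizer (G : Set (Equiv.Perm α)), c a = b) (a : α) :
    stabilizer G a = ⊥ := by
  rw [Subgroup.eq_bot_iff_forall]
  intro g hg
  refine Subtype.ext (Equiv.ext fun x => ?_)
  obtain ⟨c, hc, rfl⟩ := hC a x
  have := Equiv.ext_iff.1 (Subgroup.mem_centralizer_iff.1 hc _ g.2) a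
  simp only [Equiv.Perm.mul_apply] at this
  rw [this]
  exact congrArg c (mem_stabilizer_iff.1 hg)

theorem exists_centralizer_apply_eq (G : Subgroup (Equiv.Perm α)) [IsPretransitive G α]
    (hreg : ∀ a : α, stabilizer G a = ⊥) (a b : α) :
    ∃ c ∈ Subgroup.centralizer (G : Set (Equiv.Perm α)), c a = b := by
  choose g hg using fun u v : α => MulAction.exists_smul_eq G u v
  have huniq : ∀ (u v : α) (x : G), x • u = v → g u v = x := by
    intro u v x hx
    have : x⁻¹ * g u v ∈ stabilizer G u := by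
      rw [mem_stabilizer_iff, mul_smul, hg, ← hx, inv_smul_smul]
    rw [hreg, Subgroup.mem_bot, inv_mul_eq_one] at this
    exact this.symm
  let f : α → α → α → α := fun u v x => g u x • v
  have hinv : ∀ u v x, f v u (f u v x) = x := by
    intro u v x
    simp only [f]
    rw [huniq v (g u x • v) (g u x) rfl, hg]
  refine ⟨⟨f a b, f b a, hinv a b, hinv b a⟩, ?_, ?_⟩
  · rw [Subgroup.mem_centralizer_iff]
    intro h hh
    refine Equiv.ext fun x => ?_
    change h (f a b x) = f a b (h x)
    simp only [f]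
    rw [huniq a (h x) (⟨h, hh⟩ * g a x) (by rw [mul_smul, hg]; rfl), mul_smul]
    rfl
  · change g a a • b = b
    rw [huniq a a 1 (one_smul _ _), one_smul]

end CfsgLib.Perm
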