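import Mathlib

/-!
Integral group rings of cyclic groups of odd order: an element `E` that takes values `0, 1` off
the origin and satisfies `E ^ 3 = n ^ 2 • E + c • J`, with `J` the all-one element, is constant on
a nontrivial subgroup minus the origin and on its complement.
-/

set_option autoImplicit false

namespace CfsgLib.Circulant

open Finset

variable {A : Type*} [AddCommGroup A] [Fintype A]

/-- The group ring element with a given coefficient function. -/
noncomputable def ofFun (f : A → ℤ) : AddMonoidAlgebra ℤ A :=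
  .ofCoeff (Finsupp.equivFunOnFinite.symm f)

omit [AddCommGroup A] in
@[simp]
theorem coeff_ofFun (f : A → ℤ) (g : A) : (ofFun f).coeff g = f g := rfl

/-- The all-one element. -/
noncomputable def allOne (A : Type*) [AddCommGroup A] [Fintype A] : AddMonoidAlgebra ℤ A :=
  ofFun fun _ => 1

@[simp]
theorem coeff_allOne (g : A) : (allOne A).coeff g = 1 := rfl

omit [AddCommGroup A] [Fintype A] in
theorem ext_coeff {x y : AddMonoidAlgebra ℤ A} (h : ∀ g, x.coeff g = y.coeff g) : x = y :=
  AddMonoidAlgebra.coeff_injective (Finsupp.ext h)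

theorem coeff_mul_sum (x y : AddMonoidAlgebra ℤ A) (g : A) :
    (x * y).coeff g = ∑ a, x.coeff a * y.coeff (g - a) := by
  rw [AddMonoidAlgebra.coeff_mul_apply_left, Finsupp.sum_fintype _ _ fun i => by simp]
  exact Finset.sum_congr rfl fun a _ => by rw [neg_add_eq_sub]

omit [Fintype A] in
theorem coeff_smul_int (n : ℤ) (x : AddMonoidAlgebra ℤ A) (g : A) :
    (n • x).coeff g = n * x.coeff g := by
  rw [AddMonoidAlgebra.coeff_smul_apply, smul_eq_mul]

/-- The sum of the coefficients. -/
noncomputable def total (x : AddMonoidAlgebra ℤ A) : ℤ := ∑ g, x.coeff g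

theorem mul_allOne (x : AddMonoidAlgebra ℤ A) : x * allOne A = total x • allOne A :=
  ext_coeff fun g => by
    rw [coeff_smul_int]; simp [coeff_mul_sum, total]

@[simp]
theorem total_smul (n : ℤ) (x : AddMonoidAlgebra ℤ A) : total (n • x) = n * total x := by
  simp only [total, coeff_smul_int, Finset.mul_sum]

theorem total_add (x y : AddMonoidAlgebra ℤ A) : total (x + y) = total x + total y := by
  simp [total, Finset.sum_add_distrib]

theorem total_allOne : total (allOne A) = Fintype.card A := by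
  simp [total]

theorem total_mul (x y : AddMonoidAlgebra ℤ A) : total (x * y) = total x * total y := by
  simp only [total, coeff_mul_sum]
  rw [Finset.sum_comm, Finset.sum_mul]
  refine Finset.sum_congr rfl fun a _ => ?_
  rw [← Finset.mul_sum]
  exact congrArg _ (Fintype.sum_equiv (Equiv.subRight a) _ _ fun g => rfl)

omit [Fintype A] in
theorem coeff_single_zero_int (n : ℤ) (g : A) [DecidableEq A] :
    (AddMonoidAlgebra.single 0 n : AddMonoidAlgebra ℤ A).coeff g = if g = 0 then n else 0 := by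
  rw [AddMonoidAlgebra.coeff_single, Finsupp.single_apply]
  simp [eq_comm]

/-- Modulo a prime `t` the `t`-th power is the image under multiplication by `t`. -/
theorem pow_prime_coeff [DecidableEq A] (t : ℕ) [Fact t.Prime] (x : AddMonoidAlgebra ℤ A) (y : A) :
    ((x ^ t).coeff y : ZMod t) = ∑ g, if t • g = y then (x.coeff g : ZMod t) else 0 := by
  have : CharP (AddMonoidAlgebra (ZMod t) A) t :=
    charP_of_injective_ringHom (f := (AddMonoidAlgebra.singleZeroRingHom : ZMod t →+* _))
      AddMonoidAlgebra.single_right_injective t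
  set x' := AddMonoidAlgebra.mapRingHom A (Int.castRingHom (ZMod t)) x with hx'
  have h1 : ((x ^ t).coeff y : ZMod t) = (x' ^ t).coeff y := by
    rw [hx', ← map_pow, AddMonoidAlgebra.coeff_mapRingHom, eq_intCast]
  have h2 : x' = ∑ g, AddMonoidAlgebra.single g (x.coeff g : ZMod t) := by
    refine AddMonoidAlgebra.coeff_injective (Finsupp.ext fun g => ?_)
    rw [hx', AddMonoidAlgebra.coeff_mapRingHom, AddMonoidAlgebra.coeff_sum, Finsupp.finsetSum_apply]
    simp [Finsupp.single_apply]
  rw [h1, h2, sum_pow_char, AddMonoidAlgebra.coeff_sum, Finsupp.finsetSum_apply]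
  exact Finset.sum_congr rfl fun g _ => by
    rw [AddMonoidAlgebra.single_pow, ZMod.pow_card, AddMonoidAlgebra.coeff_single, Finsupp.single_apply]

/-- Odd powers of a solution of the cubic. -/
theorem pow_odd {E : AddMonoidAlgebra ℤ A} {n c : ℤ} (h : E ^ 3 = n ^ 2 • E + c • allOne A) (i : ℕ) :
    ∃ c' : ℤ, E ^ (2 * i + 1) = n ^ (2 * i) • E + c' • allOne A := by
  induction i with
  | zero => exact ⟨0, by simp⟩
  | succ i ih =>
    obtain ⟨c', hc'⟩ := ih
    refine ⟨n ^ (2 * i) * c + c' * total (E ^ 2), ?_⟩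
    rw [show 2 * (i + 1) + 1 = (2 * i + 1) + 2 by ring, pow_add, hc', add_mul, smul_mul_assoc,
      show E * E ^ 2 = E ^ 3 by ring, h, smul_mul_assoc, mul_comm (allOne A) (E ^ 2), mul_allOne,
      smul_add, smul_smul, smul_smul, smul_smul, add_assoc, ← add_smul, ← pow_add, mul_add]

/-- Values `0, 1` off the origin, symmetry, and the cubic equation. -/
structure IsCubic (n : ℕ) (E : AddMonoidAlgebra ℤ A) : Prop where
  symm : ∀ g, E.coeff (-g) = E.coeff g
  zero_one : ∀ g, g ≠ 0 → E.coeff g = 0 ∨ E.coeff g = 1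
  cubic : ∃ c : ℤ, E ^ 3 = ((n : ℤ) ^ 2) • E + c • allOne A

theorem eq_of_cast_eq {t : ℕ} (ht : 1 < t) {a b : ℤ} (ha : a = 0 ∨ a = 1) (hb : b = 0 ∨ b = 1)
    (h : (a : ZMod t) = (b : ZMod t)) : a = b := by
  have := Fact.mk ht
  rcases ha with rfl | rfl <;> rcases hb with rfl | rfl <;> simp_all

theorem sum_ite_nsmul [DecidableEq A] {t : ℕ} (ht : (Fintype.card A).Coprime t) (f : A → ZMod t)
    (g : A) : (∑ a, if t • a = t • g then f a else 0) = f g := by
  have hinj : ∀ a, t • a = t • g ↔ a = g := fun a =>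
    ⟨fun h => (nsmul_right_injective_of_coprime (G := A) (by rwa [Nat.card_eq_fintype_card])) h,
      fun h => by rw [h]⟩
  simp [hinj]
where
  nsmul_right_injective_of_coprime {G : Type _} [AddGroup G] {k : ℕ}
      (h : (Nat.card G).Coprime k) : Function.Injective fun a : G => k • a :=
    (nsmulCoprime h).injective

/-- For a prime `t` prime to `2 n` and to the order, `E` is constant along multiplication by `t`. -/
theorem IsCubic.nsmul_eq {n : ℕ} {E : AddMonoidAlgebra ℤ A} (h : IsCubic n E) {t : ℕ}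
    (ht : t.Prime) (ht2 : t ≠ 2) (hn : ¬ t ∣ n) (hA : (Fintype.card A).Coprime t) (g : A) :
    E.coeff (t • g) = E.coeff g := by
  classical
  have := Fact.mk ht
  obtain ⟨c, hc⟩ := h.cubic
  obtain ⟨i, hi⟩ := ht.odd_of_ne_two ht2
  obtain ⟨c', hc'⟩ := pow_odd hc i
  rw [← hi] at hc'
  have hnt : (n : ZMod t) ^ (2 * i) = 1 := by
    have : ((n : ZMod t)) ≠ 0 := by rwa [ne_eq, ZMod.natCast_eq_zero_iff]
    have := ZMod.pow_card_sub_one_eq_one this
    rwa [show t - 1 = 2 * i by omega] at this
  have key : ∀ a, (E.coeff a : ZMod t) = (E.coeff (t • a) : ZMod t) + c' := by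
    intro a
    have := pow_prime_coeff t E (t • a)
    rw [hc', sum_ite_nsmul hA] at this
    rw [← this]
    rw [AddMonoidAlgebra.coeff_add, Finsupp.add_apply, coeff_smul_int, coeff_smul_int]
    simp [hnt]
  have hc0 : (c' : ZMod t) = 0 := by
    have := key 0
    rw [smul_zero] at this
    linear_combination -this
  by_cases hg : g = 0
  · rw [hg, smul_zero]
  · refine eq_of_cast_eq ht.one_lt (h.zero_one _ ?_) (h.zero_one _ hg) ?_
    · intro h0
      apply hg
      exact (sum_ite_nsmul.nsmul_right_injective_of_coprime (by rwa [Nat.card_eq_fintype_card]))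
        (h0.trans (smul_zero t).symm)
    · rw [key g, hc0, add_zero]

/-- If a prime divisor `t` of `n` is prime to the order, `E` is constant off the origin. -/
theorem IsCubic.const_of_coprime {n : ℕ} {E : AddMonoidAlgebra ℤ A} (h : IsCubic n E) {t : ℕ}
    (ht : t.Prime) (hn : t ∣ n) (hA : (Fintype.card A).Coprime t) {g g' : A} (hg : g ≠ 0)
    (hg' : g' ≠ 0) : E.coeff g = E.coeff g' := by
  classical
  have := Fact.mk ht
  obtain ⟨c, hc⟩ := h.cubic
  have hn0 : (n : ZMod t) = 0 := by rwa [ZMod.natCast_eq_zero_iff]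
  suffices ∃ d : ZMod t, ∀ a, (E.coeff a : ZMod t) = d by
    obtain ⟨d, hd⟩ := this
    exact eq_of_cast_eq ht.one_lt (h.zero_one _ hg) (h.zero_one _ hg') (by rw [hd, hd])
  by_cases ht2 : t = 2
  · subst ht2
    obtain ⟨d, hd⟩ : ∃ d : ℤ, E ^ 4 = ((n : ℤ) ^ 2) • E ^ 2 + d • allOne A :=
      ⟨c * total E, by
        rw [show E ^ 4 = E ^ 3 * E by ring, hc, add_mul, smul_mul_assoc, smul_mul_assoc,
          mul_comm (allOne A) E, mul_allOne, smul_smul, ← pow_two]⟩
    refine ⟨d, fun a => ?_⟩
    have h1 := pow_prime_coeff 2 (E ^ 2) (2 • (2 • a))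
    rw [← pow_mul, show 2 * 2 = 4 from rfl, hd, sum_ite_nsmul hA, pow_prime_coeff 2 E,
      sum_ite_nsmul hA] at h1
    rw [← h1]
    rw [AddMonoidAlgebra.coeff_add, Finsupp.add_apply, coeff_smul_int, coeff_smul_int]
    simp [hn0]
  · obtain ⟨i, hi⟩ := ht.odd_of_ne_two ht2
    have hi0 : i ≠ 0 := by rintro rfl; exact ht.ne_one hi
    obtain ⟨c', hc'⟩ := pow_odd hc i
    rw [← hi] at hc'
    refine ⟨c', fun a => ?_⟩
    have := pow_prime_coeff t E (t • a)
    rw [hc', sum_ite_nsmul hA] at this
    rw [← this]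
    rw [AddMonoidAlgebra.coeff_add, Finsupp.add_apply, coeff_smul_int, coeff_smul_int]
    simp [hn0, hi0]

/-- For `n = 1` the element is constant off the origin. -/
theorem IsCubic.const_of_one {E : AddMonoidAlgebra ℤ A} (h : IsCubic 1 E)
    (hodd : Odd (Fintype.card A)) {g g' : A} (hg : g ≠ 0)
    (hg' : g' ≠ 0) : E.coeff g = E.coeff g' := by
  classical
  obtain ⟨c, hc⟩ := h.cubic
  simp only [Nat.cast_one, one_pow, one_smul] at hc
  set m : ℤ := (Fintype.card A : ℤ) with hm
  set P := E * E with hP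
  set T := total E with hT
  have hPP : P * P = P + (c * T) • allOne A := by
    rw [hP, show E * E * (E * E) = E ^ 3 * E by ring, hc, add_mul, smul_mul_assoc,
      mul_comm (allOne A) E, mul_allOne, smul_smul]
  have hPs : ∀ a, P.coeff (-a) = P.coeff a := by
    intro a
    simp only [hP, coeff_mul_sum]
    refine Fintype.sum_equiv (Equiv.neg A) _ _ fun b => ?_
    simp only [Equiv.neg_apply, h.symm]
    rw [← h.symm (-a - b), show -(-a - b) = a - -b by abel]
  have hsq : ∑ a, P.coeff a ^ 2 = P.coeff 0 + c * T := by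
    have := congrArg (fun z : AddMonoidAlgebra ℤ A => z.coeff 0) hPP
    simp only [coeff_mul_sum, AddMonoidAlgebra.coeff_add, Finsupp.add_apply, coeff_smul_int,
      coeff_allOne, zero_sub, hPs, mul_one] at this
    rw [← this]
    exact Finset.sum_congr rfl fun a _ => pow_two _
  have hTP : total P = T ^ 2 := by rw [hP, total_mul, hT, pow_two]
  have htot : T ^ 2 * T ^ 2 = T ^ 2 + c * T * m := by
    have := congrArg total hPP
    rwa [total_mul, total_add, total_smul, total_allOne, hTP] at this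
  set x : A → ℤ := fun a => m * P.coeff a - T ^ 2 with hx
  have hsum : ∑ a, x a = 0 := by
    simp only [hx, Finset.sum_sub_distrib, ← Finset.mul_sum, Finset.sum_const, Finset.card_univ,
      nsmul_eq_mul]
    rw [show ∑ a, P.coeff a = T ^ 2 from hTP, ← hm]
    ring
  have hsum2 : ∑ a, x a ^ 2 = m * x 0 := by
    have : ∀ a, x a ^ 2 = m ^ 2 * P.coeff a ^ 2 - 2 * m * T ^ 2 * P.coeff a + T ^ 4 := fun a => by
      simp only [hx]; ring
    simp only [this, Finset.sum_add_distrib, Finset.sum_sub_distrib, ← Finset.mul_sum, hsq,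
      Finset.sum_const, Finset.card_univ, nsmul_eq_mul]
    rw [show ∑ a, P.coeff a = T ^ 2 from hTP, ← hm, hx]
    linear_combination -m * htot
  have hbound : x 0 ≤ m - 1 := by
    have h1 := sq_sum_le_card_mul_sum_sq (s := Finset.univ.erase (0 : A)) (f := x)
    have e1 : ∑ a ∈ Finset.univ.erase (0 : A), x a = -x 0 := by
      have := Finset.add_sum_erase _ x (Finset.mem_univ (0 : A))
      linarith
    have e2 : ∑ a ∈ Finset.univ.erase (0 : A), x a ^ 2 = m * x 0 - x 0 ^ 2 := by
      have := Finset.add_sum_erase _ (fun a => x a ^ 2) (Finset.mem_univ (0 : A))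
      linarith
    rw [e1, e2, Finset.card_erase_of_mem (Finset.mem_univ _), Finset.card_univ,
      Nat.cast_sub (Fintype.card_pos), Nat.cast_one, ← hm] at h1
    have hm1 : (0 : ℤ) < m := by rw [hm]; exact_mod_cast Fintype.card_pos
    by_contra hcon
    nlinarith [mul_pos (show (0 : ℤ) < m by linarith) (show (0 : ℤ) < x 0 - (m - 1) by linarith)]
  set S : Finset A := Finset.univ.filter fun a => a ≠ 0 ∧ E.coeff a = 1 with hS
  set q : ℤ := (S.card : ℤ) with hq
  set e : ℤ := E.coeff 0 with he
  have hval : ∀ a, a ≠ 0 → E.coeff a = if a ∈ S then 1 else 0 := by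
    intro a ha
    rcases h.zero_one a ha with h1 | h1 <;> simp [hS, ha, h1]
  have hsumS : ∀ f : ℤ → ℤ, f 0 = 0 → ∑ a, f (E.coeff a) = f e + f 1 * q := by
    intro f hf
    rw [← Finset.add_sum_erase _ _ (Finset.mem_univ (0 : A))]
    congr 1
    rw [show Finset.univ.erase (0 : A) = Finset.univ.filter (· ≠ 0) by ext; simp,
      Finset.sum_congr rfl (g := fun a => if a ∈ S then f 1 else 0) fun a ha => by
        rw [hval a (Finset.mem_filter.1 ha).2]; split_ifs <;> simp [hf],
      ← Finset.sum_filter, Finset.filter_filter]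
    rw [show (Finset.univ.filter fun a => a ≠ 0 ∧ a ∈ S) = S by ext; simp [hS],
      Finset.sum_const, nsmul_eq_mul, mul_comm]
  have hTq : T = e + q := by
    rw [hT, total, hsumS (fun z => z) rfl]; ring
  have hP0 : P.coeff 0 = e ^ 2 + q := by
    rw [hP, coeff_mul_sum]
    simp only [zero_sub, h.symm, ← pow_two]
    rw [hsumS (fun z => z ^ 2) (by norm_num)]
    ring
  have heven : ∀ U : Finset A, (0 : A) ∉ U → (∀ a ∈ U, -a ∈ U) → U.card ≠ 1 := by
    intro U h0 hneg h1
    obtain ⟨a, ha⟩ := Finset.card_eq_one.1 h1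
    have haU : a ∈ U := by rw [ha]; exact Finset.mem_singleton_self a
    have : -a = a := by simpa [ha] using hneg a haU
    have h2 : 2 • a = 0 := by rw [two_nsmul]; nth_rewrite 1 [← this]; exact neg_add_cancel a
    have hdvd := addOrderOf_dvd_of_nsmul_eq_zero h2
    rcases (Nat.dvd_prime Nat.prime_two).1 hdvd with h3 | h3
    · exact h0 (AddMonoid.addOrderOf_eq_one_iff.1 h3 ▸ haU)
    · exact (Nat.not_even_iff_odd.2 hodd) (even_iff_two_dvd.2 (h3 ▸ addOrderOf_dvd_card))
  have hcount : S.card + (Finset.univ.filter fun a => a ≠ 0 ∧ a ∉ S).card + 1 = Fintype.card A := by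
    rw [← Finset.card_union_of_disjoint (by
      rw [Finset.disjoint_left]; intro a ha; simp [ha])]
    rw [show S ∪ (Finset.univ.filter fun a => a ≠ 0 ∧ a ∉ S) = Finset.univ.erase 0 by
      ext a; by_cases ha : a = 0 <;> simp [hS, ha, em],
      Finset.card_erase_of_mem (Finset.mem_univ _), Finset.card_univ]
    exact Nat.sub_add_cancel Fintype.card_pos
  by_contra hne
  set S' : Finset A := Finset.univ.filter fun a => a ≠ 0 ∧ a ∉ S with hS'
  have hSne : 0 < S.card ∧ 0 < S'.card := by
    rw [Finset.card_pos, Finset.card_pos]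
    rw [hval g hg, hval g' hg'] at hne
    by_cases hgS : g ∈ S
    · refine ⟨⟨g, hgS⟩, ⟨g', Finset.mem_filter.2 ⟨Finset.mem_univ _, hg', fun hg'S => hne ?_⟩⟩⟩
      rw [if_pos hgS, if_pos hg'S]
    · refine ⟨⟨g', ?_⟩, ⟨g, Finset.mem_filter.2 ⟨Finset.mem_univ _, hg, hgS⟩⟩⟩
      by_contra hg'S
      exact hne (by rw [if_neg hgS, if_neg hg'S])
  have hS1 : S.card ≠ 1 := heven S (by simp [hS]) fun a ha => by
    simp only [hS, Finset.mem_filter, Finset.mem_univ, true_and] at ha ⊢
    exact ⟨neg_ne_zero.2 ha.1, by rw [h.symm, ha.2]⟩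
  have hS'1 : S'.card ≠ 1 := heven S' (by simp [hS']) fun a ha => by
    simp only [hS', hS, Finset.mem_filter, Finset.mem_univ, true_and, not_and] at ha ⊢
    exact ⟨neg_ne_zero.2 ha.1, fun _ => by rw [h.symm]; exact ha.2 ha.1⟩
  have hq2 : (2 : ℤ) ≤ q ∧ q ≤ m - 3 := by
    rw [hq, hm]; omega
  rw [hx] at hbound
  simp only at hbound
  rw [hP0, hTq] at hbound
  rcases lt_trichotomy e 0 with he0 | he0 | he0
  · nlinarith [mul_nonneg (show 0 ≤ -e - 1 by linarith) (show 0 ≤ -e + 1 by linarith),
      mul_nonneg (show 0 ≤ q by linarith) (show 0 ≤ m - q - 3 by linarith),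
      mul_nonneg (show 0 ≤ q by linarith) (show 0 ≤ -e by linarith),
      mul_nonneg (mul_nonneg (show 0 ≤ m - 1 by linarith) (show 0 ≤ -e - 1 by linarith))
        (show 0 ≤ -e + 1 by linarith)]
  · rw [he0] at hbound
    nlinarith [mul_nonneg (show 0 ≤ q - 2 by linarith) (show 0 ≤ m - q - 3 by linarith)]
  · nlinarith [mul_nonneg (show 0 ≤ e - 1 by linarith)
        (show 0 ≤ (m - 1) * (e + 1) - 2 * q by nlinarith),
      mul_nonneg (show 0 ≤ q by linarith) (show 0 ≤ m - q - 3 by linarith)]

end CfsgLib.Circulant
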