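import Cfsg.Agent.Lib.Perm.Multi

/-!
Multiple transitivity from equal orders of pointwise stabilisers.
-/

open MulAction

namespace CfsgLib.Perm

/-- An invariant set all of whose orbits have size `e` has cardinality divisible by `e`. -/
theorem dvd_card_of_orbits {H α : Type*} [Group H] [MulAction H α] [Fintype α] (S : Finset α)
    (hS : ∀ h : H, ∀ x ∈ S, h • x ∈ S) {e : ℕ} (he : ∀ x ∈ S, Nat.card (orbit H x) = e) :
    e ∣ S.card := by
  classical
  rw [Finset.card_eq_sum_card_image (fun x => (orbit H x).toFinset) S]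
  refine Finset.dvd_sum fun t ht => ?_
  obtain ⟨x, hx, rfl⟩ := Finset.mem_image.1 ht
  refine dvd_of_eq ?_
  rw [← he x hx, Nat.card_coe_set_eq, Set.ncard_eq_toFinset_card']
  congr 1
  ext y
  simp only [Set.mem_toFinset, Finset.mem_filter, Set.toFinset_inj]
  constructor
  · rintro ⟨h, rfl⟩
    exact ⟨hS h x hx, orbit_smul h x⟩
  · rintro ⟨-, hy⟩
    rw [← hy]
    exact mem_orbit_self y

/-- Equal pointwise stabiliser orders for `(k-1)`-sets and for `k`-sets give `(k-1)`-transitivity. -/
theorem isMultiplyPretransitive_of_card_fixing {α : Type*} [Fintype α] [DecidableEq α]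
    (G : Subgroup (Equiv.Perm α)) {k : ℕ} (hk : 1 < k) (hkn : k ≤ Fintype.card α) (l m : ℕ)
    (hl : 1 < l) (hkm1 : ∀ s : Finset α, s.card = k - 1 → Nat.card (fixingSubgroup G (s : Set α)) = l)
    (hkm : ∀ s : Finset α, s.card = k → Nat.card (fixingSubgroup G (s : Set α)) = m) :
    IsMultiplyPretransitive G α (k - 1) := by
  classical
  refine isMultiplyPretransitive_of_fixing (by omega) fun T hT a b ha hb => ?_
  let K := fixingSubgroup G (T : Set α)
  by_contra hcon
  have hab : b ∉ orbit K a := by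
    rintro ⟨g, hg⟩
    exact hcon ⟨g.1, (mem_fixingSubgroup_iff G).1 g.2, hg⟩
  -- common orbit length
  have horb : ∀ (S : Finset α) (x : α), S.card = k - 1 → x ∉ S →
      Nat.card (orbit (fixingSubgroup G (S : Set α)) x) * m = l := by
    intro S x hS hx
    let H := fixingSubgroup G (S : Set α)
    have hst : Nat.card (stabilizer H x) = m := by
      rw [← hkm (insert x S) (by rw [Finset.card_insert_of_notMem hx]; omega)]
      refine Nat.card_congr
        ⟨fun h => ⟨h.1.1, (mem_fixingSubgroup_iff G).2 ?_⟩,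
          fun h => ⟨⟨h.1, (mem_fixingSubgroup_iff G).2 ?_⟩, ?_⟩, fun h => rfl, fun h => rfl⟩
      · intro y hy
        rcases Finset.mem_insert.1 (Finset.mem_coe.1 hy) with rfl | hy
        · exact h.2
        · exact (mem_fixingSubgroup_iff G).1 h.1.2 y (Finset.mem_coe.2 hy)
      · exact fun y hy => (mem_fixingSubgroup_iff G).1 h.2 y
          (Finset.mem_coe.2 (Finset.mem_insert_of_mem (Finset.mem_coe.1 hy)))
      · exact (mem_fixingSubgroup_iff G).1 h.2 x (Finset.mem_coe.2 (Finset.mem_insert_self x S))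
    rw [← hst, Nat.card_coe_set_eq, ← index_stabilizer, Subgroup.index_mul_card]
    exact hkm1 S hS
  obtain ⟨e, he⟩ : ∃ e, ∀ (S : Finset α) (x : α), S.card = k - 1 → x ∉ S →
      Nat.card (orbit (fixingSubgroup G (S : Set α)) x) = e := by
    rcases Nat.eq_zero_or_pos m with hm | hm
    · have := horb (insert a T) b (by rw [Finset.card_insert_of_notMem ha]; omega) (by
        rw [Finset.mem_insert, not_or]
        exact ⟨fun h => hab (by rw [h]; exact mem_orbit_self a), hb⟩)
      rw [hm, mul_zero] at this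
      omega
    · exact ⟨l / m, fun S x hS hx => by rw [← horb S x hS hx, Nat.mul_div_cancel _ hm]⟩
  have he1 : e ≠ 1 := by
    intro h1
    have hS : (insert a T).card = k - 1 := by rw [Finset.card_insert_of_notMem ha]; omega
    have : ∀ g : fixingSubgroup G ((insert a T : Finset α) : Set α), g = 1 := fun g => by
      refine Subtype.ext (Subtype.ext (Equiv.ext fun x => ?_))
      by_cases hx : x ∈ insert a T
      · exact (mem_fixingSubgroup_iff G).1 g.2 x (Finset.mem_coe.2 hx)
      · have h2 := he _ x hS hx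
        rw [h1, Nat.card_eq_one_iff_unique] at h2
        exact congrArg Subtype.val (h2.1.elim ⟨g • x, mem_orbit x g⟩ ⟨x, mem_orbit_self x⟩)
    have h3 := hkm1 _ hS
    rw [Nat.card_eq_one_iff_unique.2 ⟨⟨fun u v => (this u).trans (this v).symm⟩, ⟨1⟩⟩] at h3
    omega
  -- counting in the orbit of `b`
  have key : ∀ u v : α, u ∉ T → (∀ x ∈ orbit K v, x ∉ T) →
      e ∣ ((orbit K v).toFinset.erase u).card := by
    intro u v hu hv
    refine dvd_card_of_orbits (H := fixingSubgroup G ((insert u T : Finset α) : Set α)) _ ?_ fun x hx => ?_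
    · rintro h x hx
      obtain ⟨hxu, hx⟩ := Finset.mem_erase.1 hx
      have hmem : h.1 ∈ K := fixingSubgroup_antitone G α
        (Finset.coe_subset.2 (Finset.subset_insert u T)) h.2
      refine Finset.mem_erase.2 ⟨fun e => hxu ?_, ?_⟩
      · have hu' : h.1 • u = u :=
          (mem_fixingSubgroup_iff G).1 h.2 u (Finset.mem_coe.2 (Finset.mem_insert_self u T))
        exact smul_left_cancel h.1 ((e : h.1 • x = u).trans hu'.symm)
      · rw [Set.mem_toFinset] at hx ⊢
        exact (orbit_eq_iff.2 hx) ▸ mem_orbit x (⟨h.1, hmem⟩ : K)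
    · obtain ⟨hxu, hx⟩ := Finset.mem_erase.1 hx
      refine he _ x (by rw [Finset.card_insert_of_notMem hu]; omega) ?_
      rw [Finset.mem_insert, not_or]
      exact ⟨hxu, hv x (Set.mem_toFinset.1 hx)⟩
  have hout : ∀ v, v ∉ T → ∀ x ∈ orbit K v, x ∉ T := by
    rintro v hv _ ⟨g, rfl⟩ hgx
    have := (mem_fixingSubgroup_iff G).1 g.2 _ (Finset.mem_coe.2 hgx)
    have h' : g.1 • v = v := smul_left_cancel g.1 this
    exact hv (h' ▸ hgx)
  have h1 := key a b ha (hout b hb)
  have hanot : a ∉ orbit K b := fun h => hab (orbit_eq_iff.2 h ▸ mem_orbit_self b)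
  rw [Finset.erase_eq_of_notMem (by rwa [Set.mem_toFinset])] at h1
  have h2 := key b b hb (hout b hb)
  have hbm : b ∈ (orbit K b).toFinset := Set.mem_toFinset.2 (mem_orbit_self b)
  rw [Finset.card_erase_of_mem hbm] at h2
  have hpos := Finset.card_pos.2 ⟨b, hbm⟩
  have h3 : e ∣ 1 := by
    have := Nat.dvd_sub h1 h2
    rwa [show (orbit K b).toFinset.card - ((orbit K b).toFinset.card - 1) = 1 by omega] at this
  exact he1 (Nat.dvd_one.1 h3)

end CfsgLib.Perm
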