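import Mathlib

/-!
Multiple transitivity from transitivity of pointwise stabilisers.
-/

namespace CfsgLib.Perm

open MulAction

/-- `G` is `k`-transitive as soon as pointwise stabilisers of `(k-1)`-sets are transitive on the
remaining points and `k` is less than the degree. -/
theorem isMultiplyPretransitive_of_fixing {G α : Type*} [Group G] [Fintype α] [MulAction G α]
    {k : ℕ} (hk : k < Fintype.card α)
    (h : ∀ T : Finset α, T.card = k - 1 → ∀ a b : α, a ∉ T → b ∉ T →
      ∃ g : G, (∀ t ∈ T, g • t = t) ∧ g • a = b) :
    IsMultiplyPretransitive G α k := by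
  classical
  rw [isMultiplyPretransitive_iff]
  intro x y
  have key : ∀ i : ℕ, i ≤ k → ∃ g : G, ∀ j : Fin k, (j : ℕ) < i → g • x j = y j := by
    intro i
    induction i with
    | zero => exact fun _ => ⟨1, fun j hj => absurd hj (Nat.not_lt_zero _)⟩
    | succ i ih =>
      intro hi
      obtain ⟨g, hg⟩ := ih (by omega)
      set i' : Fin k := ⟨i, by omega⟩ with hi'
      set T₀ : Finset α := (Finset.univ.filter fun j : Fin k => (j : ℕ) < i).image y with hT₀
      have hmem : ∀ j : Fin k, (j : ℕ) < i → y j ∈ T₀ := fun j hj =>
        Finset.mem_image_of_mem _ (Finset.mem_filter.2 ⟨Finset.mem_univ _, hj⟩)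
      have hyT : y i' ∉ T₀ := by
        rw [hT₀, Finset.mem_image]
        rintro ⟨j, hj, hje⟩
        have := (Finset.mem_filter.1 hj).2
        rw [y.injective hje] at this
        exact lt_irrefl _ this
      have hxT : g • x i' ∉ T₀ := by
        rw [hT₀, Finset.mem_image]
        rintro ⟨j, hj, hje⟩
        have hj' := (Finset.mem_filter.1 hj).2
        rw [← hg j hj', smul_left_cancel_iff] at hje
        rw [x.injective hje] at hj'
        exact lt_irrefl _ hj'
      have hcard : T₀.card ≤ k - 1 := by
        refine (Finset.card_image_le).trans ?_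
        have : (Finset.univ.filter fun j : Fin k => (j : ℕ) < i) ⊆ Finset.univ.erase i' := by
          intro j hj
          refine Finset.mem_erase.2 ⟨?_, Finset.mem_univ _⟩
          rintro rfl
          exact lt_irrefl _ (Finset.mem_filter.1 hj).2
        refine (Finset.card_le_card this).trans ?_
        simp
      obtain ⟨T, hT₀T, hTsub, hT⟩ := Finset.exists_subsuperset_card_eq
        (s := T₀) (t := Finset.univ \ {g • x i', y i'}) (n := k - 1)
        (fun a ha => by
          simp only [Finset.mem_sdiff, Finset.mem_univ, true_and, Finset.mem_insert,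
            Finset.mem_singleton, not_or]
          exact ⟨fun h' => hxT (h' ▸ ha), fun h' => hyT (h' ▸ ha)⟩)
        hcard (by
          rw [Finset.card_univ_sdiff]
          have : ({g • x i', y i'} : Finset α).card ≤ 2 := Finset.card_le_two
          omega)
      have hout : ∀ a ∈ T, a ≠ g • x i' ∧ a ≠ y i' := by
        intro a ha
        have := hTsub ha
        simpa using this
      obtain ⟨g', hfix, hg'⟩ := h T hT (g • x i') (y i') (fun h' => (hout _ h').1 rfl)
        (fun h' => (hout _ h').2 rfl)
      refine ⟨g' * g, fun j hj => ?_⟩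
      rw [mul_smul]
      rcases Nat.lt_succ_iff_lt_or_eq.1 hj with hj | hj
      · rw [hg j hj]
        exact hfix _ (hT₀T (hmem j hj))
      · have : j = i' := Fin.ext hj
        rw [this]
        exact hg'
  obtain ⟨g, hg⟩ := key k le_rfl
  exact ⟨g, Function.Embedding.ext fun j => hg j j.isLt⟩

end CfsgLib.Perm
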