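import Mathlib

/-!
Regular normal subgroups of multiply primitive groups.
-/

open MulAction
open scoped Pointwise

namespace CfsgLib.Perm

variable {G : Type*} [Group G] {X : Type*} [MulAction G X]

/-- For a block, it is enough to check that meeting a translate means equality. -/
theorem trivial_block_of_fixing (s : Set X)
    (hprim : IsPreprimitive (fixingSubgroup G s) (SubMulAction.ofFixingSubgroup G s))
    (B : Set X) (hBs : Disjoint B s) [Finite X]
    (hB : ∀ g : G, (∀ x ∈ s, g • x = x) → ∀ x ∈ B, g • x ∈ B → ∀ y ∈ B, g • y ∈ B) :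
    B.Subsingleton ∨ ∀ x, x ∉ s → x ∈ B := by
  let B' : Set (SubMulAction.ofFixingSubgroup G s) := Subtype.val ⁻¹' B
  have hblock : IsBlock (fixingSubgroup G s) B' := by
    refine isBlock_iff_smul_eq_of_nonempty.2 fun {g} hne => ?_
    obtain ⟨_, ⟨x, hx, rfl⟩, hxB⟩ := hne
    refine Set.eq_of_subset_of_ncard_le ?_ (Set.ncard_smul_set g B').ge (Set.toFinite _)
    rintro _ ⟨y, hy, rfl⟩
    exact hB g.1 ((mem_fixingSubgroup_iff G).1 g.2) x.1 hx hxB y.1 hy
  rcases hprim.isTrivialBlock_of_isBlock hblock with h | h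
  · left
    intro x hx y hy
    exact congrArg Subtype.val (h (show (⟨x, fun hs => Set.disjoint_left.1 hBs hx hs⟩ :
      SubMulAction.ofFixingSubgroup G s) ∈ B' from hx) (show (⟨y, fun hs =>
      Set.disjoint_left.1 hBs hy hs⟩ : SubMulAction.ofFixingSubgroup G s) ∈ B' from hy))
  · right
    intro x hx
    have : (⟨x, hx⟩ : SubMulAction.ofFixingSubgroup G s) ∈ B' := h ▸ Set.mem_univ _
    exact this

theorem regular_eq_of_smul_eq {N : Subgroup G} (hreg : ∀ x : X, stabilizer N x = ⊥) {u v : G}
    (hu : u ∈ N) (hv : v ∈ N) {a : X} (h : u • a = v • a) : u = v := by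
  have : (⟨v, hv⟩⁻¹ * ⟨u, hu⟩ : N) ∈ stabilizer N a := by
    rw [mem_stabilizer_iff, Subgroup.smul_def, Subgroup.coe_mul, Subgroup.coe_inv, mul_smul, h,
      inv_smul_smul]
  rw [hreg a, Subgroup.mem_bot, inv_mul_eq_one] at this
  exact (congrArg Subtype.val this).symm

theorem smul_regular_conj {g : G} {a : X} (hg : g • a = a) (u : G) :
    g • u • a = (g * u * g⁻¹) • a := by
  rw [mul_smul, mul_smul, inv_smul_eq_iff.2 hg.symm]

/-- A regular normal subgroup of a doubly primitive group is an elementary abelian `2`-group, unless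
the degree is `3`. -/
theorem regular_normal_of_two_primitive [Fintype X] (hX : 2 ≤ Fintype.card X)
    (h2 : IsMultiplyPreprimitive G X 2) (N : Subgroup G) [N.Normal]
    (htrans : IsPretransitive N X) (hreg : ∀ x : X, stabilizer N x = ⊥) :
    Fintype.card X = 3 ∨
      (IsMulCommutative N ∧ (∀ n ∈ N, n ^ 2 = 1) ∧ ∃ m : ℕ, Fintype.card X = 2 ^ m) := by
  classical
  obtain ⟨a⟩ : Nonempty X := Fintype.card_pos_iff.1 (by omega)
  have hN : Nat.card N = Fintype.card X := by
    rw [← Nat.card_eq_fintype_card]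
    exact Nat.card_congr (Equiv.ofBijective (fun n : N => n • a)
      ⟨fun u v h => Subtype.ext (regular_eq_of_smul_eq hreg u.2 v.2 h), fun x => exists_smul_eq N a x⟩)
  have : Finite N := Nat.finite_of_card_ne_zero (by omega)
  have hprim : IsPreprimitive (fixingSubgroup G ({a} : Set X))
      (SubMulAction.ofFixingSubgroup G ({a} : Set X)) :=
    IsMultiplyPreprimitive.isPreprimitive_ofFixingSubgroup (α := X) G 2 (by rw [Set.encard_singleton]; norm_num)
  obtain ⟨r, hr, hrd⟩ := Nat.exists_prime_and_dvd (n := Nat.card N) (by omega)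
  have : Fact r.Prime := ⟨hr⟩
  obtain ⟨⟨n, hnN⟩, hn'⟩ := exists_prime_orderOf_dvd_card' r hrd
  rw [Subgroup.orderOf_mk] at hn'
  let Z := Subgroup.zpowers n
  have hZN : Z ≤ N := Subgroup.zpowers_le.2 hnN
  have hZc : Nat.card Z = r := by rw [Nat.card_zpowers, hn']
  have : Finite Z := Nat.finite_of_card_ne_zero (by rw [hZc]; exact hr.ne_zero)
  let B : Set X := {x | ∃ u ∈ Z, u ≠ 1 ∧ u • a = x}
  have hBa : Disjoint B ({a} : Set X) := by
    rw [Set.disjoint_singleton_right]
    rintro ⟨u, hu, hu1, hua⟩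
    exact hu1 (regular_eq_of_smul_eq hreg (hZN hu) N.one_mem (hua.trans (one_smul G a).symm))
  have hB : ∀ g : G, (∀ x ∈ ({a} : Set X), g • x = x) → ∀ x ∈ B, g • x ∈ B → ∀ y ∈ B, g • y ∈ B := by
    rintro g hg _ ⟨u, hu, hu1, rfl⟩ ⟨v, hv, hv1, hvu⟩ _ ⟨w, hw, hw1, rfl⟩
    rw [smul_regular_conj (hg a rfl)] at hvu
    have huv : g * u * g⁻¹ = v :=
      (regular_eq_of_smul_eq hreg (hZN hv) (Subgroup.Normal.conj_mem inferInstance u (hZN hu) g) hvu).symm
    have huZ : Subgroup.zpowers u = Z := by
      refine Subgroup.eq_of_le_of_card_ge (Subgroup.zpowers_le.2 hu) ?_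
      rw [hZc, Nat.card_zpowers]
      have h1 : orderOf u ∣ r := hZc ▸ Subgroup.orderOf_dvd_natCard Z hu
      have h2 : orderOf u ≠ 1 := fun h => hu1 (orderOf_eq_one_iff.1 h)
      exact ((Nat.dvd_prime hr).1 h1).resolve_left h2 ▸ le_rfl
    rw [← huZ] at hw
    obtain ⟨i, rfl⟩ := hw
    refine ⟨g * u ^ i * g⁻¹, ?_, ?_, (smul_regular_conj (hg a rfl) _).symm⟩
    · rw [← conj_zpow, huv]
      exact Z.zpow_mem hv i
    · rwa [ne_eq, conj_eq_one_iff]
  rcases trivial_block_of_fixing _ hprim B hBa hB with hsub | hall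
  · -- `r = 2`
    have hnB : n ∈ Z := Subgroup.mem_zpowers n
    have hn1 : n ≠ 1 := fun h => hr.ne_one (by rw [← hn', h, orderOf_one])
    have hninv : n⁻¹ = n := regular_eq_of_smul_eq hreg (inv_mem hnN) hnN
      (hsub ⟨n⁻¹, inv_mem hnB, inv_ne_one.2 hn1, rfl⟩ ⟨n, hnB, hn1, rfl⟩)
    have hn2 : n ^ 2 = 1 := by rw [pow_two]; nth_rw 1 [← hninv]; exact inv_mul_cancel n
    have hexp : ∀ u ∈ N, u ^ 2 = 1 := by
      intro u hu
      by_cases hu1 : u = 1
      · rw [hu1, one_pow]
      have hne : ∀ v ∈ N, v ≠ 1 → v • a ∉ ({a} : Set X) := fun v hv hv1 h =>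
        hv1 (regular_eq_of_smul_eq hreg hv N.one_mem ((h : v • a = a).trans (one_smul G a).symm))
      have := hprim.toIsPretransitive
      obtain ⟨g, hg⟩ := exists_smul_eq (fixingSubgroup G ({a} : Set X))
        (⟨n • a, hne n hnN hn1⟩ : SubMulAction.ofFixingSubgroup G ({a} : Set X))
        ⟨u • a, hne u hu hu1⟩
      have hga : (g : G) • a = a := (mem_fixingSubgroup_iff G).1 g.2 a rfl
      have hgu : (g : G) • n • a = u • a := congrArg Subtype.val hg
      rw [smul_regular_conj hga] at hgu
      rw [← regular_eq_of_smul_eq hreg (Subgroup.Normal.conj_mem inferInstance n hnN _) hu hgu,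
        conj_pow, hn2, mul_one, mul_inv_cancel]
    refine Or.inr ⟨⟨⟨fun u v => Subtype.ext ?_⟩⟩, hexp, ?_⟩
    · have hinv : ∀ w ∈ N, w⁻¹ = w := fun w hw =>
        inv_eq_of_mul_eq_one_right (by rw [← pow_two]; exact hexp w hw)
      change (u : G) * v = v * u
      rw [← hinv _ (N.mul_mem u.2 v.2), mul_inv_rev, hinv _ u.2, hinv _ v.2]
    · have : Fact (Nat.Prime 2) := ⟨Nat.prime_two⟩
      obtain ⟨m, hm⟩ := IsPGroup.iff_card.1 (show IsPGroup 2 N from fun w =>
        ⟨1, Subtype.ext (by rw [pow_one, SubmonoidClass.coe_pow]; exact hexp w w.2)⟩)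
      exact ⟨m, by rw [← hN, hm]⟩
  · -- `N` has order `r`
    have hNZ : ∀ u ∈ N, u ∈ Z := by
      intro u hu
      by_cases hu1 : u = 1
      · rw [hu1]; exact Z.one_mem
      obtain ⟨v, hv, -, hva⟩ := hall (u • a) fun h =>
        hu1 (regular_eq_of_smul_eq hreg hu N.one_mem ((h : u • a = a).trans (one_smul G a).symm))
      exact regular_eq_of_smul_eq hreg (hZN hv) hu hva ▸ hv
    have hNeq : N = Z := le_antisymm hNZ hZN
    rcases hr.eq_two_or_odd with rfl | hodd
    · refine Or.inr ⟨?_, ?_, 1, by rw [← hN, hNeq, hZc, pow_one]⟩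
      · rw [hNeq]; infer_instance
      · intro u hu
        rw [← hn'] at *
        exact orderOf_dvd_iff_pow_eq_one.1 (by
          have := Subgroup.orderOf_dvd_natCard Z (hNZ u hu)
          rwa [Nat.card_zpowers] at this)
    · left
      let C : Set X := {n • a, n⁻¹ • a}
      have hn1 : n ≠ 1 := fun h => hr.ne_one (by rw [← hn', h, orderOf_one])
      have hne : n ≠ n⁻¹ := fun h => by
        have h2 : n ^ 2 = 1 := by rw [pow_two]; nth_rw 1 [h]; rw [inv_mul_cancel]
        have := Nat.le_of_dvd (by norm_num) (orderOf_dvd_of_pow_eq_one h2)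
        rw [hn'] at this
        have := hr.two_le
        omega
      have hCa : Disjoint C ({a} : Set X) := by
        rw [Set.disjoint_singleton_right]
        rintro (h | h)
        · exact hn1 (regular_eq_of_smul_eq hreg hnN N.one_mem (h.symm.trans (one_smul G a).symm))
        · exact inv_ne_one.2 hn1 (regular_eq_of_smul_eq hreg (inv_mem hnN) N.one_mem
            ((Set.mem_singleton_iff.1 h).symm.trans (one_smul G a).symm))
      have hC : ∀ g : G, (∀ x ∈ ({a} : Set X), g • x = x) → ∀ x ∈ C, g • x ∈ C → ∀ y ∈ C,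
          g • y ∈ C := by
        intro g hg
        have hcj : g * n⁻¹ * g⁻¹ = (g * n * g⁻¹)⁻¹ := conj_inv.symm
        have hin : g * n * g⁻¹ ∈ N := Subgroup.Normal.conj_mem inferInstance n hnN g
        have key : (g • n • a ∈ C ↔ (g * n * g⁻¹ = n ∨ g * n * g⁻¹ = n⁻¹)) ∧
            (g • n⁻¹ • a ∈ C ↔ (g * n * g⁻¹ = n ∨ g * n * g⁻¹ = n⁻¹)) := by
          have hiff : ∀ u ∈ N, (u • a ∈ C ↔ (u = n ∨ u = n⁻¹)) := fun u hu => by
            constructor
            · rintro (h | h)
              · exact Or.inl (regular_eq_of_smul_eq hreg hu hnN h)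
              · exact Or.inr (regular_eq_of_smul_eq hreg hu (inv_mem hnN) h)
            · rintro (rfl | rfl) <;> simp [C]
          rw [smul_regular_conj (hg a rfl), smul_regular_conj (hg a rfl), hcj, hiff _ hin,
            hiff _ (inv_mem hin), inv_eq_iff_eq_inv, inv_inj]
          exact ⟨Iff.rfl, or_comm⟩
        rintro x hx hgx y hy
        have hh : g * n * g⁻¹ = n ∨ g * n * g⁻¹ = n⁻¹ := by
          rcases hx with rfl | rfl
          · exact key.1.1 hgx
          · exact key.2.1 hgx
        rcases hy with rfl | rfl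
        · exact key.1.2 hh
        · exact key.2.2 hh
      rcases trivial_block_of_fixing _ hprim C hCa hC with hs | ha
      · exact absurd (regular_eq_of_smul_eq hreg hnN (inv_mem hnN) (hs (Set.mem_insert _ _) (Set.mem_insert_of_mem _ rfl))) hne
      · have huniv : (Set.univ : Set X) ⊆ {a, n • a, n⁻¹ • a} := fun x _ => by
          by_cases hx : x = a
          · simp [hx]
          · exact Set.mem_insert_of_mem _ (ha x hx)
        have h3 := Set.ncard_le_ncard huniv (Set.toFinite _)
        rw [Set.ncard_univ, Nat.card_eq_fintype_card, ← hN, hNeq, hZc] at h3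
        have h4 : ({a, n • a, n⁻¹ • a} : Set X).ncard ≤ 3 := by
          refine (Set.ncard_insert_le _ _).trans ?_
          have := Set.ncard_insert_le (n • a) ({n⁻¹ • a} : Set X)
          rw [Set.ncard_singleton] at this
          omega
        rw [← hN, hNeq, hZc]
        have := hr.two_le
        omega

/-- A triply primitive group with a regular normal subgroup has degree `3` or `4`. -/
theorem regular_normal_of_three_primitive [Fintype X] (hX : 3 ≤ Fintype.card X)
    (h3 : IsMultiplyPreprimitive G X 3) (N : Subgroup G) [N.Normal]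
    (htrans : IsPretransitive N X) (hreg : ∀ x : X, stabilizer N x = ⊥) :
    Fintype.card X = 3 ∨ Fintype.card X = 4 := by
  classical
  have h2 : IsMultiplyPreprimitive G X 2 := isMultiplyPreprimitive_of_le G X h3 (by norm_num)
    (by rw [ENat.card_eq_coe_fintype_card]; exact_mod_cast hX)
  rcases regular_normal_of_two_primitive (by omega) h2 N htrans hreg with h | ⟨hc, hexp, m, hm⟩
  · exact Or.inl h
  by_cases h4 : Fintype.card X = 4
  · exact Or.inr h4
  exfalso
  obtain ⟨a⟩ : Nonempty X := Fintype.card_pos_iff.1 (by omega)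
  obtain ⟨b, hb⟩ : ∃ b, b ≠ a := Fintype.exists_ne_of_one_lt_card (by omega) a
  obtain ⟨⟨n, hnN⟩, hna⟩ := exists_smul_eq N a b
  change n • a = b at hna
  obtain ⟨c, hc'⟩ : ∃ c, c ∉ ({a, b} : Finset X) := by
    by_contra! h
    have := Finset.card_le_card (s := Finset.univ) (t := ({a, b} : Finset X)) (fun x _ => h x)
    have h2 : ({a, b} : Finset X).card ≤ 2 := Finset.card_le_two
    rw [Finset.card_univ] at this
    omega
  simp only [Finset.mem_insert, Finset.mem_singleton, not_or] at hc'
  obtain ⟨⟨v, hvN⟩, hva⟩ := exists_smul_eq N a c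
  change v • a = c at hva
  have hinv : ∀ w ∈ N, w⁻¹ = w := fun w hw =>
    inv_eq_of_mul_eq_one_right (by rw [← pow_two]; exact hexp w hw)
  let B : Set X := {c, n • c}
  have hncb : n • c ≠ b := fun h => hc'.1 (smul_left_cancel n (h.trans hna.symm))
  have hnca : n • c ≠ a := fun h => hc'.2 (by
    rw [← inv_smul_eq_iff.2 h.symm, hinv n hnN, hna])
  have hBs : Disjoint B ({a, b} : Set X) := by
    rw [Set.disjoint_left]
    rintro x (rfl | rfl) (h | h)
    · exact hc'.1 h
    · exact hc'.2 h
    · exact hnca h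
    · exact hncb h
  have hprim : IsPreprimitive (fixingSubgroup G ({a, b} : Set X))
      (SubMulAction.ofFixingSubgroup G ({a, b} : Set X)) :=
    IsMultiplyPreprimitive.isPreprimitive_ofFixingSubgroup (α := X) G 3 (by rw [Set.encard_pair (Ne.symm hb)]; norm_num)
  have hB : ∀ g : G, (∀ x ∈ ({a, b} : Set X), g • x = x) → ∀ x ∈ B, g • x ∈ B → ∀ y ∈ B,
      g • y ∈ B := by
    intro g hg
    have hga := hg a (by simp)
    have hgn : g * n * g⁻¹ = n := regular_eq_of_smul_eq hreg
      (Subgroup.Normal.conj_mem inferInstance n hnN g) hnN (a := a)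
      (by rw [← smul_regular_conj hga, hna]; exact hg b (by simp))
    have hcomm : ∀ x : X, g • n • x = n • g • x := fun x => by
      rw [← mul_smul, ← mul_smul]
      congr 1
      exact mul_inv_eq_iff_eq_mul.1 hgn
    have hnn : ∀ x : X, n • n • x = x := fun x => by
      rw [← mul_smul, ← pow_two, hexp n hnN, one_smul]
    have hswap : ∀ x, x ∈ B → n • x ∈ B := by
      rintro x (rfl | rfl)
      · simp [B]
      · rw [hnn]; simp [B]
    rintro x hx hgx y hy
    rcases eq_or_ne y x with rfl | hyx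
    · exact hgx
    have : y = n • x := by
      rcases hx with rfl | rfl <;> rcases hy with rfl | rfl
      · exact absurd rfl hyx
      · rfl
      · rw [hnn]
      · exact absurd rfl hyx
    rw [this, hcomm]
    exact hswap _ hgx
  rcases trivial_block_of_fixing _ hprim B hBs hB with hs | hall
  · have hnc : n • c = c := hs (by simp [B]) (by simp [B])
    rw [← hva, ← mul_smul] at hnc
    have := regular_eq_of_smul_eq hreg (N.mul_mem hnN hvN) hvN hnc
    rw [mul_eq_right] at this
    rw [this, one_smul] at hna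
    exact hb hna.symm
  · have : (Finset.univ : Finset X) ⊆ {a, b, c, n • c} := fun x _ => by
      by_cases hx : x ∈ ({a, b} : Set X)
      · rcases hx with rfl | rfl <;> simp
      · rcases hall x hx with rfl | rfl <;> simp
    have h5 := (Finset.card_le_card this).trans Finset.card_le_four
    rw [Finset.card_univ] at h5
    rw [hm] at h4 h5 hX
    have h6 : m ≤ 2 := by
      by_contra hcon
      have : 2 ^ 3 ≤ 2 ^ m := Nat.pow_le_pow_right (by norm_num) (by omega)
      omega
    interval_cases m <;> omega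

end CfsgLib.Perm
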