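import Cfsg.Agent.Lib.Perm.Sharp
import Cfsg.Agent.Lib.Perm.RegularPrimitive
import Cfsg.Agent.Lib.Perm.Multi
import Cfsg.Agent.Lib.Perm.EqualStabilizers

/-!
Normal subgroups of multiply primitive and multiply transitive groups.
-/

open MulAction

namespace CfsgLib.Perm

theorem card_eq_factorial_of_transitive {G α : Type*} [Group G] [Fintype α] [MulAction G α]
    [FaithfulSMul G α] {j : ℕ} (hj : Fintype.card α ≤ j + 1) (hjn : j ≤ Fintype.card α)
    (h : IsMultiplyPretransitive G α j) : Nat.card G = (Fintype.card α).factorial := by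
  classical
  have h' : IsMultiplyPretransitive G α (Nat.card α - 1) :=
    isMultiplyPretransitive_of_le (n := j) (by rw [Nat.card_eq_fintype_card]; omega)
      (by rw [Nat.card_eq_fintype_card]; exact hjn)
  let R := (toPermHom G α).range
  have htop : R = ⊤ := by
    refine Equiv.Perm.eq_top_of_isMultiplyPretransitive ?_
    rw [isMultiplyPretransitive_iff]
    intro x y
    obtain ⟨g, hg⟩ := (isMultiplyPretransitive_iff (G := G) (α := α)).1 h' x y
    exact ⟨⟨toPermHom G α g, g, rfl⟩, Function.Embedding.ext fun i => DFunLike.congr_fun hg i⟩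
  rw [Nat.card_congr (MonoidHom.ofInjective (MulAction.toPerm_injective (α := G) (β := α)) :
    G ≃* (toPermHom G α).range).toEquiv, show (toPermHom G α).range = ⊤ from htop,
    Subgroup.card_top, Nat.card_perm, Nat.card_eq_fintype_card]

/-- A sharply doubly transitive normal subgroup yields a regular normal subgroup of the big
group. -/
theorem exists_regular_normal {G α : Type*} [Group G] [Fintype α] [MulAction G α] [FaithfulSMul G α]
    (H : Subgroup G) [H.Normal] (h2 : IsMultiplyPretransitive H α 2) (hn : 2 ≤ Fintype.card α)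
    (hsharp : ∀ h : H, ∀ a b : α, a ≠ b → h • a = a → h • b = b → h = 1) :
    ∃ N : Subgroup G, N.Normal ∧ IsPretransitive N α ∧ ∀ a : α, stabilizer N a = ⊥ := by
  classical
  let φ : H →* Equiv.Perm α := toPermHom H α
  have hφ : Function.Injective φ := MulAction.toPerm_injective
  have hS : IsSharpTwo φ.range := by
    refine ⟨?_, fun x => (Subgroup.eq_bot_iff_forall _).2 ?_, hn⟩
    · rw [isMultiplyPretransitive_iff]
      intro x y
      obtain ⟨h, hh⟩ := (isMultiplyPretransitive_iff (G := H) (α := α)).1 h2 x y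
      exact ⟨⟨φ h, h, rfl⟩, Function.Embedding.ext fun i => DFunLike.congr_fun hh i⟩
    · rintro ⟨_, h, rfl⟩ hh
      have h0 := DFunLike.congr_fun (mem_stabilizer_iff.1 hh) 0
      have h1 := DFunLike.congr_fun (mem_stabilizer_iff.1 hh) 1
      have := hsharp h (x 0) (x 1) (fun e => absurd (x.injective e) (by decide)) h0 h1
      subst this
      exact Subtype.ext (map_one φ)
  obtain ⟨p, j, K, -, -, -, -, hKset, -, -, -, hKt, hKreg⟩ := hS.exists_kernel
  have hmem : ∀ h : H, φ.rangeRestrict h ∈ K ↔ (h = 1 ∨ ∀ a : α, h • a ≠ a) := by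
    intro h
    rw [← SetLike.mem_coe, hKset]
    refine or_congr ⟨fun e => hφ ?_, fun e => by rw [e, map_one]⟩ Iff.rfl
    rw [map_one]
    exact congrArg Subtype.val e
  let N : Subgroup G := (K.comap φ.rangeRestrict).map H.subtype
  have hN : ∀ g, g ∈ N ↔ g ∈ H ∧ (g = 1 ∨ ∀ a : α, g • a ≠ a) := by
    intro g
    simp only [N, Subgroup.mem_map, Subgroup.mem_comap, Subgroup.coe_subtype]
    constructor
    · rintro ⟨h, hh, rfl⟩
      exact ⟨h.2, ((hmem h).1 hh).imp (fun e => by rw [e]; rfl) id⟩
    · rintro ⟨hg, hh⟩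
      exact ⟨⟨g, hg⟩, (hmem _).2 (hh.imp (fun e => Subtype.ext e) id), rfl⟩
  refine ⟨N, ⟨fun g hg x => ?_⟩, ⟨fun a b => ?_⟩, fun a => (Subgroup.eq_bot_iff_forall _).2 ?_⟩
  · obtain ⟨hgH, hg⟩ := (hN g).1 hg
    refine (hN _).2 ⟨Subgroup.Normal.conj_mem inferInstance g hgH x, ?_⟩
    rcases hg with rfl | hg
    · left; simp
    · right
      intro a ha
      rw [mul_smul, mul_smul, smul_eq_iff_eq_inv_smul] at ha
      exact hg _ ha
  · obtain ⟨⟨⟨_, h, rfl⟩, hk⟩, hab⟩ := hKt.exists_smul_eq a b
    refine ⟨⟨h, (hN _).2 ⟨h.2, ((hmem h).1 ?_).imp (fun e => by rw [e]; rfl) id⟩⟩, hab⟩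
    exact hk
  · rintro ⟨g, hg⟩ hga
    obtain ⟨-, hg'⟩ := (hN g).1 hg
    rcases hg' with rfl | hg'
    · rfl
    · exact absurd hga (hg' a)

/-- A non-regular non-trivial normal subgroup of a `k`-primitive group which is not the symmetric
group, or of degree at least `k + 2`, is `k`-transitive. -/
theorem normal_isMultiplyPretransitive (k : ℕ) :
    ∀ {G α : Type*} [Group G] [Fintype α] [MulAction G α] [FaithfulSMul G α],
      1 ≤ k → k ≤ Fintype.card α → IsMultiplyPreprimitive G α k →
      (Nat.card G ≠ (Fintype.card α).factorial ∨ k + 2 ≤ Fintype.card α) →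
      ∀ (H : Subgroup G) [H.Normal], (∃ a : α, stabilizer H a ≠ ⊥) →
      IsMultiplyPretransitive H α k := by
  induction k with
  | zero => intro G α _ _ _ _ h; omega
  | succ k ih =>
    intro G α _ _ _ _ hk hkn hG hbig H _ hnr
    classical
    obtain ⟨a₀, ha₀⟩ := hnr
    have hG1 : IsPreprimitive G α :=
      is_one_preprimitive_iff G α |>.1
        (isMultiplyPreprimitive_of_le G α hG hk (by rw [ENat.card_eq_coe_fintype_card]; exact_mod_cast hkn))
    have hHt : IsPretransitive H α := by
      refine IsQuasiPreprimitive.isPretransitive_of_normal fun h => ha₀ ?_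
      refine (Subgroup.eq_bot_iff_forall _).2 fun g _ => ?_
      exact eq_of_smul_eq_smul (α := α) fun x => by
        rw [one_smul]
        have hx : x ∈ fixedPoints H α := h ▸ Set.mem_univ x
        exact hx g
    rcases Nat.eq_zero_or_pos k with rfl | hkpos
    · exact is_one_pretransitive_iff.2 hHt
    rw [SubMulAction.ofStabilizer.isMultiplyPretransitive (a := a₀)]
    have hGt := hG1.toIsPretransitive
    have hsub : IsMultiplyPreprimitive (stabilizer G a₀) (SubMulAction.ofStabilizer G a₀) k :=
      isMultiplyPreprimitive_ofStabilizer G α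
    have hcard : Fintype.card (SubMulAction.ofStabilizer G a₀) + 1 = Fintype.card α := by
      rw [← Nat.card_eq_fintype_card, SubMulAction.nat_card_ofStabilizer_add_one_eq,
        Nat.card_eq_fintype_card]
    have hfaith : FaithfulSMul (stabilizer G a₀) (SubMulAction.ofStabilizer G a₀) := ⟨fun {u v} h => by
      refine Subtype.ext (eq_of_smul_eq_smul (α := α) fun x => ?_)
      by_cases hx : x = a₀
      · subst hx; exact (mem_stabilizer_iff.1 u.2).trans (mem_stabilizer_iff.1 v.2).symm
      · exact congrArg Subtype.val (h ⟨x, hx⟩)⟩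
    have hindex : Nat.card G = Fintype.card α * Nat.card (stabilizer G a₀) := by
      rw [← (stabilizer G a₀).card_mul_index, index_stabilizer_of_transitive,
        Nat.card_eq_fintype_card (α := α), mul_comm]
    let H₁ : Subgroup (stabilizer G a₀) := H.subgroupOf (stabilizer G a₀)
    have hH₁ : H₁.Normal := inferInstance
    -- transport to the stabiliser in `H`
    suffices hmain : IsMultiplyPretransitive H₁ (SubMulAction.ofStabilizer G a₀) k by
      rw [isMultiplyPretransitive_iff] at hmain ⊢
      intro x y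
      let ι : SubMulAction.ofStabilizer H a₀ ↪ SubMulAction.ofStabilizer G a₀ :=
        ⟨fun z => ⟨z.1, z.2⟩, fun z w h => Subtype.ext (congrArg Subtype.val h :)⟩
      obtain ⟨⟨⟨g, hga⟩, hgH⟩, hg⟩ := hmain (x.trans ι) (y.trans ι)
      refine ⟨⟨⟨g, hgH⟩, hga⟩, Function.Embedding.ext fun i => Subtype.ext ?_⟩
      exact congrArg Subtype.val (DFunLike.congr_fun hg i)
    have hH₁ne : ∃ g : H₁, g ≠ 1 := by
      by_contra! h
      refine ha₀ ((Subgroup.eq_bot_iff_forall _).2 fun g hg => Subtype.ext ?_)
      exact congrArg (fun u : H₁ => ((u : stabilizer G a₀) : G)) (h ⟨⟨g.1, hg⟩, g.2⟩)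
    by_cases hreg1 : ∃ b : SubMulAction.ofStabilizer G a₀, stabilizer H₁ b ≠ ⊥
    · refine ih hkpos (by omega) hsub ?_ H₁ hreg1
      rcases hbig with h | h
      · left
        intro he
        apply h
        rw [hindex, he, ← hcard, Nat.factorial_succ]
      · right; omega
    push Not at hreg1
    have hprim1 : IsPreprimitive (stabilizer G a₀) (SubMulAction.ofStabilizer G a₀) :=
      is_one_preprimitive_iff _ _ |>.1
        (isMultiplyPreprimitive_of_le _ _ hsub hkpos (by
          rw [ENat.card_eq_coe_fintype_card]; exact_mod_cast (by omega : k ≤ _)))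
    have hH₁t : IsPretransitive H₁ (SubMulAction.ofStabilizer G a₀) := by
      refine IsQuasiPreprimitive.isPretransitive_of_normal fun h => ?_
      obtain ⟨g, hg⟩ := hH₁ne
      apply hg
      refine Subtype.ext (eq_of_smul_eq_smul (α := SubMulAction.ofStabilizer G a₀) fun x => ?_)
      have hx : x ∈ fixedPoints H₁ (SubMulAction.ofStabilizer G a₀) := h ▸ Set.mem_univ x
      rw [OneMemClass.coe_one, one_smul]
      exact hx g
    rcases Nat.lt_or_ge k 2 with hk1 | hk2
    · rw [show k = 1 by omega]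
      exact is_one_pretransitive_iff.2 hH₁t
    -- a regular stabiliser: `H` is sharply doubly transitive
    exfalso
    have h3 : IsMultiplyPreprimitive G α 3 :=
      isMultiplyPreprimitive_of_le G α hG (by omega) (by
        rw [ENat.card_eq_coe_fintype_card]; exact_mod_cast hkn)
    have h2H : IsMultiplyPretransitive H α 2 := by
      rw [SubMulAction.ofStabilizer.isMultiplyPretransitive (a := a₀), is_one_pretransitive_iff]
      refine ⟨fun u v => ?_⟩
      obtain ⟨⟨⟨g, hga⟩, hgH⟩, hg⟩ := hH₁t.exists_smul_eq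
        (⟨u.1, u.2⟩ : SubMulAction.ofStabilizer G a₀) ⟨v.1, v.2⟩
      exact ⟨⟨⟨g, hgH⟩, hga⟩, Subtype.ext (congrArg Subtype.val hg :)⟩
    have hsharp : ∀ h : H, ∀ x y : α, x ≠ y → h • x = x → h • y = y → h = 1 := by
      intro h x y hxy hx hy
      obtain ⟨g, hg⟩ := hHt.exists_smul_eq x a₀
      have hga : (g * h * g⁻¹) • a₀ = a₀ := by
        rw [← hg, mul_smul, mul_smul, inv_smul_smul, hx]
      have hgy : g • y ≠ a₀ := fun e => hxy (smul_left_cancel g (hg.trans e.symm))
      have hb := hreg1 ⟨(g • y : α), hgy⟩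
      rw [Subgroup.eq_bot_iff_forall] at hb
      have := hb ⟨⟨((g * h * g⁻¹ : H) : G), hga⟩, (g * h * g⁻¹).2⟩ (by
        refine Subtype.ext ?_
        change ((g * h * g⁻¹ : H) : G) • ((g • y : α)) = g • y
        rw [← Subgroup.smul_def, mul_smul, mul_smul, inv_smul_smul, hy])
      have h1 : g * h * g⁻¹ = 1 :=
        Subtype.ext (congrArg (fun u : H₁ => ((u : stabilizer G a₀) : G)) this)
      exact conj_eq_one_iff.1 h1
    obtain ⟨N, hNn, hNt, hNr⟩ := exists_regular_normal H h2H (by omega) hsharp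
    rcases regular_normal_of_three_primitive (by omega) h3 N hNt hNr with hc | hc
    · rcases hbig with h | h
      · exact h (card_eq_factorial_of_transitive (j := k + 1) (by omega) hkn hG.isMultiplyPretransitive)
      · omega
    · rcases hbig with h | h
      · exact h (card_eq_factorial_of_transitive (j := k + 1) (by omega) hkn hG.isMultiplyPretransitive)
      · omega

/-- Jordan: normal subgroups of multiply transitive groups. -/
theorem jordan_normal {G α : Type*} [Group G] [Fintype α] [MulAction G α] [FaithfulSMul G α]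
    {k : ℕ} (hk : 1 < k) (hdeg : k < Fintype.card α) (hG : IsMultiplyPretransitive G α k)
    (N : Subgroup G) [N.Normal] (hN : N ≠ ⊥) :
    IsMultiplyPretransitive N α (k - 1) ∨ (k = 3 ∧ IsMulCommutative N ∧ ∀ n ∈ N, n ^ 2 = 1) := by
  classical
  obtain ⟨j, rfl⟩ : ∃ j, k = j + 1 := ⟨k - 1, by omega⟩
  rw [Nat.add_sub_cancel]
  have hprim : IsMultiplyPreprimitive G α j :=
    isMultiplyPreprimitive_of_isMultiplyPretransitive_succ G α (by
      rw [ENat.card_eq_coe_fintype_card]; exact_mod_cast hdeg.le)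
  by_cases hnr : ∃ a : α, stabilizer N a ≠ ⊥
  · exact Or.inl (normal_isMultiplyPretransitive j (by omega) (by omega) hprim (Or.inr (by omega)) N hnr)
  push Not at hnr
  have hG1 : IsPreprimitive G α := is_one_preprimitive_iff G α |>.1
    (isMultiplyPreprimitive_of_le G α hprim (by omega) (by
      rw [ENat.card_eq_coe_fintype_card]; exact_mod_cast (by omega : j ≤ _)))
  have hNt : IsPretransitive N α := by
    refine IsQuasiPreprimitive.isPretransitive_of_normal fun h => hN ?_
    refine (Subgroup.eq_bot_iff_forall _).2 fun g hg => ?_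
    exact eq_of_smul_eq_smul (α := α) fun x => by
      rw [one_smul]
      have hx : x ∈ fixedPoints N α := h ▸ Set.mem_univ x
      exact hx ⟨g, hg⟩
  rcases Nat.lt_or_ge j 2 with hj1 | hj2
  · obtain rfl : j = 1 := by omega
    exact Or.inl (is_one_pretransitive_iff.2 hNt)
  have h2 : IsMultiplyPreprimitive G α 2 := isMultiplyPreprimitive_of_le G α hprim hj2 (by
    rw [ENat.card_eq_coe_fintype_card]; exact_mod_cast (by omega : j ≤ _))
  rcases Nat.lt_or_ge j 3 with hj | hj3
  · rcases regular_normal_of_two_primitive (by omega) h2 N hNt hnr with h | ⟨h1, h2', -⟩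
    · omega
    · exact Or.inr ⟨by omega, h1, h2'⟩
  · have h3 : IsMultiplyPreprimitive G α 3 := isMultiplyPreprimitive_of_le G α hprim hj3 (by
      rw [ENat.card_eq_coe_fintype_card]; exact_mod_cast (by omega : j ≤ _))
    rcases regular_normal_of_three_primitive (by omega) h3 N hNt hnr with h | h <;> omega

/-- Wagner: non-trivial normal subgroups of triply transitive groups of odd degree. -/
theorem wagner_normal {G α : Type*} [Group G] [Finite G] [Fintype α] [MulAction G α]
    [FaithfulSMul G α] (hodd : Odd (Fintype.card α)) (h5 : 5 ≤ Fintype.card α)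
    (hG : IsMultiplyPretransitive G α 3) (N : Subgroup G) [N.Normal] (hN : N ≠ ⊥) :
    IsMultiplyPretransitive N α 3 := by
  classical
  have : Fact (Nat.Prime 2) := ⟨Nat.prime_two⟩
  have hn2 : Fintype.card α % 2 = 1 := Nat.odd_iff.1 hodd
  have hN2 : IsMultiplyPretransitive N α 2 := by
    rcases jordan_normal (by norm_num : 1 < 3) (by omega) hG N hN with h | ⟨-, hc, hexp⟩
    · exact h
    exfalso
    have hG1 : IsPreprimitive G α := isPreprimitive_of_is_two_pretransitive
      (isMultiplyPretransitive_of_le (n := 3) (by norm_num) (by rw [Nat.card_eq_fintype_card]; omega))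
    have hNt : IsPretransitive N α := by
      refine IsQuasiPreprimitive.isPretransitive_of_normal fun h => hN ?_
      refine (Subgroup.eq_bot_iff_forall _).2 fun g hg => ?_
      exact eq_of_smul_eq_smul (α := α) fun x => by
        rw [one_smul]
        have hx : x ∈ fixedPoints N α := h ▸ Set.mem_univ x
        exact hx ⟨g, hg⟩
    obtain ⟨a⟩ : Nonempty α := Fintype.card_pos_iff.1 (by omega)
    have hdvd : Fintype.card α ∣ Nat.card N := by
      have := (stabilizer N a).index_dvd_card
      rwa [index_stabilizer_of_transitive, Nat.card_eq_fintype_card] at this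
    obtain ⟨m, hm⟩ := IsPGroup.iff_card.1 (show IsPGroup 2 N from fun w =>
      ⟨1, Subtype.ext (by rw [pow_one, SubmonoidClass.coe_pow]; exact hexp w w.2)⟩)
    rw [hm] at hdvd
    obtain ⟨i, -, hi⟩ := (Nat.dvd_prime_pow Nat.prime_two).1 hdvd
    rcases i with _ | i
    · rw [pow_zero] at hi; omega
    · rw [hi, pow_succ] at hn2; omega
  have hN1 : IsPretransitive N α := isPretransitive_of_is_two_pretransitive
  -- for any three points some element of `N` swaps two of them and fixes the third
  have hswap : ∀ x y z : α, x ≠ y → x ≠ z → y ≠ z → ∃ s : N, s • x = y ∧ s • y = x ∧ s • z = z := by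
    obtain ⟨a, b, hab⟩ := Fintype.exists_pair_of_one_lt_card (show 1 < Fintype.card α by omega)
    obtain ⟨g, hga, hgb⟩ := is_two_pretransitive_iff.1 hN2 hab hab.symm
    -- an involution
    have h2N : 2 ∣ Nat.card N := by
      by_contra h2
      have ho : Odd (orderOf g) := Nat.not_even_iff_odd.1 fun he =>
        h2 ((even_iff_two_dvd.1 he).trans (orderOf_dvd_natCard g))
      obtain ⟨k, hk⟩ := ho
      have hg2 : ∀ j : ℕ, g ^ (2 * j) • a = a := by
        intro j
        induction j with
        | zero => simp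
        | succ j ih => rw [mul_add, mul_one, pow_add, mul_smul, pow_two, mul_smul, hga, hgb, ih]
      have h1 := hg2 (k + 1)
      rw [show 2 * (k + 1) = orderOf g + 1 by omega, pow_succ, pow_orderOf_eq_one, one_mul, hga] at h1
      exact hab h1.symm
    obtain ⟨s, hs⟩ := exists_prime_orderOf_dvd_card' 2 h2N
    have hss : s * s = 1 := by rw [← pow_two, ← hs, pow_orderOf_eq_one]
    obtain ⟨u, hu⟩ : ∃ u : α, s • u ≠ u := by
      by_contra! h
      rw [show s = 1 from Subtype.ext (eq_of_smul_eq_smul (α := α) fun x => by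
        rw [← Subgroup.smul_def, h x, OneMemClass.coe_one, one_smul]), orderOf_one] at hs
      omega
    obtain ⟨w, hw⟩ : ∃ w : α, s • w = w := by
      have hinv : Function.Involutive (fun x : α => s • x) := fun x => by
        change s • s • x = x
        rw [← mul_smul, hss, one_smul]
      let σ : Equiv.Perm α := hinv.toPerm _
      have hσ : σ ^ 2 = 1 := Equiv.ext fun x => by
        rw [pow_two, Equiv.Perm.mul_apply]; exact hinv x
      exact Equiv.Perm.exists_fixed_point_of_prime (α := α) (p := 2) (n := 1)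
        (by omega) (σ := σ) (by rwa [pow_one])
    intro x y z hxy hxz hyz
    have huw : u ≠ w := fun e => hu (e ▸ hw)
    have hsuw : s • u ≠ w := fun e => huw (smul_left_cancel s (e.trans hw.symm))
    let e₁ : Fin 3 ↪ α := ⟨![u, s • u, w], by
      intro i j h
      fin_cases i <;> fin_cases j <;> first
        | rfl
        | exact absurd h huw
        | exact absurd h.symm huw
        | exact absurd h hu
        | exact absurd h.symm hu
        | exact absurd h hsuw
        | exact absurd h.symm hsuw⟩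
    let e₂ : Fin 3 ↪ α := ⟨![x, y, z], by
      intro i j h
      fin_cases i <;> fin_cases j <;> first
        | rfl
        | exact absurd h hxy
        | exact absurd h.symm hxy
        | exact absurd h hxz
        | exact absurd h.symm hxz
        | exact absurd h hyz
        | exact absurd h.symm hyz⟩
    obtain ⟨g, hg⟩ := (isMultiplyPretransitive_iff (G := G) (α := α)).1 hG e₁ e₂
    have hg0 : g • u = x := DFunLike.congr_fun hg 0
    have hg1 : g • (s • u) = y := DFunLike.congr_fun hg 1
    have hg2 : g • w = z := DFunLike.congr_fun hg 2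
    have hss' : s • s • u = u := by rw [← mul_smul, hss, one_smul]
    refine ⟨⟨g * s * g⁻¹, Subgroup.Normal.conj_mem inferInstance _ s.2 g⟩, ?_, ?_, ?_⟩
    · change (g * (s : G) * g⁻¹) • x = y
      rw [← hg0, mul_smul, mul_smul, inv_smul_smul, ← Subgroup.smul_def, hg1]
    · change (g * (s : G) * g⁻¹) • y = x
      rw [← hg1, mul_smul, mul_smul, inv_smul_smul, ← Subgroup.smul_def, hss', hg0]
    · change (g * (s : G) * g⁻¹) • z = z
      rw [← hg2, mul_smul, mul_smul, inv_smul_smul, ← Subgroup.smul_def, hw]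
  -- transitivity of the stabiliser of two points
  refine isMultiplyPretransitive_of_fixing (by omega) fun T hT x y hx hy => ?_
  obtain ⟨a, b, hab, rfl⟩ := Finset.card_eq_two.1 hT
  simp only [Finset.mem_insert, Finset.mem_singleton, not_or] at hx hy
  by_contra hcon
  let M : Subgroup N := stabilizer N a ⊓ stabilizer N b
  have hM : ∀ g : N, g ∈ M ↔ g • a = a ∧ g • b = b := fun g => Iff.rfl
  have hxy' : y ∉ orbit M x := by
    rintro ⟨⟨g, hg⟩, hgy⟩
    refine hcon ⟨g, fun t ht => ?_, hgy⟩
    simp only [Finset.mem_insert, Finset.mem_singleton] at ht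
    rcases ht with rfl | rfl
    · exact ((hM g).1 hg).1
    · exact ((hM g).1 hg).2
  -- orbits outside `{a, b}` have odd length
  have hout : ∀ u : α, u ≠ a ∧ u ≠ b → ∀ v ∈ orbit M u, v ≠ a ∧ v ≠ b := by
    rintro u ⟨hua, hub⟩ _ ⟨g, rfl⟩
    exact ⟨fun e => hua (smul_left_cancel (g : N) (e.trans ((hM g).1 g.2).1.symm)),
      fun e => hub (smul_left_cancel (g : N) (e.trans ((hM g).1 g.2).2.symm))⟩
  have horb : ∀ u v : α, u ≠ a ∧ u ≠ b → v ≠ a ∧ v ≠ b →
      Nat.card (orbit M u) = Nat.card (orbit M v) := by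
    intro u v hu hv
    let e₁ : Fin 3 ↪ α := ⟨![a, b, u], by
      intro i j h
      fin_cases i <;> fin_cases j <;> first
        | rfl
        | exact absurd h hab
        | exact absurd h.symm hab
        | exact absurd h hu.1
        | exact absurd h.symm hu.1
        | exact absurd h hu.2
        | exact absurd h.symm hu.2⟩
    let e₂ : Fin 3 ↪ α := ⟨![a, b, v], by
      intro i j h
      fin_cases i <;> fin_cases j <;> first
        | rfl
        | exact absurd h hab
        | exact absurd h.symm hab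
        | exact absurd h hv.1
        | exact absurd h.symm hv.1
        | exact absurd h hv.2
        | exact absurd h.symm hv.2⟩
    obtain ⟨g, hg⟩ := (isMultiplyPretransitive_iff (G := G) (α := α)).1 hG e₁ e₂
    have hga : g • a = a := DFunLike.congr_fun hg 0
    have hgb : g • b = b := DFunLike.congr_fun hg 1
    have hgu : g • u = v := DFunLike.congr_fun hg 2
    have hga' : g⁻¹ • a = a := inv_smul_eq_iff.2 hga.symm
    have hgb' : g⁻¹ • b = b := inv_smul_eq_iff.2 hgb.symm
    have hconjM : ∀ c : G, c • a = a → c • b = b → ∀ n : M, ∃ n' : M,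
        ∀ z : α, c • n • z = n' • c • z := by
      intro c hca hcb n
      have hca' : c⁻¹ • a = a := inv_smul_eq_iff.2 hca.symm
      have hcb' : c⁻¹ • b = b := inv_smul_eq_iff.2 hcb.symm
      have hna : ((n : N) : G) • a = a := ((hM n).1 n.2).1
      have hnb : ((n : N) : G) • b = b := ((hM n).1 n.2).2
      refine ⟨⟨⟨c * ((n : N) : G) * c⁻¹, Subgroup.Normal.conj_mem inferInstance _ (n : N).2 c⟩,
        (hM _).2 ⟨?_, ?_⟩⟩, fun z => ?_⟩
      · change (c * ((n : N) : G) * c⁻¹) • a = a
        rw [mul_smul, mul_smul, hca', hna, hca]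
      · change (c * ((n : N) : G) * c⁻¹) • b = b
        rw [mul_smul, mul_smul, hcb', hnb, hcb]
      · change c • ((n : N) : G) • z = (c * ((n : N) : G) * c⁻¹) • c • z
        rw [mul_smul, mul_smul, inv_smul_smul]
    refine Nat.card_congr ⟨fun z => ⟨g • z.1, ?_⟩, fun z => ⟨g⁻¹ • z.1, ?_⟩,
      fun z => Subtype.ext (inv_smul_smul g z.1), fun z => Subtype.ext (smul_inv_smul g z.1)⟩
    · obtain ⟨n, hn⟩ := z.2
      obtain ⟨n', hn'⟩ := hconjM g hga hgb n
      refine ⟨n', ?_⟩
      change n' • v = g • z.1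
      rw [← hgu, ← hn', show n • u = z.1 from hn]
    · obtain ⟨n, hn⟩ := z.2
      obtain ⟨n', hn'⟩ := hconjM g⁻¹ hga' hgb' n
      refine ⟨n', ?_⟩
      change n' • u = g⁻¹ • z.1
      rw [← show g⁻¹ • v = u from inv_smul_eq_iff.2 hgu.symm, ← hn', show n • v = z.1 from hn]
  have hodd' : ∀ u : α, u ≠ a ∧ u ≠ b → ¬ 2 ∣ Nat.card (orbit M u) := by
    intro u hu h2
    let S : Finset α := Finset.univ \ {a, b}
    have hS : ∀ v, v ∈ S ↔ v ≠ a ∧ v ≠ b := fun v => by simp [S]
    have hdvd := dvd_card_of_orbits (H := M) S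
      (fun g v hv => (hS _).2 (hout v ((hS v).1 hv) _ (mem_orbit v g)))
      (e := Nat.card (orbit M u)) (fun v hv => horb v u ((hS v).1 hv) hu)
    rw [Finset.card_univ_sdiff, Finset.card_pair hab] at hdvd
    have := h2.trans hdvd
    omega
  -- a Sylow `2`-subgroup of the two-point stabiliser and a swapping element normalising it
  obtain ⟨Q⟩ := (inferInstance : Nonempty (Sylow 2 M))
  obtain ⟨s, hsa, hsb, -⟩ := hswap a b x hab (Ne.symm hx.1) (Ne.symm hx.2)
  have hMconj : ∀ g : N, g ∈ M → s * g * s⁻¹ ∈ M := by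
    intro g hg
    obtain ⟨h1, h2⟩ := (hM g).1 hg
    have e1 : s⁻¹ • a = b := inv_smul_eq_iff.2 hsb.symm
    have e2 : s⁻¹ • b = a := inv_smul_eq_iff.2 hsa.symm
    exact (hM _).2 ⟨by rw [mul_smul, mul_smul, e1, h2, hsb], by rw [mul_smul, mul_smul, e2, h1, hsa]⟩
  let L : Subgroup N :=
    { carrier := {g | g ∈ M ∨ s⁻¹ * g ∈ M}
      one_mem' := Or.inl M.one_mem
      mul_mem' := by
        have hs2 : s * s ∈ M := (hM _).2 ⟨by rw [mul_smul, hsa, hsb], by rw [mul_smul, hsb, hsa]⟩
        intro g h hg hh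
        have hMconj' : ∀ k : N, k ∈ M → s⁻¹ * k * s ∈ M := by
          intro k hk
          have e : s⁻¹ * k * s = (s * s)⁻¹ * (s * k * s⁻¹) * (s * s) := by group
          rw [e]
          exact M.mul_mem (M.mul_mem (M.inv_mem hs2) (hMconj k hk)) hs2
        rcases hg with hg | hg <;> rcases hh with hh | hh
        · exact Or.inl (M.mul_mem hg hh)
        · refine Or.inr ?_
          rw [show s⁻¹ * (g * h) = (s⁻¹ * g * s) * (s⁻¹ * h) by group]
          exact M.mul_mem (hMconj' g hg) hh
        · refine Or.inr ?_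
          rw [← mul_assoc]
          exact M.mul_mem hg hh
        · refine Or.inl ?_
          rw [show g * h = (s * (s⁻¹ * g) * s⁻¹) * (s * s) * (s⁻¹ * h) by group]
          exact M.mul_mem (M.mul_mem (hMconj _ hg) hs2) hh
      inv_mem' := by
        have hs2 : s * s ∈ M := (hM _).2 ⟨by rw [mul_smul, hsa, hsb], by rw [mul_smul, hsb, hsa]⟩
        intro g hg
        rcases hg with hg | hg
        · exact Or.inl (M.inv_mem hg)
        · refine Or.inr ?_
          rw [show s⁻¹ * g⁻¹ = (s * s)⁻¹ * (s * (s⁻¹ * g)⁻¹ * s⁻¹) by group]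
          exact M.mul_mem (M.inv_mem hs2) (hMconj _ (M.inv_mem hg)) }
  have hsL : s ∈ L := Or.inr (by rw [inv_mul_cancel]; exact M.one_mem)
  have hML : M ≤ L := fun g hg => Or.inl hg
  have : (M.subgroupOf L).Normal := ⟨fun g hg c => by
    rw [Subgroup.mem_subgroupOf] at hg ⊢
    rcases c.2 with hc | hc
    · exact M.mul_mem (M.mul_mem hc hg) (M.inv_mem hc)
    · have := hMconj _ (M.mul_mem (M.mul_mem hc hg) (M.inv_mem hc))
      rw [show s * (s⁻¹ * (c : N) * (g : N) * (s⁻¹ * (c : N))⁻¹) * s⁻¹ = (c : N) * g * (c : N)⁻¹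
        by group] at this
      exact this⟩
  let ε : M.subgroupOf L ≃* M := Subgroup.subgroupOfEquivOfLe hML
  obtain ⟨P⟩ := (inferInstance : Nonempty (Sylow 2 (M.subgroupOf L)))
  have hfr := Sylow.normalizer_sup_eq_top P
  -- write `s` as an element normalising `P` times an element of `M`
  have hmemsup : (⟨s, hsL⟩ : L) ∈ Subgroup.normalizer
      (((P : Subgroup (M.subgroupOf L)).map (M.subgroupOf L).subtype : Subgroup L) : Set L) ⊔
      M.subgroupOf L := by rw [hfr]; trivial
  rw [Subgroup.mem_sup_of_normal_right] at hmemsup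
  obtain ⟨c, hc, n, hn, hcn⟩ := hmemsup
  have hcs : (c : N) * (n : N) = s := congrArg Subtype.val hcn
  have hnM := (hM _).1 (Subgroup.mem_subgroupOf.1 hn)
  have hn1 : (n : N)⁻¹ • a = a := inv_smul_eq_iff.2 hnM.1.symm
  have hn2' : (n : N)⁻¹ • b = b := inv_smul_eq_iff.2 hnM.2.symm
  have hca : (c : N) • a = b := by
    rw [eq_mul_inv_of_mul_eq hcs, mul_smul, hn1, hsa]
  have hcb : (c : N) • b = a := by
    rw [eq_mul_inv_of_mul_eq hcs, mul_smul, hn2', hsb]
  -- a power of `c` of `2`-power order
  obtain ⟨i, m, hm, hord⟩ := Nat.exists_eq_two_pow_mul_odd (orderOf_pos (c : N)).ne'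
  set d : N := (c : N) ^ m with hd
  have hdd : d ^ 2 ^ i = 1 := by rw [hd, ← pow_mul, mul_comm, ← hord, pow_orderOf_eq_one]
  obtain ⟨m', hm'⟩ := hm
  have hc2 : ∀ j : ℕ, ((c : N) ^ (2 * j)) • a = a ∧ ((c : N) ^ (2 * j)) • b = b := by
    intro j
    induction j with
    | zero => simp
    | succ j ih =>
      constructor
      · rw [mul_add, mul_one, pow_add, mul_smul, pow_two, mul_smul, hca, hcb, ih.1]
      · rw [mul_add, mul_one, pow_add, mul_smul, pow_two, mul_smul, hcb, hca, ih.2]
  have hda : d • a = b := by rw [hd, hm', pow_succ', mul_smul, (hc2 m').1, hca]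
  have hdb : d • b = a := by rw [hd, hm', pow_succ', mul_smul, (hc2 m').2, hcb]
  -- the Sylow subgroup inside `N`
  let R : Subgroup N := ((P : Subgroup (M.subgroupOf L)).map (M.subgroupOf L).subtype).map L.subtype
  have hRM : R ≤ M := by
    rintro _ ⟨_, ⟨q, -, rfl⟩, rfl⟩
    exact Subgroup.mem_subgroupOf.1 q.2
  have hcR : (c : N) ∈ Subgroup.normalizer (R : Set N) := by
    refine Subgroup.le_normalizer_map L.subtype ?_
    exact ⟨c, hc, rfl⟩
  have hdR : d ∈ Subgroup.normalizer (R : Set N) := pow_mem hcR m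
  have hRcard : Nat.card R = Nat.card (P : Subgroup (M.subgroupOf L)) := by
    rw [Subgroup.card_map_of_injective L.subtype_injective,
      Subgroup.card_map_of_injective (M.subgroupOf L).subtype_injective]
  have hRp : IsPGroup 2 R := (P.isPGroup'.map _).map _
  -- two fixed points of the pair `R`, `d` outside `a`, `b`
  let D : Subgroup N := R ⊔ Subgroup.zpowers d
  have hzp : IsPGroup 2 (Subgroup.zpowers d) := by
    intro w
    refine ⟨i, Subtype.ext ?_⟩
    obtain ⟨l, hl⟩ := w.2
    change d ^ l = (w : N) at hl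
    rw [SubmonoidClass.coe_pow, OneMemClass.coe_one, ← hl, ← zpow_natCast, ← zpow_mul, mul_comm,
      zpow_mul, zpow_natCast, hdd, one_zpow]
  have hDp : IsPGroup 2 D := hRp.to_sup_of_normal_left' hzp (Subgroup.zpowers_le.2 hdR)
  have hfixed : ∀ u : α, u ≠ a ∧ u ≠ b → ∃ z ∈ orbit M u, ∀ g ∈ D, g • z = z := by
    intro u hu
    have hinvM : ∀ g ∈ M, ∀ z ∈ orbit M u, g • z ∈ orbit M u := fun g hg z hz =>
      (orbit_eq_iff.2 hz) ▸ mem_orbit z (⟨g, hg⟩ : M)
    have hinvd : ∀ z ∈ orbit M u, d • z ∈ orbit M u := by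
      intro z hz
      have hzu := hout u hu z hz
      obtain ⟨t, hta, htb, htz⟩ := hswap a b z hab (Ne.symm hzu.1) (Ne.symm hzu.2)
      have hdt : d * t ∈ M :=
        (hM _).2 ⟨by rw [mul_smul, hta, hdb], by rw [mul_smul, htb, hda]⟩
      have := hinvM _ hdt z hz
      rwa [mul_smul, htz] at this
    let Inv : Subgroup N :=
      { carrier := {g | ∀ z, g • z ∈ orbit M u ↔ z ∈ orbit M u}
        one_mem' := fun z => by rw [one_smul]
        mul_mem' := fun {g g'} hg hg' z => by rw [mul_smul, hg, hg']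
        inv_mem' := fun {g} hg z => by rw [← hg (g⁻¹ • z), smul_inv_smul] }
    have hto : ∀ g : N, (∀ z ∈ orbit M u, g • z ∈ orbit M u) → g ∈ Inv := by
      intro g hg z
      refine ⟨fun h => ?_, hg z⟩
      have himg : (fun z => g • z) '' orbit M u = orbit M u := Set.eq_of_subset_of_ncard_le
        (Set.image_subset_iff.2 hg) (by rw [Set.ncard_image_of_injective _ (MulAction.injective g)])
        (Set.toFinite _)
      rw [← himg] at h
      obtain ⟨w, hw, hwz⟩ := h
      exact MulAction.injective g hwz ▸ hw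
    have hD : D ≤ Inv :=
      sup_le (fun g hg => hto g (hinvM g (hRM hg))) (Subgroup.zpowers_le.2 (hto d hinvd))
    let act : MulAction D (orbit M u) :=
      { smul := fun g z => ⟨(g : N) • z.1, (hD g.2 z.1).2 z.2⟩
        one_smul := fun z => Subtype.ext (one_smul N z.1)
        mul_smul := fun g h z => Subtype.ext (mul_smul (g : N) (h : N) z.1) }
    obtain ⟨z, hz⟩ := hDp.nonempty_fixed_point_of_prime_not_dvd_card (orbit M u) (hodd' u hu)
    exact ⟨z.1, z.2, fun g hg => congrArg Subtype.val (hz ⟨g, hg⟩)⟩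
  obtain ⟨e₁, he₁, hf₁⟩ := hfixed x hx
  obtain ⟨e₂, he₂, hf₂⟩ := hfixed y hy
  have hne : e₁ ≠ e₂ := by
    intro e
    apply hxy'
    rw [← orbit_eq_iff.2 he₁, e, orbit_eq_iff.2 he₂]
    exact mem_orbit_self y
  obtain ⟨h, hha, hhb⟩ := is_two_pretransitive_iff.1 hN2 hne hab
  -- `D` lies in a conjugate of `M`
  have hDle : D.map (MulAut.conj h).toMonoidHom ≤ M := by
    rintro _ ⟨g, hg, rfl⟩
    have e1 : h⁻¹ • a = e₁ := inv_smul_eq_iff.2 hha.symm
    have e2 : h⁻¹ • b = e₂ := inv_smul_eq_iff.2 hhb.symm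
    refine (hM _).2 ⟨?_, ?_⟩
    · change (h * g * h⁻¹) • a = a
      rw [mul_smul, mul_smul, e1, hf₁ g hg, hha]
    · change (h * g * h⁻¹) • b = b
      rw [mul_smul, mul_smul, e2, hf₂ g hg, hhb]
  obtain ⟨l, hl⟩ := IsPGroup.iff_card.1 hDp
  have hDdvd : Nat.card D ∣ Nat.card R := by
    rw [hRcard, P.card_eq_multiplicity, hl, Nat.card_congr ε.toEquiv]
    have h1 : 2 ^ l ∣ Nat.card M := by
      rw [← hl, ← Subgroup.card_map_of_injective (f := (MulAut.conj h).toMonoidHom) (MulEquiv.injective (MulAut.conj h))]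
      exact Subgroup.card_dvd_of_le hDle
    exact Nat.pow_dvd_pow 2 ((Nat.prime_two.pow_dvd_iff_le_factorization Nat.card_pos.ne').1 h1)
  have hDR : R = D := Subgroup.eq_of_le_of_card_ge le_sup_left (Nat.le_of_dvd Nat.card_pos hDdvd)
  have hdM : d ∈ M := hRM (hDR ▸ Subgroup.mem_sup_right (Subgroup.mem_zpowers d))
  exact hab (((hM d).1 hdM).1.symm.trans hda)

end CfsgLib.Perm
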