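import Mathlib
import Cfsg.Prelude.Def_LieExceptional

/-!
Involutions of Zassenhaus groups.
-/

open MulAction

namespace CfsgLib.Perm

variable {G Ω : Type*} [Group G] [Finite G] [MulAction G Ω] [Fintype Ω]

/-- An involution of a Zassenhaus group fixes at most two points. -/
theorem card_fixedBy_le (hZ : Cfsg.IsZassenhausGroup G Ω) {g : G} (hg : g ≠ 1) :
    Nat.card (fixedBy Ω g) ≤ 2 := by
  classical
  by_contra! h
  rw [Nat.card_coe_set_eq, Set.two_lt_ncard] at h
  obtain ⟨x, hx, y, hy, z, hz, hxy, hxz, hyz⟩ := h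
  exact hg (hZ.2.2.1 g x y z hxy hyz hxz hx hy hz)

theorem exists_swap_of_moved (hZ : Cfsg.IsZassenhausGroup G Ω) {a b : Ω} (hab : a ≠ b) {s : G}
    (hs : s * s = 1) {c : Ω} (hc : s • c ≠ c) :
    ∃ g : G, (g * s * g⁻¹) • a = b ∧ (g * s * g⁻¹) • b = a := by
  obtain ⟨g, hgc, hgd⟩ := is_two_pretransitive_iff.1 hZ.2.1 hc hab.symm
  have hsd : s • s • c = c := by rw [← mul_smul, hs, one_smul]
  refine ⟨g, ?_, ?_⟩
  · rw [← hgd, mul_smul, mul_smul, inv_smul_smul, hgc]
  · rw [← hgc, mul_smul, mul_smul, inv_smul_smul, hsd, hgd]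

theorem card_fixedBy_parity {s : G} (hs : s * s = 1) :
    Even (Fintype.card Ω) ↔ Even (Nat.card (fixedBy Ω s)) := by
  classical
  have hinv : Function.Involutive (fun x : Ω => s • x) := fun x => by
    change s • s • x = x
    rw [← mul_smul, hs, one_smul]
  let σ : Equiv.Perm Ω := hinv.toPerm _
  have hσ : σ ^ 2 ^ 1 = 1 := Equiv.ext fun x => by
    rw [pow_one, pow_two, Equiv.Perm.mul_apply]; exact hinv x
  have : Fact (Nat.Prime 2) := ⟨Nat.prime_two⟩
  have h := Equiv.Perm.card_compl_support_modEq (p := 2) (n := 1) hσ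
  have hfix : Nat.card (fixedBy Ω s) = (σ.supportᶜ).card := by
    rw [Nat.card_coe_set_eq, Set.ncard_eq_toFinset_card']
    congr 1
    ext x
    simp [σ, fixedBy, Function.Involutive.coe_toPerm]
    exact Set.mem_toFinset
  rw [hfix, Nat.even_iff, Nat.even_iff]
  rw [Nat.ModEq] at h
  omega

/-- Involutions swapping two points of a Zassenhaus group. -/
theorem zassenhaus_involutions (hZ : Cfsg.IsZassenhausGroup G Ω) {a b : Ω} (hab : a ≠ b) :
    (∃ s : G, orderOf s = 2 ∧ s • a = b ∧ s • b = a) ∧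
      (∀ s : G, orderOf s = 2 → s • a = b → s • b = a →
        (Odd (Fintype.card Ω) → Nat.card (fixedBy Ω s) = 1) ∧
        (Even (Fintype.card Ω) → Nat.card (fixedBy Ω s) = 0 ∨ Nat.card (fixedBy Ω s) = 2)) ∧
      (Even (Fintype.card Ω) → Even (Nat.card ↥(stabilizer G a ⊓ stabilizer G b)) →
        ∃ s : G, orderOf s = 2 ∧ s • a = b ∧ s • b = a ∧ Nat.card (fixedBy Ω s) = 2) := by
  classical
  have := hZ.1
  have hsq : ∀ s : G, orderOf s = 2 → s * s = 1 := fun s hs => by
    rw [← pow_two, ← hs, pow_orderOf_eq_one]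
  have hmoved : ∀ s : G, orderOf s = 2 → ∃ c : Ω, s • c ≠ c := fun s hs => by
    by_contra! h
    rw [eq_of_smul_eq_smul (α := Ω) (m₁ := s) (m₂ := 1) (fun c => by rw [h c, one_smul]),
      orderOf_one] at hs
    omega
  have hconj : ∀ g s : G, orderOf s = 2 → orderOf (g * s * g⁻¹) = 2 := fun g s hs =>
    hs ▸ orderOf_injective (MulAut.conj g).toMonoidHom (MulEquiv.injective _) s
  refine ⟨?_, fun s hs _ _ => ?_, fun heven hd => ?_⟩
  · -- some involution exists
    obtain ⟨g, hga, hgb⟩ := is_two_pretransitive_iff.1 hZ.2.1 hab hab.symm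
    have h2 : 2 ∣ Nat.card G := by
      by_contra hodd
      have ho : Odd (orderOf g) := Nat.not_even_iff_odd.1 fun he =>
        hodd ((even_iff_two_dvd.1 he).trans (orderOf_dvd_natCard g))
      obtain ⟨k, hk⟩ := ho
      have hg2 : ∀ j : ℕ, g ^ (2 * j) • a = a := by
        intro j
        induction j with
        | zero => simp
        | succ j ih => rw [mul_add, mul_one, pow_add, mul_smul, pow_two, mul_smul, hga, hgb, ih]
      have h1 := hg2 (k + 1)
      rw [show 2 * (k + 1) = orderOf g + 1 by omega, pow_succ, pow_orderOf_eq_one, one_mul, hga] at h1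
      exact hab h1.symm
    have : Fact (Nat.Prime 2) := ⟨Nat.prime_two⟩
    obtain ⟨s, hs⟩ := exists_prime_orderOf_dvd_card' 2 h2
    obtain ⟨c, hc⟩ := hmoved s hs
    obtain ⟨g', h1, h2'⟩ := exists_swap_of_moved hZ hab (hsq s hs) hc
    exact ⟨_, hconj g' s hs, h1, h2'⟩
  · have hle := card_fixedBy_le hZ (fun h => by rw [h, orderOf_one] at hs; omega : s ≠ 1)
    have hpar := card_fixedBy_parity (Ω := Ω) (hsq s hs)
    rw [Nat.even_iff, Nat.even_iff] at hpar
    constructor
    · intro ho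
      rw [Nat.odd_iff] at ho
      omega
    · intro he
      rw [Nat.even_iff] at he
      omega
  · have : Fact (Nat.Prime 2) := ⟨Nat.prime_two⟩
    obtain ⟨w, hw⟩ := exists_prime_orderOf_dvd_card' 2 (even_iff_two_dvd.1 hd)
    obtain ⟨hza, hzb⟩ := Subgroup.mem_inf.1 w.2
    set z : G := (w : G)
    have hz : orderOf z = 2 := (Subgroup.orderOf_coe w).trans hw
    obtain ⟨c, hc⟩ := hmoved z hz
    obtain ⟨g, h1, h2⟩ := exists_swap_of_moved hZ hab (hsq z hz) hc
    refine ⟨_, hconj g z hz, h1, h2, le_antisymm (card_fixedBy_le hZ (fun h => ?_)) ?_⟩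
    · have := hconj g z hz
      rw [h, orderOf_one] at this
      omega
    · rw [Nat.card_coe_set_eq]
      have hsub : ({g • a, g • b} : Set Ω) ⊆ fixedBy Ω (g * z * g⁻¹) := by
        rintro x (rfl | rfl) <;>
          simp [fixedBy, mul_smul, inv_smul_smul, mem_stabilizer_iff.1 hza, mem_stabilizer_iff.1 hzb]
      refine le_trans ?_ (Set.ncard_le_ncard hsub (Set.toFinite _))
      rw [Set.ncard_pair fun h => hab (smul_left_cancel g h)]

end CfsgLib.Perm
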