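import Cfsg.Agent.Lib.Perm.PrimeSylow

/-!
Order arithmetic for transitive groups of prime degree and subgroups of alternating groups.
-/

namespace CfsgLib.Perm

open MulAction

variable {α : Type*} [Fintype α] {p : ℕ} [Fact p.Prime] {G : Subgroup (Equiv.Perm α)}

theorem exists_counts (hα : Fintype.card α = p) [IsPretransitive G α] (P : Sylow p G) :
    ∃ k n : ℕ, Nat.card G = p * k * n ∧
      Nat.card (Subgroup.normalizer ((P : Subgroup G) : Set G)) = p * k ∧
      n = Nat.card (Sylow p G) ∧ k ∣ p - 1 ∧ n % p = 1 ∧ (k = 1 → n = 1) := by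
  classical
  have hp := (Fact.out : p.Prime)
  have hP := card_sylow_eq_prime hα P
  set N := Subgroup.normalizer ((P : Subgroup G) : Set G) with hN
  obtain ⟨k, hk⟩ : p ∣ Nat.card N := by
    conv_lhs => rw [← hP]
    exact Subgroup.card_dvd_of_le Subgroup.le_normalizer
  have hn : Nat.card (Sylow p G) = N.index := P.card_eq_index_normalizer
  have hG : Nat.card G = p * k * Nat.card (Sylow p G) := by
    rw [hn, ← hk, N.card_mul_index]
  have hk1 : k ∣ p - 1 := by
    have := card_normalizer_sylow_dvd hα P
    rw [← hN, hk] at this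
    exact Nat.dvd_of_mul_dvd_mul_left hp.pos this
  refine ⟨k, _, hG, hk, rfl, hk1, ?_, fun hk' => ?_⟩
  · have := card_sylow_modEq_one p G
    rwa [Nat.ModEq, Nat.mod_eq_of_lt hp.one_lt] at this
  subst hk'
  rw [mul_one] at hk
  have hNP : N = (P : Subgroup G) :=
    (Subgroup.eq_of_le_of_card_ge Subgroup.le_normalizer (hk.le.trans hP.ge)).symm
  have hcyc : IsCyclic (P : Subgroup G) := isCyclic_of_prime_card hP
  have hle : N ≤ Subgroup.centralizer ((P : Subgroup G) : Set G) := by
    rw [hNP]
    intro x hx
    rw [Subgroup.mem_centralizer_iff]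
    intro y hy
    exact congrArg Subtype.val (mul_comm' (⟨y, hy⟩ : (P : Subgroup G)) ⟨x, hx⟩)
  have hcomp := MonoidHom.ker_transferSylow_isComplement' P hle
  set K := (MonoidHom.transferSylow P hle).ker with hK
  have hKcard : Nat.card K = Nat.card (Sylow p G) := by
    have h1 := hcomp.card_mul_card
    rw [hP, hG, mul_one, mul_comm] at h1
    exact Nat.eq_of_mul_eq_mul_left hp.pos h1
  by_contra hne
  have hKne : K ≠ ⊥ := fun h => hne (by rw [← hKcard, h, Subgroup.card_bot])
  have := normal_isPretransitive hα K hKne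
  have hnd : ¬ p ∣ Nat.card K := MonoidHom.not_dvd_card_ker_transferSylow P hle
  obtain ⟨a⟩ : Nonempty α := Fintype.card_pos_iff.1 (by rw [hα]; exact hp.pos)
  apply hnd
  rw [← (stabilizer K a).card_mul_index, index_stabilizer_of_transitive,
    Nat.card_eq_fintype_card (α := α), hα]
  exact dvd_mul_left _ _

/-- A proper subgroup of the alternating group on `n ≥ 5` letters has index at least `n`. -/
theorem le_index_of_lt_alternating {β : Type*} [Fintype β] [DecidableEq β]
    (h5 : 5 ≤ Fintype.card β) (H : Subgroup (alternatingGroup β)) (hH : H ≠ ⊤) :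
    Fintype.card β ≤ H.index := by
  classical
  have := alternatingGroup.isSimpleGroup (α := β) (by rw [Nat.card_eq_fintype_card]; exact h5)
  let ψ := MulAction.toPermHom (alternatingGroup β) (alternatingGroup β ⧸ H)
  have hker : ψ.ker ≤ H := by
    intro g hg
    have h0 : g • ((1 : alternatingGroup β) : alternatingGroup β ⧸ H)
        = ((1 : alternatingGroup β) : alternatingGroup β ⧸ H) :=
      Equiv.ext_iff.1 (MonoidHom.mem_ker.1 hg) ((1 : alternatingGroup β) : alternatingGroup β ⧸ H)
    have h1 : ((g * 1 : alternatingGroup β) : alternatingGroup β ⧸ H) = ((1 : alternatingGroup β) :) :=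
      h0
    rw [mul_one, QuotientGroup.eq, mul_one, inv_mem_iff] at h1
    exact h1
  have hinj : Function.Injective ψ := by
    rw [← MonoidHom.ker_eq_bot_iff]
    exact ((MonoidHom.normal_ker ψ).eq_bot_or_eq_top).resolve_right
      (fun h => hH (top_le_iff.1 (h ▸ hker)))
  have hle := Nat.card_le_card_of_injective ψ hinj
  rw [Nat.card_perm, ← Subgroup.index_eq_card] at hle
  have : Nontrivial β := Fintype.one_lt_card_iff_nontrivial.1 (by omega)
  have hA := two_mul_nat_card_alternatingGroup (α := β)
  rw [Nat.card_perm, Nat.card_eq_fintype_card (α := β)] at hA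
  by_contra hlt
  push Not at hlt
  have h2 : H.index.factorial ≤ (Fintype.card β - 1).factorial :=
    Nat.factorial_le (by omega)
  have h3 := Nat.mul_factorial_pred (show Fintype.card β ≠ 0 by omega)
  have h4 : 0 < (Fintype.card β - 1).factorial := Nat.factorial_pos _
  have : 5 * (Fintype.card β - 1).factorial ≤ Fintype.card β * (Fintype.card β - 1).factorial :=
    Nat.mul_le_mul_right _ h5
  omega

end CfsgLib.Perm
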