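import Cfsg.Agent.Lib.Perm.PrimeCount
import Cfsg.Agent.S0676

/-!
Transitive groups of degree seven.
-/

namespace CfsgLib.Perm

open MulAction

variable {α : Type*} [Fintype α] [DecidableEq α]

theorem dvd_card_of_transitive_tuples {G : Subgroup (Equiv.Perm α)} {m : ℕ}
    (h : IsMultiplyPretransitive G α m) (hm : m ≤ Fintype.card α) :
    (Fintype.card α).descFactorial m ∣ Nat.card G := by
  obtain ⟨x⟩ : Nonempty (Fin m ↪ α) := Function.Embedding.nonempty_of_card_le (by simpa using hm)
  have hidx : (stabilizer G x).index = Nat.card (Fin m ↪ α) := by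
    rw [MulAction.index_stabilizer]
    refine (congrArg Set.ncard (Set.eq_univ_of_forall fun y => ?_)).trans (Set.ncard_univ _)
    exact h.exists_smul_eq x y
  rw [← (stabilizer G x).card_mul_index, hidx, Nat.card_eq_fintype_card (α := Fin m ↪ α),
    Fintype.card_embedding_eq, Fintype.card_fin]
  exact dvd_mul_left _ _

theorem sign_neg_zmod_seven : Equiv.Perm.sign (Equiv.neg (ZMod 7)) = -1 := by decide

/-- A transitive subgroup of degree 7 with more than one Sylow 7-subgroup lying properly inside
the alternating group has order 168. -/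
theorem degree_seven_even (hα : Fintype.card α = 7) (H : Subgroup (Equiv.Perm α))
    [IsPretransitive H α] (hle : H ≤ alternatingGroup α) (hne : H ≠ alternatingGroup α)
    (hns : ¬ Group.IsSolvable H) :
    Nat.card H = 168 ∧ IsSimpleGroup H := by
  have : Fact (Nat.Prime 7) := ⟨by norm_num⟩
  obtain ⟨P⟩ := (inferInstance : Nonempty (Sylow 7 H))
  obtain ⟨k, n, hcard, hN, hnS, hk, hn, hk1⟩ := exists_counts hα P
  have hidx : 7 ≤ (H.subgroupOf (alternatingGroup α)).index := by
    rw [← hα]
    refine le_index_of_lt_alternating (by omega) _ fun h => hne (le_antisymm hle ?_)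
    exact Subgroup.subgroupOf_eq_top.1 h
  have hmul := (H.subgroupOf (alternatingGroup α)).card_mul_index
  rw [Nat.card_congr (Subgroup.subgroupOfEquivOfLe hle).toEquiv] at hmul
  have : Nontrivial α := Fintype.one_lt_card_iff_nontrivial.1 (by omega)
  have hA := two_mul_nat_card_alternatingGroup (α := α)
  rw [Nat.card_perm, Nat.card_eq_fintype_card (α := α), hα] at hA
  have h7 : Nat.factorial 7 = 5040 := rfl
  rw [h7] at hA
  have hA' : Nat.card (alternatingGroup α) = 2520 := by omega
  rw [hA'] at hmul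
  have hHle : Nat.card H * 7 ≤ 2520 := hmul ▸ Nat.mul_le_mul_left _ hidx
  have hdvd : Nat.card H ∣ 2520 := ⟨_, hmul.symm⟩
  have h42 : 42 ∣ Nat.card H := by
    have := dvd_card_of_transitive_tuples (two_transitive hα hns) (by omega : 2 ≤ _)
    rw [hα] at this
    exact this
  have hkodd : ¬ Even k := by
    intro heven
    obtain ⟨σ, s, e, -, -, -, -, hs⟩ := exists_coord_neg hα (by norm_num) P
      (by rw [hN]; exact heven.mul_left 7)
    have hse : (s : Equiv.Perm α) = e.permCongr (Equiv.neg (ZMod 7)) := Equiv.ext fun x => by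
      obtain ⟨j, rfl⟩ := e.surjective x
      simpa [Subgroup.smul_def] using hs j
    have h1 : Equiv.Perm.sign (s : Equiv.Perm α) = 1 := Equiv.Perm.mem_alternatingGroup.1 (hle s.2)
    rw [hse, Equiv.Perm.sign_permCongr, sign_neg_zmod_seven] at h1
    exact absurd h1 (by decide)
  have hkle := Nat.le_of_dvd (by norm_num) hk
  have hn8 : n = 8 ∧ k = 3 := by
    obtain ⟨m, hm⟩ := h42
    obtain ⟨q, hq⟩ := hdvd
    have hk13 : k = 1 ∨ k = 3 := by
      have : ∀ k ≤ 6, k ∣ 6 → ¬ Even k → k = 1 ∨ k = 3 := by decide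
      exact this k hkle hk hkodd
    rcases hk13 with h | h <;> subst h
    · have := hk1 rfl; omega
    · omega
  obtain ⟨rfl, rfl⟩ := hn8
  refine ⟨by rw [hcard], ?_⟩
  have : Nontrivial H := Finite.one_lt_card_iff_nontrivial.1 (by rw [hcard]; norm_num)
  refine ⟨fun K hK => or_iff_not_imp_left.2 fun hK0 => ?_⟩
  -- a nontrivial normal subgroup is transitive, so it contains all eight Sylow 7-subgroups
  let K' : Subgroup (Equiv.Perm α) := K.map H.subtype
  have hK't : IsPretransitive K' α := by
    have := normal_isPretransitive hα K hK0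
    constructor
    intro a b
    obtain ⟨g, hg⟩ := MulAction.exists_smul_eq K a b
    exact ⟨⟨((g : H) : Equiv.Perm α), g, g.2, rfl⟩, hg⟩
  obtain ⟨Q⟩ := (inferInstance : Nonempty (Sylow 7 K'))
  obtain ⟨k', n', hcard', -, hnS', -, hn', hk1'⟩ := exists_counts hα Q
  have hKK' : Nat.card K' = Nat.card K :=
    Subgroup.card_map_of_injective H.subtype_injective
  have hKdvd : Nat.card K ∣ 168 := by
    have := Subgroup.card_subgroup_dvd_card K
    rwa [hcard] at this
  rw [← hKK', hcard'] at hKdvd
  have hidx7 : ¬ 7 ∣ K.index := by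
    intro h
    have h1 := K.card_mul_index
    rw [← hKK', hcard', hcard] at h1
    obtain ⟨m, hm⟩ := h
    rw [hm] at h1
    have h2 : 7 * (7 * (k' * n' * m)) = 7 * 24 := by ring_nf; ring_nf at h1; omega
    omega
  have hmem7 : ∀ g : H, g ^ 7 = 1 → g ∈ K := by
    intro g hg
    rw [← QuotientGroup.eq_one_iff]
    have h1 : orderOf (g : H ⧸ K) ∣ 7 := orderOf_dvd_of_pow_eq_one (by
      rw [← QuotientGroup.mk_pow, hg, QuotientGroup.mk_one])
    rcases (Nat.dvd_prime (Fact.out : Nat.Prime 7)).1 h1 with h | h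
    · rwa [orderOf_eq_one_iff] at h
    · exfalso
      apply hidx7
      conv_lhs => rw [← h]
      exact orderOf_dvd_natCard _
  have hn'8 : 8 ≤ n' := by
    rw [hnS']
    have hS : Nat.card (Sylow 7 H) = 8 := hnS.symm
    rw [← hS]
    -- each Sylow subgroup of `H` gives one of `K'`
    have hsub : ∀ S : Sylow 7 H, (S : Subgroup H).map H.subtype ≤ K' := by
      intro S
      refine Subgroup.map_mono fun g hg => hmem7 g ?_
      have := orderOf_dvd_natCard (⟨g, hg⟩ : (S : Subgroup H))
      rw [card_sylow_eq_prime hα S, Subgroup.orderOf_mk] at this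
      exact orderOf_dvd_iff_pow_eq_one.1 this
    have hQ := card_sylow_eq_prime hα Q
    let f : Sylow 7 H → Sylow 7 K' := fun S =>
      Sylow.ofCard (((S : Subgroup H).map H.subtype).subgroupOf K') (by
        rw [Nat.card_congr (Subgroup.subgroupOfEquivOfLe (hsub S)).toEquiv,
          Subgroup.card_map_of_injective H.subtype_injective, card_sylow_eq_prime hα S,
          ← Q.card_eq_multiplicity, hQ])
    refine Nat.card_le_card_of_injective f fun S T h => ?_
    have h' := congrArg (fun R : Sylow 7 K' => (R : Subgroup K')) h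
    simp only [f, Sylow.coe_ofCard, Subgroup.subgroupOf_inj, inf_eq_left.2 (hsub S),
      inf_eq_left.2 (hsub T)] at h'
    exact Sylow.ext (Subgroup.map_injective H.subtype_injective h')
  have hk'0 : k' ≠ 0 := by
    rintro rfl
    have := Nat.card_pos (α := K')
    omega
  have hk'1 : k' ≠ 1 := fun h => by have := hk1' h; omega
  refine Subgroup.eq_top_of_card_eq K ?_
  rw [← hKK', hcard', hcard]
  obtain ⟨m, hm⟩ := hKdvd
  have : 7 * (k' * n' * m) = 7 * 24 := by rw [← mul_assoc, ← mul_assoc] ; omega
  have h24 : k' * n' * m = 24 := by omega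
  have hm0 : m ≠ 0 := by rintro rfl; omega
  have hk'2 : 2 ≤ k' := by omega
  have h16 : 16 ≤ k' * n' := (show 16 = 2 * 8 from rfl) ▸ Nat.mul_le_mul hk'2 hn'8
  have hm1 : m = 1 := by
    by_contra hm'
    have := Nat.mul_le_mul h16 (show 2 ≤ m by omega)
    omega
  subst hm1
  rw [mul_assoc]
  omega

end CfsgLib.Perm
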