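import Mathlib

/-!
Finite sharply 2-transitive permutation groups: the fixed-point-free elements and the identity
form a regular normal elementary abelian subgroup.
-/

namespace CfsgLib.Perm

open MulAction

variable {α : Type*} [Fintype α] {G : Subgroup (Equiv.Perm α)}

variable (G) in
/-- `G` is sharply 2-transitive on at least two points. -/
structure IsSharpTwo : Prop where
  two : IsMultiplyPretransitive G α 2
  sharp : ∀ x : Fin 2 ↪ α, stabilizer G x = ⊥
  card : 2 ≤ Fintype.card α

theorem IsSharpTwo.pretransitive (h : IsSharpTwo G) : IsPretransitive G α :=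
  have := h.two
  isPretransitive_of_is_two_pretransitive

theorem IsSharpTwo.eq_one (h : IsSharpTwo G) {g : G} {a b : α} (hab : a ≠ b)
    (ha : g • a = a) (hb : g • b = b) : g = 1 := by
  have hm : g ∈ stabilizer G (Function.Embedding.embFinTwo hab) := by
    rw [mem_stabilizer_iff]
    ext i
    fin_cases i
    · change g • (Function.Embedding.embFinTwo hab) 0 = _
      simp [Function.Embedding.embFinTwo_apply_zero, ha]
    · change g • (Function.Embedding.embFinTwo hab) 1 = _
      simp [Function.Embedding.embFinTwo_apply_one, hb]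
  rwa [h.sharp, Subgroup.mem_bot] at hm

theorem IsSharpTwo.card_eq (h : IsSharpTwo G) :
    Nat.card G = Fintype.card α * (Fintype.card α - 1) := by
  classical
  obtain ⟨a, b, hab⟩ := Fintype.exists_pair_of_one_lt_card (lt_of_lt_of_le one_lt_two h.card)
  let x : Fin 2 ↪ α := Function.Embedding.embFinTwo hab
  have hidx : (stabilizer G x).index = Nat.card (Fin 2 ↪ α) := by
    rw [MulAction.index_stabilizer]
    refine (congrArg Set.ncard (Set.eq_univ_of_forall fun y => ?_)).trans (Set.ncard_univ _)
    exact h.two.exists_smul_eq x y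
  rw [h.sharp, Subgroup.index_bot] at hidx
  rw [hidx, Nat.card_eq_fintype_card, Fintype.card_embedding_eq,
    Fintype.card_fin, Nat.descFactorial_succ, Nat.descFactorial_one, mul_comm]

variable (G) in
/-- The fixed-point-free elements together with the identity. -/
def sharpKernelSet : Set G := {g | g = 1 ∨ ∀ a : α, g • a ≠ a}

theorem IsSharpTwo.card_kernelSet (h : IsSharpTwo G) :
    Nat.card (sharpKernelSet G) = Fintype.card α := by
  classical
  have := h.pretransitive
  have hne : Nonempty α := Fintype.card_pos_iff.1 (by have := h.card; omega)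
  let _ : Fintype G := Fintype.ofFinite G
  have hB := MulAction.sum_card_fixedBy_eq_card_orbits_mul_card_group G α
  have horb : Fintype.card (MulAction.orbitRel.Quotient G α) = 1 := by
    rw [Fintype.card_eq_one_iff]
    refine ⟨Quotient.mk'' hne.some, fun q => ?_⟩
    induction q using Quotient.inductionOn' with
    | h x => exact Quotient.sound' (MulAction.exists_smul_eq G hne.some x)
  have hfix : ∀ g : G, g ≠ 1 → Fintype.card (fixedBy α g) = if ∀ a : α, g • a ≠ a then 0 else 1 := by
    intro g hg
    split_ifs with hd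
    · rw [Fintype.card_eq_zero_iff]
      exact ⟨fun x => hd x.1 x.2⟩
    · push Not at hd
      obtain ⟨a, ha⟩ := hd
      rw [Fintype.card_eq_one_iff]
      refine ⟨⟨a, ha⟩, fun y => Subtype.ext ?_⟩
      by_contra hya
      exact hg (h.eq_one hya y.2 ha)
  rw [horb, one_mul, ← Finset.add_sum_erase _ _ (Finset.mem_univ (1 : G)),
    Finset.sum_congr rfl (fun g hg => hfix g (Finset.ne_of_mem_erase hg))] at hB
  have h1 : Fintype.card (fixedBy α (1 : G)) = Fintype.card α :=
    Fintype.card_congr (Equiv.subtypeUnivEquiv fun a => one_smul G a)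
  have hsplit : ∀ g ∈ Finset.univ.erase (1 : G),
      (if ∀ a : α, g • a ≠ a then 0 else 1 : ℕ) + (if ∀ a : α, g • a ≠ a then 1 else 0) = 1 := by
    intro g _; split_ifs <;> rfl
  have hsum := Finset.sum_congr rfl hsplit
  rw [Finset.sum_add_distrib, Finset.sum_boole, Finset.sum_const, smul_eq_mul, mul_one,
    Finset.card_erase_of_mem (Finset.mem_univ _), Finset.card_univ] at hsum
  have hK : Nat.card (sharpKernelSet G) =
      ((Finset.univ.erase (1 : G)).filter fun g => ∀ a : α, g • a ≠ a).card + 1 := by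
    rw [Nat.card_eq_fintype_card, ← Set.toFinset_card,
      show (sharpKernelSet G).toFinset =
        insert 1 ((Finset.univ.erase (1 : G)).filter fun g => ∀ a : α, g • a ≠ a) from ?_,
      Finset.card_insert_of_notMem (by simp)]
    ext g
    simp only [Finset.mem_insert, Finset.mem_filter, Finset.mem_erase, Finset.mem_univ, and_true]
    rw [Set.mem_toFinset]
    change (g = 1 ∨ _) ↔ _
    rcases eq_or_ne g 1 with rfl | hg <;> simp_all
  have hG := h.card_eq
  rw [Nat.card_eq_fintype_card] at hG
  simp only [Nat.cast_id] at hsum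
  have := h.card
  omega

theorem IsSharpTwo.centralizer_eq (h : IsSharpTwo G) {d : G} (hd : ∀ a : α, d • a ≠ a) :
    (Subgroup.centralizer ({d} : Set G) : Set G) = sharpKernelSet G ∧
      ∀ d' : G, (∀ a : α, d' • a ≠ a) → IsConj d d' := by
  classical
  have hsub : (Subgroup.centralizer ({d} : Set G) : Set G) ⊆ sharpKernelSet G := by
    intro g hg
    rw [SetLike.mem_coe, Subgroup.mem_centralizer_iff] at hg
    refine or_iff_not_imp_right.2 fun hne => ?_
    push Not at hne
    obtain ⟨a, ha⟩ := hne
    refine h.eq_one (hd a) ?_ ha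
    rw [← mul_smul, ← hg d rfl, mul_smul, ha]
  have hdK : ∀ g : G, IsConj d g → g ∈ sharpKernelSet G \ {1} := by
    intro g hg
    obtain ⟨c, rfl⟩ := isConj_iff.1 hg
    refine ⟨Or.inr fun a ha => hd (c⁻¹ • a) ?_, ?_⟩
    · rw [mul_smul, mul_smul, ← eq_inv_smul_iff] at ha
      exact ha
    · intro h1
      rw [Set.mem_singleton_iff, mul_inv_eq_one, mul_eq_left] at h1
      obtain ⟨a, -⟩ := Fintype.exists_pair_of_one_lt_card (lt_of_lt_of_le one_lt_two h.card)
      exact hd a (by rw [h1, one_smul])
  have hcc : {g : G | IsConj d g}.ncard * Nat.card (Subgroup.centralizer ({d} : Set G))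
      = Nat.card G := by
    rw [Subgroup.nat_card_centralizer_nat_card_stabilizer,
      show {g : G | IsConj d g} = orbit (ConjAct G) d from Set.ext fun g => by
        rw [ConjAct.mem_orbit_conjAct]; exact isConj_comm,
      ← MulAction.index_stabilizer, mul_comm, Subgroup.card_mul_index]
    rfl
  have hK := h.card_kernelSet
  rw [Nat.card_coe_set_eq] at hK
  have h1 : {g : G | IsConj d g} ⊆ sharpKernelSet G \ {1} := hdK
  have h1K : (1 : G) ∈ sharpKernelSet G := Or.inl rfl
  have hK1 : (sharpKernelSet G \ {1}).ncard = Fintype.card α - 1 := by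
    rw [Set.ncard_sdiff_singleton_of_mem h1K, hK]
  have hle1 : {g : G | IsConj d g}.ncard ≤ Fintype.card α - 1 :=
    hK1 ▸ Set.ncard_le_ncard h1 (Set.toFinite _)
  have hle2 : Nat.card (Subgroup.centralizer ({d} : Set G)) ≤ Fintype.card α := by
    rw [← hK, ← SetLike.coe_sort_coe, Nat.card_coe_set_eq]
    exact Set.ncard_le_ncard hsub (Set.toFinite _)
  rw [h.card_eq] at hcc
  have hn := h.card
  have e2 : Nat.card (Subgroup.centralizer ({d} : Set G)) = Fintype.card α := by
    refine le_antisymm hle2 (Nat.le_of_mul_le_mul_right ?_ (by omega : 0 < Fintype.card α - 1))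
    rw [← hcc, mul_comm]
    exact Nat.mul_le_mul_left _ hle1
  have e1 : {g : G | IsConj d g}.ncard = Fintype.card α - 1 := by
    rw [e2, mul_comm] at hcc
    exact Nat.eq_of_mul_eq_mul_left (by omega) hcc
  refine ⟨Set.eq_of_subset_of_ncard_le hsub ?_ (Set.toFinite _), fun d' hd' => ?_⟩
  · rw [hK, ← Nat.card_coe_set_eq, SetLike.coe_sort_coe, e2]
  · have heq : {g : G | IsConj d g} = sharpKernelSet G \ {1} :=
      Set.eq_of_subset_of_ncard_le h1 (by rw [hK1, e1]) (Set.toFinite _)
    have hd1 : d' ≠ 1 := by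
      intro h1'
      obtain ⟨a, -⟩ := Fintype.exists_pair_of_one_lt_card (lt_of_lt_of_le one_lt_two hn)
      exact hd' a (by rw [h1', one_smul])
    have : d' ∈ {g : G | IsConj d g} := by rw [heq]; exact ⟨Or.inr hd', hd1⟩
    exact this

/-- Structure of a sharply 2-transitive group. -/
theorem IsSharpTwo.exists_kernel (h : IsSharpTwo G) :
    ∃ (p j : ℕ) (K : Subgroup G), p.Prime ∧ 1 ≤ j ∧ Fintype.card α = p ^ j ∧ K.Normal ∧
      (K : Set G) = sharpKernelSet G ∧ Nat.card K = p ^ j ∧
      (∀ x ∈ K, ∀ y ∈ K, x * y = y * x) ∧ (∀ x ∈ K, x ^ p = 1) ∧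
      IsPretransitive K α ∧ (∀ a : α, stabilizer K a = ⊥) := by
  classical
  have hn := h.card
  obtain ⟨d₀, hd₀K, hd₀1⟩ := Set.exists_ne_of_one_lt_ncard
    (s := sharpKernelSet G) (by rw [← Nat.card_coe_set_eq, h.card_kernelSet]; omega) 1
  have hd₀ := hd₀K.resolve_left hd₀1
  let K := Subgroup.centralizer ({d₀} : Set G)
  have hKset : (K : Set G) = sharpKernelSet G := (h.centralizer_eq hd₀).1
  have hmem : ∀ g : G, g ∈ K ↔ g = 1 ∨ ∀ a : α, g • a ≠ a := fun g => Set.ext_iff.1 hKset g
  have hnormal : K.Normal := ⟨fun x hx g => by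
    rcases (hmem x).1 hx with rfl | hx
    · simp
    · refine (hmem _).2 (Or.inr fun a ha => hx (g⁻¹ • a) ?_)
      rw [mul_smul, mul_smul, ← eq_inv_smul_iff] at ha
      exact ha⟩
  have hcomm : ∀ x ∈ K, ∀ y ∈ K, x * y = y * x := by
    intro x hx y hy
    rcases (hmem x).1 hx with rfl | hx'
    · simp
    · have : y ∈ Subgroup.centralizer ({x} : Set G) := by
        have := (h.centralizer_eq hx').1
        rw [← SetLike.mem_coe, this, ← hKset]
        exact hy
      exact (Subgroup.mem_centralizer_iff.1 this x rfl)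
  obtain ⟨q, hq, hqd⟩ := Nat.exists_prime_and_dvd
    (show orderOf d₀ ≠ 1 by rwa [ne_eq, orderOf_eq_one_iff])
  have hd₀0 : 0 < orderOf d₀ := orderOf_pos d₀
  let d₁ := d₀ ^ (orderOf d₀ / q)
  have hd₁o : orderOf d₁ = q := orderOf_pow_orderOf_div hd₀0.ne' hqd
  have hd₁1 : d₁ ≠ 1 := fun h1 => by rw [h1, orderOf_one] at hd₁o; exact hq.ne_one hd₁o.symm
  have hd₁ : ∀ a : α, d₁ • a ≠ a :=
    ((hmem d₁).1 (K.pow_mem ((hmem d₀).2 (Or.inr hd₀)) _)).resolve_left hd₁1
  have hexp : ∀ x ∈ K, x ^ q = 1 := by
    intro x hx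
    rcases (hmem x).1 hx with rfl | hx'
    · simp
    · obtain ⟨c, rfl⟩ := isConj_iff.1 ((h.centralizer_eq hd₁).2 x hx')
      rw [conj_pow, ← hd₁o, pow_orderOf_eq_one, mul_one, mul_inv_cancel]
  have hcardK : Nat.card K = Fintype.card α := by
    rw [← h.card_kernelSet, ← hKset]; rfl
  have hKp : IsPGroup q K := fun x => ⟨1, by
    refine Subtype.ext ?_
    simpa using hexp x x.2⟩
  have : Fact q.Prime := ⟨hq⟩
  obtain ⟨j, hj⟩ := hKp.exists_card_eq
  have hstab : ∀ a : α, stabilizer K a = ⊥ := by
    intro a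
    rw [Subgroup.eq_bot_iff_forall]
    intro x hx
    rcases (hmem x).1 x.2 with hx1 | hx'
    · exact Subtype.ext hx1
    · exact absurd (mem_stabilizer_iff.1 hx) (hx' a)
  have htrans : IsPretransitive K α := by
    constructor
    intro a b
    have : orbit K a = Set.univ := by
      refine Set.eq_of_subset_of_ncard_le (Set.subset_univ _) ?_ Set.finite_univ
      rw [Set.ncard_univ, Nat.card_eq_fintype_card, ← MulAction.index_stabilizer, hstab,
        Subgroup.index_bot, hcardK]
    have hb : b ∈ orbit K a := by rw [this]; trivial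
    exact hb
  refine ⟨q, j, K, hq, ?_, hcardK ▸ hj, hnormal, hKset, hj, hcomm, hexp, htrans, hstab⟩
  rcases j with _ | j
  · rw [hcardK, pow_zero] at hj; omega
  · omega

end CfsgLib.Perm
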