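import Cfsg.Prelude.Def_Perm
import Cfsg.Agent.Lib.Perm.Sharp
import Cfsg.Agent.Lib.Perm.ZassG.SharpPGLOdd
import Cfsg.Agent.Lib.Perm.ZassG.SharpPGLEven
import Cfsg.Agent.Lib.PSL2.Congr

/-!
Transitive groups of degree `p + 1` and order `(p + 1) p d` with `d < p`.
-/

open MulAction Cfsg

namespace CfsgLib.Perm

variable {G Ω : Type*} [Group G] [MulAction G Ω] [Finite G] [Finite Ω] [FaithfulSMul G Ω]

/-- An element of order `p` fixing a point generates a group regular on the other `p` points. -/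
theorem regular_of_orderOf_prime {p : ℕ} (hp : p.Prime) (hn : Nat.card Ω = p + 1) {a : Ω} {x : G}
    (hx : orderOf x = p) (ha : x • a = a) :
    ∀ y z : Ω, y ≠ a → z ≠ a → ∃! u : Subgroup.zpowers x, (u : G) • y = z := by
  classical
  have := Fact.mk hp
  have := Fintype.ofFinite Ω
  have hP : IsPGroup p (Subgroup.zpowers x) := IsPGroup.of_card (n := 1) (by rw [Nat.card_zpowers, hx, pow_one])
  have hfp : fixedPoints (Subgroup.zpowers x) Ω = fixedBy Ω x := by
    ext c
    refine ⟨fun h => h ⟨x, Subgroup.mem_zpowers x⟩, fun h u => ?_⟩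
    obtain ⟨i, hi⟩ := Subgroup.mem_zpowers_iff.1 u.2
    show (u : G) • c = c
    rw [← hi]
    exact mem_stabilizer_iff.1 (zpow_mem (mem_stabilizer_iff.2 h) i)
  have hmod := hP.card_modEq_card_fixedPoints Ω
  rw [hfp, hn, Nat.ModEq] at hmod
  have hx1 : x ≠ 1 := fun h => hp.one_lt.ne' (by rw [← hx, h, orderOf_one])
  have hlt : Nat.card (fixedBy Ω x) < Nat.card Ω := by
    rw [Nat.card_coe_set_eq, ← Set.ncard_univ]
    refine Set.ncard_lt_ncard (Set.ssubset_univ_iff.2 fun h => hx1 ?_) (Set.toFinite _)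
    exact eq_of_smul_eq_smul (α := Ω) fun c => by
      rw [one_smul]; exact (h ▸ Set.mem_univ c : c ∈ fixedBy Ω x)
  have hone : Nat.card (fixedBy Ω x) = 1 := by
    rw [Nat.add_mod, Nat.mod_self, zero_add, Nat.mod_mod, Nat.mod_eq_of_lt hp.one_lt] at hmod
    rcases (show Nat.card (fixedBy Ω x) < p ∨ Nat.card (fixedBy Ω x) = p by omega) with h | h
    · rw [Nat.mod_eq_of_lt h] at hmod; omega
    · rw [h, Nat.mod_self] at hmod; omega
  have hfix : ∀ c, x • c = c → c = a := fun c hc => by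
    have := (Nat.card_eq_one_iff_unique.1 hone).1
    exact congrArg Subtype.val (Subsingleton.elim (⟨c, hc⟩ : fixedBy Ω x) ⟨a, ha⟩)
  intro y z hy hz
  have hua : ∀ u : Subgroup.zpowers x, (u : G) • a = a := fun u =>
    (hfp ▸ ha : a ∈ fixedPoints (Subgroup.zpowers x) Ω) u
  let f : Subgroup.zpowers x → {c : Ω // c ≠ a} := fun u =>
    ⟨(u : G) • y, fun h => hy (smul_left_cancel (u : G) (h.trans (hua u).symm))⟩
  have hinj : Function.Injective f := by
    intro u v h
    by_contra hne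
    have e : (u : G) • y = (v : G) • y := congrArg Subtype.val h
    have hw : (v : G)⁻¹ * u ≠ 1 := fun h' => hne (Subtype.ext (inv_mul_eq_one.1 h').symm)
    have hgen : Subgroup.zpowers ((v : G)⁻¹ * u) = Subgroup.zpowers x := by
      refine Subgroup.eq_of_le_of_card_ge (Subgroup.zpowers_le.2 (mul_mem (inv_mem v.2) u.2)) ?_
      rw [Nat.card_zpowers, Nat.card_zpowers, hx]
      refine Nat.le_of_dvd (orderOf_pos _) ?_
      rcases (Nat.dvd_prime hp).1 (hx ▸ orderOf_dvd_of_mem_zpowers (mul_mem (inv_mem v.2) u.2)) with h' | h'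
      · exact absurd (orderOf_eq_one_iff.1 h') hw
      · rw [h']
    obtain ⟨i, hi⟩ := Subgroup.mem_zpowers_iff.1 (hgen ▸ Subgroup.mem_zpowers x)
    refine hy (hfix y ?_)
    rw [← hi]
    refine mem_stabilizer_iff.1 (zpow_mem (mem_stabilizer_iff.2 ?_) i)
    rw [mul_smul, e, inv_smul_smul]
  have hcard : Nat.card (Subgroup.zpowers x) = Nat.card {c : Ω // c ≠ a} := by
    rw [Nat.card_zpowers, hx, Nat.card_eq_fintype_card, Fintype.card_subtype_compl,
      Fintype.card_subtype_eq, ← Nat.card_eq_fintype_card, hn, Nat.add_sub_cancel]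
  obtain ⟨u, hu⟩ := ((Nat.bijective_iff_injective_and_card f).2 ⟨hinj, hcard⟩).2 ⟨z, hz⟩
  exact ⟨u, congrArg Subtype.val hu, fun v hv => hinj ((Subtype.ext hv : f v = ⟨z, hz⟩).trans hu.symm)⟩

variable [IsPretransitive G Ω] {p d : ℕ} (hp : p.Prime) (hn : Nat.card Ω = p + 1)
  (hG : Nat.card G = (p + 1) * p * d) (hd : d < p)
include hp hn hG hd

theorem card_stabilizer_succ (a : Ω) : Nat.card (stabilizer G a) = p * d := by
  have h := (stabilizer G a).card_mul_index
  rw [index_stabilizer_of_transitive, hn, hG, mul_assoc, mul_comm (p + 1)] at h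
  exact Nat.eq_of_mul_eq_mul_right p.succ_pos h

/-- A point stabiliser has a normal subgroup of order `p`, regular on the other points. -/
theorem exists_cycle (a : Ω) : ∃ x : G, orderOf x = p ∧ x • a = a ∧
    ∀ g ∈ stabilizer G a, ∀ u ∈ Subgroup.zpowers x, g * u * g⁻¹ ∈ Subgroup.zpowers x := by
  have := Fact.mk hp
  have hcS := card_stabilizer_succ hp hn hG hd a
  have hd0 : 0 < d := Nat.pos_of_ne_zero fun h => by
    rw [h, mul_zero] at hG; exact Nat.card_pos.ne' hG
  obtain ⟨w, hw⟩ := exists_prime_orderOf_dvd_card' p (hcS ▸ dvd_mul_right p d : p ∣ Nat.card (stabilizer G a))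
  let P : Sylow p (stabilizer G a) := default
  have hpd : ¬ p ∣ d := fun h => absurd (Nat.le_of_dvd hd0 h) (by omega)
  have hP : Nat.card P = p := by
    rw [P.card_eq_multiplicity, hcS, Nat.factorization_mul hp.ne_zero hd0.ne', Finsupp.add_apply,
      hp.factorization_self, Nat.factorization_eq_zero_of_not_dvd hpd, add_zero, pow_one]
  have hidx : (P : Subgroup (stabilizer G a)).index = d := by
    have := (P : Subgroup (stabilizer G a)).card_mul_index
    rw [hP, hcS] at this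
    exact Nat.eq_of_mul_eq_mul_left hp.pos this
  have hone : Nat.card (Sylow p (stabilizer G a)) = 1 := by
    have h1 := card_sylow_modEq_one p (stabilizer G a)
    rwa [Nat.ModEq, Nat.mod_eq_of_lt hp.one_lt,
      Nat.mod_eq_of_lt (lt_of_le_of_lt (Nat.le_of_dvd hd0 (hidx ▸ P.card_dvd_index)) hd)] at h1
  have : Subsingleton (Sylow p (stabilizer G a)) := (Nat.card_eq_one_iff_unique.1 hone).1
  have hPn := P.normal_of_subsingleton
  have hwP : Subgroup.zpowers w = (P : Subgroup (stabilizer G a)) := by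
    obtain ⟨Q, hQ⟩ := (IsPGroup.of_card (n := 1) (by rw [Nat.card_zpowers, hw, pow_one]) :
      IsPGroup p (Subgroup.zpowers w)).exists_le_sylow
    rw [Subsingleton.elim Q P] at hQ
    exact Subgroup.eq_of_le_of_card_ge hQ (by rw [hP, Nat.card_zpowers, hw])
  refine ⟨w, (Subgroup.orderOf_coe w).trans hw, w.2, fun g hg u hu => ?_⟩
  obtain ⟨i, rfl⟩ := Subgroup.mem_zpowers_iff.1 hu
  obtain ⟨j, hj⟩ := Subgroup.mem_zpowers_iff.1 (hwP ▸ hPn.conj_mem (w ^ i) (hwP ▸ zpow_mem (Subgroup.mem_zpowers w) i) ⟨g, hg⟩ :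
    ⟨g, hg⟩ * w ^ i * (⟨g, hg⟩ : stabilizer G a)⁻¹ ∈ Subgroup.zpowers w)
  exact Subgroup.mem_zpowers_iff.2 ⟨j, by simpa using congrArg Subtype.val hj⟩

theorem two_pretransitive_succ : IsMultiplyPretransitive G Ω 2 := by
  rw [is_two_pretransitive_iff]
  intro y z y' z' hyz hyz'
  obtain ⟨g, hg⟩ := exists_smul_eq G y y'
  obtain ⟨x, hx, hxa, -⟩ := exists_cycle hp hn hG hd y'
  obtain ⟨u, hu, -⟩ := regular_of_orderOf_prime hp hn hx hxa (g • z) z'
    (fun h => hyz (smul_left_cancel g (h.trans hg.symm)).symm) hyz'.symm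
  refine ⟨(u : G) * g, ?_, by rw [mul_smul, hu]⟩
  obtain ⟨i, hi⟩ := Subgroup.mem_zpowers_iff.1 u.2
  rw [mul_smul, hg, ← hi]
  exact mem_stabilizer_iff.1 (zpow_mem (mem_stabilizer_iff.2 hxa) i)

theorem eq_one_of_three_succ {g : G} {a b c : Ω} (hab : a ≠ b) (hbc : b ≠ c) (hac : a ≠ c)
    (ha : g • a = a) (hb : g • b = b) (hc : g • c = c) : g = 1 := by
  obtain ⟨x, hx, hxa, hnorm⟩ := exists_cycle hp hn hG hd a
  have hreg := regular_of_orderOf_prime hp hn hx hxa
  obtain ⟨⟨u, hu⟩, hub, -⟩ := hreg b c hab.symm hac.symm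
  have hu' := hnorm g ha u hu
  have e : g * u * g⁻¹ = u := congrArg Subtype.val
    ((hreg b c hab.symm hac.symm).unique (y₁ := ⟨_, hu'⟩) (y₂ := ⟨u, hu⟩)
      (show (g * u * g⁻¹) • b = c by rw [mul_smul, mul_smul, inv_smul_eq_iff.2 hb.symm, hub, hc]) hub)
  have hgu : Commute g u := mul_inv_eq_iff_eq_mul.1 e
  have hub' : u • b = c := hub
  have hu1 : u ≠ 1 := fun h => hbc (by rw [← hub', h, one_smul])
  have hgen : Subgroup.zpowers u = Subgroup.zpowers x := by
    refine Subgroup.eq_of_le_of_card_ge (Subgroup.zpowers_le.2 hu) ?_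
    rw [Nat.card_zpowers, Nat.card_zpowers, hx]
    rcases (Nat.dvd_prime hp).1 (hx ▸ orderOf_dvd_of_mem_zpowers hu) with h' | h'
    · exact absurd (orderOf_eq_one_iff.1 h') hu1
    · rw [h']
  refine eq_of_smul_eq_smul (α := Ω) fun y => ?_
  rw [one_smul]
  rcases eq_or_ne y a with rfl | hy
  · exact ha
  obtain ⟨⟨v, hv⟩, hvy, -⟩ := hreg b y hab.symm hy
  obtain ⟨i, rfl⟩ := Subgroup.mem_zpowers_iff.1 (hgen ▸ hv)
  rw [← hvy, ← mul_smul, (hgu.zpow_right i).eq, mul_smul, hb]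

theorem card_pair_succ {a b : Ω} (hab : a ≠ b) : Nat.card (ZassG.pairStab G a b) = d := by
  obtain ⟨x, hx, hxa, -⟩ := exists_cycle hp hn hG hd a
  have hreg := regular_of_orderOf_prime hp hn hx hxa
  have hP : ∀ u ∈ Subgroup.zpowers x, u • a = a := fun u hu => by
    obtain ⟨i, rfl⟩ := Subgroup.mem_zpowers_iff.1 hu
    exact mem_stabilizer_iff.1 (zpow_mem (mem_stabilizer_iff.2 hxa) i)
  have e : Nat.card (Subgroup.zpowers x × ZassG.pairStab G a b) = Nat.card (stabilizer G a) := by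
    refine Nat.card_congr (Equiv.ofBijective
      (fun q => (⟨q.1 * q.2, mul_mem (mem_stabilizer_iff.2 (hP _ q.1.2)) q.2.2.1⟩ : stabilizer G a)) ⟨?_, ?_⟩)
    · intro q r h
      have h' : (q.1 : G) * q.2 = r.1 * r.2 := congrArg Subtype.val h
      have h1 := congrArg (· • b) h'
      simp only [mul_smul, mem_stabilizer_iff.1 q.2.2.2, mem_stabilizer_iff.1 r.2.2.2] at h1
      have hne : (r.1 : G) • b ≠ a := fun h => hab (smul_left_cancel (r.1 : G) ((hP _ r.1.2).trans h.symm))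
      have e1 := (hreg b _ hab.symm hne).unique (y₁ := q.1) (y₂ := r.1) h1 rfl
      rw [e1] at h'
      exact Prod.ext e1 (Subtype.ext (mul_left_cancel h'))
    · rintro ⟨g, hg⟩
      have hne : g • b ≠ a := fun h => hab (smul_left_cancel g (hg.trans h.symm))
      obtain ⟨u, hu, -⟩ := hreg b (g • b) hab.symm hne
      refine ⟨(u, ⟨(u : G)⁻¹ * g, ?_, ?_⟩), Subtype.ext (mul_inv_cancel_left (u : G) g)⟩
      · show ((u : G)⁻¹ * g) • a = a
        rw [mul_smul, hg, inv_smul_eq_iff, hP _ u.2]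
      · show ((u : G)⁻¹ * g) • b = b
        rw [mul_smul, ← hu, inv_smul_smul]
  rw [Nat.card_prod, Nat.card_zpowers, hx, card_stabilizer_succ hp hn hG hd a] at e
  exact Nat.eq_of_mul_eq_mul_left hp.pos e

end CfsgLib.Perm
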