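import Cfsg.Agent.Lib.Perm.JordanCycle
import Cfsg.Agent.Lib.Perm.Sharp

/-!
A primitive group of degree thirteen inside the alternating group which contains an 11-cycle
is the alternating group.

Jordan's theorem gives triple transitivity. If the order is divisible by five, a Frattini
argument on the points fixed by an element of order five gives a 3-cycle or a 5-cycle. If not,
transfer shows that the two-point stabilisers have order eleven, so a point stabiliser would be
sharply doubly transitive on twelve points.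
-/

open MulAction Equiv

namespace CfsgLib.Perm

variable {α : Type*} [Fintype α] [DecidableEq α] {G : Subgroup (Perm α)}

/-- The elements of `G` fixing every point of `s`. -/
def fixSub (G : Subgroup (Perm α)) (s : Finset α) : Subgroup (Perm α) :=
  G ⊓ fixingSubgroup (Perm α) (s : Set α)

omit [Fintype α] [DecidableEq α] in
theorem mem_fixSub {s : Finset α} {k : Perm α} : k ∈ fixSub G s ↔ k ∈ G ∧ ∀ x ∈ s, k x = x := by
  simp only [fixSub, Subgroup.mem_inf, mem_fixingSubgroup_iff, Perm.smul_def, Finset.mem_coe]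

omit [DecidableEq α] in
theorem pow_apply_of_eqOn {h σ : Perm α} {s : Finset α} (hσ : ∀ x ∈ s, σ x ∈ s)
    (hh : ∀ x ∈ s, h x = σ x) (k : ℕ) : ∀ x ∈ s, (h ^ k) x = (σ ^ k) x ∧ (σ ^ k) x ∈ s := by
  induction k with
  | zero => exact fun x hx => ⟨rfl, hx⟩
  | succ k ih =>
    intro x hx
    rw [pow_succ', pow_succ', Perm.mul_apply, Perm.mul_apply]
    obtain ⟨h1, h2⟩ := ih x hx
    exact ⟨by rw [h1, hh _ h2], hσ _ h2⟩

omit [DecidableEq α] in
theorem conj_pow_pow {h g : Perm α} {i : ℕ} (hi : h * g * h⁻¹ = g ^ i) (k : ℕ) :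
    h ^ k * g * (h ^ k)⁻¹ = g ^ (i ^ k) := by
  induction k with
  | zero => simp
  | succ k ih =>
    calc h ^ (k + 1) * g * (h ^ (k + 1))⁻¹ = h ^ k * (h * g * h⁻¹) * (h ^ k)⁻¹ := by
          rw [pow_succ]; group
      _ = (h ^ k * g * (h ^ k)⁻¹) ^ i := by rw [hi, conj_pow]
      _ = g ^ (i ^ (k + 1)) := by rw [ih, ← pow_mul, pow_succ]

/-- Frattini: permutations of the fixed points of `g` are induced by its normaliser when `⟨g⟩` is
a Sylow subgroup of their pointwise stabiliser. -/
theorem exists_normalizing_of_sylow {p : ℕ} [Fact p.Prime] {g : Perm α} (hgord : orderOf g = p)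
    (hg : g ∈ G) (hmt : IsMultiplyPretransitive G α g.supportᶜ.card)
    (hpK : ¬ p ^ 2 ∣ Nat.card (fixSub G g.supportᶜ)) (σ : Perm α)
    (hσ : ∀ x ∈ g.supportᶜ, σ x ∈ g.supportᶜ) :
    ∃ h ∈ G, (∀ x ∈ g.supportᶜ, h x = σ x) ∧ ∃ i : ℕ, h * g * h⁻¹ = g ^ i := by
  obtain ⟨h₀, hh₀, hh₀x⟩ := exists_map_of_transitive (Finset.card_le_univ _) hmt g.supportᶜ le_rfl σ
    σ.injective.injOn
  have himg : g.supportᶜ.image σ = g.supportᶜ := Finset.eq_of_subset_of_card_le
    (Finset.image_subset_iff.2 hσ) (by rw [Finset.card_image_of_injective _ σ.injective])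
  have hgK : g ∈ fixSub G g.supportᶜ :=
    mem_fixSub.2 ⟨hg, fun x hx => Perm.notMem_support.1 (Finset.mem_compl.1 hx)⟩
  set K := fixSub G g.supportᶜ with hKdef
  have hg'K : h₀ * g * h₀⁻¹ ∈ K := by
    refine mem_fixSub.2 ⟨G.mul_mem (G.mul_mem hh₀ hg) (G.inv_mem hh₀), fun x hx => ?_⟩
    rw [← himg, Finset.mem_image] at hx
    obtain ⟨y, hy, rfl⟩ := hx
    rw [← hh₀x y hy, Perm.mul_apply, Perm.mul_apply, Perm.inv_eq_iff_eq.2 rfl,
      Perm.notMem_support.1 (Finset.mem_compl.1 hy)]
  have hsyl : ∀ u : Perm α, (hu : u ∈ K) → orderOf u = p →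
      Nat.card (Subgroup.zpowers (⟨u, hu⟩ : K)) = p := fun u hu hord => by
    rw [Nat.card_zpowers, Subgroup.orderOf_mk, hord]
  have hfac : (Nat.card K).factorization p = 1 := by
    have hp := (Fact.out : p.Prime)
    have h1 : p ∣ Nat.card K := hgord ▸ Subgroup.orderOf_dvd_natCard K hgK
    have h2 := (hp.dvd_iff_one_le_factorization Nat.card_pos.ne').1 h1
    have h3 : ¬ 2 ≤ (Nat.card K).factorization p := fun hle =>
      hpK ((hp.pow_dvd_iff_le_factorization Nat.card_pos.ne').2 hle)
    omega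
  have hg'ord : orderOf (h₀ * g * h₀⁻¹) = p := by
    rw [← hgord]
    exact orderOf_injective (MulAut.conj h₀).toMonoidHom (MulEquiv.injective _) g
  let P : Sylow p K := Sylow.ofCard (Subgroup.zpowers (⟨g, hgK⟩ : K)) (by
    rw [hsyl g hgK hgord, hfac, pow_one])
  let Q : Sylow p K := Sylow.ofCard (Subgroup.zpowers (⟨_, hg'K⟩ : K)) (by
    rw [hsyl _ hg'K hg'ord, hfac, pow_one])
  obtain ⟨⟨k, hkK⟩, hk⟩ := MulAction.exists_smul_eq K Q P
  have hmem : (⟨k, hkK⟩ * ⟨h₀ * g * h₀⁻¹, hg'K⟩ * ⟨k, hkK⟩⁻¹ : K) ∈ (P : Subgroup K) := by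
    rw [← hk, Sylow.coe_subgroup_smul, Subgroup.mem_pointwise_smul_iff_inv_smul_mem]
    simp only [Q, Sylow.coe_ofCard, MulAut.smul_def, ← map_inv, MulAut.conj_apply, inv_inv]
    convert Subgroup.mem_zpowers (⟨h₀ * g * h₀⁻¹, hg'K⟩ : K) using 1
    group
  rw [Sylow.coe_ofCard, ← mem_powers_iff_mem_zpowers] at hmem
  obtain ⟨i, hi⟩ := hmem
  obtain ⟨hkG, hkfix⟩ := mem_fixSub.1 hkK
  refine ⟨k * h₀, G.mul_mem hkG hh₀, fun x hx => ?_, i, ?_⟩
  · rw [Perm.mul_apply, hh₀x x hx, hkfix _ (hσ x hx)]
  · have := congrArg Subtype.val hi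
    simp only [SubmonoidClass.coe_pow, Subgroup.coe_mul, Subgroup.coe_inv] at this
    rw [this, mul_inv_rev]
    simp only [mul_assoc]

/-- A square commuting with two equal cycles preserves each of them. -/
theorem sameCycle_sq {z w : Perm α} (hz : orderOf z = 5) (hs : z.support.card = 10)
    (hcomm : Commute w z) {x : α} (hx : z x ≠ x) : z.SameCycle x ((w * w) x) := by
  have hw : ∀ a b, z.SameCycle a b → z.SameCycle (w a) (w b) := by
    rintro a b ⟨i, rfl⟩
    refine ⟨i, ?_⟩
    rw [← Perm.mul_apply, ← (hcomm.zpow_right i).eq, Perm.mul_apply]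
  have hw' : ∀ a b, z.SameCycle (w a) (w b) → z.SameCycle a b := by
    rintro a b ⟨i, hi⟩
    refine ⟨i, w.injective ?_⟩
    rw [← Perm.mul_apply, (hcomm.zpow_right i).eq, Perm.mul_apply, hi]
  have hwsupp : ∀ a, z a ≠ a → z (w a) ≠ w a := fun a ha e => ha (w.injective (by
    rw [← Perm.mul_apply, hcomm.eq, Perm.mul_apply, e]))
  -- at most two cycles
  have htwo : ∀ a b c, z a ≠ a → z b ≠ b → z c ≠ c →
      z.SameCycle a b ∨ z.SameCycle a c ∨ z.SameCycle b c := by
    intro a b c ha hb hc
    by_contra hcon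
    push Not at hcon
    obtain ⟨h1, h2, h3⟩ := hcon
    have h5 : ∀ u, z u ≠ u → (z.cycleOf u).support.card = 5 := by
      intro u hu
      obtain ⟨m, hm⟩ := Perm.cycleType_prime_order (σ := z) (by rw [hz]; norm_num)
      have hmem : (z.cycleOf u).support.card ∈ z.cycleType := by
        rw [Perm.cycleType_def]
        exact Multiset.mem_map.2 ⟨z.cycleOf u,
          Perm.cycleOf_mem_cycleFactorsFinset_iff.2 (Perm.mem_support.2 hu), rfl⟩
      rw [hm, hz] at hmem
      exact Multiset.eq_of_mem_replicate hmem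
    have hdis : ∀ u v, ¬ z.SameCycle u v → Disjoint (z.cycleOf u).support (z.cycleOf v).support := by
      intro u v huv
      rw [Finset.disjoint_left]
      intro y hy hy'
      rw [Perm.mem_support_cycleOf_iff] at hy hy'
      exact huv (hy.1.trans hy'.1.symm)
    have hsub : (z.cycleOf a).support ∪ (z.cycleOf b).support ∪ (z.cycleOf c).support ⊆ z.support :=
      Finset.union_subset (Finset.union_subset (Perm.support_cycleOf_le z a)
        (Perm.support_cycleOf_le z b)) (Perm.support_cycleOf_le z c)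
    have := Finset.card_le_card hsub
    rw [Finset.card_union_of_disjoint (Finset.disjoint_union_left.2 ⟨hdis a c h2, hdis b c h3⟩),
      Finset.card_union_of_disjoint (hdis a b h1), h5 a ha, h5 b hb, h5 c hc, hs] at this
    omega
  rw [Perm.mul_apply]
  rcases htwo x (w x) (w (w x)) hx (hwsupp x hx) (hwsupp _ (hwsupp x hx)) with h | h | h
  · exact h.trans (hw _ _ h)
  · exact h
  · exact (hw' _ _ h).trans h

theorem five_case (hG : IsPreprimitive G α) (h13 : Fintype.card α = 13)
    (h3 : IsMultiplyPretransitive G α 3) (h5 : 5 ∣ Nat.card G) : alternatingGroup α ≤ G := by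
  haveI : Fact (Nat.Prime 5) := ⟨by norm_num⟩
  obtain ⟨z', hz'⟩ := exists_prime_orderOf_dvd_card' (G := G) 5 h5
  set z : Perm α := (z' : Perm α) with hzdef
  have hz : orderOf z = 5 := by rw [hzdef, Subgroup.orderOf_coe, hz']
  obtain ⟨m, hm⟩ := Perm.cycleType_prime_order (σ := z) (by rw [hz]; norm_num)
  have hsum : z.support.card = (m + 1) * 5 := by
    rw [← Perm.sum_cycleType, hm, hz, Multiset.sum_replicate, smul_eq_mul]
  have hle := z.support.card_le_univ
  rw [hsum, h13] at hle
  rcases (by omega : m = 0 ∨ m = 1) with rfl | rfl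
  · exact alternatingGroup_le_of_prime_cycle hG (p := 5) (by omega)
      (Perm.card_cycleType_eq_one.1 (by rw [hm, Multiset.card_replicate])) (by omega) z'.2
  have hs : z.support.card = 10 := by omega
  have hc : z.supportᶜ.card = 3 := by rw [Finset.card_compl, hs, h13]
  have hzK : z ∈ fixSub G z.supportᶜ :=
    mem_fixSub.2 ⟨z'.2, fun x hx => Perm.notMem_support.1 (Finset.mem_compl.1 hx)⟩
  -- powers of `z` on each cycle
  have key : ∀ w : Perm α, Commute w z → ∀ x, z x ≠ x → ∃ i : ℕ, (w * w) x = (z ^ i) x := by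
    intro w hw x hx
    obtain ⟨i, -, hi⟩ := (sameCycle_sq hz hs hw hx).exists_pow_eq'
    exact ⟨i, hi.symm⟩
  by_cases hpK : 5 ^ 2 ∣ Nat.card (fixSub G z.supportᶜ)
  · -- a 5-cycle in the pointwise stabiliser
    obtain ⟨y, hyK, hy, hyz, hyp⟩ : ∃ y ∈ fixSub G z.supportᶜ, Commute y z ∧ y ∉ Subgroup.zpowers z ∧
        ∃ r : ℕ, y ^ 5 ^ r = 1 := by
      set K := fixSub G z.supportᶜ
      obtain ⟨P, hP⟩ := (IsPGroup.of_card (n := 1) (G := Subgroup.zpowers (⟨z, hzK⟩ : K))
        (p := 5) (by rw [Nat.card_zpowers, Subgroup.orderOf_mk, hz, pow_one])).exists_le_sylow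
      have hzP : (⟨z, hzK⟩ : K) ∈ (P : Subgroup K) := hP (Subgroup.mem_zpowers _)
      have hcardP : 5 ^ 2 ∣ Nat.card P := by
        rw [P.card_eq_multiplicity]
        exact Nat.pow_dvd_pow 5 (((Fact.out : Nat.Prime 5).pow_dvd_iff_le_factorization
          Nat.card_pos.ne').1 hpK)
      haveI : Nontrivial P := Finite.one_lt_card_iff_nontrivial.1
        (lt_of_lt_of_le (by norm_num) (Nat.le_of_dvd Nat.card_pos hcardP))
      have hcenter := P.isPGroup'.center_nontrivial
      obtain ⟨⟨c, hc⟩, hc1⟩ := exists_ne (1 : Subgroup.center P)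
      have hpow : ∀ y : P, ∃ r : ℕ, ((y : K) : Perm α) ^ 5 ^ r = 1 := fun y => by
        obtain ⟨r, hr⟩ := P.isPGroup' y
        refine ⟨r, ?_⟩
        have := congrArg (fun q : P => ((q : K) : Perm α)) hr
        simpa using this
      have hcz : Commute ((c : K) : Perm α) z :=
        congrArg (fun q : P => ((q : K) : Perm α)) (Subgroup.mem_center_iff.1 hc ⟨_, hzP⟩).symm
      by_cases hcmem : ((c : K) : Perm α) ∈ Subgroup.zpowers z
      · -- then `z` is central in `P`
        have hgen : Subgroup.zpowers ((c : K) : Perm α) = Subgroup.zpowers z := by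
          refine Subgroup.eq_of_le_of_card_ge (Subgroup.zpowers_le.2 hcmem) (le_of_eq ?_)
          have h1 := Subgroup.orderOf_dvd_natCard _ hcmem
          rw [Nat.card_zpowers, hz] at h1
          rw [Nat.card_zpowers, Nat.card_zpowers, hz]
          refine (((Nat.dvd_prime (by norm_num : Nat.Prime 5)).1 h1).resolve_left fun e => hc1 ?_).symm
          rw [orderOf_eq_one_iff, OneMemClass.coe_eq_one, OneMemClass.coe_eq_one] at e
          exact Subtype.ext e
        obtain ⟨y, hy⟩ : ∃ y : P, ((y : K) : Perm α) ∉ Subgroup.zpowers z := by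
          by_contra hall
          push Not at hall
          have := Nat.card_le_card_of_injective (fun y : P => (⟨_, hall y⟩ : Subgroup.zpowers z))
            fun a b e => Subtype.ext (Subtype.ext (by simpa using e))
          rw [Nat.card_zpowers, hz] at this
          have := (Nat.le_of_dvd Nat.card_pos hcardP).trans this
          omega
        refine ⟨_, (y : K).2, ?_, hy, hpow y⟩
        obtain ⟨l, hl⟩ := Subgroup.mem_zpowers_iff.1 (hgen ▸ Subgroup.mem_zpowers z :
          z ∈ Subgroup.zpowers ((c : K) : Perm α))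
        rw [← hl]
        exact Commute.zpow_right (congrArg (fun q : P => ((q : K) : Perm α))
          (Subgroup.mem_center_iff.1 hc y)) l
      · exact ⟨_, (c : K).2, hcz, hcmem, hpow c⟩
    have hw : y * y ∉ Subgroup.zpowers z := fun h => hyz (by
      obtain ⟨r, hr⟩ := hyp
      obtain ⟨e, he⟩ : ∃ e, 5 ^ r = 2 * e + 1 := (Odd.pow (by decide : Odd 5))
      have hrew : y = ((y * y) ^ e)⁻¹ := by
        refine eq_inv_of_mul_eq_one_left ?_
        rw [← pow_two, ← pow_mul, ← pow_succ', ← he, hr]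
      rw [hrew]
      exact inv_mem (pow_mem h _))
    set w := y * y with hwdef
    have hwK : w ∈ fixSub G z.supportᶜ := mul_mem hyK hyK
    have hwz : Commute w z := hy.mul_left hy
    have hwfix : ∀ x, z x = x → w x = x := fun x hx =>
      (mem_fixSub.1 hwK).2 x (Finset.mem_compl.2 (Perm.notMem_support.2 hx))
    obtain ⟨v, hv⟩ : ∃ v, z v ≠ v := by
      obtain ⟨v, hv⟩ : z.support.Nonempty := Finset.card_pos.1 (by omega)
      exact ⟨v, Perm.mem_support.1 hv⟩
    obtain ⟨j, hj⟩ := key y hy v hv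
    set u := w * (z ^ j)⁻¹ with hu
    have huz : Commute u z := hwz.mul_left ((Commute.pow_self z j).inv_left)
    have hucyc : ∀ x, z.SameCycle v x → u x = x := by
      rintro x ⟨i, rfl⟩
      rw [← Perm.mul_apply, (huz.zpow_right i).eq, Perm.mul_apply]
      congr 1
      show w ((z ^ j)⁻¹ v) = v
      rw [← Perm.mul_apply, ((hwz.pow_right j).inv_right).eq, Perm.mul_apply, hj,
        Perm.inv_eq_iff_eq]
    have hune : u ≠ 1 := fun e => hw (by
      rw [mul_inv_eq_one.1 e]; exact Subgroup.npow_mem_zpowers z j)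
    have husupp : u.support ⊆ z.support \ (z.cycleOf v).support := by
      intro x hx
      rw [Finset.mem_sdiff, Perm.mem_support, Perm.mem_support_cycleOf_iff]
      refine ⟨fun e => Perm.mem_support.1 hx ?_, fun h => Perm.mem_support.1 hx (hucyc x h.1)⟩
      rw [hu, Perm.mul_apply, Perm.inv_eq_iff_eq.2 (Perm.pow_apply_eq_self_of_apply_eq_self e j).symm,
        hwfix x e]
    have hu5 : orderOf u = 5 := by
      refine orderOf_eq_prime (Equiv.ext fun x => ?_) hune
      by_cases hx : u x = x
      · exact Perm.pow_apply_eq_self_of_apply_eq_self hx 5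
      · have hzx : z x ≠ x := Perm.mem_support.1 (Finset.mem_sdiff.1 (husupp (Perm.mem_support.2 hx))).1
        obtain ⟨i, hi⟩ := key y hy x hzx
        have hux : u x = (z ^ (i : ℤ) * (z ^ j)⁻¹) x := by
          rw [hu, ((hwz.pow_right j).inv_right).eq, Perm.mul_apply, hi, zpow_natCast,
            ← Perm.mul_apply, ((Commute.pow_pow_self z i j).inv_right).eq]
        have : ∀ k : ℕ, (u ^ k) x = ((z ^ (i : ℤ) * (z ^ j)⁻¹) ^ k) x := by
          intro k
          induction k with
          | zero => rfl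
          | succ k ih =>
            rw [pow_succ, pow_succ, Perm.mul_apply, hux, ← Perm.mul_apply,
              (((huz.zpow_right _).mul_right ((huz.pow_right j).inv_right)).pow_left k).eq,
              Perm.mul_apply, ih, ← Perm.mul_apply, ← pow_succ', pow_succ]
        rw [this, (Commute.zpow_left (Commute.refl z) (i : ℤ)).pow_right j |>.inv_right |>.mul_pow,
          inv_pow, ← pow_mul, zpow_natCast, ← pow_mul, mul_comm i, mul_comm j, pow_mul, pow_mul,
          ← hz, pow_orderOf_eq_one, one_pow, one_pow, inv_one, mul_one]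
    obtain ⟨l, hl⟩ := Perm.cycleType_prime_order (σ := u) (by rw [hu5]; norm_num)
    have hucard : u.support.card = (l + 1) * 5 := by
      rw [← Perm.sum_cycleType, hl, hu5, Multiset.sum_replicate, smul_eq_mul]
    have hcv : (z.cycleOf v).support.card ≥ 2 := Perm.IsCycle.two_le_card_support
      (Perm.isCycle_cycleOf z hv)
    have hb := Finset.card_le_card husupp
    rw [Finset.card_sdiff_of_subset (Perm.support_cycleOf_le z v), hucard, hs] at hb
    refine alternatingGroup_le_of_prime_cycle hG (p := 5) (by omega)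
      (Perm.card_cycleType_eq_one.1 (by rw [hl, Multiset.card_replicate]; omega)) (by omega)
      (g := u) (G.mul_mem (mem_fixSub.1 hwK).1 (G.inv_mem (G.pow_mem z'.2 j)))
  · -- a 3-cycle
    obtain ⟨a, ha, b, hb, c, hc', hab, hac, hbc⟩ :=
      Finset.two_lt_card.1 (show 2 < z.supportᶜ.card by omega)
    set σ : Perm α := swap a b * swap a c with hσdef
    have hset : z.supportᶜ = {a, b, c} :=
      (Finset.eq_of_subset_of_card_le (by simp [Finset.insert_subset_iff, ha, hb, hc'])
        (by rw [hc]; simp [hab, hac, hbc])).symm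
    have hσ3 : σ.IsThreeCycle := Perm.isThreeCycle_swap_mul_swap_same hab hac hbc
    have hσ : ∀ x ∈ z.supportᶜ, σ x ∈ z.supportᶜ := by
      intro x hx
      rw [hset] at hx ⊢
      simp only [Finset.mem_insert, Finset.mem_singleton, σ, Perm.mul_apply, Equiv.swap_apply_def] at hx ⊢
      split_ifs <;> tauto
    obtain ⟨h, hhG, hhx, i, hi⟩ := exists_normalizing_of_sylow hz z'.2 (by rwa [hc]) hpK σ hσ
    have hi5 : ¬ 5 ∣ i := by
      rintro ⟨l, rfl⟩
      rw [pow_mul, ← hz, pow_orderOf_eq_one, one_pow, mul_inv_eq_one, mul_eq_left] at hi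
      rw [hi, orderOf_one] at hz
      omega
    have hcom : Commute (h ^ 4) z := by
      have h4 := conj_pow_pow hi 4
      rw [← pow_mod_orderOf z, hz] at h4
      have hmod : i ^ 4 % 5 = 1 := by
        have : i % 5 ≠ 0 := fun e => hi5 (Nat.dvd_of_mod_eq_zero e)
        rw [Nat.pow_mod]
        have : i % 5 < 5 := Nat.mod_lt _ (by omega)
        interval_cases hh : i % 5 <;> simp_all
      rw [hmod, pow_one] at h4
      exact mul_inv_eq_iff_eq_mul.1 h4
    set t := (h ^ 8) ^ 5 with ht
    have ht8 : h ^ 8 = h ^ 4 * h ^ 4 := by rw [← pow_add]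
    have hfix : ∀ x, z x ≠ x → t x = x := by
      intro x hx
      obtain ⟨l, hl⟩ := key _ hcom x hx
      rw [← ht8] at hl
      have hc8 : Commute (h ^ 8) z := by rw [ht8]; exact hcom.mul_left hcom
      have : ∀ k : ℕ, ((h ^ 8) ^ k) x = ((z ^ l) ^ k) x := by
        intro k
        induction k with
        | zero => rfl
        | succ k ih =>
          rw [pow_succ, Perm.mul_apply, hl, ← Perm.mul_apply, ((hc8.pow_left k).pow_right l).eq,
            Perm.mul_apply, ih, ← Perm.mul_apply, ← pow_succ']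
      rw [ht, this, ← pow_mul, mul_comm, pow_mul, ← hz, pow_orderOf_eq_one, one_pow, Perm.one_apply]
    have hts : ∀ x ∈ z.supportᶜ, t x = σ x := by
      intro x hx
      rw [ht, ← pow_mul, ((pow_apply_of_eqOn hσ hhx _) x hx).1, ← pow_mod_orderOf, hσ3.orderOf]
      norm_num
    have hteq : t = σ := Equiv.ext fun x => by
      by_cases hx : x ∈ z.supportᶜ
      · exact hts x hx
      · rw [hfix x (by simpa using hx)]
        rw [hset] at hx
        simp only [Finset.mem_insert, Finset.mem_singleton, not_or] at hx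
        simp [σ, Perm.mul_apply, Equiv.swap_apply_of_ne_of_ne hx.1 hx.2.2,
          Equiv.swap_apply_of_ne_of_ne hx.1 hx.2.1]
    exact Perm.alternatingGroup_le_of_isPreprimitive_of_isThreeCycle_mem hG hσ3
      (hteq ▸ G.pow_mem (G.pow_mem hhG 8) 5)

/-- Without order five the two-point stabiliser is the cyclic group of order eleven. -/
theorem card_pair_eq (hle : G ≤ alternatingGroup α) (h13 : Fintype.card α = 13) (h5 : ¬ 5 ∣ Nat.card G)
    {g : Perm α} (hgc : g.IsCycle) (hgp : g.support.card = 11) (hg : g ∈ G) :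
    fixSub G g.supportᶜ = Subgroup.zpowers g := by
  haveI : Fact (Nat.Prime 11) := ⟨by norm_num⟩
  have hc : g.supportᶜ.card = 2 := by rw [Finset.card_compl, hgp, h13]
  have hord : orderOf g = 11 := hgc.orderOf.trans hgp
  have hgK : g ∈ fixSub G g.supportᶜ :=
    mem_fixSub.2 ⟨hg, fun x hx => Perm.notMem_support.1 (Finset.mem_compl.1 hx)⟩
  set K := fixSub G g.supportᶜ with hKdef
  obtain ⟨z, hz⟩ : ∃ z, g z ≠ z := by
    obtain ⟨z, hz, -⟩ := hgc
    exact ⟨z, hz⟩
  have hmove : ∀ k ∈ K, ∀ x, g x ≠ x → g (k x) ≠ k x := fun k hk x hx e => hx (by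
    have h1 : k x ∈ g.supportᶜ := Finset.mem_compl.2 (Perm.notMem_support.2 e)
    have h2 := k.injective ((mem_fixSub.1 hk).2 _ h1)
    rwa [h2] at e)
  have hfix_one : ∀ k ∈ K, Commute k g → k z = z → k = 1 := by
    intro k hk hkg hkz
    refine Equiv.ext fun x => ?_
    by_cases hx : g x = x
    · exact (mem_fixSub.1 hk).2 x (Finset.mem_compl.2 (Perm.notMem_support.2 hx))
    · obtain ⟨r, rfl⟩ := hgc.exists_zpow_eq hz hx
      rw [← Perm.mul_apply, (hkg.zpow_right r).eq, Perm.mul_apply, hkz, Perm.one_apply]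
  have hself : ∀ y ∈ K, ∀ i : ℕ, y * g * y⁻¹ = g ^ i → y ∈ Subgroup.zpowers g := by
    intro y hy i hi
    obtain ⟨l, hl⟩ := hgc.exists_zpow_eq hz (hmove y hy z hz)
    set y' := (g ^ l)⁻¹ * y with hy'
    have hy'K : y' ∈ K := K.mul_mem (K.inv_mem (K.zpow_mem hgK l)) hy
    have hy'z : y' z = z := by rw [hy', Perm.mul_apply, ← hl, Perm.inv_def, Equiv.symm_apply_apply]
    have hy'i : y' * g * y'⁻¹ = g ^ i := by
      rw [hy', mul_inv_rev, inv_inv, show (g ^ l)⁻¹ * y * g * (y⁻¹ * g ^ l) =
        (g ^ l)⁻¹ * (y * g * y⁻¹) * g ^ l by group, hi,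
        ((((Commute.refl g).zpow_left l).pow_right i).inv_left).eq, mul_assoc, inv_mul_cancel, mul_one]
    have hcast : ∀ a b : ℕ, g ^ a = g ^ b ↔ (a : ZMod 11) = b := fun a b => by
      rw [pow_eq_pow_iff_modEq, hord, ZMod.natCast_eq_natCast_iff]
    have hn := conj_pow_pow hy'i (orderOf y')
    rw [pow_orderOf_eq_one, one_mul, inv_one, mul_one] at hn
    have hi1 : (i : ZMod 11) ^ orderOf y' = 1 := by
      have := (hcast 1 (i ^ orderOf y')).1 ((pow_one g).trans hn)
      rw [Nat.cast_pow] at this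
      exact this.symm.trans Nat.cast_one
    have hi0 : (i : ZMod 11) ≠ 0 := by
      intro e
      rw [e, zero_pow (orderOf_pos y').ne'] at hi1
      exact zero_ne_one hi1
    have hi2 : (i : ZMod 11) ^ 2 = 1 := by
      have h10 := ZMod.pow_card_sub_one_eq_one hi0
      refine orderOf_dvd_iff_pow_eq_one.1 ?_
      have ho1 : orderOf (i : ZMod 11) ∣ orderOf y' := orderOf_dvd_of_pow_eq_one hi1
      have ho2 : orderOf (i : ZMod 11) ∣ 10 := orderOf_dvd_of_pow_eq_one h10
      have h5' : ¬ 5 ∣ orderOf (i : ZMod 11) := fun h => h5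
        (h.trans (ho1.trans (Subgroup.orderOf_dvd_natCard G (mem_fixSub.1 hy'K).1)))
      have := Nat.le_of_dvd (by norm_num) ho2
      interval_cases hh : orderOf (i : ZMod 11) <;> omega
    rcases (mul_self_eq_one_iff (a := (i : ZMod 11))).1 (by rw [← pow_two]; exact hi2) with h | h
    · have : y' = 1 := hfix_one y' hy'K (mul_inv_eq_iff_eq_mul.1 (by
        rw [hy'i, (hcast i 1).2 (by rw [h, Nat.cast_one]), pow_one])) hy'z
      rw [hy', inv_mul_eq_one] at this
      exact this ▸ Subgroup.zpow_mem_zpowers g l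
    · exfalso
      have hneg : y' * g * y'⁻¹ = g ^ 10 := hy'i.trans ((hcast i 10).2 (by rw [h, show ((10 : ℕ) : ZMod 11) = -1 from rfl]))
      have hginv : y' * g * y'⁻¹ = g⁻¹ := hneg.trans (eq_inv_of_mul_eq_one_left (by
        rw [← pow_succ, show 10 + 1 = orderOf g by rw [hord], pow_orderOf_eq_one]))
      have hzp : ∀ r : ℤ, y' ((g ^ r) z) = (g ^ (-r)) z := fun r => by
        have h1 : y' * g ^ r = g ^ (-r) * y' := by
          rw [← mul_inv_eq_iff_eq_mul, ← conj_zpow, hginv, inv_zpow']
        rw [← Perm.mul_apply, h1, Perm.mul_apply, hy'z]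
      have hsq : y' ^ 2 = 1 := by
        refine Equiv.ext fun x => ?_
        rw [pow_two, Perm.mul_apply, Perm.one_apply]
        by_cases hx : g x = x
        · rw [(mem_fixSub.1 hy'K).2 x (Finset.mem_compl.2 (Perm.notMem_support.2 hx)),
            (mem_fixSub.1 hy'K).2 x (Finset.mem_compl.2 (Perm.notMem_support.2 hx))]
        · obtain ⟨r, rfl⟩ := hgc.exists_zpow_eq hz hx
          rw [hzp, hzp, neg_neg]
      have hsupp : y'.support = g.support.erase z := by
        ext x
        rw [Perm.mem_support, Finset.mem_erase, Perm.mem_support]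
        constructor
        · exact fun hx => ⟨fun e => hx (e ▸ hy'z), fun e =>
            hx ((mem_fixSub.1 hy'K).2 x (Finset.mem_compl.2 (Perm.notMem_support.2 e)))⟩
        · rintro ⟨hxz, hx⟩ e
          obtain ⟨r, rfl⟩ := hgc.exists_zpow_eq hz hx
          rw [hzp] at e
          refine hxz ?_
          have h2 : (g ^ (2 * r)) z = z := by
            rw [two_mul, zpow_add, Perm.mul_apply, ← e, ← Perm.mul_apply, ← zpow_add, add_neg_cancel]
            rfl
          have h22 : g ^ r = ((g ^ (2 * r))) ^ 6 := by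
            rw [← zpow_natCast, ← zpow_mul, zpow_eq_zpow_iff_modEq, hord]
            exact Int.modEq_iff_dvd.2 ⟨r, by push_cast; ring⟩
          rw [h22]
          exact Perm.pow_apply_eq_self_of_apply_eq_self h2 6
      have hne : y' ≠ 1 := fun e => by
        rw [e, Perm.support_one] at hsupp
        have := congrArg Finset.card hsupp
        rw [Finset.card_empty, Finset.card_erase_of_mem (Perm.mem_support.2 hz), hgp] at this
        omega
      have ho : orderOf y' = 2 := orderOf_eq_prime hsq hne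
      obtain ⟨m, hm⟩ := Perm.cycleType_prime_order (σ := y') (by rw [ho]; norm_num)
      have hcard := Perm.sum_cycleType y'
      rw [hm, ho, Multiset.sum_replicate, smul_eq_mul, hsupp,
        Finset.card_erase_of_mem (Perm.mem_support.2 hz), hgp] at hcard
      have hsign := Perm.mem_alternatingGroup.1 (hle (mem_fixSub.1 hy'K).1)
      rw [Perm.sign_of_cycleType, hm, ho, Multiset.sum_replicate, Multiset.card_replicate,
        show m = 4 by omega] at hsign
      simp at hsign
      exact absurd hsign (by decide)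
  -- transfer
  have hfac : (Nat.card K).factorization 11 = 1 := by
    have hp := (Fact.out : Nat.Prime 11)
    have h1 : 11 ∣ Nat.card K := hord ▸ Subgroup.orderOf_dvd_natCard K hgK
    have h2 := (hp.dvd_iff_one_le_factorization Nat.card_pos.ne').1 h1
    have h3 : ¬ 2 ≤ (Nat.card K).factorization 11 := fun hle' => by
      have h4 := ((hp.pow_dvd_iff_le_factorization Nat.card_pos.ne').2 hle').trans
        (Subgroup.card_subgroup_dvd_card K)
      rw [Nat.card_perm, Nat.card_eq_fintype_card, h13] at h4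
      revert h4
      decide
    omega
  let P : Sylow 11 K := Sylow.ofCard (Subgroup.zpowers (⟨g, hgK⟩ : K)) (by
    rw [Nat.card_zpowers, Subgroup.orderOf_mk, hord, hfac, pow_one])
  have hP : Subgroup.normalizer ((P : Subgroup K) : Set K) ≤ Subgroup.centralizer ((P : Subgroup K) : Set K) := by
    intro y hy
    have hmem : y ∈ Subgroup.zpowers (⟨g, hgK⟩ : K) := by
      have h1 := (Subgroup.mem_normalizer_iff.1 hy ⟨g, hgK⟩).1 (Subgroup.mem_zpowers _)
      change y * ⟨g, hgK⟩ * y⁻¹ ∈ Subgroup.zpowers (⟨g, hgK⟩ : K) at h1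
      rw [← mem_powers_iff_mem_zpowers] at h1
      obtain ⟨i, hi⟩ := h1
      have h2 := hself y y.2 i (by
        have := congrArg Subtype.val hi
        simpa using this.symm)
      obtain ⟨r, hr⟩ := Subgroup.mem_zpowers_iff.1 h2
      exact Subgroup.mem_zpowers_iff.2 ⟨r, Subtype.ext (by simpa using hr)⟩
    rw [Subgroup.mem_centralizer_iff]
    intro x hx
    obtain ⟨r, rfl⟩ := Subgroup.mem_zpowers_iff.1 hmem
    obtain ⟨s, rfl⟩ := Subgroup.mem_zpowers_iff.1 hx
    exact (Commute.zpow_zpow_self _ s r).eq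
  have hcompl := MonoidHom.ker_transferSylow_isComplement' P hP
  set N := (MonoidHom.transferSylow P hP).ker with hN
  have hN11 : ¬ 11 ∣ Nat.card N := MonoidHom.not_dvd_card_ker_transferSylow P hP
  have hbot : N = ⊥ := by
    rw [Subgroup.eq_bot_iff_forall]
    intro n hn
    refine Subtype.ext (Equiv.ext fun x => ?_)
    rw [OneMemClass.coe_one, Perm.one_apply]
    by_cases hx : g x = x
    · exact (mem_fixSub.1 n.2).2 x (Finset.mem_compl.2 (Perm.notMem_support.2 hx))
    by_contra hne
    -- the orbit of `x` is a block of prime size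
    obtain ⟨r, hr⟩ := hgc.exists_zpow_eq hx (hmove _ n.2 x hx)
    have horb : ∀ j : ℕ, ∃ k ∈ N, ((k : K) : Perm α) x = ((g ^ r) ^ j) x := by
      intro j
      induction j with
      | zero => exact ⟨1, one_mem _, rfl⟩
      | succ j ih =>
        obtain ⟨k, hk, hkx⟩ := ih
        have hk' : (⟨g, hgK⟩ : K) ^ (r * j) * n * ((⟨g, hgK⟩ : K) ^ (r * j))⁻¹ ∈ N :=
          (MonoidHom.normal_ker _).conj_mem n hn _
        refine ⟨_, mul_mem hk' hk, ?_⟩
        simp only [Subgroup.coe_mul, InvMemClass.coe_inv, SubgroupClass.coe_zpow, Perm.mul_apply]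
        rw [hkx, ← zpow_natCast (g ^ r) j, ← zpow_mul, Perm.inv_def, Equiv.symm_apply_apply, ← hr,
          ← Perm.mul_apply, ← zpow_add, ← zpow_natCast (g ^ r) (j + 1), ← zpow_mul]
        congr 2
        push_cast
        ring
    have hgr : ¬ ((11 : ℤ) ∣ r) := by
      rintro ⟨q, rfl⟩
      apply hne
      rw [← hr, zpow_mul, show g ^ (11 : ℤ) = 1 by
        rw [show (11 : ℤ) = ((11 : ℕ) : ℤ) from rfl, zpow_natCast, ← hord, pow_orderOf_eq_one],
        one_zpow, Perm.one_apply]
    haveI : Finite N := inferInstance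
    let O := MulAction.orbit N x
    have hall : ∀ y, g y ≠ y → y ∈ O := by
      intro y hy
      obtain ⟨s, hs⟩ := hgc.exists_zpow_eq hx hy
      have hr0 : (r : ZMod 11) ≠ 0 := fun e => hgr ((ZMod.intCast_zmod_eq_zero_iff_dvd r 11).1 e)
      obtain ⟨k, hk, hkx⟩ := horb ((s : ZMod 11) / (r : ZMod 11)).val
      refine ⟨⟨k, hk⟩, ?_⟩
      show ((k : K) : Perm α) x = y
      rw [hkx, ← hs, ← zpow_natCast, ← zpow_mul]
      congr 1
      rw [zpow_eq_zpow_iff_modEq, hord, ← ZMod.intCast_eq_intCast_iff]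
      push_cast
      rw [ZMod.natCast_zmod_val]
      field_simp
    have hO : O.ncard = 11 := by
      rw [← hgp, ← Set.ncard_coe_finset]
      congr 1
      ext y
      refine ⟨fun ⟨k, hk⟩ => ?_, fun hy => hall y (Perm.mem_support.1 hy)⟩
      exact Perm.mem_support.2 (hk ▸ hmove _ k.1.2 x hx)
    refine hN11 ?_
    rw [← hO, ← MulAction.index_stabilizer]
    exact Subgroup.index_dvd_card _
  have hcard : Nat.card K = 11 := by
    have h1 := hcompl.card_mul
    rw [hbot, Subgroup.card_bot, one_mul] at h1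
    rw [← h1]
    show Nat.card (Subgroup.zpowers (⟨g, hgK⟩ : K)) = 11
    rw [Nat.card_zpowers, Subgroup.orderOf_mk, hord]
  exact (Subgroup.eq_of_le_of_card_ge (Subgroup.zpowers_le.2 hgK)
    (by rw [hcard, Nat.card_zpowers, hord])).symm

omit [Fintype α] [DecidableEq α] in
theorem injective_three {a b c : α} (hab : a ≠ b) (hac : a ≠ c) (hbc : b ≠ c) :
    Function.Injective ![a, b, c] := by
  intro i j h
  fin_cases i <;> fin_cases j <;> first
    | rfl
    | exact absurd h hab | exact absurd h hab.symm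
    | exact absurd h hac | exact absurd h hac.symm
    | exact absurd h hbc | exact absurd h hbc.symm

/-- Degree thirteen with an 11-cycle. -/
theorem alternatingGroup_le_of_degree_thirteen (hG : IsPreprimitive G α)
    (hle : G ≤ alternatingGroup α) (h13 : Fintype.card α = 13)
    {g : Perm α} (hgc : g.IsCycle) (hgp : g.support.card = 11) (hg : g ∈ G) :
    alternatingGroup α ≤ G := by
  have hc : g.supportᶜ.card = 2 := by rw [Finset.card_compl, hgp, h13]
  have htr := Perm.isPretransitive_of_isCycle_mem hgc hg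
  have hsub : IsPreprimitive (fixingSubgroup G (g.support : Set α)ᶜ)
      (SubMulAction.ofFixingSubgroup G (g.support : Set α)ᶜ) := by
    refine IsPreprimitive.of_prime_card ?_
    have : Nat.card (SubMulAction.ofFixingSubgroup G (g.support : Set α)ᶜ) = 11 := by
      classical
      rw [Nat.card_eq_fintype_card, Fintype.card_subtype, ← hgp]
      congr 1
      ext x
      simp [SubMulAction.mem_ofFixingSubgroup_iff]
    rw [this]
    norm_num
  have hmp := hG.isMultiplyPreprimitive (s := (g.support : Set α)ᶜ) (n := 1)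
    (by rw [← Finset.coe_compl, Set.ncard_coe_finset, hc])
    (by rw [Nat.card_eq_fintype_card]; omega) hsub
  have h3 : IsMultiplyPretransitive G α 3 := hmp.isMultiplyPretransitive
  by_cases h5 : 5 ∣ Nat.card G
  · exact five_case hG h13 h3 h5
  exfalso
  have hK := card_pair_eq hle h13 h5 hgc hgp hg
  obtain ⟨a, b, hab, hset⟩ := Finset.card_eq_two.1 hc
  obtain ⟨z, hz⟩ : ∃ z, g z ≠ z := by
    obtain ⟨z, hz, -⟩ := hgc
    exact ⟨z, hz⟩
  have hza : z ≠ a := fun e => Perm.mem_support.2 hz |> fun h => Finset.mem_compl.1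
    (show a ∈ g.supportᶜ by rw [hset]; simp) (e ▸ h)
  have hzb : z ≠ b := fun e => Perm.mem_support.2 hz |> fun h => Finset.mem_compl.1
    (show b ∈ g.supportᶜ by rw [hset]; simp) (e ▸ h)
  -- three fixed points
  have hsharp : ∀ k ∈ G, ∀ u v : α, u ≠ a → v ≠ a → u ≠ v → k a = a → k u = u → k v = v → k = 1 := by
    intro k hk u v hua hva huv hka hku hkv
    have hm := (isMultiplyPretransitive_iff (G := G) (α := α) (n := 3)).1 h3
    obtain ⟨⟨c, hc⟩, hcx⟩ := hm
      ⟨![a, u, v], injective_three hua.symm hva.symm huv⟩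
      ⟨![a, b, z], injective_three hab hza.symm hzb.symm⟩
    have e0 : c a = a := congrArg (fun f : Fin 3 ↪ α => f 0) hcx
    have e1 : c u = b := congrArg (fun f : Fin 3 ↪ α => f 1) hcx
    have e2 : c v = z := congrArg (fun f : Fin 3 ↪ α => f 2) hcx
    have hfix : ∀ p q, c p = q → k p = p → (c * k * c⁻¹) q = q := fun p q h1 h2 => by
      rw [Perm.mul_apply, Perm.mul_apply, Perm.inv_eq_iff_eq.2 h1.symm, h2, h1]
    have hmem : c * k * c⁻¹ ∈ fixSub G g.supportᶜ := by
      refine mem_fixSub.2 ⟨G.mul_mem (G.mul_mem hc hk) (G.inv_mem hc), fun x hx => ?_⟩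
      rw [hset, Finset.mem_insert, Finset.mem_singleton] at hx
      rcases hx with hx | hx <;> rw [hx]
      · exact hfix a a e0 hka
      · exact hfix u b e1 hku
    rw [hK, Subgroup.mem_zpowers_iff] at hmem
    obtain ⟨r, hr⟩ := hmem
    have h1 : (g ^ r) z = z := by rw [hr]; exact hfix v z e2 hkv
    have h11 : g ^ r = 1 := by
      refine Equiv.ext fun x => ?_
      by_cases hx : g x = x
      · exact Perm.zpow_apply_eq_self_of_apply_eq_self hx r
      · obtain ⟨s, rfl⟩ := hgc.exists_zpow_eq hz hx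
        rw [← Perm.mul_apply, (Commute.zpow_zpow_self g r s).eq, Perm.mul_apply, h1, Perm.one_apply]
    rw [h11] at hr
    exact (mul_inv_eq_one.1 hr.symm) |> fun e => mul_eq_left.1 e
  -- the point stabiliser on the other points
  let S : Subgroup (Perm α) := G ⊓ stabilizer (Perm α) a
  have hS : ∀ k ∈ S, ∀ x : α, k x ≠ a ↔ x ≠ a := fun k hk x =>
    not_congr ⟨fun e => k.injective (e.trans hk.2.symm), fun e => e ▸ hk.2⟩
  let ρ : S →* Perm {x : α // x ≠ a} :=
    { toFun := fun k => (k : Perm α).subtypePerm fun x => hS k k.2 x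
      map_one' := rfl
      map_mul' := fun _ _ => rfl }
  have hcardS : Fintype.card {x : α // x ≠ a} = 12 := by
    rw [Fintype.card_subtype_compl, Fintype.card_subtype_eq, h13]
  have hρ : IsSharpTwo ρ.range := by
    refine ⟨?_, fun x => ?_, by omega⟩
    · rw [isMultiplyPretransitive_iff]
      intro x y
      have hm := (isMultiplyPretransitive_iff (G := G) (α := α) (n := 3)).1 h3
      obtain ⟨⟨c, hc⟩, hcx⟩ := hm
        ⟨![a, x 0, x 1], injective_three (x 0).2.symm (x 1).2.symm fun e => absurd (x.injective (Subtype.ext e)) (by decide)⟩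
        ⟨![a, y 0, y 1], injective_three (y 0).2.symm (y 1).2.symm fun e => absurd (y.injective (Subtype.ext e)) (by decide)⟩
      have e0 : c a = a := congrArg (fun f : Fin 3 ↪ α => f 0) hcx
      have e1 : c (x 0) = y 0 := congrArg (fun f : Fin 3 ↪ α => f 1) hcx
      have e2 : c (x 1) = y 1 := congrArg (fun f : Fin 3 ↪ α => f 2) hcx
      refine ⟨⟨ρ ⟨c, hc, e0⟩, _, rfl⟩, ?_⟩
      ext i
      fin_cases i
      · exact e1
      · exact e2
    · rw [Subgroup.eq_bot_iff_forall]
      rintro ⟨_, k, rfl⟩ hk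
      rw [mem_stabilizer_iff] at hk
      have h0 := congrArg (fun f : Fin 2 ↪ {x : α // x ≠ a} => (f 0).1) hk
      have h1 := congrArg (fun f : Fin 2 ↪ {x : α // x ≠ a} => (f 1).1) hk
      have := hsharp k k.2.1 (x 0) (x 1) (x 0).2 (x 1).2
        (fun e => absurd (x.injective (Subtype.ext e)) (by decide)) k.2.2 h0 h1
      refine Subtype.ext ?_
      show ρ k = 1
      rw [show k = 1 from Subtype.ext this, map_one]
  obtain ⟨p, j, -, hp, hj, hn, -⟩ := hρ.exists_kernel
  rw [hcardS] at hn
  have h2 : p ∣ 12 := hn ▸ dvd_pow_self p (by omega)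
  have hple := Nat.le_of_dvd (by norm_num) h2
  have hj' : j < 4 := by
    by_contra hcon
    have := Nat.pow_le_pow_of_le hp.one_lt (show 4 ≤ j by omega)
    have := Nat.pow_le_pow_left hp.two_le 4
    omega
  interval_cases p <;> interval_cases j <;> first | exact absurd hn (by decide) | exact absurd hp (by decide)

end CfsgLib.Perm
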