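import Mathlib

/-!
Dickson pairs.
-/

namespace CfsgLib.Perm

theorem modEq_one_iff_dvd {q i N : ℕ} (hq : 1 ≤ q) : q ^ i ≡ 1 [MOD N] ↔ N ∣ q ^ i - 1 := by
  rw [Nat.ModEq.comm, Nat.modEq_iff_dvd' (Nat.one_le_pow _ _ hq)]

theorem mul_dvd_iff_padic {a b c : ℕ} (ha : a ≠ 0) (hb : b ≠ 0) (hc : c ≠ 0) :
    a * b ∣ c ↔ ∀ s : ℕ, s.Prime → padicValNat s a + padicValNat s b ≤ padicValNat s c := by
  rw [← Nat.factorization_le_iff_dvd (mul_ne_zero ha hb) hc]
  constructor
  · intro h s hs
    have := h s
    rw [Nat.factorization_mul ha hb, Finsupp.add_apply] at this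
    simpa [Nat.factorization_def _ hs] using this
  · intro h s
    by_cases hs : s.Prime
    · rw [Nat.factorization_mul ha hb, Finsupp.add_apply]
      simpa [Nat.factorization_def _ hs] using h s hs
    · simp [Nat.factorization_eq_zero_of_not_prime _ hs]

theorem padic_pow_sub_one {s q i : ℕ} (hs : s.Prime) (hq : 1 < q) (hsq : s ∣ q - 1) (hi : i ≠ 0) :
    (s ∣ i → padicValNat s (q - 1) + padicValNat s i ≤ padicValNat s (q ^ i - 1)) ∧
    ((s ≠ 2 ∨ 4 ∣ q - 1 ∨ ¬ s ∣ i) →
      padicValNat s (q ^ i - 1) = padicValNat s (q - 1) + padicValNat s i) := by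
  have : Fact s.Prime := ⟨hs⟩
  have hns : ¬ s ∣ q := fun h => hs.not_dvd_one
    (by have := Nat.dvd_sub h hsq; rwa [show q - (q - 1) = 1 by omega] at this)
  have hsmall : ¬ s ∣ i → padicValNat s (q ^ i - 1) = padicValNat s (q - 1) + padicValNat s i := by
    intro hsi
    have hgeom := Nat.geomSum_eq (by omega : 2 ≤ q) i
    have hdvd : q - 1 ∣ q ^ i - 1 := Nat.sub_one_dvd_pow_sub_one q i
    have hS : ¬ s ∣ ∑ k ∈ Finset.range i, q ^ k := by
      rw [← ZMod.natCast_eq_zero_iff]
      push_cast
      have hq1 : (q : ZMod s) = 1 := by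
        rw [show q = q - 1 + 1 by omega, Nat.cast_add, (ZMod.natCast_eq_zero_iff _ _).2 hsq,
          Nat.cast_one, zero_add]
      simp only [hq1, one_pow, Finset.sum_const, Finset.card_range, nsmul_eq_mul, mul_one]
      rwa [ZMod.natCast_eq_zero_iff]
    have heq : q ^ i - 1 = (q - 1) * ∑ k ∈ Finset.range i, q ^ k := by
      rw [hgeom, Nat.mul_div_cancel' hdvd]
    rw [heq, padicValNat.mul (by omega) (fun h => hS (by rw [h]; exact dvd_zero s)),
      padicValNat.eq_zero_of_not_dvd hS, padicValNat.eq_zero_of_not_dvd hsi]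
  rcases hs.eq_two_or_odd' with rfl | hodd
  · constructor
    · intro h2
      have h := padicValNat.pow_two_sub_one hq hns hi (even_iff_two_dvd.2 h2)
      have h3 : 1 ≤ padicValNat 2 (q + 1) := one_le_padicValNat_of_dvd (by omega) (by omega)
      omega
    · rintro (h | h | h)
      · exact absurd rfl h
      · by_cases h2 : 2 ∣ i
        · have h' := padicValNat.pow_two_sub_one hq hns hi (even_iff_two_dvd.2 h2)
          have h3 : padicValNat 2 (q + 1) = 1 := by
            refine le_antisymm ?_ (one_le_padicValNat_of_dvd (by omega) (by omega))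
            by_contra hcon
            have : 2 ^ 2 ∣ q + 1 := (padicValNat_dvd_iff_le (by omega)).2 (by omega)
            omega
          omega
        · exact hsmall h2
      · exact hsmall h
  · have h := padicValNat.pow_sub_pow (p := s) (x := q) (y := 1) hodd hq hsq hns hi
    rw [one_pow] at h
    exact ⟨fun _ => h.ge, fun _ => h⟩

/-- Dickson pairs: `n` is the order of `q` modulo `n * (q - 1)`. -/
theorem dickson_pair_iff (q n : ℕ) (hq : IsPrimePow q) (hn : 1 < n) :
    ((∀ r : ℕ, r.Prime → r ∣ n → r ∣ q - 1) ∧ (4 ∣ n → 4 ∣ q - 1)) ↔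
      (q ^ n ≡ 1 [MOD n * (q - 1)] ∧
        ∀ i : ℕ, 0 < i → i < n → ¬ q ^ i ≡ 1 [MOD n * (q - 1)]) := by
  have hq1 : 1 < q := hq.two_le
  have hpow : ∀ i, i ≠ 0 → q ^ i - 1 ≠ 0 := fun i hi => by
    have := Nat.one_lt_pow hi hq1
    omega
  simp only [modEq_one_iff_dvd hq1.le]
  constructor
  · rintro ⟨hr, h4⟩
    have hval : ∀ i, i ≠ 0 → ∀ s : ℕ, s.Prime → s ∣ n →
        (¬ s ∣ i ∨ s ≠ 2 ∨ padicValNat s i < padicValNat s n) →
        padicValNat s (q ^ i - 1) = padicValNat s (q - 1) + padicValNat s i := by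
      intro i hi s hs hsn hcase
      have : Fact s.Prime := ⟨hs⟩
      refine (padic_pow_sub_one hs hq1 (hr s hs hsn) hi).2 ?_
      rcases hcase with h | h | h
      · exact Or.inr (Or.inr h)
      · exact Or.inl h
      · by_cases hsi : s ∣ i
        · by_cases hs2 : s = 2
          · subst hs2
            have h1 := one_le_padicValNat_of_dvd hi hsi
            have h22 : 2 ^ 2 ∣ n := (padicValNat_dvd_iff_le (by omega)).2 (by omega)
            exact Or.inr (Or.inl (h4 h22))
          · exact Or.inl hs2
        · exact Or.inr (Or.inr hsi)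
    refine ⟨(mul_dvd_iff_padic (by omega) (by omega) (hpow n (by omega))).2 fun s hs => ?_, ?_⟩
    · have : Fact s.Prime := ⟨hs⟩
      by_cases hsn : s ∣ n
      · rw [add_comm]
        exact (padic_pow_sub_one hs hq1 (hr s hs hsn) (by omega)).1 hsn
      · rw [padicValNat.eq_zero_of_not_dvd hsn, zero_add]
        exact (padicValNat_dvd_iff_le (hpow n (by omega))).1
          (pow_padicValNat_dvd.trans (Nat.sub_one_dvd_pow_sub_one q n))
    · intro i hi hin hdvd
      have hni : ¬ n ∣ i := fun h => by have := Nat.le_of_dvd hi h; omega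
      rw [← Nat.factorization_le_iff_dvd (by omega) (by omega), Finsupp.le_def] at hni
      push Not at hni
      obtain ⟨s, hlt⟩ := hni
      have hs : s.Prime := by
        by_contra hs
        simp [Nat.factorization_eq_zero_of_not_prime _ hs] at hlt
      rw [Nat.factorization_def _ hs, Nat.factorization_def _ hs] at hlt
      have : Fact s.Prime := ⟨hs⟩
      have hsn : s ∣ n := dvd_of_one_le_padicValNat (by omega)
      have h := (mul_dvd_iff_padic (by omega) (by omega) (hpow i (by omega))).1 hdvd s hs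
      rw [hval i (by omega) s hs hsn (Or.inr (Or.inr hlt))] at h
      omega
  · rintro ⟨hdvd, hmin⟩
    by_contra hcon
    -- a prime `r` such that `n / r` already works
    have hgood : ∀ r : ℕ, r.Prime → r ∣ n → (∀ s : ℕ, s.Prime → s ∣ n → r < s → s ∣ q - 1) →
        ((¬ r ∣ q - 1) ∨ (r = 2 ∧ 4 ∣ n ∧ ¬ 4 ∣ q - 1 ∧ 2 ∣ q - 1)) → False := by
      intro r hr hrn hlarge hrcase
      have : Fact r.Prime := ⟨hr⟩
      have hm0 : n / r ≠ 0 := (Nat.div_pos (Nat.le_of_dvd (by omega) hrn) hr.pos).ne'
      refine hmin (n / r) (Nat.pos_of_ne_zero hm0) (Nat.div_lt_self (by omega) hr.one_lt) ?_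
      refine (mul_dvd_iff_padic (by omega) (by omega) (hpow _ hm0)).2 fun s hs => ?_
      have : Fact s.Prime := ⟨hs⟩
      have hq1dvd : padicValNat s (q - 1) ≤ padicValNat s (q ^ (n / r) - 1) :=
        (padicValNat_dvd_iff_le (hpow _ hm0)).1
          (pow_padicValNat_dvd.trans (Nat.sub_one_dvd_pow_sub_one q _))
      by_cases hsn : s ∣ n
      swap
      · rw [padicValNat.eq_zero_of_not_dvd hsn, zero_add]
        exact hq1dvd
      have hmval : padicValNat s (n / r) = padicValNat s n - padicValNat s r :=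
        padicValNat.div_of_dvd hrn
      by_cases hsq : s ∣ q - 1
      · by_cases hsr : s = r
        · subst hsr
          obtain ⟨rfl, h4, h4q, -⟩ := hrcase.resolve_left (not_not.2 hsq)
          have hm : 2 ∣ n / 2 := by omega
          have h1 := padicValNat.pow_two_sub_one hq1 (by omega) hm0 (even_iff_two_dvd.2 hm)
          have h2 : 2 ≤ padicValNat 2 (q + 1) :=
            (padicValNat_dvd_iff_le (by omega)).1 (by norm_num; omega)
          rw [padicValNat.self (by norm_num)] at hmval
          omega
        · have hv : padicValNat s r = 0 :=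
            padicValNat.eq_zero_of_not_dvd fun h => hsr ((Nat.prime_dvd_prime_iff_eq hs hr).1 h)
          have hsm : s ∣ n / r := by
            have h1 := one_le_padicValNat_of_dvd (by omega : n ≠ 0) hsn
            exact dvd_of_one_le_padicValNat (by omega)
          have := (padic_pow_sub_one hs hq1 hsq hm0).1 hsm
          omega
      · -- use Euler's theorem
        rw [padicValNat.eq_zero_of_not_dvd hsq, add_zero]
        refine (padicValNat_dvd_iff_le (hpow _ hm0)).1 ?_
        have hsr : s ≤ r := by
          by_contra h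
          exact hsq (hlarge s hs hsn (by omega))
        set b := padicValNat s n with hb
        have hb1 : 1 ≤ b := one_le_padicValNat_of_dvd (by omega) hsn
        have hsb : s ^ b ∣ q ^ n - 1 :=
          (pow_padicValNat_dvd.trans (dvd_mul_right n (q - 1))).trans hdvd
        have hcop : Nat.Coprime q (s ^ b) := by
          refine (Nat.Coprime.pow_right b ((Nat.Prime.coprime_iff_not_dvd hs).2 fun h => ?_).symm)
          have h1 : s ∣ q ^ n - 1 := (dvd_pow_self s (by omega)).trans hsb
          have h2 : s ∣ q ^ n := dvd_pow h (by omega)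
          have := Nat.dvd_sub h2 h1
          rw [Nat.sub_sub_self (Nat.one_le_pow _ _ (by omega))] at this
          exact hs.not_dvd_one this
        have heul : s ^ b ∣ q ^ Nat.totient (s ^ b) - 1 :=
          (modEq_one_iff_dvd hq1.le).1 (Nat.ModEq.pow_totient hcop)
        have hg : s ^ b ∣ q ^ Nat.gcd n (Nat.totient (s ^ b)) - 1 := by
          have h := Nat.dvd_gcd hsb heul
          rwa [Nat.pow_sub_one_gcd_pow_sub_one] at h
        refine hg.trans (Nat.pow_sub_one_dvd_pow_sub_one q ?_)
        -- the gcd divides `n / r`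
        refine Nat.dvd_div_of_mul_dvd ?_
        rw [mul_dvd_iff_padic hr.ne_zero (Nat.gcd_pos_of_pos_left _ (by omega)).ne' (by omega)]
        intro t ht
        have : Fact t.Prime := ⟨ht⟩
        have hgn : padicValNat t (Nat.gcd n (Nat.totient (s ^ b))) ≤ padicValNat t n :=
          (padicValNat_dvd_iff_le (by omega)).1 (pow_padicValNat_dvd.trans (Nat.gcd_dvd_left _ _))
        by_cases htr : t = r
        · subst htr
          rw [padicValNat.self ht.one_lt]
          have htot0 : Nat.totient (s ^ b) ≠ 0 := (Nat.totient_pos.2 (pow_pos hs.pos b)).ne'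
          have hle : padicValNat t (Nat.gcd n (Nat.totient (s ^ b))) ≤
              padicValNat t (Nat.totient (s ^ b)) :=
            (padicValNat_dvd_iff_le htot0).1 (pow_padicValNat_dvd.trans (Nat.gcd_dvd_right _ _))
          have hrn1 := one_le_padicValNat_of_dvd (by omega : n ≠ 0) hrn
          generalize padicValNat t (Nat.gcd n (Nat.totient (s ^ b))) = gv at hle hgn ⊢
          rw [Nat.totient_prime_pow hs (by omega), padicValNat.mul (pow_ne_zero _ hs.ne_zero)
            (by have := hs.two_le; omega)] at hle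
          have hnd : ¬ t ∣ s - 1 := fun h => by
            have := Nat.le_of_dvd (show 0 < s - 1 by have := hs.two_le; omega) h
            exact absurd this (by have := hs.two_le; omega)
          rw [padicValNat.eq_zero_of_not_dvd hnd, add_zero] at hle
          rcases eq_or_lt_of_le hsr with rfl | hlt
          · rw [padicValNat.prime_pow] at hle
            omega
          · rw [padicValNat.eq_zero_of_not_dvd (fun h => hlt.ne'
              ((Nat.prime_dvd_prime_iff_eq ht hs).1 (ht.dvd_of_dvd_pow h)))] at hle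
            omega
        · rw [padicValNat.eq_zero_of_not_dvd fun h => htr ((Nat.prime_dvd_prime_iff_eq ht hr).1 h),
            zero_add]
          exact hgn
    by_cases hA : ∀ r : ℕ, r.Prime → r ∣ n → r ∣ q - 1
    · have h4 : 4 ∣ n ∧ ¬ 4 ∣ q - 1 := by
        by_contra h
        exact hcon ⟨hA, fun h' => by_contra fun h'' => h ⟨h', h''⟩⟩
      exact hgood 2 Nat.prime_two ((dvd_trans (by norm_num) h4.1)) (fun s hs hsn _ => hA s hs hsn)
        (Or.inr ⟨rfl, h4.1, h4.2, hA 2 Nat.prime_two (dvd_trans (by norm_num) h4.1)⟩)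
    · push Not at hA
      obtain ⟨r₀, hr₀⟩ := hA
      classical
      let S := n.primeFactors.filter fun r => ¬ r ∣ q - 1
      have hne : S.Nonempty := ⟨r₀, Finset.mem_filter.2
        ⟨Nat.mem_primeFactors.2 ⟨hr₀.1, hr₀.2.1, by omega⟩, hr₀.2.2⟩⟩
      obtain ⟨hmem, hrq⟩ := Finset.mem_filter.1 (S.max'_mem hne)
      refine hgood _ (Nat.prime_of_mem_primeFactors hmem) (Nat.dvd_of_mem_primeFactors hmem)
        (fun s hs hsn hlt => by_contra fun hsq => ?_) (Or.inl hrq)
      have := S.le_max' s (Finset.mem_filter.2 ⟨Nat.mem_primeFactors.2 ⟨hs, hsn, by omega⟩, hsq⟩)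
      omega

end CfsgLib.Perm
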