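import Cfsg.Agent.S4441
import Cfsg.Agent.Lib.CharApps.Codegree
import Cfsg.Agent.Lib.Chars.PermChar
import Cfsg.Agent.Lib.Chars.Integral
import Cfsg.Agent.Lib.Blocks.ThreePrimeSimple
import Cfsg.Agent.Lib.CharApps.AbelianSylow
import Cfsg.Agent.Lib.Perm.PrimeDegree
import Cfsg.Agent.Lib.Perm.BurnsideTwoTransitive

/-!
# Permutation groups of prime degree `p` whose Sylow `p`-normaliser has order `2 p`: characters
-/

set_option autoImplicit false

open MulAction Cfsg CfsgLib.Chars CfsgLib.CharApps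

namespace CfsgLib.Perm.DihedralPrime

universe u

variable {α : Type u} [Fintype α] [DecidableEq α] {p : ℕ} [hp : Fact p.Prime]
  {G : Subgroup (Equiv.Perm α)}

omit hp in
/-- The number of fixed points of an element. -/
noncomputable def fx (g : G) : ℕ := Nat.card (fixedBy α g)

omit hp in
theorem fx_one : fx (1 : G) = Fintype.card α := by
  rw [fx, fixedBy_one_eq_univ, Nat.card_coe_set_eq, Set.ncard_univ, Nat.card_eq_fintype_card]

/-- An element of order `p` is a full cycle. -/
theorem zpowers_transitive (hα : Fintype.card α = p) {x : G} (hx : orderOf x = p) :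
    IsPretransitive (Subgroup.zpowers x) α := by
  classical
  have hox : orderOf (x : Equiv.Perm α) = p := by rw [Subgroup.orderOf_coe, hx]
  have hc : (x : Equiv.Perm α).IsCycle :=
    Equiv.Perm.isCycle_of_prime_order (by rw [hox]; exact hp.out)
      (lt_of_le_of_lt (Finset.card_le_univ _) (by rw [hox, hα]; have := hp.out.pos; omega))
  have hsupp : (x : Equiv.Perm α).support = Finset.univ :=
    Finset.eq_univ_of_card _ (by rw [← hc.orderOf, hox, hα])
  refine ⟨fun a b => ?_⟩
  obtain ⟨k, hk⟩ := hc.sameCycle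
    (Equiv.Perm.mem_support.1 (hsupp ▸ Finset.mem_univ a))
    (Equiv.Perm.mem_support.1 (hsupp ▸ Finset.mem_univ b))
  exact ⟨⟨x ^ k, k, rfl⟩, by simpa [Subgroup.smul_def] using hk⟩

theorem mem_zpowers_of_commute (hα : Fintype.card α = p) {x g : G} (hx : orderOf x = p)
    (hc : Commute g x) : g ∈ Subgroup.zpowers x := by
  have ht := zpowers_transitive hα hx
  obtain ⟨a⟩ : Nonempty α := Fintype.card_pos_iff.1 (by rw [hα]; exact hp.out.pos)
  obtain ⟨⟨y, hy⟩, hya⟩ := ht.exists_smul_eq a (g • a)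
  obtain ⟨k, rfl⟩ := hy
  have h1 : (x ^ k)⁻¹ * g = 1 := by
    refine eq_one_of_commute_transitive ht (u := (x ^ k)⁻¹ * g) ?_ (a := a) ?_
    · intro t ht'
      obtain ⟨j, rfl⟩ := ht'
      exact (((Commute.zpow_zpow_self x j k).inv_right).mul_right (hc.symm.zpow_left j)).eq
    · rw [mul_smul, inv_smul_eq_iff]
      exact hya.symm
  rw [inv_mul_eq_one] at h1
  exact ⟨k, h1⟩

theorem orderOf_eq_of_dvd (hα : Fintype.card α = p) {g : G} (hg : p ∣ orderOf g) :
    orderOf g = p := by
  have hg0 : 0 < orderOf g := orderOf_pos g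
  obtain ⟨k, hk⟩ := hg
  have hx : orderOf (g ^ k) = p := by
    rw [orderOf_pow, hk, Nat.gcd_eq_right (Dvd.intro_left _ rfl),
      Nat.mul_div_cancel _ (Nat.pos_of_ne_zero fun h => by rw [h, mul_zero] at hk; omega)]
  have hmem := mem_zpowers_of_commute hα hx ((Commute.refl g).pow_right k)
  have hd : orderOf g ∣ p := by
    rw [← hx, ← Nat.card_zpowers (g ^ k)]
    exact (Subgroup.orderOf_mk g hmem) ▸ orderOf_dvd_natCard _
  exact ((Nat.dvd_prime hp.out).1 hd).resolve_left fun h => by
    rw [h] at hk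
    exact hp.out.ne_one (Nat.dvd_one.1 ⟨k, hk⟩)

theorem fx_eq_zero (hα : Fintype.card α = p) {g : G} (hg : orderOf g = p) : fx g = 0 := by
  have ht := zpowers_transitive hα hg
  rw [fx, Nat.card_eq_zero]
  refine Or.inl ⟨fun ⟨a, ha⟩ => ?_⟩
  have hfix : ∀ b : α, b = a := by
    intro b
    obtain ⟨⟨y, k, rfl⟩, rfl⟩ := ht.exists_smul_eq a b
    have : g ^ k ∈ stabilizer G a := zpow_mem (show g ∈ stabilizer G a from ha) k
    exact this
  have : Fintype.card α ≤ 1 := Fintype.card_le_one_iff.2 fun b c => by rw [hfix b, hfix c]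
  have := hp.out.two_le
  omega

theorem card_centralizer (hα : Fintype.card α = p) {g : G} (hg : orderOf g = p) :
    Nat.card (Subgroup.centralizer ({g} : Set G)) = p := by
  rw [show Subgroup.centralizer ({g} : Set G) = Subgroup.zpowers g from le_antisymm
    (fun (c : G) (hc : c ∈ Subgroup.centralizer ({g} : Set G)) =>
      mem_zpowers_of_commute hα hg (Subgroup.mem_centralizer_singleton_iff.1 hc))
    (Subgroup.zpowers_le.2 (Subgroup.mem_centralizer_singleton_iff.2 rfl)),
    Nat.card_zpowers, hg]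

variable (hα : Fintype.card α = p) (hp2 : 2 < p) (P : Sylow p G)
  (hN : Nat.card (Subgroup.normalizer ((P : Subgroup G) : Set G)) = 2 * p)

include hα hN in
theorem card_sylow (Q : Sylow p G) : Nat.card (Q : Subgroup G) = p := by
  have hpG : p ∣ Nat.card G :=
    ((dvd_mul_left p 2).trans (dvd_of_eq hN.symm)).trans (Subgroup.card_subgroup_dvd_card _)
  rw [Sylow.card_eq_multiplicity]
  have h1 := hp.out.factorization_pos_of_dvd Nat.card_pos.ne' hpG
  have h2 : ¬ 2 ≤ (Nat.card G).factorization p := fun h =>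
    PrimeDegree.not_sq_dvd_aux hα ((pow_dvd_pow p h).trans (Nat.ordProj_dvd _ _))
  rw [show (Nat.card G).factorization p = 1 by omega, pow_one]
where
  PrimeDegree.not_sq_dvd_aux (hα : Fintype.card α = p) (h : p ^ 2 ∣ Nat.card G) : False :=
    not_sq_dvd hα h

include hα hN in
theorem exists_order : ∀ Q : Sylow p G, ∃ x ∈ (Q : Subgroup G), orderOf x = p := by
  intro Q
  obtain ⟨x, hx⟩ := exists_prime_orderOf_dvd_card' (G := (Q : Subgroup G)) p
    (dvd_of_eq (card_sylow hα P hN Q).symm)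
  exact ⟨x, x.2, by rw [Subgroup.orderOf_coe, hx]⟩

include hα hN in
theorem pretransitive : IsPretransitive G α := by
  obtain ⟨x, -, hx⟩ := exists_order hα P hN P
  have ht := zpowers_transitive hα hx
  exact ⟨fun a b => by obtain ⟨g, hg⟩ := ht.exists_smul_eq a b; exact ⟨g, hg⟩⟩

include hα hN in
theorem centralizer_eq (Q : Sylow p G) :
    Subgroup.centralizer ((Q : Subgroup G) : Set G) = (Q : Subgroup G) := by
  obtain ⟨x, hxQ, hx⟩ := exists_order hα P hN Q
  have hQ : Subgroup.zpowers x = (Q : Subgroup G) :=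
    Subgroup.eq_of_le_of_card_ge (Subgroup.zpowers_le.2 hxQ)
      (by rw [Nat.card_zpowers, hx, card_sylow hα P hN Q])
  refine le_antisymm (fun c hc => ?_) ?_
  · rw [← hQ]
    exact mem_zpowers_of_commute hα hx (Subgroup.mem_centralizer_iff.1 hc x hxQ).symm
  · rw [← hQ]
    intro a ha b hb
    obtain ⟨i, rfl⟩ := ha
    obtain ⟨j, rfl⟩ := hb
    exact (Commute.zpow_zpow_self x j i).eq

include hα hN in
/-- There are `|G| / 2p` Sylow subgroups and `p - 1` elements of order `p` in each. -/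
theorem card_orderOf_eq :
    2 * p * Nat.card {g : G // orderOf g = p} = (p - 1) * Nat.card G := by
  have h1 : Nat.card G = 2 * p * Nat.card (Sylow p G) := by
    rw [← hN, Sylow.card_eq_index_normalizer P]
    exact (Subgroup.card_mul_index _).symm
  have hgen : ∀ (Q : Sylow p G) (g : G), g ∈ (Q : Subgroup G) → orderOf g = p →
      Subgroup.zpowers g = (Q : Subgroup G) := fun Q g hg ho =>
    Subgroup.eq_of_le_of_card_ge (Subgroup.zpowers_le.2 hg)
      (by rw [Nat.card_zpowers, ho, card_sylow hα P hN Q])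
  have h2 : Nat.card {g : G // orderOf g = p} =
      Nat.card (Σ Q : Sylow p G, {g : (Q : Subgroup G) // g ≠ 1}) := by
    have hord : ∀ z : (Σ Q : Sylow p G, {g : (Q : Subgroup G) // g ≠ 1}),
        orderOf ((z.2.1 : G)) = p := fun z => by
      have hd : orderOf z.2.1 ∣ p := (orderOf_dvd_natCard z.2.1).trans (dvd_of_eq (card_sylow hα P hN z.1))
      rw [Subgroup.orderOf_coe]
      exact ((Nat.dvd_prime hp.out).1 hd).resolve_left fun h => z.2.2 (orderOf_eq_one_iff.1 h)
    refine (Nat.card_congr (Equiv.ofBijective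
      (fun z : (Σ Q : Sylow p G, {g : (Q : Subgroup G) // g ≠ 1}) =>
        (⟨(z.2.1 : G), hord z⟩ : {g : G // orderOf g = p})) ⟨?_, ?_⟩)).symm
    · rintro ⟨Q, ⟨a, ha⟩, ha1⟩ ⟨R, ⟨b, hb⟩, hb1⟩ h
      obtain rfl : a = b := congrArg Subtype.val h
      have ho : orderOf a = p := by
        have hd : orderOf (⟨a, ha⟩ : (Q : Subgroup G)) ∣ p :=
          (orderOf_dvd_natCard _).trans (dvd_of_eq (card_sylow hα P hN Q))
        rw [Subgroup.orderOf_mk] at hd
        exact ((Nat.dvd_prime hp.out).1 hd).resolve_left fun h => ha1 (Subtype.ext (orderOf_eq_one_iff.1 h))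
      obtain rfl : Q = R := Sylow.ext ((hgen Q a ha ho).symm.trans (hgen R a hb ho))
      rfl
    · rintro ⟨g, hg⟩
      obtain ⟨Q, hQ⟩ := (IsPGroup.of_card (n := 1) (G := Subgroup.zpowers g)
        (by rw [Nat.card_zpowers, hg, pow_one])).exists_le_sylow
      have hgQ := hQ (Subgroup.mem_zpowers g)
      refine ⟨⟨Q, ⟨g, hgQ⟩, fun h => ?_⟩, rfl⟩
      rw [show g = 1 from congrArg Subtype.val h, orderOf_one] at hg
      exact hp.out.ne_one hg.symm
  have h3 : ∀ Q : Sylow p G, Nat.card {g : (Q : Subgroup G) // g ≠ 1} = p - 1 := by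
    intro Q
    haveI := Fintype.ofFinite (Q : Subgroup G)
    have := card_sylow hα P hN Q
    classical
    rw [Nat.card_eq_fintype_card] at this ⊢
    rw [Fintype.card_subtype_compl, Fintype.card_subtype_eq, this]
  classical
  rw [h1, h2, Nat.card_sigma]
  haveI := Fintype.ofFinite (Sylow p G)
  simp only [h3, Finset.sum_const, Finset.card_univ, smul_eq_mul, ← Nat.card_eq_fintype_card]
  ring

variable (hnn : ¬ (P : Subgroup G).Normal)

include hα hN hnn in
theorem not_isSolvable : ¬ Group.IsSolvable G := by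
  intro hs
  haveI := pretransitive hα P hN
  obtain ⟨x, hxP, hx⟩ := exists_order hα P hN P
  obtain ⟨a⟩ : Nonempty α := Fintype.card_pos_iff.1 (by rw [hα]; exact hp.out.pos)
  obtain ⟨e, he, -⟩ := exists_isCoord hα hx a
  have hP : Subgroup.zpowers x = (P : Subgroup G) :=
    Subgroup.eq_of_le_of_card_ge (Subgroup.zpowers_le.2 hxP)
      (by rw [Nat.card_zpowers, hx, card_sylow hα P hN P])
  refine hnn ⟨fun y hy g => ?_⟩
  rw [← hP] at hy ⊢
  obtain ⟨m, c, hmc⟩ := affine_of_isSolvable hα hs hx he g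
  have hconj : g * x * g⁻¹ = x ^ m.val := by
    refine eq_of_smul_eq_smul (α := α) fun b => ?_
    have hb : b = g • e (e.symm (g⁻¹ • b)) := by simp
    rw [mul_smul, mul_smul, hb, inv_smul_smul, he, hmc, hmc, he.pow_smul, ZMod.natCast_val,
      ZMod.cast_id]
    congr 1
    ring
  obtain ⟨k, rfl⟩ := hy
  rw [← conj_zpow, hconj]
  exact zpow_mem (pow_mem (Subgroup.mem_zpowers x) _) k

include hα hN hnn in
theorem five_le_and_two_transitive : 5 ≤ p ∧ IsMultiplyPretransitive G α 2 := by
  haveI := pretransitive hα P hN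
  exact ⟨five_le hα (not_isSolvable hα P hN hnn), two_transitive hα (not_isSolvable hα P hN hnn)⟩

section Characters

include hα hp2 hN hnn in
/-- The exceptional characters: `(p - 1) / 2` of degree `p - 2`, equal to `π - 2` at elements of
order prime to `p`; other characters than these, `1` and `π - 1` vanish on elements of order `p`. -/
theorem exists_exceptional [Fintype G] :
    ∃ χ₀ : IrrCharacter G, ∃ Y : Finset (IrrCharacter G),
      (∀ g : G, (χ₀ : G → ℂ) g = (fx g : ℂ) - 1) ∧ χ₀ ≠ principal G ∧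
      2 * Y.card + 1 = p ∧ principal G ∉ Y ∧ χ₀ ∉ Y ∧
      (∀ θ ∈ Y, ∀ g : G, orderOf g ≠ p → (θ : G → ℂ) g = (fx g : ℂ) - 2) ∧
      ∀ ψ : IrrCharacter G, ψ ∉ Y → ψ ≠ principal G → ψ ≠ χ₀ → ∀ g : G, orderOf g = p →
        (ψ : G → ℂ) g = 0 := by
  classical
  obtain ⟨hp5, h2t⟩ := five_le_and_two_transitive hα P hN hnn
  haveI := pretransitive hα P hN
  haveI := irrFintype G
  have hirr : IsIrrCharacter G (fun g : G => (fx g : ℂ) - 1) :=
    (isIrr_fixedBy_sub_one_iff (X := α) (by rw [Nat.card_eq_fintype_card]; omega)).2 h2t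
  set χ₀ : IrrCharacter G := ⟨_, hirr⟩ with hχ₀def
  have hχ₀ : ∀ g : G, (χ₀ : G → ℂ) g = (fx g : ℂ) - 1 := fun g => rfl
  have hχ₀one : χ₀ ≠ principal G := by
    intro h
    have := congrArg (fun ψ : IrrCharacter G => (ψ : G → ℂ) 1) h
    simp only [hχ₀, principal_apply, fx_one, hα, sub_eq_iff_eq_add] at this
    norm_num at this
    norm_cast at this
    omega
  have hPc := card_sylow hα P hN P
  have he : (Subgroup.centralizer ((P : Subgroup G) : Set G)).relIndex
      (Subgroup.normalizer ((P : Subgroup G) : Set G)) = 2 := by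
    rw [centralizer_eq hα P hN P, Subgroup.relIndex]
    have h := Subgroup.card_mul_index ((P : Subgroup G).subgroupOf
      (Subgroup.normalizer ((P : Subgroup G) : Set G)))
    rw [Nat.card_congr (Subgroup.subgroupOfEquivOfLe Subgroup.le_normalizer).toEquiv, hPc, hN,
      mul_comm 2 p] at h
    exact Nat.eq_of_mul_eq_mul_left hp.out.pos h
  obtain ⟨M, hM⟩ := CharApps.exists_pModular p
  haveI := hM.2.1.isPrime
  obtain ⟨X, Y, hB, hdisj, hX, hY, εX, ε, hXp, hε, hYdeg, hYeq, hrel⟩ :=
    Agent.S4441.result p M hM (by omega) P hPc 2 he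
  have hpodd : p % 2 = 1 := (hp.out.eq_two_or_odd).resolve_left (by omega)
  have hprin : principal G ∈ X := by
    have hmem : principal G ∈ X ∪ Y := hB ▸ CfsgLib.Blocks.principal_mem_principalBlock M
    refine hmem.resolve_right fun h => ?_
    have h1 := hYdeg _ h
    rw [(deg_eq_one_iff (principal G)).mp (principal_apply _)] at h1
    have h2 := h1.dvd
    rcases hε with rfl | rfl <;> norm_num at h2
    · exact hp.out.ne_one (Nat.dvd_one.1 (by exact_mod_cast h2))
    · have := Nat.le_of_dvd (by norm_num : 0 < 3)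
        (Int.natCast_dvd.1 h2)
      omega
  obtain ⟨ξ, hξX, hξu⟩ := (Nat.card_eq_two_iff' (⟨principal G, hprin⟩ : X)).1 hX |>.exists.elim
    fun z hz => (show ∃ ξ ∈ X, ξ ≠ principal G from ⟨z.1, z.2, fun h => hz (Subtype.ext h)⟩)
  have hXeq : X = {principal G, ξ} := by
    refine Set.Subset.antisymm (fun z hz => ?_) (Set.insert_subset hprin (Set.singleton_subset_iff.2 hξX))
    by_contra hne
    simp only [Set.mem_insert_iff, Set.mem_singleton_iff, not_or] at hne
    have := ((Nat.card_eq_two_iff' (⟨principal G, hprin⟩ : X)).1 hX).unique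
      (y₁ := ⟨z, hz⟩) (y₂ := ⟨ξ, hξX⟩) (fun h => hne.1 (congrArg Subtype.val h))
      (fun h => hξu (congrArg Subtype.val h))
    exact hne.2 (congrArg Subtype.val this)
  have hεp : εX (principal G) = 1 := by
    have h1 := (hXp _ hprin).2.1
    rw [(deg_eq_one_iff (principal G)).mp (principal_apply _), Nat.cast_one] at h1
    refine (hXp _ hprin).1.resolve_right fun h => ?_
    rw [h] at h1
    have h2 := h1.dvd
    norm_num at h2
    have := Nat.le_of_dvd (by norm_num : 0 < 2) (Int.natCast_dvd.1 h2)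
    omega
  set s : ℤ := εX ξ with hs
  -- values at elements of order `p`
  have hξS : ∀ g : G, orderOf g = p → (ξ : G → ℂ) g = (s : ℂ) := by
    intro g hg
    obtain ⟨Q, hQ⟩ := (IsPGroup.of_card (n := 1) (G := Subgroup.zpowers g)
      (by rw [Nat.card_zpowers, hg, pow_one])).exists_le_sylow
    obtain ⟨c, hc⟩ := MulAction.exists_smul_eq G Q P
    have hmem : c * g * c⁻¹ ∈ (P : Subgroup G) := by
      rw [← hc, Sylow.coe_subgroup_smul, ← MulAut.conj_apply]
      exact Subgroup.smul_mem_pointwise_smul _ _ _ (hQ (Subgroup.mem_zpowers g))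
    have hne : c * g * c⁻¹ ≠ 1 := by
      rw [Ne, conj_eq_one_iff]
      rintro rfl
      rw [orderOf_one] at hg
      exact hp.out.ne_one hg.symm
    have h := (hXp ξ hξX).2.2 _ hmem hne 1 (one_mem _)
      (by rw [orderOf_one]; exact hp.out.not_dvd_one)
    rw [mul_one, isClassFunction_irr ξ g c] at h
    exact h
  have hreg : ∀ θ ∈ Y, ∀ g : G, orderOf g ≠ p →
      (ε : ℂ) * (θ : G → ℂ) g = 1 + (s : ℂ) * (ξ : G → ℂ) g := by
    intro θ hθ g hg
    have h := hrel θ hθ g (fun h' => hg (orderOf_eq_of_dvd hα h'))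
    rw [hXeq, finsum_mem_pair (Ne.symm hξu), hεp, principal_apply] at h
    simpa using h
  -- real norms
  have hnorm : ∀ ψ : IrrCharacter G, ∑ g : G, Complex.normSq ((ψ : G → ℂ) g) = (Nat.card G : ℝ) := by
    intro ψ
    have h := inner_irr_self ψ
    rw [inner_self_eq, Complex.ofReal_eq_one] at h
    simp only [← Complex.normSq_eq_norm_sq] at h
    field_simp at h
    exact h
  have hsum : ∀ ψ : IrrCharacter G, ψ ≠ principal G → ∑ g : G, (ψ : G → ℂ) g = 0 := by
    intro ψ hψ
    have h := inner_irr_ne hψ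
    simpa [inner_def, principal_apply, Nat.card_pos.ne'] using h
  set S : Finset G := Finset.univ.filter fun g => orderOf g = p with hSdef
  have hScard : 2 * (p : ℝ) * S.card = ((p : ℝ) - 1) * Nat.card G := by
    have h := card_orderOf_eq hα P hN
    rw [Nat.card_eq_fintype_card (α := {g : G // orderOf g = p}), Fintype.card_subtype, ← hSdef] at h
    have h' := congrArg (Nat.cast (R := ℝ)) h
    push_cast [Nat.cast_sub hp.out.one_le] at h'
    exact h'
  have hS0 : 0 < S.card := by
    obtain ⟨x, -, hx⟩ := exists_order hα P hN P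
    exact Finset.card_pos.2 ⟨x, by simp [hSdef, hx]⟩
  have hmemS : ∀ {g : G}, g ∈ S ↔ orderOf g = p := fun {g} => by simp [hSdef]
  have hs1 : (s : ℂ) = 1 ∨ (s : ℂ) = -1 := by rcases (hXp ξ hξX).1 with h | h <;> simp [hs, h]
  have hYS : ∀ θ ∈ Y, (p : ℝ) * ∑ g ∈ S, Complex.normSq ((θ : G → ℂ) g) =
      ((p : ℝ) - 2) * Nat.card G := by
    intro θ hθ
    have hcompl : ∀ g ∈ Sᶜ, Complex.normSq ((θ : G → ℂ) g) =
        1 + 2 * ((s : ℂ) * (ξ : G → ℂ) g).re + Complex.normSq ((ξ : G → ℂ) g) := by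
      intro g hg
      have h := hreg θ hθ g (by simpa [hmemS] using hg)
      have h' := congrArg Complex.normSq h
      rw [Complex.normSq_mul, show Complex.normSq (ε : ℂ) = 1 by
        rcases hε with rfl | rfl <;> simp, one_mul] at h'
      rw [h', Complex.normSq_add]
      rcases hs1 with hs' | hs' <;> simp [hs'] <;> ring
    have e1 := Finset.sum_add_sum_compl S (fun g => Complex.normSq ((θ : G → ℂ) g))
    have e2 := Finset.sum_add_sum_compl S (fun g => Complex.normSq ((ξ : G → ℂ) g))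
    have e3 := Finset.sum_add_sum_compl S (fun g => ((s : ℂ) * (ξ : G → ℂ) g).re)
    have e4 := Finset.sum_add_sum_compl S (fun _ : G => (1 : ℝ))
    have v2 : ∑ g ∈ S, Complex.normSq ((ξ : G → ℂ) g) = S.card := by
      rw [Finset.sum_congr rfl (g := fun _ => (1 : ℝ)) fun g hg => by
        rw [hξS g (hmemS.1 hg)]; rcases hs1 with hs' | hs' <;> simp [hs']]
      simp
    have v3 : ∑ g ∈ S, ((s : ℂ) * (ξ : G → ℂ) g).re = S.card := by
      rw [Finset.sum_congr rfl (g := fun _ => (1 : ℝ)) fun g hg => by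
        rw [hξS g (hmemS.1 hg)]; rcases hs1 with hs' | hs' <;> simp [hs']]
      simp
    have v3' : ∑ g : G, ((s : ℂ) * (ξ : G → ℂ) g).re = 0 := by
      rw [← Complex.re_sum, ← Finset.mul_sum, hsum ξ hξu, mul_zero, Complex.zero_re]
    rw [Finset.sum_congr rfl hcompl, hnorm θ] at e1
    rw [Finset.sum_add_distrib, Finset.sum_add_distrib, ← Finset.mul_sum] at e1
    rw [hnorm ξ, v2] at e2
    rw [v3', v3] at e3
    simp only [Finset.sum_const, nsmul_eq_mul, mul_one, Finset.card_univ, ← Nat.card_eq_fintype_card] at e4 e1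
    have hT : ∑ g ∈ S, Complex.normSq ((θ : G → ℂ) g) = 4 * S.card - Nat.card G := by linarith
    rw [hT]
    linarith
  have hYcard : 2 * Nat.card Y + 1 = p := by rw [hY]; omega
  set Yf : Finset (IrrCharacter G) := Y.toFinset with hYf
  have hYfc : Yf.card = Nat.card Y := by
    rw [hYf, Set.toFinset_card, Nat.card_eq_fintype_card]
  set B : Finset (IrrCharacter G) := insert (principal G) (insert ξ Yf) with hBdef
  have hpY : principal G ∉ Yf := fun h =>
    Set.disjoint_left.1 hdisj hprin (Set.mem_toFinset.1 h)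
  have hξY : ξ ∉ Yf := fun h => Set.disjoint_left.1 hdisj hξX (Set.mem_toFinset.1 h)
  have hvanish : ∀ ψ ∉ B, ∀ g ∈ S, (ψ : G → ℂ) g = 0 := by
    have hcol : ∑ ψ : IrrCharacter G, ∑ g ∈ S, Complex.normSq ((ψ : G → ℂ) g) = p * S.card := by
      rw [Finset.sum_comm, Finset.sum_congr rfl (g := fun _ => (p : ℝ)) fun g hg => ?_]
      · simp [mul_comm]
      · have h := second_orthogonality g g
        rw [if_pos (IsConj.refl g), card_centralizer hα (hmemS.1 hg)] at h
        simp only [Complex.mul_conj] at h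
        exact_mod_cast h
    have hBsum : ∑ ψ ∈ B, ∑ g ∈ S, Complex.normSq ((ψ : G → ℂ) g) = p * S.card := by
      rw [hBdef, Finset.sum_insert (by simp [hpY, Ne.symm hξu]), Finset.sum_insert hξY]
      have a1 : ∑ g ∈ S, Complex.normSq ((principal G : G → ℂ) g) = S.card := by
        simp [principal_apply]
      have a2 : ∑ g ∈ S, Complex.normSq ((ξ : G → ℂ) g) = S.card := by
        rw [Finset.sum_congr rfl (g := fun _ => (1 : ℝ)) fun g hg => by
          rw [hξS g (hmemS.1 hg)]; rcases hs1 with hs' | hs' <;> simp [hs']]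
        simp
      have a3 : (p : ℝ) * ∑ θ ∈ Yf, ∑ g ∈ S, Complex.normSq ((θ : G → ℂ) g) =
          Yf.card * (((p : ℝ) - 2) * Nat.card G) := by
        rw [Finset.mul_sum, Finset.sum_congr rfl fun θ hθ => hYS θ (Set.mem_toFinset.1 hθ)]
        rw [Finset.sum_const, nsmul_eq_mul]
      have hc : 2 * (Yf.card : ℝ) + 1 = p := by rw [hYfc]; exact_mod_cast hYcard
      rw [a1, a2]
      have hp0 : (p : ℝ) ≠ 0 := by exact_mod_cast hp.out.ne_zero
      refine mul_left_cancel₀ hp0 ?_
      rw [mul_add, mul_add, a3]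
      have hp1 : (2 : ℝ) * Yf.card = p - 1 := by linarith
      refine mul_left_cancel₀ (two_ne_zero (α := ℝ)) ?_
      linear_combination ((p : ℝ) - 2) * (hp1 * Nat.card G) - ((p : ℝ) - 2) * hScard
    have h0 : ∑ ψ ∈ Bᶜ, ∑ g ∈ S, Complex.normSq ((ψ : G → ℂ) g) = 0 := by
      have := Finset.sum_add_sum_compl B (fun ψ : IrrCharacter G =>
        ∑ g ∈ S, Complex.normSq ((ψ : G → ℂ) g))
      linarith
    intro ψ hψ g hg
    have h1 := (Finset.sum_eq_zero_iff_of_nonneg fun a _ =>
      Finset.sum_nonneg fun b _ => Complex.normSq_nonneg _).1 h0 ψ (Finset.mem_compl.2 hψ)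
    exact Complex.normSq_eq_zero.1
      ((Finset.sum_eq_zero_iff_of_nonneg fun b _ => Complex.normSq_nonneg _).1 h1 g hg)
  have hχS : ∀ g ∈ S, (χ₀ : G → ℂ) g = -1 := fun g hg => by
    rw [hχ₀, fx_eq_zero hα (hmemS.1 hg)]; simp
  have hχB : χ₀ ∈ B := by
    by_contra h
    obtain ⟨g, hg⟩ := Finset.card_pos.1 hS0
    have := hvanish χ₀ h g hg
    rw [hχS g hg] at this
    norm_num at this
  have hξ : ξ = χ₀ := by
    simp only [hBdef, Finset.mem_insert] at hχB
    rcases hχB with h | h | h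
    · exact absurd h hχ₀one
    · exact h.symm
    · exfalso
      have h1 := hYS χ₀ (Set.mem_toFinset.1 h)
      rw [Finset.sum_congr rfl (g := fun _ => (1 : ℝ)) fun g hg => by rw [hχS g hg]; simp] at h1
      rw [Finset.sum_const, nsmul_eq_mul, mul_one] at h1
      have hp0 : (5 : ℝ) ≤ p := by exact_mod_cast hp5
      have hG0 : (0 : ℝ) < Nat.card G := by exact_mod_cast Nat.card_pos
      nlinarith
  have hsv : s = -1 := by
    obtain ⟨g, hg⟩ := Finset.card_pos.1 hS0
    have := hξS g (hmemS.1 hg)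
    rw [hξ, hχS g hg] at this
    exact_mod_cast this.symm
  have hεv : ε = -1 := by
    obtain ⟨⟨θ, hθ⟩⟩ : Nonempty Y := Finite.card_pos_iff.1 (by omega)
    have h1 := hreg θ hθ 1 (by rw [orderOf_one]; exact hp.out.ne_one.symm)
    rw [hξ, hχ₀, fx_one, hα, hsv, deg_eq] at h1
    refine hε.resolve_left fun h => ?_
    rw [h] at h1
    have h2 : (charDegree (θ : G → ℂ) + p : ℕ) = 2 := by
      have : ((charDegree (θ : G → ℂ) + p : ℕ) : ℂ) = ((2 : ℕ) : ℂ) := by
        push_cast at h1 ⊢; linear_combination h1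
      exact_mod_cast this
    omega
  refine ⟨χ₀, Yf, hχ₀, hχ₀one, by rw [hYfc]; exact hYcard, hpY, hξ ▸ hξY, fun θ hθ g hg => ?_,
    fun ψ h1 h2 h3 g hg => hvanish ψ (by simp [hBdef, hξ, h1, h2, h3]) g (hmemS.2 hg)⟩
  have h1 := hreg θ (Set.mem_toFinset.1 hθ) g hg
  rw [hξ, hχ₀, hsv, hεv] at h1
  push_cast at h1
  linear_combination -h1

end Characters

end CfsgLib.Perm.DihedralPrime
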