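import Cfsg.Agent.Lib.Perm.DihedralPrimeChars

/-!
# Permutation groups of prime degree `p` with Sylow normaliser of order `2 p` are sharply 3-transitive
-/

set_option autoImplicit false

open MulAction Cfsg CfsgLib.Chars CfsgLib.CharApps

namespace CfsgLib.Perm.DihedralPrime

universe u

variable {α : Type u} [Fintype α] [DecidableEq α] {p : ℕ} [hp : Fact p.Prime]
  {G : Subgroup (Equiv.Perm α)}

omit hp in
/-- Burnside's lemma on injective tuples. -/
theorem sum_descFactorial [Fintype G] (k : ℕ) :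
    ∑ g : G, ((fx g).descFactorial k : ℂ) =
      (Nat.card (orbitRel.Quotient G (Fin k ↪ α)) : ℂ) * Nat.card G := by
  classical
  have h := inner_fixedBy_one (G := G) (X := Fin k ↪ α)
  rw [inner_def] at h
  simp only [map_one, mul_one] at h
  have hfix : ∀ g : G, Nat.card (fixedBy (Fin k ↪ α) g) = (fx g).descFactorial k := by
    intro g
    haveI := Fintype.ofFinite (fixedBy α g)
    rw [fx, Nat.card_eq_fintype_card (α := fixedBy α g),
      show (Fintype.card (fixedBy α g)).descFactorial k =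
        Fintype.card (Fin k ↪ fixedBy α g) by rw [Fintype.card_embedding_eq, Fintype.card_fin],
      ← Nat.card_eq_fintype_card]
    refine Nat.card_congr
      { toFun := fun x => ⟨fun i => ⟨x.1 i, DFunLike.congr_fun x.2 i⟩,
          fun i j hij => x.1.injective (congrArg Subtype.val hij)⟩
        invFun := fun f => ⟨f.trans (Function.Embedding.subtype _),
          Function.Embedding.ext fun i => (f i).2⟩
        left_inv := fun x => rfl
        right_inv := fun f => rfl }
  rw [← h, mul_comm _ (Nat.card G : ℂ), mul_inv_cancel_left₀ (CfsgLib.Chars.card_ne_zero G)]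
  simp only [hfix]

variable (hα : Fintype.card α = p) (hp2 : 2 < p) (P : Sylow p G)
  (hN : Nat.card (Subgroup.normalizer ((P : Subgroup G) : Set G)) = 2 * p)
  (hnn : ¬ (P : Subgroup G).Normal)

include hα hp2 hN hnn in
/-- `G` is triply transitive and has at least `(p - 3) / 2` orbits on quadruples. -/
theorem orbits_three_four :
    IsMultiplyPretransitive G α 3 ∧
      p ≤ 2 * Nat.card (orbitRel.Quotient G (Fin 4 ↪ α)) + 3 := by
  classical
  haveI := Fintype.ofFinite G
  haveI := irrFintype G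
  obtain ⟨hp5, h2t⟩ := five_le_and_two_transitive hα P hN hnn
  obtain ⟨χ₀, Y, hχ₀, hχ₀one, hYc, hpY, hχY, hθ, -⟩ := exists_exceptional hα hp2 P hN hnn
  set o : ℕ → ℕ := fun k => Nat.card (orbitRel.Quotient G (Fin k ↪ α)) with ho
  have ho2 : o 2 = 1 := by
    have h2 : IsPretransitive G (Fin 2 ↪ α) := h2t
    simp only [ho]
    rw [Nat.card_eq_one_iff_unique]
    obtain ⟨x⟩ : Nonempty (Fin 2 ↪ α) := Function.Embedding.nonempty_of_card_le
      (by rw [Fintype.card_fin, hα]; omega)
    refine ⟨⟨fun a b => ?_⟩, ⟨Quotient.mk'' x⟩⟩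
    obtain ⟨a, rfl⟩ := Quotient.mk''_surjective a
    obtain ⟨b, rfl⟩ := Quotient.mk''_surjective b
    rw [Quotient.eq'', MulAction.orbitRel_apply, MulAction.mem_orbit_iff]
    exact MulAction.exists_smul_eq G b a
  have hG : (Nat.card G : ℂ) ≠ 0 := CfsgLib.Chars.card_ne_zero G
  have hd : ∀ k, (Nat.card G : ℂ)⁻¹ * ∑ g : G, ((fx g).descFactorial k : ℂ) = o k := fun k => by
    rw [sum_descFactorial, ← mul_assoc, mul_comm _ (o k : ℂ)]
    field_simp
  -- the character `π (π - 1)`
  set f : G → ℂ := (fun g : G => (fx g : ℂ)) * (χ₀ : G → ℂ) with hf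
  have hfc : IsCharacter G f :=
    isCharacter_mul (isCharacter_fixedBy (G := G) (X := α)) (isCharacter_of_irr χ₀.2)
  have hd2 : ∀ n : ℕ, (n.descFactorial 2 : ℂ) = (n : ℂ) * (n - 1) := fun n => by
    rcases n with _ | n <;> simp [Nat.descFactorial]
    ring
  have hd3 : ∀ n : ℕ, (n.descFactorial 3 : ℂ) = (n : ℂ) * (n - 1) * (n - 2) := fun n => by
    rcases n with _ | _ | n <;> simp [Nat.descFactorial]
    ring
  have hd4 : ∀ n : ℕ, (n.descFactorial 4 : ℂ) = (n : ℂ) * (n - 1) * (n - 2) * (n - 3) := fun n => by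
    rcases n with _ | _ | _ | n <;> simp [Nat.descFactorial] <;> ring
  have hfv : ∀ g, f g = (fx g : ℂ) * ((fx g : ℂ) - 1) := fun g => by simp [hf, hχ₀]
  have hfone : classInner f (principal G : G → ℂ) = ((1 : ℕ) : ℂ) := by
    rw [inner_def, ← ho2, ← hd 2]
    congr 1
    exact Finset.sum_congr rfl fun g _ => by rw [hfv, principal_apply, map_one, mul_one, hd2]
  have hfchi : classInner f (χ₀ : G → ℂ) = ((o 3 + 1 : ℕ) : ℂ) := by
    rw [Nat.cast_add, Nat.cast_one, inner_def, ← hd 3,
      show (1 : ℂ) = (Nat.card G : ℂ)⁻¹ * ∑ g : G, ((fx g).descFactorial 2 : ℂ) by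
        rw [hd 2, ho2, Nat.cast_one],
      ← mul_add, ← Finset.sum_add_distrib]
    congr 1
    refine Finset.sum_congr rfl fun g _ => ?_
    rw [hfv, hχ₀, hd2, hd3, map_sub, map_one, map_natCast]
    ring
  have hfθ : ∀ θ ∈ Y, classInner f (θ : G → ℂ) = (o 3 : ℂ) := by
    intro θ hθY
    rw [inner_def, ← hd 3]
    congr 1
    refine Finset.sum_congr rfl fun g _ => ?_
    by_cases hg : orderOf g = p
    · rw [hfv, hd3, fx_eq_zero hα hg]; simp
    · rw [hfv, hθ θ hθY g hg, hd3, map_sub, map_natCast, map_ofNat]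
  have hff : classInner f f = ((o 4 + 4 * o 3 + 2 : ℕ) : ℂ) := by
    push_cast
    rw [inner_def, ← hd 3, ← hd 4,
      show (2 : ℂ) = 2 * ((Nat.card G : ℂ)⁻¹ * ∑ g : G, ((fx g).descFactorial 2 : ℂ)) by
        rw [hd 2, ho2, Nat.cast_one, mul_one],
      Finset.mul_sum, Finset.mul_sum, Finset.mul_sum, Finset.mul_sum, Finset.mul_sum,
      Finset.mul_sum, ← Finset.sum_add_distrib, ← Finset.sum_add_distrib]
    refine Finset.sum_congr rfl fun g _ => ?_
    rw [hfv, hd2, hd3, hd4, map_mul, map_sub, map_one, map_natCast]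
    ring
  choose m hm using inner_irr_right_nat hfc
  have hm1 : m (principal G) = 1 := by exact_mod_cast (hm _).symm.trans hfone
  have hmc : m χ₀ = o 3 + 1 := by exact_mod_cast (hm _).symm.trans hfchi
  have hmθ : ∀ θ ∈ Y, m θ = o 3 := fun θ h => by exact_mod_cast (hm _).symm.trans (hfθ θ h)
  have hcd : charDegree (χ₀ : G → ℂ) = p - 1 := by
    have h := deg_eq χ₀
    rw [hχ₀, fx_one, hα] at h
    have : ((p - 1 : ℕ) : ℂ) = (charDegree (χ₀ : G → ℂ) : ℂ) := by
      rw [Nat.cast_sub hp.out.one_le, Nat.cast_one]; exact h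
    exact_mod_cast this.symm
  have htd : ∀ θ ∈ Y, charDegree (θ : G → ℂ) = p - 2 := by
    intro θ h'
    have h := deg_eq θ
    rw [hθ θ h' 1 (by rw [orderOf_one]; exact hp.out.ne_one.symm), fx_one, hα] at h
    have : ((p - 2 : ℕ) : ℂ) = (charDegree (θ : G → ℂ) : ℂ) := by
      rw [Nat.cast_sub (by omega)]; exact_mod_cast h
    exact_mod_cast this.symm
  have hB : ∀ w : IrrCharacter G → ℕ, w (principal G) + (w χ₀ + ∑ θ ∈ Y, w θ) ≤ ∑ ψ, w ψ := by
    intro w
    have hsub : insert (principal G) (insert χ₀ Y) ⊆ (Finset.univ : Finset (IrrCharacter G)) :=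
      Finset.subset_univ _
    refine le_trans (le_of_eq ?_) (Finset.sum_le_sum_of_subset hsub)
    rw [Finset.sum_insert (by simp [hpY, Ne.symm hχ₀one]), Finset.sum_insert hχY]
  have hdeg : ∑ ψ, m ψ * charDegree (ψ : G → ℂ) = p * (p - 1) := by
    have h := congrFun (classFun_eq_sum (isClassFunction_of_isCharacter hfc)) 1
    rw [Finset.sum_apply, hfv, fx_one, hα] at h
    have h' : ((∑ ψ, m ψ * charDegree (ψ : G → ℂ) : ℕ) : ℂ) = ((p * (p - 1) : ℕ) : ℂ) := by
      push_cast [Nat.cast_sub hp.out.one_le]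
      rw [h]
      exact Finset.sum_congr rfl fun ψ _ => by rw [Pi.smul_apply, smul_eq_mul, hm, deg_eq]
    exact_mod_cast h'
  have hsq : ∑ ψ, m ψ * m ψ = o 4 + 4 * o 3 + 2 := by
    have h := inner_eq_sum (isClassFunction_of_isCharacter hfc) f
    simp only [hm, map_natCast, hff] at h
    exact_mod_cast h.symm
  obtain ⟨c, hc⟩ : ∃ c, Y.card = c := ⟨_, rfl⟩
  have ho3 : o 3 = 1 := by
    have hne : Nonempty (orbitRel.Quotient G (Fin 3 ↪ α)) := by
      obtain ⟨x⟩ : Nonempty (Fin 3 ↪ α) := Function.Embedding.nonempty_of_card_le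
        (by rw [Fintype.card_fin, hα]; omega)
      exact ⟨Quotient.mk'' x⟩
    have h1 : 1 ≤ o 3 := Nat.card_pos
    by_contra h
    have h2 := hB (fun ψ => m ψ * charDegree (ψ : G → ℂ))
    rw [hdeg, hm1, hmc, hcd, Finset.sum_congr rfl fun θ hθY => by rw [hmθ θ hθY, htd θ hθY],
      Finset.sum_const, smul_eq_mul, (deg_eq_one_iff (principal G)).mp (principal_apply _), hc] at h2
    have h3 : 3 * (p - 1) + c * (2 * (p - 2)) ≤ (o 3 + 1) * (p - 1) + c * (o 3 * (p - 2)) :=
      Nat.add_le_add (Nat.mul_le_mul_right _ (by omega))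
        (Nat.mul_le_mul_left _ (Nat.mul_le_mul_right _ (by omega)))
    obtain ⟨q, hq⟩ : ∃ q, p = q + 2 := ⟨p - 2, by omega⟩
    have hq' : q + 1 = 2 * c := by omega
    simp only [hq, show q + 2 - 1 = q + 1 by omega, show q + 2 - 2 = q by omega] at h2 h3
    nlinarith
  refine ⟨?_, ?_⟩
  · show IsPretransitive G (Fin 3 ↪ α)
    have hsub : Subsingleton (orbitRel.Quotient G (Fin 3 ↪ α)) :=
      (Nat.card_eq_one_iff_unique.1 ho3).1
    refine ⟨fun a b => ?_⟩
    have := hsub.elim (Quotient.mk'' b) (Quotient.mk'' a)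
    rw [Quotient.eq'', MulAction.orbitRel_apply, MulAction.mem_orbit_iff] at this
    exact this
  · have h2 := hB (fun ψ => m ψ * m ψ)
    rw [hsq, hm1, hmc, ho3, Finset.sum_congr rfl fun θ hθY => by rw [hmθ θ hθY, ho3],
      Finset.sum_const, smul_eq_mul, hc] at h2
    show p ≤ 2 * o 4 + 3
    omega

include hα hp2 hN hnn in
/-- Every involution fixes exactly one point. -/
theorem fx_involution {e : G} (he : orderOf e = 2) : fx e = 1 := by
  classical
  haveI := Fintype.ofFinite G
  haveI := irrFintype G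
  obtain ⟨hp5, -⟩ := five_le_and_two_transitive hα P hN hnn
  have hpodd : p % 2 = 1 := (hp.out.eq_two_or_odd).resolve_left (by omega)
  obtain ⟨χ₀, Y, hχ₀, hχ₀one, hYc, hpY, hχY, hθ, hvan⟩ := exists_exceptional hα hp2 P hN hnn
  obtain ⟨x, hxP, hx⟩ := exists_order hα P hN P
  have hP : Subgroup.zpowers x = (P : Subgroup G) :=
    Subgroup.eq_of_le_of_card_ge (Subgroup.zpowers_le.2 hxP)
      (by rw [Nat.card_zpowers, hx, card_sylow hα P hN P])
  set N := Subgroup.normalizer ((P : Subgroup G) : Set G) with hNdef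
  obtain ⟨⟨t, htN⟩, ht⟩ := exists_prime_orderOf_dvd_card' (G := N) 2 (hN ▸ dvd_mul_right 2 p)
  rw [Subgroup.orderOf_mk] at ht
  have htt : t * t = 1 := by rw [← sq, ← ht, pow_orderOf_eq_one]
  -- `t` fixes exactly one point
  have hft : fx t = 1 := by
    obtain ⟨k, hk⟩ : t * x * t⁻¹ ∈ Subgroup.zpowers x := by
      rw [hP]; exact (Subgroup.mem_normalizer_iff.1 htN x).1 hxP
    obtain ⟨a, ha⟩ : ∃ a : α, t • a = a := by
      by_contra h
      push Not at h
      have hs : (t : Equiv.Perm α).support = Finset.univ :=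
        Finset.eq_univ_of_forall fun a => Equiv.Perm.mem_support.2 (h a)
      have hd := Equiv.Perm.two_dvd_card_support (σ := (t : Equiv.Perm α))
        (by rw [sq, ← Subgroup.coe_mul, htt, Subgroup.coe_one])
      rw [hs, Finset.card_univ, hα] at hd
      omega
    have hkx : x ^ k ≠ x := by
      intro h
      have hc : Commute t x := by
        have hk' : t * x * t⁻¹ = x := hk.symm.trans h
        exact mul_inv_eq_iff_eq_mul.1 hk'
      obtain ⟨i, rfl⟩ := mem_zpowers_of_commute hα hx hc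
      have hd : orderOf (x ^ i) ∣ orderOf x := orderOf_dvd_of_pow_eq_one (by
        rw [← zpow_natCast, ← zpow_mul, mul_comm, zpow_mul, zpow_natCast, pow_orderOf_eq_one, one_zpow])
      rw [hx, ht] at hd
      have := (Nat.prime_dvd_prime_iff_eq Nat.prime_two hp.out).1 hd
      omega
    rw [fx, Nat.card_eq_one_iff_unique]
    refine ⟨⟨fun b c => Subtype.ext ?_⟩, ⟨⟨a, ha⟩⟩⟩
    have main : ∀ d : α, t • d = d → d = a := by
      intro d hd
      obtain ⟨⟨y, i, rfl⟩, hi⟩ := (zpowers_transitive hα hx).exists_smul_eq a d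
      change x ^ i • a = d at hi
      by_contra hda
      have h1 : (x ^ k) ^ i • a = d := by
        rw [show (x ^ k) ^ i = t * x ^ i * t⁻¹ by rw [← conj_zpow, ← hk], mul_smul, mul_smul,
          inv_smul_eq_iff.2 ha.symm, hi, hd]
      have h2 : ((x ^ i)⁻¹ * (x ^ k) ^ i) • a = a := by rw [mul_smul, h1, inv_smul_eq_iff, hi]
      have ho : (x ^ (k - 1)) ^ i = 1 := by
        refine eq_one_of_commute_transitive (zpowers_transitive hα hx) (a := a) ?_ ?_
        · rintro _ ⟨j, rfl⟩
          exact (((Commute.zpow_zpow_self x j (k - 1))).zpow_right i).eq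
        · rw [← zpow_mul, show (k - 1) * i = -i + k * i by ring, zpow_add, zpow_neg, zpow_mul]
          exact h2
      rw [← zpow_mul] at ho
      have hdvd : ((orderOf x : ℕ) : ℤ) ∣ (k - 1) * i := orderOf_dvd_iff_zpow_eq_one.2 ho
      rw [hx] at hdvd
      rcases (Nat.prime_iff_prime_int.1 hp.out).dvd_mul.1 hdvd with h' | h'
      · apply hkx
        rw [← hx, orderOf_dvd_iff_zpow_eq_one, zpow_sub, zpow_one, mul_inv_eq_one] at h'
        exact h'
      · rw [← hx, orderOf_dvd_iff_zpow_eq_one] at h'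
        rw [h', one_smul] at hi
        exact hda hi.symm
    rw [main b b.2, main c c.2]
  by_cases hconj : IsConj t e
  · obtain ⟨c, rfl⟩ := isConj_iff.1 hconj
    rw [← hft]
    refine Nat.card_congr
      { toFun := fun b => ⟨c⁻¹ • (b : α), ?_⟩
        invFun := fun b => ⟨c • (b : α), ?_⟩
        left_inv := fun b => Subtype.ext (smul_inv_smul c (b : α))
        right_inv := fun b => Subtype.ext (inv_smul_smul c (b : α)) }
    · have := b.2
      rw [mem_fixedBy, mul_smul, mul_smul] at this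
      rw [mem_fixedBy, eq_inv_smul_iff]
      exact this
    · have := b.2
      rw [mem_fixedBy] at this ⊢
      rw [mul_smul, mul_smul, inv_smul_smul, this]
  exfalso
  -- no product of a conjugate of `t` and a conjugate of `e` has order `p`
  have hno : ∀ z : G, IsConj e z → orderOf (t * z) ≠ p := by
    intro z hz ho
    obtain ⟨Q, hQ⟩ := (IsPGroup.of_card (n := 1) (G := Subgroup.zpowers (t * z))
      (by rw [Nat.card_zpowers, ho, pow_one])).exists_le_sylow
    have hQz : Subgroup.zpowers (t * z) = (Q : Subgroup G) :=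
      Subgroup.eq_of_le_of_card_ge hQ
        (by rw [Nat.card_zpowers, ho, card_sylow hα P hN Q])
    have hzz : z * z = 1 := by
      obtain ⟨c, rfl⟩ := isConj_iff.1 hz
      rw [← sq, conj_pow, ← he, pow_orderOf_eq_one, mul_one, mul_inv_cancel]
    set M := Subgroup.normalizer ((Q : Subgroup G) : Set G) with hMdef
    have hinv : ∀ i : G, i * i = 1 → i * (t * z) * i⁻¹ = (t * z)⁻¹ → i ∈ M := by
      intro i hi h
      have hiinv : i⁻¹ = i := inv_eq_of_mul_eq_one_right hi
      rw [hMdef, ← hQz, Subgroup.mem_normalizer_iff]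
      have hmap : ∀ y ∈ Subgroup.zpowers (t * z), i * y * i⁻¹ ∈ Subgroup.zpowers (t * z) := by
        rintro _ ⟨j, rfl⟩
        exact ⟨-j, by rw [← conj_zpow, h, inv_zpow', ]⟩
      refine fun y => ⟨hmap y, fun hy => ?_⟩
      have := hmap _ hy
      rw [hiinv] at this
      rwa [show i * (i * y * i) * i = y by rw [← mul_assoc, ← mul_assoc, hi, one_mul, mul_assoc, hi, mul_one]] at this
    have htinv : t⁻¹ = t := inv_eq_of_mul_eq_one_right htt
    have hzinv : z⁻¹ = z := inv_eq_of_mul_eq_one_right hzz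
    have htM : t ∈ M := hinv t htt (by
      rw [mul_inv_rev, hzinv, htinv, ← mul_assoc, htt, one_mul])
    have hzM : z ∈ M := hinv z hzz (by
      rw [mul_inv_rev, hzinv, htinv, mul_assoc z, mul_assoc t, hzz, mul_one])
    have hMcard : Nat.card M = 2 * p := by
      obtain ⟨c, hc⟩ := MulAction.exists_smul_eq G P Q
      rw [hMdef, ← hc, Sylow.coe_subgroup_smul, ← hN]
      exact (Nat.card_congr ((Subgroup.equivSMul (MulAut.conj c) N).toEquiv.trans
        (MulEquiv.subgroupCongr (Subgroup.map_equiv_normalizer_eq (P : Subgroup G)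
          (MulAut.conj c))).toEquiv)).symm
    haveI : Fact (Nat.Prime 2) := ⟨Nat.prime_two⟩
    have h2 : ∀ S : Sylow 2 M, Nat.card (S : Subgroup M) = 2 := by
      intro S
      rw [Sylow.card_eq_multiplicity, hMcard, Nat.factorization_mul two_ne_zero hp.out.ne_zero,
        Finsupp.add_apply, Nat.prime_two.factorization_self,
        Nat.factorization_eq_zero_of_not_dvd (by omega), add_zero, pow_one]
    have hSof : ∀ y : M, orderOf y = 2 → ∃ S : Sylow 2 M, (S : Subgroup M) = Subgroup.zpowers y := by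
      intro y hy
      obtain ⟨S, hS⟩ := (IsPGroup.of_card (n := 1) (G := Subgroup.zpowers y)
        (by rw [Nat.card_zpowers, hy, pow_one])).exists_le_sylow
      exact ⟨S, (Subgroup.eq_of_le_of_card_ge hS (by rw [Nat.card_zpowers, hy, h2 S])).symm⟩
    obtain ⟨S₁, hS₁⟩ := hSof ⟨t, htM⟩ (by rw [Subgroup.orderOf_mk, ht])
    obtain ⟨S₂, hS₂⟩ := hSof ⟨z, hzM⟩ (by
      rw [Subgroup.orderOf_mk]
      obtain ⟨c, rfl⟩ := isConj_iff.1 hz
      exact (orderOf_injective (MulAut.conj c).toMonoidHom (MulEquiv.injective _) e).trans he)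
    obtain ⟨c, hc⟩ := MulAction.exists_smul_eq M S₁ S₂
    have hmem : MulAut.conj c (⟨t, htM⟩ : M) ∈ (S₂ : Subgroup M) := by
      rw [← hc, Sylow.coe_subgroup_smul, hS₁]
      exact Subgroup.smul_mem_pointwise_smul _ _ _ (Subgroup.mem_zpowers _)
    rw [hS₂] at hmem
    obtain ⟨j, hj⟩ := hmem
    have hj' : (c : G) * t * (c : G)⁻¹ = z ^ j := by
      have := congrArg Subtype.val hj
      simpa using this.symm
    rcases Int.even_or_odd j with ⟨l, rfl⟩ | ⟨l, rfl⟩
    · rw [← two_mul, zpow_mul, zpow_two, hzz, one_zpow, conj_eq_one_iff] at hj'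
      rw [hj', orderOf_one] at ht
      exact absurd ht (by norm_num)
    · rw [zpow_add, zpow_mul, zpow_two, hzz, one_zpow, one_mul, zpow_one] at hj'
      exact hconj ((isConj_iff.2 ⟨(c : G), hj'⟩ : IsConj t z).trans hz.symm)
  -- evaluate the class structure constant
  have hzero : ∑ ψ : IrrCharacter G,
      (ψ : G → ℂ) t * (ψ : G → ℂ) e * starRingEnd ℂ ((ψ : G → ℂ) x) / (ψ : G → ℂ) 1 = 0 := by
    have hk : (Nat.card {y : G // IsConj e y} : ℂ) ≠ 0 := by
      haveI : Nonempty {y : G // IsConj e y} := ⟨⟨e, IsConj.refl e⟩⟩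
      exact Nat.cast_ne_zero.mpr Nat.card_pos.ne'
    refine (mul_eq_zero.1 (?_ : (Nat.card {y : G // IsConj e y} : ℂ) * _ = 0)).resolve_left hk
    rw [Finset.mul_sum]
    calc _ = ∑ ψ : IrrCharacter G, ∑ y : G, (if IsConj e y then
          (ψ : G → ℂ) (t * y) * starRingEnd ℂ ((ψ : G → ℂ) x) else 0) := ?_
      _ = 0 := ?_
    · refine Finset.sum_congr rfl fun ψ _ => ?_
      simp only [← ite_zero_mul, ← Finset.sum_mul, sum_translate_class ψ.2 t e]
      ring
    · rw [Finset.sum_comm]
      refine Finset.sum_eq_zero fun y _ => ?_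
      split_ifs with hy
      · rw [second_orthogonality, if_neg]
        intro hc
        refine hno y hy ?_
        obtain ⟨c, hc⟩ := isConj_iff.1 hc
        rw [← hc]
        exact (orderOf_injective (MulAut.conj c).toMonoidHom (MulEquiv.injective _) x).trans hx
      · simp
  have hsupp : ∀ w : IrrCharacter G → ℂ, (∀ ψ : IrrCharacter G, (ψ : G → ℂ) x = 0 → w ψ = 0) →
      ∑ ψ, w ψ = w (principal G) + (w χ₀ + ∑ θ ∈ Y, w θ) := by
    intro w hw
    rw [← Finset.sum_subset (Finset.subset_univ (insert (principal G) (insert χ₀ Y))) (fun ψ _ h => by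
      simp only [Finset.mem_insert, not_or] at h
      exact hw ψ (hvan ψ h.2.2 h.1 h.2.1 x hx)), Finset.sum_insert (by simp [hpY, Ne.symm hχ₀one]),
      Finset.sum_insert hχY]
  have hχx : (χ₀ : G → ℂ) x = -1 := by rw [hχ₀, fx_eq_zero hα hx]; simp
  have hχ1 : (χ₀ : G → ℂ) 1 = (p : ℂ) - 1 := by rw [hχ₀, fx_one, hα]
  have hθ1 : ∀ θ ∈ Y, (θ : G → ℂ) 1 = (p : ℂ) - 2 := fun θ h => by
    rw [hθ θ h 1 (by rw [orderOf_one]; exact hp.out.ne_one.symm), fx_one, hα]
  have hp2C : (p : ℂ) - 2 ≠ 0 := by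
    rw [sub_ne_zero]; norm_cast; omega
  have hS : ∑ θ ∈ Y, starRingEnd ℂ ((θ : G → ℂ) x) = 1 := by
    have h := second_orthogonality (G := G) 1 x
    rw [if_neg (fun hc => by
      rw [isConj_one_left] at hc
      rw [hc, orderOf_one] at hx
      exact hp.out.ne_one hx.symm), hsupp _ (fun ψ h => by rw [h, map_zero, mul_zero]),
      hχx, hχ1, principal_apply, principal_apply, map_one, map_neg, map_one,
      Finset.sum_congr rfl fun θ h => by rw [hθ1 θ h], ← Finset.mul_sum] at h
    refine mul_left_cancel₀ hp2C ?_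
    linear_combination h
  have hne : ∀ {g : G}, orderOf g = 2 → orderOf g ≠ p := fun h => by omega
  rw [hsupp _ (fun ψ h => by rw [h, map_zero, mul_zero, zero_div]), hχ₀ t, hft, Nat.cast_one,
    sub_self, zero_mul, zero_mul, zero_div, zero_add,
    principal_apply, principal_apply, principal_apply, principal_apply, map_one, one_mul, one_mul,
    div_one, Finset.sum_congr rfl fun θ h => by
      rw [hθ θ h t (hne ht), hθ θ h e (hne he), hθ1 θ h, hft], ← Finset.sum_div,
    ← Finset.mul_sum, hS, mul_one] at hzero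
  have hfe : fx e = p := by
    field_simp at hzero
    have : (fx e : ℂ) = (p : ℂ) := by push_cast at hzero; linear_combination -hzero
    exact_mod_cast this
  have he1 : e = 1 := by
    refine eq_of_smul_eq_smul (α := α) fun a => ?_
    have huniv : fixedBy α e = Set.univ :=
      Set.eq_of_subset_of_ncard_le (Set.subset_univ _) (le_of_eq (by
        rw [Set.ncard_univ, Nat.card_eq_fintype_card, hα, ← Nat.card_coe_set_eq]
        exact hfe.symm))
    rw [one_smul]
    exact (Set.eq_univ_iff_forall.1 huniv a : a ∈ fixedBy α e)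
  rw [he1, orderOf_one] at he
  norm_num at he

end CfsgLib.Perm.DihedralPrime
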