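import Mathlib

/-!
`k`-homogeneous groups are `(k-1)`-homogeneous when the degree is not too small.
-/

set_option autoImplicit false

open Finset
open scoped Pointwise

namespace CfsgLib.Perm.Homog

variable {α : Type*} [Fintype α] [DecidableEq α]

theorem card_supersets {k : ℕ} (U : Finset α) (hU : U.card ≤ k) :
    ((univ : Finset α).powersetCard k |>.filter fun B => U ⊆ B).card =
      (Fintype.card α - U.card).choose (k - U.card) := by
  rw [← card_compl, ← card_powersetCard]
  refine card_bij' (fun B _ => B \ U) (fun B _ => B ∪ U) ?_ ?_ ?_ ?_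
  · intro B hB
    simp only [mem_filter, mem_powersetCard] at hB
    rw [mem_powersetCard, card_sdiff_of_subset hB.2, hB.1.2]
    exact ⟨fun x hx => mem_compl.2 (mem_sdiff.1 hx).2, rfl⟩
  · intro B hB
    rw [mem_powersetCard] at hB
    simp only [mem_filter, mem_powersetCard]
    refine ⟨⟨subset_univ _, ?_⟩, subset_union_right⟩
    rw [card_union_of_disjoint (disjoint_left.2 fun x hx => mem_compl.1 (hB.1 hx)), hB.2,
      Nat.sub_add_cancel hU]
  · intro B hB
    simp only [mem_filter] at hB
    exact sdiff_union_of_subset hB.2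
  · intro B hB
    rw [mem_powersetCard] at hB
    exact union_sdiff_cancel_right (disjoint_left.2 fun x hx => mem_compl.1 (hB.1 hx))

/-- A family of `(k-1)`-sets meeting every `k`-set in `a` members is a uniform design on `j`-sets, `j ≤ n - k`. -/
theorem design_uniform {k a : ℕ} (hk : 1 ≤ k) (hkn : k ≤ Fintype.card α) (O : Finset (Finset α))
    (hO : ∀ T ∈ O, T.card = k - 1)
    (ha : ∀ B : Finset α, B.card = k → (O.filter fun T => T ⊆ B).card = a) :
    ∀ j, j ≤ Fintype.card α - k → j ≤ k - 1 → ∀ S : Finset α, S.card = j →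
      k * (O.filter fun T => S ⊆ T).card = a * (Fintype.card α - j).choose (k - 1 - j) := by
  intro j
  induction j using Nat.strong_induction_on with
  | _ j ih =>
  intro hj hjk S hS
  set n := Fintype.card α with hn
  set l := (O.filter fun T => S ⊆ T).card with hl
  have hdc : ∑ B ∈ (univ : Finset α).powersetCard k |>.filter (fun B => S ⊆ B), (O.filter fun T => T ⊆ B).card =
      ∑ T ∈ O, ((univ : Finset α).powersetCard k |>.filter fun B => S ∪ T ⊆ B).card := by
    simp only [card_filter, sum_filter]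
    rw [sum_comm]
    refine sum_congr rfl fun B hB => ?_
    by_cases h : S ⊆ B
    · simp only [h, if_true, union_subset_iff, true_and]
    · simp only [h, if_false, union_subset_iff, false_and, sum_const_zero]
  rw [sum_congr rfl fun B hB => ha B (mem_powersetCard.1 (mem_filter.1 hB).1).2, sum_const, smul_eq_mul,
    card_supersets S (by omega), hS, ← hn] at hdc
  have hT : ∀ T ∈ O, ((univ : Finset α).powersetCard k |>.filter fun B => S ∪ T ⊆ B).card +
      j * (if S ⊆ T then 1 else 0) = (n - (k - 1)) * (if S ⊆ T then 1 else 0) +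
        ∑ x ∈ S, if S.erase x ⊆ T then 1 else 0 := by
    intro T hT
    have hu : (S ∪ T).card = (k - 1) + (S \ T).card := by
      rw [union_comm, ← union_sdiff_self_eq_union, card_union_of_disjoint disjoint_sdiff, hO T hT]
    have hx : ∀ x ∈ S, (S.erase x ⊆ T ↔ S \ T ⊆ {x}) := fun x hx => by
      constructor
      · intro h y hy
        rw [mem_sdiff] at hy
        by_contra hne
        exact hy.2 (h (mem_erase.2 ⟨fun e => hne (mem_singleton.2 e), hy.1⟩))
      · intro h y hy
        rw [mem_erase] at hy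
        by_contra hne
        exact hy.1 (mem_singleton.1 (h (mem_sdiff.2 ⟨hy.2, hne⟩)))
    by_cases hST : S ⊆ T
    · have h0 : S \ T = ∅ := sdiff_eq_empty_iff_subset.2 hST
      rw [card_supersets _ (by rw [hu, h0, card_empty]; omega), hu, h0, card_empty, ← hn]
      simp only [hST, if_true, Nat.add_zero, mul_one, show k - (k - 1) = 1 by omega, Nat.choose_one_right]
      rw [sum_congr rfl (fun x hx' => if_pos ((hx x hx').2 (by rw [h0]; exact empty_subset _))), sum_const,
        hS, smul_eq_mul, mul_one]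
    · simp only [hST, if_false, mul_zero, Nat.add_zero, Nat.zero_add]
      have h0 : 1 ≤ (S \ T).card := card_pos.2 (Finset.nonempty_iff_ne_empty.2 fun e =>
        hST (sdiff_eq_empty_iff_subset.1 e))
      by_cases h1 : (S \ T).card = 1
      · obtain ⟨y, hy⟩ := card_eq_one.1 h1
        have hyS : y ∈ S := (mem_sdiff.1 (hy ▸ mem_singleton_self y)).1
        rw [card_supersets _ (by omega), hu, h1, show k - (k - 1 + 1) = 0 by omega, Nat.choose_zero_right,
          sum_eq_single y ?_ (fun h => absurd hyS h), if_pos ((hx y hyS).2 hy.le)]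
        intro x hx' hne
        rw [if_neg]
        intro h
        have := (hx x hx').1 h
        rw [hy, singleton_subset_singleton] at this
        exact hne this.symm
      · rw [card_eq_zero.2 (filter_eq_empty_iff.2 fun B hB h => by
          have := card_le_card h
          rw [(mem_powersetCard.1 hB).2] at this
          omega), sum_eq_zero]
        intro x hx'
        rw [if_neg]
        intro h
        have := card_le_card ((hx x hx').1 h)
        rw [card_singleton] at this
        omega
  have hsum := sum_congr (s₁ := O) rfl hT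
  rw [sum_add_distrib, sum_add_distrib, ← mul_sum, ← mul_sum, sum_boole, sum_comm, ← hdc] at hsum
  simp only [sum_boole, Nat.cast_id] at hsum
  rw [← hl] at hsum
  rcases Nat.eq_zero_or_pos j with hj0 | hj0
  · subst hj0
    rw [card_eq_zero.1 hS, sum_empty] at hsum
    simp only [Nat.zero_mul, Nat.add_zero, Nat.sub_zero] at hsum ⊢
    have h1 := Nat.choose_succ_right_eq n (k - 1)
    rw [show k - 1 + 1 = k by omega] at h1
    refine Nat.eq_of_mul_eq_mul_right (show 0 < n - (k - 1) by omega) ?_
    calc k * l * (n - (k - 1)) = k * (n.choose k * a) := by rw [hsum]; ring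
      _ = _ := by rw [mul_comm (n.choose k) a, ← mul_assoc, mul_comm k a, mul_assoc, mul_comm k, h1, ← mul_assoc]
  have hih : ∀ x ∈ S, k * (O.filter fun T => S.erase x ⊆ T).card =
      a * (n - (j - 1)).choose (k - 1 - (j - 1)) := fun x hx =>
    ih (j - 1) (by omega) (by omega) (by omega) _ (by rw [card_erase_of_mem hx, hS])
  have hsg : k * ∑ x ∈ S, (O.filter fun T => S.erase x ⊆ T).card = j * (a * (n - (j - 1)).choose (k - 1 - (j - 1))) := by
    rw [mul_sum, sum_congr rfl hih, sum_const, hS, smul_eq_mul]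
  have hp := Nat.choose_succ_succ (n - j) (k - 1 - j)
  rw [Nat.succ_eq_add_one, Nat.succ_eq_add_one, show n - j + 1 = n - (j - 1) by omega,
    show k - 1 - j + 1 = k - j by omega] at hp
  rw [show k - 1 - (j - 1) = k - j by omega, hp] at hsg
  have h1 := Nat.choose_succ_right_eq (n - j) (k - 1 - j)
  rw [show k - 1 - j + 1 = k - j by omega] at h1
  have e1 : ((n - (k - 1) : ℕ) : ℤ) = n - k + 1 := by omega
  have e2 : ((n - j - (k - 1 - j) : ℕ) : ℤ) = n - k + 1 := by omega
  have e3 : ((k - j : ℕ) : ℤ) = k - j := by omega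
  have hsumZ := congrArg (Nat.cast : ℕ → ℤ) hsum
  have hsgZ := congrArg (Nat.cast : ℕ → ℤ) hsg
  have h1Z := congrArg (Nat.cast : ℕ → ℤ) h1
  push_cast [e1] at hsumZ
  push_cast at hsgZ
  push_cast [e2, e3] at h1Z
  have hpos : ((n : ℤ) - k + 1 - j) ≠ 0 := by omega
  have key : ((n : ℤ) - k + 1 - j) * ((k : ℤ) * l) =
      ((n : ℤ) - k + 1 - j) * ((a : ℤ) * (n - j).choose (k - 1 - j)) := by
    linear_combination (-(k : ℤ)) * hsumZ - hsgZ + (a : ℤ) * h1Z
  exact_mod_cast mul_left_cancel₀ hpos key

/-- Such a family has `k ∣ a`. -/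
theorem dvd_of_design {k a : ℕ} (hk : 1 ≤ k) (hkn : k ≤ Fintype.card α) (O : Finset (Finset α))
    (hO : ∀ T ∈ O, T.card = k - 1)
    (ha : ∀ B : Finset α, B.card = k → (O.filter fun T => T ⊆ B).card = a)
    (hq : ∀ q : ℕ, IsPrimePow q → q ∣ k → k + q - 1 ≤ Fintype.card α) : k ∣ a := by
  set n := Fintype.card α with hn
  set d := n - k + 1 with hd
  have hP : ∀ t, t < d → ∀ s, s + t < d → k ∣ a * (k + s).choose (d - t) := by
    intro t
    induction t with
    | zero =>
      intro _ s hs
      by_cases hle : n - k - s ≤ k - 1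
      · obtain ⟨S, -, hS⟩ := exists_subset_card_eq (s := (univ : Finset α)) (n := n - k - s)
          (by rw [card_univ]; omega)
        have h := design_uniform hk hkn O hO ha (n - k - s) (by omega) hle S hS
        rw [← hn, show n - (n - k - s) = k + s by omega] at h
        rw [Nat.sub_zero, ← Nat.choose_symm (by omega), show k + s - d = k - 1 - (n - k - s) by omega]
        exact ⟨_, h.symm⟩
      · rw [Nat.sub_zero, Nat.choose_eq_zero_of_lt (by omega), mul_zero]
        exact dvd_zero k
    | succ t ih =>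
      intro ht s hs
      have h1 := ih (by omega) (s + 1) (by omega)
      have h0 := ih (by omega) s (by omega)
      rw [← add_assoc, show d - t = d - (t + 1) + 1 by omega, Nat.choose_succ_succ', mul_add] at h1
      rw [show d - t = d - (t + 1) + 1 by omega] at h0
      exact (Nat.dvd_add_left h0).1 h1
  refine (Nat.dvd_iff_prime_pow_dvd_dvd _ _).2 fun p e hp hpe => ?_
  rcases Nat.eq_zero_or_pos e with rfl | he
  · exact one_dvd _
  obtain ⟨i, m, hm, hkm⟩ := Nat.exists_eq_pow_mul_and_not_dvd (show k ≠ 0 by omega) p hp.ne_one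
  haveI := Fact.mk hp
  have hei : e ≤ i := by
    by_contra hlt
    obtain ⟨c, hc⟩ := (pow_dvd_pow p (show i + 1 ≤ e by omega)).trans hpe
    rw [hkm, pow_succ, mul_assoc] at hc
    exact hm ⟨c, Nat.eq_of_mul_eq_mul_left (pow_pos hp.pos i) hc⟩
  have hqk : p ^ i ∣ k := ⟨m, hkm⟩
  have hqd := hq (p ^ i) ⟨p, i, hp.prime, by omega, rfl⟩ hqk
  have hpos := pow_pos hp.pos i
  have h := hP (d - p ^ i) (by omega) 0 (by omega)
  rw [Nat.add_zero, show d - (d - p ^ i) = p ^ i by omega] at h
  have hnd : ¬ p ∣ k.choose (p ^ i) := by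
    intro h'
    have hc := Choose.choose_pow_mul_pow_mul_modEq_choose_nat (p := p) (k := i) (a := m) (b := 1)
    rw [mul_one, ← hkm, Nat.choose_one_right] at hc
    exact hm ((Nat.ModEq.dvd_iff hc dvd_rfl).1 h')
  exact (pow_dvd_pow p hei).trans (((Nat.Prime.coprime_iff_not_dvd hp).2 hnd).pow_left i |>.dvd_of_dvd_mul_right
    (hqk.trans h))

/-- A `k`-homogeneous group is `(k-1)`-homogeneous. -/
theorem pred_homogeneous {G : Type*} [Group G] [MulAction G α] {k : ℕ} (hk : 1 ≤ k) (hkn : k ≤ Fintype.card α)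
    (hG : ∀ B C : Finset α, B.card = k → C.card = k → ∃ g : G, g • B = C)
    (hq : ∀ q : ℕ, IsPrimePow q → q ∣ k → k + q - 1 ≤ Fintype.card α)
    (S T : Finset α) (hS : S.card = k - 1) (hT : T.card = k - 1) : ∃ g : G, g • S = T := by
  classical
  let O := ((univ : Finset α).powersetCard (k - 1)).filter fun U => ∃ g : G, g • S = U
  obtain ⟨B₀, hSB, hB₀⟩ := exists_superset_card_eq (s := S) (n := k) (by omega) hkn
  have hO : ∀ U ∈ O, U.card = k - 1 := fun U hU => (mem_powersetCard.1 (mem_filter.1 hU).1).2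
  have hmem : ∀ (g : G) U, U ∈ O → g • U ∈ O := fun g U hU => by
    obtain ⟨hc, h, hh⟩ := mem_filter.1 hU
    refine mem_filter.2 ⟨mem_powersetCard.2 ⟨subset_univ _, by rw [card_smul_finset, (mem_powersetCard.1 hc).2]⟩,
      g * h, by rw [mul_smul, hh]⟩
  have hle : ∀ B C : Finset α, B.card = k → C.card = k →
      (O.filter fun U => U ⊆ B).card ≤ (O.filter fun U => U ⊆ C).card := fun B C hB hC => by
    obtain ⟨g, rfl⟩ := hG B C hB hC
    refine card_le_card_of_injOn (fun U => g • U) (fun U hU => ?_) (MulAction.injective g).injOn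
    rw [mem_coe, mem_filter] at hU ⊢
    exact ⟨hmem g U hU.1, smul_finset_subset_smul_finset hU.2⟩
  set a := (O.filter fun U => U ⊆ B₀).card with hadef
  have ha : ∀ B : Finset α, B.card = k → (O.filter fun U => U ⊆ B).card = a := fun B hB =>
    le_antisymm (hle B B₀ hB hB₀) (hle B₀ B hB₀ hB)
  have hapos : 0 < a := card_pos.2 ⟨S, mem_filter.2 ⟨mem_filter.2 ⟨mem_powersetCard.2 ⟨subset_univ _, hS⟩,
    1, one_smul _ _⟩, hSB⟩⟩
  obtain ⟨B, hTB, hB⟩ := exists_superset_card_eq (s := T) (n := k) (by omega) hkn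
  have hsub : (O.filter fun U => U ⊆ B) ⊆ B.powersetCard (k - 1) := fun U hU =>
    mem_powersetCard.2 ⟨(mem_filter.1 hU).2, hO U (mem_filter.1 hU).1⟩
  have hcard : (B.powersetCard (k - 1)).card = k := by
    rw [card_powersetCard, hB, ← Nat.choose_symm (by omega), show k - (k - 1) = 1 by omega, Nat.choose_one_right]
  have hale : a ≤ k := ha B hB ▸ hcard ▸ card_le_card hsub
  have hak : a = k := le_antisymm hale (Nat.le_of_dvd hapos (dvd_of_design hk hkn O hO ha hq))
  have heq := eq_of_subset_of_card_le hsub (by rw [hcard, ha B hB, hak])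
  have hTO : T ∈ O.filter fun U => U ⊆ B := heq ▸ mem_powersetCard.2 ⟨hTB, hT⟩
  exact (mem_filter.1 (mem_filter.1 hTO).1).2

end CfsgLib.Perm.Homog
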