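import Cfsg.Agent.Lib.Chars.Misc

/-!
The isotypic projections of a complex representation and the multiplicity-free criterion.
-/

set_option autoImplicit false

namespace CfsgLib.Perm.Isotypic

open Module Cfsg
open scoped ComplexConjugate

universe u v

variable {G : Type u} [Group G] [Fintype G]
variable {V : Type v} [AddCommGroup V] [Module ℂ V]

/-- The projection onto the `χ`-isotypic part. -/
noncomputable def proj (ρ : Representation ℂ G V) (χ : IrrCharacter G) : V →ₗ[ℂ] V :=
  ((χ : G → ℂ) 1 / (Nat.card G : ℂ)) • CfsgLib.Chars.avgOp ρ (χ : G → ℂ)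

variable (ρ : Representation ℂ G V)

theorem proj_comm (χ : IrrCharacter G) (h : G) (x : V) : proj ρ χ (ρ h x) = ρ h (proj ρ χ x) := by
  rw [proj, LinearMap.smul_apply, LinearMap.smul_apply,
    CfsgLib.Chars.avgOp_comm ρ (CfsgLib.Chars.isClassFunction_irr χ), map_smul]

/-- The projections commute with every intertwining endomorphism. -/
theorem proj_commute {S : V →ₗ[ℂ] V} (hS : ∀ g x, S (ρ g x) = ρ g (S x)) (χ : IrrCharacter G) (x : V) :
    S (proj ρ χ x) = proj ρ χ (S x) := by
  simp only [proj, LinearMap.smul_apply, map_smul, CfsgLib.Chars.avgOp_apply, map_sum, hS]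

theorem sum_proj [Fintype (IrrCharacter G)] (x : V) : ∑ χ, proj ρ χ x = x := by
  classical
  simp only [proj, LinearMap.smul_apply, CfsgLib.Chars.avgOp_apply, Finset.smul_sum, smul_smul]
  rw [Finset.sum_comm]
  simp only [← Finset.sum_smul, div_mul_eq_mul_div, ← Finset.sum_div, CfsgLib.Chars.sum_degree_mul]
  rw [Finset.sum_eq_single 1]
  · simp [div_self (CfsgLib.Chars.card_ne_zero G)]
  · intro g _ hg; simp [hg]
  · simp

variable [FiniteDimensional ℂ V]

theorem proj_of_irr [DecidableEq (IrrCharacter G)] [ρ.IsIrreducible] (χ : IrrCharacter G) :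
    proj ρ χ = (if χ = (⟨ρ.character, CfsgLib.Chars.isIrrCharacter_character ρ⟩ : IrrCharacter G) then 1 else 0 : ℂ) •
      LinearMap.id := by
  obtain ⟨c, hc, hc'⟩ := CfsgLib.Chars.avgOp_eq_scalar ρ (CfsgLib.Chars.isClassFunction_irr χ)
  have hi := CfsgLib.Chars.inner_irr χ (⟨ρ.character, CfsgLib.Chars.isIrrCharacter_character ρ⟩ : IrrCharacter G)
  rw [proj, hc, smul_smul]
  congr 1
  have hn : (finrank ℂ V : ℂ) ≠ 0 :=
    Nat.cast_ne_zero.mpr (CfsgLib.Chars.finrank_pos_of_isIrreducible ρ).ne'
  rw [hi] at hc'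
  split_ifs at hc' ⊢ with h
  · rw [div_mul_eq_mul_div, div_eq_one_iff_eq (CfsgLib.Chars.card_ne_zero G)]
    have h1 : (χ : G → ℂ) 1 = (finrank ℂ V : ℂ) := by rw [h]; exact Representation.char_one ρ
    rw [h1, mul_comm, hc', mul_one]
  · rw [mul_zero] at hc'
    rw [(mul_eq_zero.1 hc').resolve_right hn, mul_zero]

theorem proj_proj [DecidableEq (IrrCharacter G)] (χ ψ : IrrCharacter G) (x : V) :
    proj ρ χ (proj ρ ψ x) = if χ = ψ then proj ρ χ x else 0 := by
  have key : ∀ x : V, proj ρ χ (proj ρ ψ x) = if χ = ψ then proj ρ χ x else 0 := by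
    refine CfsgLib.Chars.rep_induction (P := fun V _ _ _ ρ =>
      ∀ x : V, proj ρ χ (proj ρ ψ x) = if χ = ψ then proj ρ χ x else 0) ?_ ?_ ?_ V ρ
    · intro V _ _ _ ρ _ x; exact Subsingleton.elim _ _
    · intro V _ _ _ ρ hρ x
      rw [proj_of_irr ρ χ, proj_of_irr ρ ψ]
      simp only [LinearMap.smul_apply, LinearMap.id_apply, smul_smul]
      split_ifs <;> simp_all
    · intro V _ _ _ ρ U U' hc h1 h2 x
      have key : ∀ (W : Subrepresentation ρ),
          (∀ y : W.toSubmodule, proj W.toRepresentation χ (proj W.toRepresentation ψ y) =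
            if χ = ψ then proj W.toRepresentation χ y else 0) →
          ∀ y ∈ W.toSubmodule, proj ρ χ (proj ρ ψ y) = if χ = ψ then proj ρ χ y else 0 := by
        intro W hW y hy
        have e : ∀ (θ : IrrCharacter G) (z : W.toSubmodule),
            ((proj W.toRepresentation θ z : W.toSubmodule) : V) = proj ρ θ z := fun θ z => by
          simp [proj, CfsgLib.Chars.avgOp_apply, CfsgLib.Chars.toRepresentation_apply]
        have h := congrArg Subtype.val (hW ⟨y, hy⟩)
        rw [e, e] at h
        rw [h]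
        split_ifs
        · exact e χ _
        · rfl
      obtain ⟨a, ha, b, hb, rfl⟩ := Submodule.mem_sup.mp (show x ∈ U.toSubmodule ⊔ U'.toSubmodule by
        rw [hc.sup_eq_top]; trivial)
      rw [map_add, map_add, key U h1 a ha, key U' h2 b hb]
      split_ifs
      · rw [map_add]
      · rw [add_zero]
  exact key x

/-- The `χ`-isotypic part. -/
noncomputable def part (χ : IrrCharacter G) : Subrepresentation ρ where
  toSubmodule := LinearMap.range (proj ρ χ)
  apply_mem_toSubmodule g x := by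
    rintro ⟨y, rfl⟩
    exact ⟨ρ g y, proj_comm ρ χ g y⟩

theorem proj_eq_self {χ : IrrCharacter G} {x : V} (hx : x ∈ (part ρ χ).toSubmodule) :
    proj ρ χ x = x := by
  classical
  obtain ⟨y, rfl⟩ := hx
  rw [proj_proj, if_pos rfl]

theorem isProj (χ : IrrCharacter G) : LinearMap.IsProj (part ρ χ).toSubmodule (proj ρ χ) :=
  ⟨fun x => LinearMap.mem_range_self _ x, fun _ hx => proj_eq_self ρ hx⟩

theorem trace_proj (χ : IrrCharacter G) :
    LinearMap.trace ℂ V (proj ρ χ) = (χ : G → ℂ) 1 * classInner ρ.character χ := by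
  obtain ⟨m, hm⟩ := CfsgLib.Chars.inner_irr_right_nat (CfsgLib.Chars.isCharacter_character ρ) χ
  have h : classInner (χ : G → ℂ) ρ.character = classInner ρ.character χ := by
    rw [← CfsgLib.Chars.inner_conj, hm, map_natCast]
  rw [← h, proj, map_smul, smul_eq_mul, CfsgLib.Chars.avgOp, map_sum, CfsgLib.Chars.inner_def,
    div_mul_eq_mul_div, div_eq_mul_inv, mul_assoc, mul_comm _ (Nat.card G : ℂ)⁻¹]
  congr 2
  refine Finset.sum_congr rfl fun g _ => ?_
  rw [map_smul, smul_eq_mul, ← CfsgLib.Chars.character_inv]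
  rfl

theorem finrank_part (χ : IrrCharacter G) :
    (finrank ℂ (part ρ χ).toSubmodule : ℂ) = (χ : G → ℂ) 1 * classInner ρ.character χ := by
  rw [← trace_proj, (isProj ρ χ).trace]

omit [Fintype G] in
/-- A non-zero invariant subspace contains an irreducible one. -/
theorem exists_irr_le [Finite G] {W : Submodule ℂ V} (hW : ∀ g, ∀ x ∈ W, ρ g x ∈ W) (hW0 : W ≠ ⊥) :
    ∃ U : Subrepresentation ρ, U.toSubmodule ≤ W ∧ U.toRepresentation.IsIrreducible := by
  let W' : Subrepresentation ρ := ⟨W, fun g x hx => hW g x hx⟩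
  have : Nontrivial W'.toSubmodule := Submodule.nontrivial_iff_ne_bot.2 hW0
  obtain ⟨U, hU⟩ := CfsgLib.Chars.exists_irreducible_sub W'.toRepresentation
  let U₁ : Subrepresentation ρ := ⟨U.toSubmodule.map W'.toSubmodule.subtype, by
    rintro g _ ⟨x, hx, rfl⟩
    exact ⟨W'.toRepresentation g x, U.apply_mem_toSubmodule g hx, rfl⟩⟩
  refine ⟨U₁, Submodule.map_subtype_le _ _, ?_⟩
  let e : U.toRepresentation.Equiv U₁.toRepresentation :=
    Representation.Equiv.mk (Submodule.equivMapOfInjective _ Subtype.val_injective U.toSubmodule)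
      fun g => LinearMap.ext fun x => Subtype.ext rfl
  exact CfsgLib.Chars.isIrreducible_of_equiv e hU

/-- An irreducible subrepresentation inside the `χ`-part has character `χ`. -/
theorem character_of_le (χ : IrrCharacter G) (U : Subrepresentation ρ)
    (hU : U.toSubmodule ≤ (part ρ χ).toSubmodule) [U.toRepresentation.IsIrreducible] :
    U.toRepresentation.character = χ := by
  classical
  by_contra hne
  obtain ⟨x, hx⟩ := @exists_ne _ (CfsgLib.Chars.nontrivial_of_isIrreducible U.toRepresentation) 0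
  have h := proj_of_irr U.toRepresentation χ
  rw [if_neg (fun e => hne (congrArg Subtype.val e).symm), zero_smul] at h
  have h1 := congrArg Subtype.val (LinearMap.congr_fun h x)
  have e : ((proj U.toRepresentation χ x : U.toSubmodule) : V) = proj ρ χ x := by
    simp [proj, CfsgLib.Chars.avgOp_apply, CfsgLib.Chars.toRepresentation_apply]
  rw [e, proj_eq_self ρ (hU x.2)] at h1
  exact hx (Subtype.ext h1)

/-- An invariant subspace of the `χ`-part has dimension a multiple of the degree. -/
theorem degree_dvd_finrank (χ : IrrCharacter G) {f : ℕ} (hf : (χ : G → ℂ) 1 = f) {W : Submodule ℂ V}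
    (hW : ∀ g, ∀ x ∈ W, ρ g x ∈ W) (hle : W ≤ (part ρ χ).toSubmodule) : f ∣ finrank ℂ W := by
  let W' : Subrepresentation ρ := ⟨W, fun g x hx => hW g x hx⟩
  have hid : part W'.toRepresentation χ = ⊤ := by
    refine Subrepresentation.toSubmodule_injective (eq_top_iff.2 fun x _ => ⟨x, Subtype.ext ?_⟩)
    have e : ((proj W'.toRepresentation χ x : W'.toSubmodule) : V) = proj ρ χ x := by
      simp [proj, CfsgLib.Chars.avgOp_apply, CfsgLib.Chars.toRepresentation_apply]
    rw [e, proj_eq_self ρ (hle x.2)]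
  have h := finrank_part W'.toRepresentation χ
  obtain ⟨m, hm⟩ := CfsgLib.Chars.inner_irr_right_nat
    (CfsgLib.Chars.isCharacter_character W'.toRepresentation) χ
  rw [hid, hm, hf] at h
  refine ⟨m, ?_⟩
  have h' : finrank ℂ (⊤ : Submodule ℂ W'.toSubmodule) = f * m := by exact_mod_cast h
  rwa [finrank_top] at h'

/-- In a multiplicity-free representation an intertwining map is scalar on every isotypic part. -/
theorem scalar_on_part (χ : IrrCharacter G)
    (hm : classInner ρ.character χ = 0 ∨ classInner ρ.character χ = 1)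
    {S : V →ₗ[ℂ] V} (hS : ∀ g x, S (ρ g x) = ρ g (S x)) :
    ∃ c : ℂ, ∀ x, S (proj ρ χ x) = c • proj ρ χ x := by
  classical
  rcases eq_or_ne (part ρ χ).toSubmodule ⊥ with h0 | h0
  · refine ⟨0, fun x => ?_⟩
    have : proj ρ χ x = 0 := (Submodule.mem_bot ℂ).1 (h0 ▸ LinearMap.mem_range_self (proj ρ χ) x)
    rw [this, map_zero, smul_zero]
  obtain ⟨U, hU, hUi⟩ := exists_irr_le ρ (part ρ χ).apply_mem_toSubmodule h0
  obtain ⟨d, -, hd⟩ := CfsgLib.Chars.irr_degree_nat χ.2
  have hUd : finrank ℂ U.toSubmodule = d := by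
    have := congrFun (character_of_le ρ χ U hU) 1
    rw [Representation.char_one, hd] at this
    exact_mod_cast this
  have hle : finrank ℂ (part ρ χ).toSubmodule ≤ finrank ℂ U.toSubmodule := by
    have h := finrank_part ρ χ
    rw [hd] at h
    rcases hm with hm | hm <;> rw [hm] at h
    · rw [mul_zero, Nat.cast_eq_zero] at h; omega
    · rw [mul_one, Nat.cast_inj] at h; omega
  have heq : U.toSubmodule = (part ρ χ).toSubmodule := Submodule.eq_of_le_of_finrank_le hU hle
  have hmaps : ∀ x ∈ U.toSubmodule, S x ∈ U.toSubmodule := fun x hx => by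
    rw [heq] at hx ⊢
    rw [← proj_eq_self ρ hx, proj_commute ρ hS]
    exact LinearMap.mem_range_self _ _
  let T : U.toRepresentation.IntertwiningMap U.toRepresentation :=
    LinearMap.intertwiningMap_of_isIntertwiningMap _ _ (S.restrict hmaps) fun g x => Subtype.ext (hS g x)
  obtain ⟨c, hc⟩ :=
    (Representation.IsIrreducible.algebraMap_intertwiningMap_bijective_of_isAlgClosed
      (ρ := U.toRepresentation)).2 T
  refine ⟨c, fun x => ?_⟩
  have hx : proj ρ χ x ∈ U.toSubmodule := heq ▸ LinearMap.mem_range_self (proj ρ χ) x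
  have h2 : T ⟨_, hx⟩ = (algebraMap ℂ (U.toRepresentation.IntertwiningMap U.toRepresentation) c) ⟨_, hx⟩ := by
    rw [hc]
  have h3 : S.restrict hmaps ⟨_, hx⟩ = c • (⟨_, hx⟩ : U.toSubmodule) := by simpa [T] using h2
  exact congrArg Subtype.val h3

/-- Intertwining maps of a multiplicity-free representation commute. -/
theorem commute_of_multFree (hm : ∀ χ : IrrCharacter G, classInner ρ.character χ = 0 ∨ classInner ρ.character χ = 1)
    {S T : V →ₗ[ℂ] V} (hS : ∀ g x, S (ρ g x) = ρ g (S x)) (hT : ∀ g x, T (ρ g x) = ρ g (T x)) :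
    S ∘ₗ T = T ∘ₗ S := by
  have := CfsgLib.Chars.irrFintype G
  refine LinearMap.ext fun x => ?_
  conv_lhs => rw [← sum_proj ρ x]
  conv_rhs => rw [← sum_proj ρ x]
  simp only [map_sum, LinearMap.comp_apply]
  refine Finset.sum_congr rfl fun χ _ => ?_
  obtain ⟨c, hc⟩ := scalar_on_part ρ χ (hm χ) hS
  obtain ⟨c', hc'⟩ := scalar_on_part ρ χ (hm χ) hT
  rw [hc', hc, map_smul, map_smul, hc, hc', smul_smul, smul_smul, mul_comm]

/-- If the intertwining maps commute the representation is multiplicity free. -/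
theorem multFree_of_commute
    (hcomm : ∀ S T : V →ₗ[ℂ] V, (∀ g x, S (ρ g x) = ρ g (S x)) → (∀ g x, T (ρ g x) = ρ g (T x)) →
      S ∘ₗ T = T ∘ₗ S) (χ : IrrCharacter G) :
    classInner ρ.character χ = 0 ∨ classInner ρ.character χ = 1 := by
  classical
  obtain ⟨m, hm⟩ := CfsgLib.Chars.inner_irr_right_nat (CfsgLib.Chars.isCharacter_character ρ) χ
  by_contra hne
  push Not at hne
  have hm2 : 2 ≤ m := by
    rcases Nat.lt_or_ge m 2 with h | h
    · exfalso
      interval_cases m
      · exact hne.1 (by rw [hm, Nat.cast_zero])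
      · exact hne.2 (by rw [hm, Nat.cast_one])
    · exact h
  have h0 : (part ρ χ).toSubmodule ≠ ⊥ := fun h => by
    have := finrank_part ρ χ
    rw [h, finrank_bot, Nat.cast_zero, hm] at this
    exact mul_ne_zero (CfsgLib.Chars.irr_degree_ne_zero χ.2) (Nat.cast_ne_zero.2 (by omega)) this.symm
  obtain ⟨U, hU, hUi⟩ := exists_irr_le ρ (part ρ χ).apply_mem_toSubmodule h0
  have hUχ := character_of_le ρ χ U hU
  obtain ⟨U', hc⟩ := CfsgLib.Chars.exists_isCompl_sub ρ U
  have hin : classInner U'.toRepresentation.character χ = (m : ℂ) - 1 := by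
    rw [← hm, CfsgLib.Chars.char_add_of_isCompl ρ U U' hc, CfsgLib.Chars.inner_add_left, hUχ,
      CfsgLib.Chars.inner_irr_self]
    ring
  have hpos : 0 < finrank ℂ (U'.toRepresentation.IntertwiningMap U.toRepresentation) := by
    have h1 : classInner U.toRepresentation.character U'.toRepresentation.character = (m : ℂ) - 1 := by
      rw [hUχ, ← CfsgLib.Chars.inner_conj, hin]; simp
    rw [CfsgLib.Chars.inner_character, show (m : ℂ) - 1 = ((m - 1 : ℕ) : ℂ) by
      rw [Nat.cast_sub (by omega), Nat.cast_one], Nat.cast_inj] at h1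
    omega
  have := Module.nontrivial_of_finrank_pos (R := ℂ) hpos
  obtain ⟨φ, hφ⟩ := exists_ne (0 : U'.toRepresentation.IntertwiningMap U.toRepresentation)
  let P := Submodule.projectionOnto U.toSubmodule U'.toSubmodule hc
  let P' := Submodule.projectionOnto U'.toSubmodule U.toSubmodule hc.symm
  let S : V →ₗ[ℂ] V := U.toSubmodule.subtype ∘ₗ P
  let T : V →ₗ[ℂ] V := U.toSubmodule.subtype ∘ₗ φ.toLinearMap ∘ₗ P'
  have hP : ∀ (A B : Subrepresentation ρ) (hc : IsCompl A.toSubmodule B.toSubmodule) g x,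
      Submodule.projectionOnto _ _ hc (ρ g x) =
        A.toRepresentation g (Submodule.projectionOnto _ _ hc x) := by
    intro A B hc g x
    obtain ⟨a, ha, b, hb, rfl⟩ := Submodule.mem_sup.mp (show x ∈ A.toSubmodule ⊔ B.toSubmodule by
      rw [hc.sup_eq_top]; trivial)
    rw [map_add, map_add, map_add,
      Submodule.projectionOnto_apply_left hc (⟨ρ g a, A.apply_mem_toSubmodule g ha⟩ : A.toSubmodule),
      Submodule.projectionOnto_apply_right hc (⟨ρ g b, B.apply_mem_toSubmodule g hb⟩ : B.toSubmodule),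
      Submodule.projectionOnto_apply_left hc (⟨a, ha⟩ : A.toSubmodule),
      Submodule.projectionOnto_apply_right hc (⟨b, hb⟩ : B.toSubmodule), add_zero, add_zero]
    rfl
  have hS : ∀ g x, S (ρ g x) = ρ g (S x) := fun g x => by
    show ((P (ρ g x) : U.toSubmodule) : V) = _
    rw [hP U U' hc g x]; rfl
  have hT : ∀ g x, T (ρ g x) = ρ g (T x) := fun g x => by
    show ((φ.toLinearMap (P' (ρ g x)) : U.toSubmodule) : V) = _
    rw [hP U' U hc.symm g x]
    exact congrArg Subtype.val (φ.isIntertwining _ _ g (P' x))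
  obtain ⟨x, hx⟩ : ∃ x : U'.toSubmodule, φ x ≠ 0 := by
    by_contra! h
    exact hφ (DFunLike.ext _ _ h)
  have h := LinearMap.congr_fun (hcomm S T hS hT) x
  simp only [LinearMap.comp_apply, S, T, Submodule.coe_subtype] at h
  rw [show P (x : V) = 0 from Submodule.projectionOnto_apply_right hc x,
    show P' (x : V) = x from Submodule.projectionOnto_apply_left hc.symm x] at h
  rw [show P ((φ.toLinearMap x : U.toSubmodule) : V) = φ.toLinearMap x from
    Submodule.projectionOnto_apply_left hc _] at h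
  simp only [Submodule.coe_zero, map_zero] at h
  exact hx (Subtype.ext h)

end CfsgLib.Perm.Isotypic
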