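import Mathlib
import Cfsg.Agent.Lib.Perm.Multi

/-!
Jordan's theorem: multiple transitivity from a doubly transitive pointwise stabiliser.
-/

namespace CfsgLib.Perm

open MulAction

/-- Jordan: a primitive group in which the pointwise stabiliser of `s` is doubly transitive on the
complement is `(|s| + 2)`-transitive. -/
theorem isMultiplyPretransitive_of_fixing_two {α : Type*} [Fintype α] [DecidableEq α]
    (G : Subgroup (Equiv.Perm α)) (hG : IsPreprimitive G α) (s : Set α) {m : ℕ}
    (hsm : s.ncard = m) (hm : m + 2 ≤ Fintype.card α)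
    (h2 : IsMultiplyPretransitive (fixingSubgroup G s) (SubMulAction.ofFixingSubgroup G s) 2) :
    IsMultiplyPretransitive G α (m + 2) := by
  classical
  have hmove : ∀ a b a' b' : α, a ∉ s → b ∉ s → a' ∉ s → b' ∉ s → a ≠ b → a' ≠ b' →
      ∃ g : G, (∀ x ∈ s, g • x = x) ∧ g • a = a' ∧ g • b = b' := by
    intro a b a' b' ha hb ha' hb' hab hab'
    obtain ⟨g, hga, hgb⟩ : ∃ g : fixingSubgroup G s,
        g • (⟨a, ha⟩ : SubMulAction.ofFixingSubgroup G s) = ⟨a', ha'⟩ ∧
        g • (⟨b, hb⟩ : SubMulAction.ofFixingSubgroup G s) = ⟨b', hb'⟩ :=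
      is_two_pretransitive_iff.1 h2 (fun h => hab (congrArg Subtype.val h))
        (fun h => hab' (congrArg Subtype.val h))
    exact ⟨g.1, (mem_fixingSubgroup_iff G).1 g.2, congrArg Subtype.val hga,
      congrArg Subtype.val hgb⟩
  rcases Nat.eq_zero_or_pos m with rfl | hmpos
  · have hs : s = ∅ := (Set.ncard_eq_zero s.toFinite).1 hsm
    subst hs
    rw [zero_add, is_two_pretransitive_iff]
    intro a b c d hab hcd
    obtain ⟨g, -, h⟩ := hmove a b c d (by simp) (by simp) (by simp) (by simp) hab hcd
    exact ⟨g, h⟩
  rcases hm.lt_or_eq with hlt | heq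
  · have hprim : IsPreprimitive (fixingSubgroup G s) (SubMulAction.ofFixingSubgroup G s) :=
      isPreprimitive_of_is_two_pretransitive h2
    obtain ⟨n, rfl⟩ := Nat.exists_eq_succ_of_ne_zero hmpos.ne'
    have hk : IsMultiplyPretransitive G α (n + 2) :=
      (hG.isMultiplyPreprimitive hsm (by rw [Nat.card_eq_fintype_card]; omega) hprim).isMultiplyPretransitive
    refine isMultiplyPretransitive_of_fixing hlt fun T hT a b ha hb => ?_
    -- move `T` onto `s` and one more point
    obtain ⟨c, hc⟩ : ∃ c, c ∉ s := by
      by_contra! h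
      rw [Set.eq_univ_of_forall h, Set.ncard_univ, Nat.card_eq_fintype_card] at hsm
      omega
    set S : Finset α := insert c s.toFinset with hS
    have hScard : S.card = n + 2 := by
      rw [hS, Finset.card_insert_of_notMem (by simpa using hc), ← Set.ncard_eq_toFinset_card', hsm]
    let eT : Fin (n + 2) ↪ α :=
      (Finset.equivFinOfCardEq (show T.card = n + 2 by omega)).symm.toEmbedding.trans ⟨Subtype.val, Subtype.val_injective⟩
    let eS : Fin (n + 2) ↪ α :=
      (Finset.equivFinOfCardEq hScard).symm.toEmbedding.trans ⟨Subtype.val, Subtype.val_injective⟩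
    obtain ⟨g, hg⟩ := (isMultiplyPretransitive_iff (G := G) (α := α)).1 hk eT eS
    have hTS : ∀ x, x ∈ T ↔ g • x ∈ S := by
      have h1 : ∀ x ∈ T, g • x ∈ S := by
        intro x hx
        have := DFunLike.congr_fun hg (Finset.equivFinOfCardEq (show T.card = n + 2 by omega) ⟨x, hx⟩)
        simp only [Function.Embedding.smul_apply, eT, Function.Embedding.trans_apply,
          Equiv.symm_apply_apply, Function.Embedding.coeFn_mk] at this
        rw [this]
        exact ((Finset.equivFinOfCardEq hScard).symm _).2
      intro x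
      refine ⟨h1 x, fun hx => ?_⟩
      have himg : T.image (g • ·) = S := Finset.eq_of_subset_of_card_le
        (Finset.image_subset_iff.2 h1)
        (by rw [Finset.card_image_of_injective _ (MulAction.injective g), hScard]; omega)
      rw [← himg, Finset.mem_image] at hx
      obtain ⟨y, hy, hyx⟩ := hx
      rwa [← MulAction.injective g hyx]
    have hout : ∀ x, x ∉ T → g • x ∉ s ∧ g • x ≠ c := fun x hx => by
      have := mt (hTS x).2 hx
      simp only [hS, Finset.mem_insert, Set.mem_toFinset, not_or] at this
      exact ⟨this.2, this.1⟩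
    obtain ⟨w, hw, hwa, hwc⟩ := hmove (g • a) c (g • b) c (hout a ha).1 hc (hout b hb).1 hc
      (hout a ha).2 (hout b hb).2
    refine ⟨g⁻¹ * w * g, fun t ht => ?_, by rw [mul_smul, mul_smul, hwa, inv_smul_smul]⟩
    have ht' := (hTS t).1 ht
    simp only [hS, Finset.mem_insert, Set.mem_toFinset] at ht'
    rw [mul_smul, mul_smul, inv_smul_eq_iff]
    rcases ht' with h | h
    · rw [h, hwc]
    · exact hw _ h
  · -- two points outside `s`
    have hcompl : sᶜ.ncard = 2 := by
      have := Set.ncard_add_ncard_compl s
      rw [Nat.card_eq_fintype_card, hsm] at this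
      omega
    obtain ⟨a, b, hab, hs⟩ := Set.ncard_eq_two.1 hcompl
    have ha : a ∉ s := by rw [← Set.mem_compl_iff, hs]; simp
    have hb : b ∉ s := by rw [← Set.mem_compl_iff, hs]; simp
    obtain ⟨g, hg, hga, hgb⟩ := hmove a b b a ha hb hb ha hab hab.symm
    have hswap : (g : Equiv.Perm α) = Equiv.swap a b := by
      refine Equiv.ext fun x => ?_
      rcases em (x = a) with rfl | hxa
      · rw [Equiv.swap_apply_left]; exact hga
      rcases em (x = b) with rfl | hxb
      · rw [Equiv.swap_apply_right]; exact hgb
      rw [Equiv.swap_apply_of_ne_of_ne hxa hxb]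
      refine hg x ?_
      by_contra hxs
      have : x ∈ sᶜ := hxs
      rw [hs] at this
      simp [hxa, hxb] at this
    have htop := Equiv.Perm.subgroup_eq_top_of_isPreprimitive_of_isSwap_mem hG (g : Equiv.Perm α)
      ⟨a, b, hab, hswap⟩ g.2
    rw [isMultiplyPretransitive_iff]
    intro x y
    have hbx : Function.Bijective x := (Fintype.bijective_iff_injective_and_card x).2
      ⟨x.injective, by rw [Fintype.card_fin]; exact heq⟩
    have hby : Function.Bijective y := (Fintype.bijective_iff_injective_and_card y).2
      ⟨y.injective, by rw [Fintype.card_fin]; exact heq⟩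
    refine ⟨⟨(Equiv.ofBijective x hbx).symm.trans (Equiv.ofBijective y hby), by rw [htop]; trivial⟩,
      Function.Embedding.ext fun i => ?_⟩
    change y ((Equiv.ofBijective x hbx).symm (x i)) = y i
    rw [Equiv.ofBijective_symm_apply_apply]

end CfsgLib.Perm
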