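import Cfsg.Agent.Lib.Recog.TransLinearSolvable
import Cfsg.Agent.Lib.Recog.PrimitiveSocle
import Cfsg.Agent.Lib.FT.OddOrderTheorem

/-!
Kantor's theorem: a 2-homogeneous group of odd order is semiaffine.
-/

set_option autoImplicit false

open MulAction Cfsg CfsgLib.Base

namespace CfsgLib.Perm.Kantor

universe u

section Linear

variable {p : ℕ} [Fact p.Prime] {V : Type*} [AddCommGroup V] [Module (ZMod p) V] [Finite V]
  [Nontrivial V] {H : Type*} [Group H] [Finite H]

/-- The extension of a linear action by `-1`. -/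
noncomputable def signedRep (R : H →* Module.End (ZMod p) V) :
    H × Multiplicative (ZMod 2) →* Module.End (ZMod p) V where
  toFun x := (if Multiplicative.toAdd x.2 = 0 then (1 : Module.End (ZMod p) V) else -1) * R x.1
  map_one' := by simp
  map_mul' := by
      rintro ⟨a, s⟩ ⟨b, t⟩
      have hz : ∀ z : ZMod 2, z = 0 ∨ z = 1 := fun z => by revert z; decide
      rcases hz (Multiplicative.toAdd s) with hs | hs <;>
        rcases hz (Multiplicative.toAdd t) with ht | ht <;>
        simp [toAdd_mul, hs, ht, map_mul, show (1 : ZMod 2) + 1 = 0 from rfl]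

/-- An odd order group of linear maps, transitive on the non-zero vectors up to sign, is semilinear. -/
theorem semilinear_of_odd (hp2 : p ≠ 2) (R : H →* Module.End (ZMod p) V)
    (hR : Function.Injective R) (hodd : Odd (Nat.card H)) (hsol : Group.IsSolvable H)
    (htr : ∀ v w : V, v ≠ 0 → w ≠ 0 → ∃ h : H, R h v = w ∨ R h v = -w) :
    Nat.card V % 4 = 3 ∧ ∃ (F : Type) (_ : Field F) (_ : Fintype F) (e : V ≃+ F),
      ∀ h : H, ∃ (a : F) (σ : F ≃+* F), ∀ v : V, e (R h v) = a * σ (e v) := by
  classical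
  have hV : ∀ v : V, v = -v → v = 0 := fun v hv => by
    have h : (2 : ZMod p) • v = 0 := by rw [two_smul]; nth_rewrite 2 [hv]; exact add_neg_cancel v
    refine (smul_eq_zero.1 h).resolve_left fun h2 => hp2 ?_
    have : ((2 : ℕ) : ZMod p) = 0 := by exact_mod_cast h2
    exact (Nat.prime_dvd_prime_iff_eq Fact.out Nat.prime_two).1 ((ZMod.natCast_eq_zero_iff _ _).1 this)
  have hneg : ∀ (h : H) (v : V), v ≠ 0 → R h v ≠ -v := by
    intro h v hv he
    have hk : ∀ k : ℕ, R (h ^ k) v = ((-1 : ℤ) ^ k) • v := by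
      intro k
      induction k with
      | zero => simp
      | succ k ih =>
        rw [pow_succ', map_mul, Module.End.mul_apply, ih, map_zsmul, he, pow_succ, mul_smul, neg_one_smul]
    have := hk (Nat.card H)
    rw [pow_card_eq_one', map_one, Module.End.one_apply, hodd.neg_one_pow, neg_one_smul] at this
    exact hv (hV v this)
  have hRS : Function.Injective (signedRep R) := by
    rw [injective_iff_map_eq_one]
    rintro ⟨a, s⟩ h
    change (if Multiplicative.toAdd s = 0 then (1 : Module.End (ZMod p) V) else -1) * R a = 1 at h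
    by_cases hs : Multiplicative.toAdd s = 0
    · rw [if_pos hs, one_mul] at h
      exact Prod.ext ((injective_iff_map_eq_one R).1 hR a h) (Multiplicative.toAdd.injective hs)
    · exfalso
      obtain ⟨v, hv⟩ := exists_ne (0 : V)
      rw [if_neg hs, neg_one_mul, neg_eq_iff_eq_neg] at h
      exact hneg a v hv (by rw [h]; rfl)
  haveI := hsol
  have hsol' : Group.IsSolvable (H × Multiplicative (ZMod 2)) := inferInstance
  have htr' : ∀ v w : V, v ≠ 0 → w ≠ 0 → ∃ g, signedRep R g v = w := by
    intro v w hv hw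
    obtain ⟨h, hh | hh⟩ := htr v w hv hw
    · exact ⟨(h, 1), by simp [signedRep, hh]⟩
    · exact ⟨(h, Multiplicative.ofAdd 1), by simp [signedRep, hh]⟩
  -- the degree is 3 modulo 4
  have h4 : Nat.card V % 4 = 3 := by
    letI : MulAction H V :=
      { smul := fun h v => R h v
        one_smul := fun v => by change R 1 v = v; rw [map_one]; rfl
        mul_smul := fun a b v => by change R (a * b) v = R a (R b v); rw [map_mul]; rfl }
    obtain ⟨v, hv⟩ := exists_ne (0 : V)
    let O : Set V := orbit H v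
    have hO : Odd O.ncard := by
      rw [← Nat.card_coe_set_eq]
      refine hodd.of_dvd_nat ?_
      rw [Nat.card_congr (orbitEquivQuotientStabilizer H v)]
      exact Subgroup.card_quotient_dvd_card _
    have hne : ∀ w ∈ O, w ≠ 0 := by
      rintro _ ⟨h, rfl⟩ e
      refine hv ?_
      have e' : R h v = 0 := e
      calc v = R (h⁻¹ * h) v := by rw [inv_mul_cancel, map_one]; rfl
        _ = 0 := by rw [map_mul, Module.End.mul_apply, e', map_zero]
    have hdisj : Disjoint O ((fun w => -w) '' O) := by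
      rw [Set.disjoint_left]
      rintro _ ⟨a, rfl⟩ ⟨_, ⟨b, rfl⟩, e⟩
      refine hneg (b⁻¹ * a) v hv ?_
      have e' : -(R b v) = R a v := e
      rw [map_mul, Module.End.mul_apply, ← e', map_neg, ← Module.End.mul_apply, ← map_mul, inv_mul_cancel,
        map_one]
      rfl
    have hU : O ∪ ((fun w => -w) '' O) = {0}ᶜ := by
      ext w
      refine ⟨?_, fun hw => ?_⟩
      · rintro (h | ⟨x, hx, rfl⟩)
        · exact hne w h
        · exact neg_ne_zero.2 (hne x hx)
      · obtain ⟨h, hh | hh⟩ := htr v w hv hw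
        · exact Or.inl ⟨h, hh⟩
        · exact Or.inr ⟨R h v, ⟨h, rfl⟩, by simp [hh]⟩
    have hc := congrArg Set.ncard hU
    rw [Set.ncard_union_eq hdisj (Set.toFinite _) (Set.toFinite _),
      Set.ncard_image_of_injective _ neg_injective, Set.ncard_compl, Set.ncard_singleton] at hc
    obtain ⟨k, hk⟩ := hO
    have := Finite.card_pos (α := V)
    omega
  refine ⟨h4, ?_⟩
  rcases CfsgLib.Recog.TransLinear.semilinear_or_small hRS hsol' htr' with ⟨F, i₁, i₂, e, he⟩ | h
  · refine ⟨F, i₁, i₂, e, fun h => ?_⟩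
    obtain ⟨a, σ, hσ⟩ := he (h, 1)
    exact ⟨a, σ, fun v => by rw [← hσ v]; simp [signedRep]⟩
  · simp only [Set.mem_insert_iff, Set.mem_singleton_iff] at h
    omega

end Linear

variable {G : Type u} [Group G] [Finite G] {Ω : Type*} [Finite Ω] [MulAction G Ω] [FaithfulSMul G Ω]

/-- **Kantor's theorem** for a primitive group of odd order that is transitive on unordered pairs. -/
theorem semiaffine_of_odd [IsPreprimitive G Ω] [Nontrivial Ω] (hodd : Odd (Nat.card G))
    (hpair : ∀ a b c d : Ω, a ≠ b → c ≠ d → ∃ g : G, (g • a = c ∧ g • b = d) ∨ (g • a = d ∧ g • b = c)) :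
    ∃ (p f : ℕ) (_ : Fact p.Prime), p ≠ 2 ∧ Nat.card Ω = p ^ f ∧ p ^ f % 4 = 3 ∧
      ∃ e : Ω ≃ GaloisField p f,
        (∀ g : G, ∃ (a : (GaloisField p f)ˣ) (b : GaloisField p f) (φ : GaloisField p f ≃+* GaloisField p f),
          ∀ x, e (g • e.symm x) = (a : GaloisField p f) * φ x + b) ∧
        ∀ b : GaloisField p f, ∃ g : G, ∀ x : Ω, e (g • x) = e x + b := by
  classical
  haveI hsol : Group.IsSolvable G := CfsgLib.FT.isSolvable_of_odd hodd
  obtain ⟨a, b₀, hab⟩ := exists_pair_ne Ω
  haveI : Nontrivial G := by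
    obtain ⟨g, hg⟩ := exists_smul_eq G a b₀
    exact ⟨⟨g, 1, fun h => hab (by rw [← hg, h, one_smul])⟩⟩
  obtain ⟨M, hM⟩ := exists_isMinimalNormal (G := G)
  haveI := hM.normal
  haveI : Group.IsSolvable M := inferInstance
  obtain ⟨p, hp, hcomm, hexp, hMp⟩ := hM.exists_prime inferInstance
  haveI := Fact.mk hp
  haveI := hM.normal
  haveI hMt := CfsgLib.Recog.isPretransitive_of_normal_ne_bot (Ω := Ω) M hM.ne_bot
  have huniq : ∀ u v : G, u ∈ M → v ∈ M → u • a = v • a → u = v := fun u v hu hv h => by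
    refine (inv_mul_eq_one.1 (CfsgLib.Recog.eq_one_of_mem_centralizer (V := M) (a := a) ?_ ?_)).symm
    · exact Subgroup.mem_centralizer_iff.2 fun w hw =>
        congrArg Subtype.val (hcomm.is_comm.comm ⟨w, hw⟩ ⟨v⁻¹ * u, mul_mem (inv_mem hv) hu⟩)
    · rw [mul_smul, h, inv_smul_smul]
  let pt : M ≃ Ω := Equiv.ofBijective (fun u : M => (u : G) • a)
    ⟨fun u v h => Subtype.ext (huniq u v u.2 v.2 h), fun c => let ⟨u, hu⟩ := hMt.exists_smul_eq a c; ⟨u, hu⟩⟩
  have hpt : ∀ u : M, pt u = (u : G) • a := fun u => rfl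
  obtain ⟨f, hf⟩ := hMp.exists_card_eq
  have hn : Nat.card Ω = p ^ f := by rw [← Nat.card_congr pt, hf]
  letI : CommGroup M := { (inferInstance : Group M) with mul_comm := hcomm.is_comm.comm }
  have inst : Module (ZMod p) (Additive M) := AddCommGroup.zmodModule (n := p) fun x =>
    (Subtype.ext (by rw [Subgroup.coe_pow]; exact hexp _ x.toMul.2) : x.toMul ^ p = 1)
  haveI : Nontrivial M := (Subgroup.nontrivial_iff_ne_bot M).2 hM.ne_bot
  haveI : Finite (Additive M) := inferInstanceAs (Finite M)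
  have hp2 : p ≠ 2 := by
    rintro rfl
    obtain ⟨k, hk⟩ := IsPGroup.iff_card.1 hMp
    have : 2 ∣ Nat.card M := by
      rw [hk]; exact dvd_pow_self 2 fun h => by
        rw [h, pow_zero] at hk; exact hM.ne_bot (M.eq_bot_of_card_eq hk)
    exact hodd.not_two_dvd_nat (this.trans M.card_subgroup_dvd_card)
  let R : stabilizer G a →* Module.End (ZMod p) (Additive M) :=
    { toFun := fun h => (MulAut.conjNormal (H := M) (h : G)).toMonoidHom.toAdditive.toZModLinearMap p
      map_one' := LinearMap.ext fun v => by simp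
      map_mul' := fun g h => LinearMap.ext fun v => by simp }
  have hRv : ∀ (h : stabilizer G a) (u : M),
      (((R h (Additive.ofMul u)).toMul : M) : G) = (h : G) * u * (h : G)⁻¹ := fun h u =>
    MulAut.conjNormal_apply _ _
  have hsm : ∀ (h : stabilizer G a) (u : M), (h : G) • pt u = pt (R h (Additive.ofMul u)).toMul := by
    intro h u
    rw [hpt, hpt, hRv, mul_smul, mul_smul, inv_smul_eq_iff.2 (mem_stabilizer_iff.1 h.2).symm]
  have hR : Function.Injective R := by
    rw [injective_iff_map_eq_one]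
    intro h hh
    refine Subtype.ext (FaithfulSMul.eq_of_smul_eq_smul (α := Ω) fun c => ?_)
    obtain ⟨u, rfl⟩ := pt.surjective c
    rw [hsm, hh, Module.End.one_apply, toMul_ofMul]
    exact (one_smul G _).symm
  have htr : ∀ v w : Additive M, v ≠ 0 → w ≠ 0 → ∃ h, R h v = w ∨ R h v = -w := by
    intro v w hv hw
    obtain ⟨u, rfl⟩ := Additive.ofMul.surjective v
    obtain ⟨x, rfl⟩ := Additive.ofMul.surjective w
    have hne : ∀ z : M, Additive.ofMul z ≠ 0 → a ≠ pt z := fun z hz e => hz (by
      rw [show z = 1 from Subtype.ext (huniq z 1 z.2 M.one_mem (by rw [← hpt, ← e, one_smul]))]; rfl)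
    obtain ⟨g, ⟨g1, g2⟩ | ⟨g1, g2⟩⟩ := hpair a (pt u) a (pt x) (hne u hv) (hne x hw)
    · refine ⟨⟨g, g1⟩, Or.inl ?_⟩
      apply Additive.toMul.injective
      apply pt.injective
      rw [← hsm]
      exact g2
    · have hh : (x : G)⁻¹ * g ∈ stabilizer G a := by
        rw [mem_stabilizer_iff, mul_smul, g1, hpt, inv_smul_smul]
      refine ⟨⟨_, hh⟩, Or.inr ?_⟩
      apply Additive.toMul.injective
      apply pt.injective
      rw [← hsm, mul_smul, g2]
      rfl
  haveI : Group.IsSolvable (stabilizer G a) := inferInstance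
  obtain ⟨h4, F, _, _, e₀, he⟩ := semilinear_of_odd hp2 R hR
    (hodd.of_dvd_nat (stabilizer G a).card_subgroup_dvd_card) inferInstance htr
  have hVc : Nat.card (Additive M) = p ^ f := hf
  rw [hVc] at h4
  have hf0 : f ≠ 0 := fun h => by simp [h] at h4
  have : Fintype (GaloisField p f) := Fintype.ofFinite _
  let ρ : F ≃+* GaloisField p f := FiniteField.ringEquivOfCardEq (by
    rw [← Nat.card_eq_fintype_card, ← Nat.card_eq_fintype_card, GaloisField.card p f hf0,
      ← Nat.card_congr e₀.toEquiv, hVc])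
  let ε : M ≃ GaloisField p f := Additive.ofMul.trans (e₀.toEquiv.trans ρ.toEquiv)
  have hε : ∀ u v : M, ε (u * v) = ε u + ε v := fun u v => by
    change ρ (e₀ (Additive.ofMul u + Additive.ofMul v)) = _
    rw [map_add, map_add]; rfl
  refine ⟨p, f, inferInstance, hp2, hn, h4, pt.symm.trans ε, fun g => ?_, fun b => ?_⟩
  · obtain ⟨m, hm⟩ := pt.surjective (g • a)
    have hh : (m : G)⁻¹ * g ∈ stabilizer G a := by
      rw [mem_stabilizer_iff, mul_smul, ← hm, hpt, inv_smul_smul]
    obtain ⟨c, σ, hσ⟩ := he ⟨_, hh⟩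
    have hgu : ∀ u : M, g • pt u = pt (m * (R ⟨_, hh⟩ (Additive.ofMul u)).toMul) := fun u => by
      rw [hpt (m * _), Subgroup.coe_mul, mul_smul, ← hpt, ← hsm, ← mul_smul, mul_inv_cancel_left]
    have hc : ρ c ≠ 0 := by
      intro h0
      obtain ⟨w, hw⟩ := exists_ne (0 : Additive M)
      have h1 := hσ w
      rw [(map_eq_zero ρ).1 h0, zero_mul] at h1
      have h2 : R ⟨_, hh⟩ w = 0 := e₀.injective (by rw [h1, map_zero])
      have h3 := congrArg (R (⟨_, hh⟩⁻¹)) h2
      rw [← Module.End.mul_apply, ← map_mul, inv_mul_cancel, map_one, map_zero] at h3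
      exact hw h3
    refine ⟨Units.mk0 _ hc, ε m, (ρ.symm.trans σ).trans ρ, fun x => ?_⟩
    obtain ⟨u, rfl⟩ := ε.surjective x
    simp only [Equiv.symm_trans_apply, Equiv.symm_symm, Equiv.trans_apply, Equiv.symm_apply_apply,
      hgu, hε, Units.val_mk0]
    rw [add_comm]
    congr 1
    change ρ (e₀ (R _ (Additive.ofMul u))) = ρ c * ρ (σ (ρ.symm (ρ (e₀ (Additive.ofMul u)))))
    rw [hσ, map_mul, RingEquiv.symm_apply_apply]
  · obtain ⟨m, rfl⟩ := ε.surjective b
    refine ⟨(m : G), fun x => ?_⟩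
    obtain ⟨u, rfl⟩ := pt.surjective x
    simp only [Equiv.trans_apply, Equiv.symm_apply_apply]
    rw [show (m : G) • pt u = pt (m * u) by rw [hpt, hpt, Subgroup.coe_mul, mul_smul],
      Equiv.symm_apply_apply, hε, add_comm]

end CfsgLib.Perm.Kantor
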