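import Mathlib
import Cfsg.Agent.S3707

/-!
Marggraf's theorem: a primitive group with a Jordan set smaller than half of the points
contains the alternating group.
-/

set_option autoImplicit false
set_option linter.style.haveILetI false

namespace CfsgLib.Perm.Marggraf

open MulAction
open scoped Pointwise

/-! ### Binomial coefficients -/

theorem choose_lt_succ {n i : ℕ} (h : 2 * i + 2 ≤ n) : n.choose i < n.choose (i + 1) := by
  have h1 := Nat.choose_succ_right_eq n i
  have h2 : 0 < n.choose i := Nat.choose_pos (by omega)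
  have h3 : n.choose i * (i + 1) < n.choose i * (n - i) := Nat.mul_lt_mul_of_pos_left (by omega) h2
  rw [← h1] at h3
  exact Nat.lt_of_mul_lt_mul_right h3

theorem choose_lt_half {n a c : ℕ} (hac : a < c) (hc : 2 * c ≤ n) : n.choose a < n.choose c := by
  induction c with
  | zero => omega
  | succ c ih =>
    rcases Nat.lt_succ_iff_lt_or_eq.1 hac with h | h
    · exact (ih h (by omega)).trans (choose_lt_succ (by omega))
    · subst h; exact choose_lt_succ (by omega)

theorem choose_lt {n a b : ℕ} (hab : a < b) (h : a + b < n) (hb : b ≤ n) :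
    n.choose a < n.choose b := by
  rcases le_or_gt (2 * b) n with h' | h'
  · exact choose_lt_half hab h'
  · rw [← Nat.choose_symm hb]
    exact choose_lt_half (by omega) (by omega)

/-! ### The translates of a set -/

section

variable {G Ω : Type*} [Group G] [MulAction G Ω] [Fintype G] [Fintype Ω] [DecidableEq Ω]

/-- The translates of `Γ`. -/
def fam (G : Type*) [Group G] [Fintype G] [MulAction G Ω] (Γ : Finset Ω) : Finset (Finset Ω) :=
  Finset.univ.image fun g : G => Γ.image (g • ·)

/-- The number of translates containing `R` and avoiding `T`. -/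
def cnt (G : Type*) [Group G] [Fintype G] [MulAction G Ω] (Γ R T : Finset Ω) : ℕ :=
  ((fam G Γ).filter fun S => R ⊆ S ∧ Disjoint T S).card

variable {Γ : Finset Ω}

theorem card_of_mem {S : Finset Ω} (hS : S ∈ fam G Γ) : S.card = Γ.card := by
  obtain ⟨g, -, rfl⟩ := Finset.mem_image.1 hS
  exact Finset.card_image_of_injective _ (MulAction.injective g)

theorem fam_nonempty : (fam G Γ).Nonempty := Finset.univ_nonempty.image _

theorem fam_smul {S : Finset Ω} (hS : S ∈ fam G Γ) (g : G) : S.image (g • ·) ∈ fam G Γ := by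
  obtain ⟨h, -, rfl⟩ := Finset.mem_image.1 hS
  refine Finset.mem_image.2 ⟨g * h, Finset.mem_univ _, ?_⟩
  rw [Finset.image_image]
  exact Finset.image_congr fun x _ => mul_smul g h x

theorem cnt_smul (g : G) (R T : Finset Ω) :
    cnt G Γ (R.image (g • ·)) (T.image (g • ·)) = cnt G Γ R T := by
  have hinj : Function.Injective (g • · : Ω → Ω) := MulAction.injective g
  refine Eq.symm (Finset.card_bij (fun S _ => S.image (g • ·)) (fun S hS => ?_)
    (fun S _ S' _ h => Finset.image_injective hinj h) fun S hS => ?_)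
  · rw [Finset.mem_filter] at hS ⊢
    exact ⟨fam_smul hS.1 g, Finset.image_subset_image hS.2.1,
      (Finset.disjoint_image hinj).2 hS.2.2⟩
  · rw [Finset.mem_filter] at hS
    have he : (S.image (g⁻¹ • ·)).image (g • ·) = S := by
      rw [Finset.image_image]
      conv_rhs => rw [← Finset.image_id (s := S)]
      exact Finset.image_congr fun x _ => smul_inv_smul g x
    refine ⟨S.image (g⁻¹ • ·), Finset.mem_filter.2 ⟨fam_smul hS.1 g⁻¹, ?_, ?_⟩, he⟩
    · rw [← Finset.image_subset_image_iff hinj, he]; exact hS.2.1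
    · rw [← Finset.disjoint_image hinj, he]; exact hS.2.2

theorem cnt_split (R T : Finset Ω) (y : Ω) :
    cnt G Γ R (insert y T) + cnt G Γ (insert y R) T = cnt G Γ R T := by
  simp only [cnt]
  rw [← Finset.card_filter_add_card_filter_not
    (s := (fam G Γ).filter fun S => R ⊆ S ∧ Disjoint T S) (p := fun S => y ∈ S), add_comm]
  congr 1
  · rw [Finset.filter_filter]
    refine congrArg Finset.card (Finset.filter_congr fun S _ => ?_)
    simp only [Finset.insert_subset_iff]
    tauto
  · rw [Finset.filter_filter]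
    refine congrArg Finset.card (Finset.filter_congr fun S _ => ?_)
    simp only [Finset.disjoint_insert_left]
    tauto

theorem cnt_mono {R T T' : Finset Ω} (h : T' ⊆ T) : cnt G Γ R T ≤ cnt G Γ R T' :=
  Finset.card_le_card fun S hS => by
    rw [Finset.mem_filter] at hS ⊢
    exact ⟨hS.1, hS.2.1, hS.2.2.mono_left h⟩

theorem cnt_anti {R R' T : Finset Ω} (h : R' ⊆ R) : cnt G Γ R T ≤ cnt G Γ R' T :=
  Finset.card_le_card fun S hS => by
    rw [Finset.mem_filter] at hS ⊢
    exact ⟨hS.1, h.trans hS.2.1, hS.2.2⟩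

omit [Fintype G] in
/-- A multiply transitive group maps one small set to any other of the same size. -/
theorem exists_map_set {t : ℕ} (ht : IsMultiplyPretransitive G Ω t)
    (htn : t ≤ Fintype.card Ω) {R R' : Finset Ω}
    (hR : R.card ≤ t) (h : R.card = R'.card) : ∃ g : G, R.image (g • ·) = R' := by
  haveI := ht
  haveI : IsMultiplyPretransitive G Ω R.card :=
    MulAction.isMultiplyPretransitive_of_le (m := R.card) hR (by rwa [Nat.card_eq_fintype_card])
  let e : Fin R.card ↪ Ω := (R.equivFin.symm.toEmbedding).trans ⟨Subtype.val, Subtype.val_injective⟩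
  let e' : Fin R.card ↪ Ω :=
    ((Finset.equivFinOfCardEq h.symm).symm.toEmbedding).trans ⟨Subtype.val, Subtype.val_injective⟩
  obtain ⟨g, hg⟩ := MulAction.exists_smul_eq G e e'
  refine ⟨g, Finset.eq_of_subset_of_card_le (Finset.image_subset_iff.2 fun x hx => ?_)
    (by rw [Finset.card_image_of_injective _ (MulAction.injective g)]; exact h.ge)⟩
  have h1 := DFunLike.congr_fun hg (R.equivFin ⟨x, hx⟩)
  simp only [Function.Embedding.smul_apply, e, Function.Embedding.trans_apply,
    Equiv.coe_toEmbedding, Equiv.symm_apply_apply, Function.Embedding.coeFn_mk] at h1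
  rw [h1]
  exact ((Finset.equivFinOfCardEq h.symm).symm _).2

theorem cnt_empty_right {t : ℕ} (ht : IsMultiplyPretransitive G Ω t)
    (htn : t ≤ Fintype.card Ω) {R : Finset Ω} (hR : R.card ≤ t)
    (hRm : R.card ≤ Γ.card) :
    (Fintype.card Ω).choose Γ.card * cnt G Γ R ∅ =
      (fam G Γ).card * (Fintype.card Ω - R.card).choose (Γ.card - R.card) := by
  classical
  set j := R.card with hj
  have key : ∑ R' ∈ Finset.powersetCard j (Finset.univ : Finset Ω), cnt G Γ R' ∅ =
      (fam G Γ).card * Γ.card.choose j := by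
    simp only [cnt, Finset.disjoint_empty_left, and_true, Finset.card_filter]
    rw [Finset.sum_comm, Finset.sum_congr rfl fun S hS => ?_, Finset.sum_const, smul_eq_mul]
    rw [← Finset.card_filter, ← card_of_mem hS, ← Finset.card_powersetCard]
    congr 1
    ext R'
    simp [Finset.mem_powersetCard, and_comm]
  have hconst : ∀ R' ∈ Finset.powersetCard j (Finset.univ : Finset Ω),
      cnt G Γ R' ∅ = cnt G Γ R ∅ := by
    intro R' hR'
    obtain ⟨g, hg⟩ := exists_map_set ht htn (R := R) (R' := R') hR
      (Finset.mem_powersetCard.1 hR').2.symm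
    have := cnt_smul (Γ := Γ) g R ∅
    rwa [hg, Finset.image_empty] at this
  rw [Finset.sum_congr rfl hconst, Finset.sum_const, Finset.card_powersetCard, smul_eq_mul,
    Finset.card_univ] at key
  have h2 := Nat.choose_mul (n := Fintype.card Ω) (k := Γ.card) (s := j) hRm
  refine Nat.eq_of_mul_eq_mul_left
    (Nat.choose_pos (show j ≤ Fintype.card Ω from hR.trans htn)) ?_
  calc (Fintype.card Ω).choose j * ((Fintype.card Ω).choose Γ.card * cnt G Γ R ∅)
      = (Fintype.card Ω).choose Γ.card * ((Fintype.card Ω).choose j * cnt G Γ R ∅) :=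
        mul_left_comm _ _ _
    _ = (fam G Γ).card * ((Fintype.card Ω).choose Γ.card * Γ.card.choose j) := by
        rw [key]; ring
    _ = _ := by rw [h2]; ring

theorem cnt_formula {t : ℕ} (ht : IsMultiplyPretransitive G Ω t) (htn : t ≤ Fintype.card Ω)
    (htm : t ≤ Γ.card) :
    ∀ (T R : Finset Ω), Disjoint R T → R.card + T.card ≤ t →
      (Fintype.card Ω).choose Γ.card * cnt G Γ R T =
        (fam G Γ).card * (Fintype.card Ω - R.card - T.card).choose (Γ.card - R.card) := by
  intro T
  induction T using Finset.induction_on with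
  | empty =>
    intro R _ h
    simp only [Finset.card_empty, add_zero, Nat.sub_zero] at h ⊢
    exact cnt_empty_right ht htn h (h.trans htm)
  | insert y T hy ih =>
    intro R hd h
    rw [Finset.disjoint_insert_right] at hd
    rw [Finset.card_insert_of_notMem hy] at h ⊢
    have h1 := ih R hd.2 (by omega)
    have h2 := ih (insert y R) (Finset.disjoint_insert_left.2 ⟨hy, hd.2⟩)
      (by rw [Finset.card_insert_of_notMem hd.1]; omega)
    rw [Finset.card_insert_of_notMem hd.1] at h2
    rw [← cnt_split R T y, mul_add, h2] at h1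
    have hp : (Fintype.card Ω - R.card - T.card).choose (Γ.card - R.card) =
        (Fintype.card Ω - (R.card + 1) - T.card).choose (Γ.card - (R.card + 1)) +
          (Fintype.card Ω - R.card - (T.card + 1)).choose (Γ.card - R.card) := by
      rw [show Fintype.card Ω - R.card - T.card = (Fintype.card Ω - R.card - (T.card + 1)) + 1 by omega,
        show Γ.card - R.card = (Γ.card - (R.card + 1)) + 1 by omega, Nat.choose_succ_succ',
        show Fintype.card Ω - (R.card + 1) - T.card = Fintype.card Ω - R.card - (T.card + 1) by omega]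
    rw [hp, mul_add] at h1
    omega

/-- One point beyond the transitivity the counts differ by an alternating error. -/
theorem cnt_formula_succ {t : ℕ} (ht : IsMultiplyPretransitive G Ω t)
    (htn : t + 1 ≤ Fintype.card Ω) (htm : t + 1 ≤ Γ.card) :
    ∀ (T R : Finset Ω), Disjoint R T → R.card + T.card = t + 1 →
      ((Fintype.card Ω).choose Γ.card * cnt G Γ R T : ℤ) =
        (fam G Γ).card * (Fintype.card Ω - (t + 1)).choose (Γ.card - R.card) +
          (-1) ^ T.card * ((Fintype.card Ω).choose Γ.card * cnt G Γ (R ∪ T) ∅ -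
            (fam G Γ).card * (Fintype.card Ω - (t + 1)).choose (Γ.card - (t + 1))) := by
  intro T
  induction T using Finset.induction_on with
  | empty =>
    intro R _ h
    simp only [Finset.card_empty, add_zero] at h
    simp [h]
  | insert y T hy ih =>
    intro R hd h
    rw [Finset.disjoint_insert_right] at hd
    rw [Finset.card_insert_of_notMem hy] at h ⊢
    have h1 := cnt_formula (Γ := Γ) ht (by omega) (by omega) T R hd.2 (by omega)
    have h2 := ih (insert y R) (Finset.disjoint_insert_left.2 ⟨hy, hd.2⟩)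
      (by rw [Finset.card_insert_of_notMem hd.1]; omega)
    rw [Finset.card_insert_of_notMem hd.1, Finset.insert_union] at h2
    rw [Finset.union_insert]
    have h3 := cnt_split (G := G) (Γ := Γ) R T y
    have hp : (Fintype.card Ω - R.card - T.card).choose (Γ.card - R.card) =
        (Fintype.card Ω - (t + 1)).choose (Γ.card - (R.card + 1)) +
          (Fintype.card Ω - (t + 1)).choose (Γ.card - R.card) := by
      rw [show Fintype.card Ω - R.card - T.card = (Fintype.card Ω - (t + 1)) + 1 by omega,
        show Γ.card - R.card = (Γ.card - (R.card + 1)) + 1 by omega, Nat.choose_succ_succ']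
    rw [← h3, hp] at h1
    have h1' := congrArg (Nat.cast : ℕ → ℤ) h1
    push_cast at h1'
    rw [pow_succ]
    linear_combination h1' - h2

/-- For any `t - 1` points and two others some translate separates the two and avoids the `t - 1`. -/
theorem exists_separating {t : ℕ} (ht : IsMultiplyPretransitive G Ω t) (ht2 : 2 ≤ t)
    (htm : t + 1 ≤ Γ.card) (hn : 2 * Γ.card < Fintype.card Ω) {x : Ω} {T : Finset Ω}
    (hx : x ∉ T) (hT : T.card = t) : ∃ S ∈ fam G Γ, x ∈ S ∧ Disjoint T S := by
  suffices h : 0 < cnt G Γ {x} T by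
    obtain ⟨S, hS⟩ := Finset.card_pos.1 h
    rw [Finset.mem_filter, Finset.singleton_subset_iff] at hS
    exact ⟨S, hS.1, hS.2.1, hS.2.2⟩
  by_contra h0
  have hd : Disjoint ({x} : Finset Ω) T := Finset.disjoint_singleton_left.2 hx
  have hf := cnt_formula_succ (Γ := Γ) ht (by omega) htm T {x} hd
    (by rw [Finset.card_singleton, hT]; omega)
  rw [Nat.eq_zero_of_not_pos h0, Finset.card_singleton, hT] at hf
  have hX : (Fintype.card Ω).choose Γ.card * cnt G Γ ({x} ∪ T) ∅ ≤
      (fam G Γ).card * (Fintype.card Ω - t).choose (Γ.card - t) := by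
    calc (Fintype.card Ω).choose Γ.card * cnt G Γ ({x} ∪ T) ∅
        ≤ (Fintype.card Ω).choose Γ.card * cnt G Γ T ∅ :=
          Nat.mul_le_mul_left _ (cnt_anti Finset.subset_union_right)
      _ = _ := by rw [cnt_empty_right ht (by omega) hT.le (by omega), hT]
  rw [show Fintype.card Ω - t = (Fintype.card Ω - (t + 1)) + 1 by omega,
    show Γ.card - t = (Γ.card - (t + 1)) + 1 by omega, Nat.choose_succ_succ',
    show Γ.card - (t + 1) + 1 = Γ.card - t by omega] at hX
  have hb : (0 : ℤ) < (fam G Γ).card := by exact_mod_cast Finset.card_pos.2 fam_nonempty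
  set N := Fintype.card Ω - (t + 1) with hN
  have c1 : ((N.choose (Γ.card - (t + 1)) : ℕ) : ℤ) < N.choose (Γ.card - 1) := by
    exact_mod_cast choose_lt (by omega) (by omega) (by omega)
  have c2 : ((N.choose (Γ.card - t) : ℕ) : ℤ) < N.choose (Γ.card - 1) := by
    exact_mod_cast choose_lt (by omega) (by omega) (by omega)
  have hX' : ((Fintype.card Ω).choose Γ.card * cnt G Γ ({x} ∪ T) ∅ : ℤ) ≤
      (fam G Γ).card * ((N.choose (Γ.card - (t + 1)) : ℤ) + N.choose (Γ.card - t)) := by
    exact_mod_cast hX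
  have hX0 : (0 : ℤ) ≤ ((Fintype.card Ω).choose Γ.card * cnt G Γ ({x} ∪ T) ∅ : ℤ) := by positivity
  simp only [Nat.cast_zero, mul_zero] at hf
  have m1 := mul_lt_mul_of_pos_left c1 hb
  have m2 := mul_lt_mul_of_pos_left c2 hb
  rcases Nat.even_or_odd t with he | he
  · rw [he.neg_one_pow] at hf
    linarith
  · rw [he.neg_one_pow] at hf
    linarith

end

/-! ### Transitivity grows up to the size of the Jordan set -/

section

variable {G Ω : Type*} [Group G] [MulAction G Ω]

/-- The pointwise stabiliser of the complement of `U` is transitive on `U`. -/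
def IsJordan (G : Type*) [Group G] [MulAction G Ω] (U : Set Ω) : Prop :=
  ∀ x ∈ U, ∀ y ∈ U, ∃ g : G, (∀ z ∉ U, g • z = z) ∧ g • x = y

theorem IsJordan.of_mem_fam [Fintype G] [DecidableEq Ω] {Γ S : Finset Ω}
    (h : IsJordan G (Γ : Set Ω)) (hS : S ∈ fam G Γ) : IsJordan G (S : Set Ω) := by
  obtain ⟨g, -, rfl⟩ := Finset.mem_image.1 hS
  intro x hx y hy
  simp only [Finset.coe_image, Set.mem_image, Finset.mem_coe] at hx hy
  obtain ⟨x, hx, rfl⟩ := hx
  obtain ⟨y, hy, rfl⟩ := hy
  obtain ⟨k, hk, hkxy⟩ := h x hx y hy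
  refine ⟨g * k * g⁻¹, fun z hz => ?_, by rw [mul_smul, mul_smul, inv_smul_smul, hkxy]⟩
  have hz' : g⁻¹ • z ∉ (Γ : Set Ω) := fun h' => hz
    (by simp only [Finset.coe_image, Set.mem_image]; exact ⟨_, h', smul_inv_smul g z⟩)
  rw [mul_smul, mul_smul, hk _ hz', smul_inv_smul]

variable [Fintype G] [Fintype Ω] [DecidableEq Ω]

theorem transitive_succ {Γ : Finset Ω} (hΓ : IsJordan G (Γ : Set Ω)) {t : ℕ}
    (ht : IsMultiplyPretransitive G Ω t) (ht2 : 2 ≤ t) (htm : t + 1 ≤ Γ.card)
    (hn : 2 * Γ.card < Fintype.card Ω) : IsMultiplyPretransitive G Ω (t + 1) := by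
  haveI := ht
  -- the pointwise stabiliser of `t - 1` points is primitive on the rest
  have key : ∀ T : Finset Ω, T.card + 1 = t →
      IsMultiplyPretransitive (fixingSubgroup G (T : Set Ω))
        (SubMulAction.ofFixingSubgroup G (T : Set Ω)) 2 := by
    intro T hT
    set H := fixingSubgroup G (T : Set Ω)
    set X := SubMulAction.ofFixingSubgroup G (T : Set Ω)
    have hfix : ∀ h : H, ∀ z ∈ T, (h : G) • z = z := fun h z hz =>
      (mem_fixingSubgroup_iff G).1 h.2 z hz
    have htr : IsPretransitive H X := by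
      refine ⟨fun a b => ?_⟩
      let ea : Fin t ↪ Ω := (finCongr hT.symm).toEmbedding.trans
        ((Fin.Embedding.snoc ((T.equivFin.symm.toEmbedding).trans
          ⟨Subtype.val, Subtype.val_injective⟩) (a := (a : Ω))
            (by rintro ⟨i, hi⟩; exact a.2 (hi ▸ (T.equivFin.symm i).2))))
      let eb : Fin t ↪ Ω := (finCongr hT.symm).toEmbedding.trans
        ((Fin.Embedding.snoc ((T.equivFin.symm.toEmbedding).trans
          ⟨Subtype.val, Subtype.val_injective⟩) (a := (b : Ω))
            (by rintro ⟨i, hi⟩; exact b.2 (hi ▸ (T.equivFin.symm i).2))))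
      obtain ⟨g, hg⟩ := MulAction.exists_smul_eq G ea eb
      refine ⟨⟨g, (mem_fixingSubgroup_iff G).2 fun z hz => ?_⟩, Subtype.ext ?_⟩
      · have := DFunLike.congr_fun hg (finCongr hT (T.equivFin ⟨z, hz⟩).castSucc)
        simpa [ea, eb] using this
      · have := DFunLike.congr_fun hg (finCongr hT (Fin.last _))
        simpa [ea, eb] using this
    obtain ⟨x₀, hx₀⟩ : ∃ x : Ω, x ∉ T := by
      by_contra h
      push Not at h
      rw [Finset.eq_univ_of_forall h, Finset.card_univ] at hT
      omega
    haveI := htr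
    have hprim : IsPreprimitive H X := by
      refine IsPreprimitive.of_isTrivialBlock_base (⟨x₀, hx₀⟩ : X) fun {B} hxB hB => ?_
      rcases Set.subsingleton_or_nontrivial B with h | h
      · exact Or.inl h
      refine Or.inr ?_
      by_contra hne
      obtain ⟨x, hx, y, hy, hxy⟩ := h
      have hxy' : (x : Ω) ≠ y := fun e => hxy (Subtype.ext e)
      -- a translate avoiding `T` meeting `B` is contained in `B` or contains it
      have hdich : ∀ S ∈ fam G Γ, Disjoint T S → ∀ u ∈ B, (u : Ω) ∈ S →
          ∀ v ∈ B, (v : Ω) ∉ S → ∀ w ∈ S, ∃ b ∈ B, (b : Ω) = w := by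
        intro S hS hTS u hu huS v hv hvS w hw
        obtain ⟨g, hg, hgu⟩ := hΓ.of_mem_fam hS _ huS _ hw
        have hgH : g ∈ H := (mem_fixingSubgroup_iff G).2 fun z hz =>
          hg z (Finset.disjoint_left.1 hTS hz)
        have hfixv : (⟨g, hgH⟩ : H) • v = v := Subtype.ext (hg _ hvS)
        have hgB : (⟨g, hgH⟩ : H) • B = B := by
          refine (hB.smul_eq_or_disjoint _).resolve_right fun hd => ?_
          exact Set.disjoint_left.1 hd ⟨v, hv, hfixv⟩ hv
        refine ⟨(⟨g, hgH⟩ : H) • u, ?_, hgu⟩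
        rw [← hgB]
        exact Set.smul_mem_smul_set hu
      -- the block is larger than the translates
      obtain ⟨BF, hBF⟩ : ∃ BF : Finset Ω, ∀ w, w ∈ BF ↔ ∃ b ∈ B, (b : Ω) = w :=
        ⟨(Set.toFinite (Subtype.val '' B)).toFinset, fun w => by simp [Set.Finite.mem_toFinset]⟩
      have hBT : Disjoint T BF := Finset.disjoint_right.2 fun w hw => by
        obtain ⟨b, -, rfl⟩ := (hBF w).1 hw
        exact fun h => b.2 h
      obtain ⟨S₁, hS₁, hxS₁, hTS₁⟩ := exists_separating (G := G) (Γ := Γ) ht ht2 htm hn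
        (x := (x : Ω)) (T := insert (y : Ω) T)
        (by simp only [Finset.mem_insert, not_or]; exact ⟨hxy', x.2⟩)
        (by rw [Finset.card_insert_of_notMem y.2]; exact hT)
      rw [Finset.disjoint_insert_left] at hTS₁
      have hS₁B : S₁ ⊆ BF := fun w hw =>
        (hBF w).2 (hdich S₁ hS₁ hTS₁.2 x hx hxS₁ y hy hTS₁.1 w hw)
      have hbig : Γ.card < BF.card := by
        rw [← card_of_mem hS₁]
        exact Finset.card_lt_card ⟨hS₁B, fun h => hTS₁.1 (h ((hBF _).2 ⟨y, hy, rfl⟩))⟩
      have hin : ∀ S ∈ fam G Γ, Disjoint T S → (x : Ω) ∈ S → S ⊆ BF := by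
        intro S hS hTS hxS
        obtain ⟨v, hv, hvS⟩ : ∃ v ∈ BF, v ∉ S :=
          Finset.not_subset.1 fun h => absurd (Finset.card_le_card h)
            (by rw [card_of_mem hS]; omega)
        obtain ⟨v, hv', rfl⟩ := (hBF v).1 hv
        exact fun w hw => (hBF w).2 (hdich S hS hTS x hx hxS v hv' hvS w hw)
      -- two disjoint blocks avoid `T`
      have h2B : 2 * BF.card + T.card ≤ Fintype.card Ω := by
        obtain ⟨v, hv⟩ := (Set.ne_univ_iff_exists_notMem B).1 hne
        obtain ⟨k, hk⟩ := MulAction.exists_smul_eq H x v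
        have hdisj : Disjoint (k • B) B := (hB.smul_eq_or_disjoint k).resolve_left fun h =>
          hv (by rw [← h, ← hk]; exact Set.smul_mem_smul_set hx)
        have hd1 : Disjoint BF (BF.image ((k : G) • ·)) := Finset.disjoint_left.2 fun w hw hw' => by
          obtain ⟨b, hb, rfl⟩ := (hBF w).1 hw
          obtain ⟨w', hw', he⟩ := Finset.mem_image.1 hw'
          obtain ⟨b', hb', rfl⟩ := (hBF w').1 hw'
          exact Set.disjoint_left.1 hdisj ⟨b', hb', Subtype.ext he⟩ hb
        have hd2 : Disjoint T (BF.image ((k : G) • ·)) := Finset.disjoint_right.2 fun w hw hwT => by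
          obtain ⟨w', hw', rfl⟩ := Finset.mem_image.1 hw
          have := MulAction.injective (k : G) (hfix k _ hwT)
          exact Finset.disjoint_right.1 hBT hw' (this ▸ hwT)
        have := Finset.card_le_univ (BF ∪ BF.image ((k : G) • ·) ∪ T)
        rw [Finset.card_union_of_disjoint (Finset.disjoint_union_left.2 ⟨hBT.symm, hd2.symm⟩),
          Finset.card_union_of_disjoint hd1,
          Finset.card_image_of_injective _ (MulAction.injective _)] at this
        omega
      -- count the pairs through `x`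
      obtain ⟨τ, hτ⟩ : T.Nonempty := Finset.card_pos.1 (by omega)
      have hxBF : (x : Ω) ∈ BF := (hBF _).2 ⟨x, hx, rfl⟩
      have hsum : ∑ z ∈ BF.erase (x : Ω), cnt G Γ {(x : Ω), z} T =
          cnt G Γ {(x : Ω)} T * (Γ.card - 1) := by
        simp only [cnt, Finset.card_filter, Finset.sum_mul]
        rw [Finset.sum_comm]
        refine Finset.sum_congr rfl fun S hS => ?_
        by_cases hS' : (x : Ω) ∈ S ∧ Disjoint T S
        · rw [if_pos ⟨Finset.singleton_subset_iff.2 hS'.1, hS'.2⟩, one_mul, ← Finset.card_filter]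
          rw [show (BF.erase (x : Ω)).filter (fun z => {(x : Ω), z} ⊆ S ∧ Disjoint T S) =
              S.erase (x : Ω) by
            ext z
            simp only [Finset.mem_filter, Finset.mem_erase, Finset.insert_subset_iff,
              Finset.singleton_subset_iff]
            exact ⟨fun h => ⟨h.1.1, h.2.1.2⟩,
              fun h => ⟨⟨h.1, hin S hS hS'.2 hS'.1 h.2⟩, ⟨hS'.1, h.2⟩, hS'.2⟩⟩]
          rw [Finset.card_erase_of_mem hS'.1, card_of_mem hS]
        · rw [if_neg (fun h => hS' ⟨Finset.singleton_subset_iff.1 h.1, h.2⟩), zero_mul]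
          refine Finset.sum_eq_zero fun z _ => if_neg fun h => hS' ⟨?_, h.2⟩
          exact (Finset.insert_subset_iff.1 h.1).1
      have h1 := cnt_formula (G := G) (Γ := Γ) ht (by omega) (by omega) T {(x : Ω)}
        (Finset.disjoint_singleton_left.2 x.2) (by rw [Finset.card_singleton]; omega)
      have h2 : ∀ z ∈ BF.erase (x : Ω), (Fintype.card Ω).choose Γ.card * cnt G Γ {(x : Ω), z} T ≤
          (fam G Γ).card * (Fintype.card Ω - t).choose (Γ.card - 2) := by
        intro z hz
        obtain ⟨hzx, hz⟩ := Finset.mem_erase.1 hz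
        have hzT : z ∉ T := Finset.disjoint_right.1 hBT hz
        refine le_trans (Nat.mul_le_mul_left _ (cnt_mono (Finset.erase_subset τ T))) (le_of_eq ?_)
        rw [cnt_formula ht (by omega) (by omega) _ _ (Finset.disjoint_insert_left.2
          ⟨fun h => x.2 (Finset.mem_of_mem_erase h),
            Finset.disjoint_singleton_left.2 fun h => hzT (Finset.mem_of_mem_erase h)⟩)]
        · rw [Finset.card_pair (Ne.symm hzx), Finset.card_erase_of_mem hτ]
          congr 2
          omega
        · rw [Finset.card_pair (Ne.symm hzx), Finset.card_erase_of_mem hτ]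
          omega
      have h3 := Finset.sum_le_card_nsmul _ _ _ h2
      rw [← Finset.mul_sum, hsum, ← mul_assoc, h1, Finset.card_erase_of_mem hxBF, smul_eq_mul,
        Finset.card_singleton, show Fintype.card Ω - 1 - T.card = Fintype.card Ω - t by omega] at h3
      have h4 := Nat.choose_succ_right_eq (Fintype.card Ω - t) (Γ.card - 2)
      rw [show Γ.card - 2 + 1 = Γ.card - 1 by omega] at h4
      rw [mul_assoc, h4, ← mul_assoc, mul_comm (BF.card - 1)] at h3
      have := Nat.le_of_mul_le_mul_left h3
        (Nat.mul_pos (Finset.card_pos.2 fam_nonempty) (Nat.choose_pos (by omega)))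
      omega
    -- Jordan
    obtain ⟨T', hTT', hT'⟩ := Finset.exists_superset_card_eq (s := insert x₀ T) (n := t + 1)
      (by rw [Finset.card_insert_of_notMem hx₀]; omega) (by omega)
    obtain ⟨S, hS, hxS, hTS⟩ := exists_separating (G := G) (Γ := Γ) ht ht2 htm hn (x := x₀)
      (T := (T'.erase x₀)) (by simp)
      (by rw [Finset.card_erase_of_mem (hTT' (Finset.mem_insert_self _ _))]; omega)
    have hTS' : Disjoint T S := hTS.mono_left fun z hz => Finset.mem_erase.2
      ⟨fun h => hx₀ (by rw [← h]; exact hz), hTT' (Finset.mem_insert_of_mem hz)⟩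
    let s : Set X := {v | (v : Ω) ∉ S}
    have hXcard : Nat.card X + T.card = Fintype.card Ω := by
      rw [← Nat.card_eq_fintype_card]
      have := Set.ncard_add_ncard_compl (T : Set Ω)
      rw [Set.ncard_coe_finset] at this
      rw [← Nat.card_coe_set_eq] at this
      rw [show Nat.card X = Nat.card ((T : Set Ω)ᶜ : Set Ω) from
        Nat.card_congr (Equiv.refl _)]
      omega
    have hscard : s.ncard + S.card + T.card = Fintype.card Ω := by
      have h1 : Subtype.val '' s = ((T ∪ S : Finset Ω) : Set Ω)ᶜ := by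
        ext z
        simp only [Set.mem_image, Set.mem_compl_iff, Finset.coe_union, Set.mem_union,
          Finset.mem_coe, not_or, s, Set.mem_setOf_eq]
        exact ⟨fun ⟨v, hv, e⟩ => e ▸ ⟨v.2, hv⟩, fun h => ⟨⟨z, h.1⟩, h.2, rfl⟩⟩
      have h2 := Set.ncard_image_of_injective s Subtype.val_injective
      rw [h1] at h2
      have h3 := Set.ncard_add_ncard_compl ((T ∪ S : Finset Ω) : Set Ω)
      rw [Set.ncard_coe_finset, Finset.card_union_of_disjoint hTS', h2,
        Nat.card_eq_fintype_card] at h3
      omega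
    have hScard := card_of_mem hS
    refine hprim.is_two_pretransitive (s := s) (n := s.ncard - 1) (by omega) (by omega) ?_
    refine ⟨fun u v => ?_⟩
    have hu : ((u : X) : Ω) ∈ S := not_not.1 u.2
    have hv : ((v : X) : Ω) ∈ S := not_not.1 v.2
    obtain ⟨g, hg, hguv⟩ := hΓ.of_mem_fam hS _ hu _ hv
    have hgH : g ∈ H := (mem_fixingSubgroup_iff G).2 fun z hz =>
      hg z (Finset.disjoint_left.1 hTS' hz)
    refine ⟨⟨⟨g, hgH⟩, (mem_fixingSubgroup_iff H).2 fun w hw => Subtype.ext (hg _ hw)⟩, ?_⟩
    exact Subtype.ext (Subtype.ext hguv)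
  rw [isMultiplyPretransitive_iff]
  intro e e'
  obtain ⟨k, rfl⟩ : ∃ k, t = k + 1 := ⟨t - 1, by omega⟩
  -- move the first `t` points
  obtain ⟨g, hg⟩ := MulAction.exists_smul_eq G (Fin.castSuccEmb.trans e) (Fin.castSuccEmb.trans e')
  have hg' : ∀ i : Fin (k + 1), g • e i.castSucc = e' i.castSucc := fun i => DFunLike.congr_fun hg i
  -- fix the first `t - 1` of them
  let T : Finset Ω := Finset.univ.image fun i : Fin k => e' i.castSucc.castSucc
  have hTcard : T.card + 1 = k + 1 := by
    rw [Finset.card_image_of_injective _ fun i j h => by simpa using e'.injective h]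
    simp
  have hout : ∀ (f : Fin (k + 2) ↪ Ω), (∀ i : Fin k, f i.castSucc.castSucc = e' i.castSucc.castSucc) →
      ∀ j : Fin (k + 2), k ≤ (j : ℕ) → f j ∉ T := fun f hf j hj h => by
    obtain ⟨i, -, hi⟩ := Finset.mem_image.1 h
    rw [← hf] at hi
    have := congrArg Fin.val (f.injective hi)
    simp at this
    omega
  let a : Fin (k + 2) := (Fin.last k).castSucc
  let b : Fin (k + 2) := Fin.last (k + 1)
  have hab : a ≠ b := by simp [a, b, Fin.ext_iff]
  have hf : ∀ i : Fin k, (g • e) i.castSucc.castSucc = e' i.castSucc.castSucc := fun i => hg' _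
  obtain ⟨h, ha, hb⟩ := is_two_pretransitive_iff.1 (key T hTcard)
    (show (⟨(g • e) a, hout _ hf a (by simp [a])⟩ :
        SubMulAction.ofFixingSubgroup G (T : Set Ω)) ≠ ⟨(g • e) b, hout _ hf b (by simp [b])⟩ from
      fun hh => hab ((g • e).injective (congrArg Subtype.val hh)))
    (show (⟨e' a, hout _ (fun _ => rfl) a (by simp [a])⟩ :
        SubMulAction.ofFixingSubgroup G (T : Set Ω)) ≠ ⟨e' b, hout _ (fun _ => rfl) b (by simp [b])⟩ from
      fun hh => hab (e'.injective (congrArg Subtype.val hh)))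
  refine ⟨(h : G) * g, Function.Embedding.ext fun j => ?_⟩
  show ((h : G) * g) • e j = e' j
  rw [mul_smul]
  refine Fin.lastCases ?_ (fun i => ?_) j
  · exact congrArg Subtype.val hb
  refine Fin.lastCases ?_ (fun l => ?_) i
  · exact congrArg Subtype.val ha
  · rw [hg']
    exact (mem_fixingSubgroup_iff G).1 h.2 _ (Finset.mem_image.2 ⟨l, Finset.mem_univ _, rfl⟩)

/-- The commutator of two elements whose supports meet in one point is a `3`-cycle. -/
theorem toPerm_commutator {U V : Set Ω} {x : Ω} (hUV : U ∩ V = {x}) {h k : G}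
    (hh : ∀ z ∉ U, h • z = z) (hk : ∀ z ∉ V, k • z = z) (hhx : h • x ≠ x) (hkx : k • x ≠ x) :
    (MulAction.toPerm (h * k * h⁻¹ * k⁻¹) : Equiv.Perm Ω).IsThreeCycle := by
  have hhi : ∀ z ∉ U, h⁻¹ • z = z := fun z hz => inv_smul_eq_iff.2 (hh z hz).symm
  have hki : ∀ z ∉ V, k⁻¹ • z = z := fun z hz => inv_smul_eq_iff.2 (hk z hz).symm
  have hxU : x ∈ U := (hUV.ge rfl).1
  have hxV : x ∈ V := (hUV.ge rfl).2
  have honly : ∀ z, z ∈ U → z ∈ V → z = x := fun z hzU hzV => hUV.le ⟨hzU, hzV⟩
  have mem_of : ∀ {W : Set Ω} {c : G}, (∀ z ∉ W, c • z = z) → ∀ z ∈ W, c • z ∈ W := by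
    intro W c hc z hz
    by_contra h'
    have := hc _ h'
    exact h' (by rw [MulAction.injective c this]; exact hz)
  have hhU : h • x ∈ U := mem_of hh x hxU
  have hkV : k • x ∈ V := mem_of hk x hxV
  have haV : h • x ∉ V := fun h' => hhx (honly _ hhU h')
  have hbU : k • x ∉ U := fun h' => hkx (honly _ h' hkV)
  have hki' : k⁻¹ • x ≠ x := fun e => hkx (by conv_lhs => rw [← e, smul_inv_smul])
  have hhi' : h⁻¹ • x ≠ x := fun e => hhx (by conv_lhs => rw [← e, smul_inv_smul])
  have hkiU : k⁻¹ • x ∉ U := fun h' => hki' (honly _ h' (mem_of hki x hxV))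
  have hhiV : h⁻¹ • x ∉ V := fun h' => hhi' (honly _ (mem_of hhi x hxU) h')
  have hne : h • x ≠ k • x := fun e => haV (e ▸ hkV)
  have key : (MulAction.toPerm (h * k * h⁻¹ * k⁻¹) : Equiv.Perm Ω) =
      Equiv.swap x (k • x) * Equiv.swap x (h • x) := by
    refine Equiv.ext fun z => ?_
    rw [MulAction.toPerm_apply, Equiv.Perm.mul_apply, mul_smul, mul_smul, mul_smul]
    rcases eq_or_ne z x with rfl | hzx
    · rw [Equiv.swap_apply_left, Equiv.swap_apply_of_ne_of_ne hhx hne, hhi _ hkiU, smul_inv_smul]
    rcases eq_or_ne z (h • x) with rfl | hza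
    · rw [Equiv.swap_apply_right, Equiv.swap_apply_left, hki _ haV, inv_smul_smul, hh _ hbU]
    rcases eq_or_ne z (k • x) with rfl | hzb
    · rw [Equiv.swap_apply_of_ne_of_ne hkx (Ne.symm hne), Equiv.swap_apply_right, inv_smul_smul,
        hk _ hhiV, smul_inv_smul]
    rw [Equiv.swap_apply_of_ne_of_ne hzx hza, Equiv.swap_apply_of_ne_of_ne hzx hzb]
    by_cases hzU : z ∈ U
    · have hzV : z ∉ V := fun h' => hzx (honly _ hzU h')
      have h1 : h⁻¹ • z ∈ U := mem_of hhi z hzU
      have h2 : h⁻¹ • z ∉ V := fun h' => hza (by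
        rw [← honly _ h1 h', smul_inv_smul])
      rw [hki _ hzV, hk _ h2, smul_inv_smul]
    · by_cases hzV : z ∈ V
      · have h1 : k⁻¹ • z ∈ V := mem_of hki z hzV
        have h2 : k⁻¹ • z ∉ U := fun h' => hzb (by rw [← honly _ h' h1, smul_inv_smul])
        rw [hhi _ h2, smul_inv_smul, hh _ hzU]
      · rw [hki _ hzV, hhi _ hzU, hk _ hzV, hh _ hzU]
  rw [key]
  exact Equiv.Perm.isThreeCycle_swap_mul_swap_same (Ne.symm hkx) (Ne.symm hhx) (Ne.symm hne)

/-- **Marggraf.** A primitive group with a Jordan set of fewer than half of the points contains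
the alternating group. -/
theorem alternating_le (hfaith : FaithfulSMul G Ω) (hprim : IsPreprimitive G Ω) {Γ : Finset Ω}
    (hΓ : IsJordan G (Γ : Set Ω)) (h1 : 1 < Γ.card) (hn : 2 * Γ.card < Fintype.card Ω) :
    ∀ σ : Equiv.Perm Ω, Equiv.Perm.sign σ = 1 → ∃ g : G, MulAction.toPerm g = σ := by
  have h3 : IsMultiplyPretransitive G Ω 3 :=
    Cfsg.Agent.S3707.result hprim (Γ : Set Ω) (by rwa [Set.ncard_coe_finset])
      (by rw [Set.ncard_coe_finset, Nat.card_eq_fintype_card]; omega) hΓ
  have hm : IsMultiplyPretransitive G Ω Γ.card := by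
    rcases le_or_gt Γ.card 3 with h | h
    · haveI := h3
      exact MulAction.isMultiplyPretransitive_of_le (n := 3) h
        (by rw [Nat.card_eq_fintype_card]; omega)
    · suffices H : ∀ t, 3 ≤ t → t ≤ Γ.card → IsMultiplyPretransitive G Ω t from H _ h.le le_rfl
      intro t h3t
      induction t, h3t using Nat.le_induction with
      | base => exact fun _ => h3
      | succ t ht ih => exact fun htm => transitive_succ hΓ (ih (by omega)) (by omega) htm hn
  -- two translates meeting in one point
  obtain ⟨x, hx⟩ : Γ.Nonempty := Finset.card_pos.1 (by omega)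
  obtain ⟨W, hW, hWc⟩ := Finset.exists_subset_card_eq (s := Γᶜ) (n := Γ.card - 1)
    (by rw [Finset.card_compl]; omega)
  have hxW : x ∉ W := fun h => (Finset.mem_compl.1 (hW h)) hx
  obtain ⟨g, hg⟩ := exists_map_set hm (by omega) (R := Γ) (R' := insert x W) le_rfl
    (by rw [Finset.card_insert_of_notMem hxW, hWc]; omega)
  have hJ2 : IsJordan G (↑(insert x W) : Set Ω) :=
    hΓ.of_mem_fam (Finset.mem_image.2 ⟨g, Finset.mem_univ _, hg⟩)
  have hUV : (Γ : Set Ω) ∩ ↑(insert x W) = {x} := by
    ext z
    simp only [Set.mem_inter_iff, Finset.mem_coe, Finset.mem_insert, Set.mem_singleton_iff]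
    exact ⟨fun h => h.2.resolve_right fun h' => Finset.mem_compl.1 (hW h') h.1,
      fun h => ⟨h ▸ hx, Or.inl h⟩⟩
  obtain ⟨a, ha, hax⟩ := Finset.exists_mem_ne h1 x
  obtain ⟨b, hb⟩ : W.Nonempty := Finset.card_pos.1 (by omega)
  obtain ⟨h, hh, hhx⟩ := hΓ x hx a ha
  obtain ⟨k, hk, hkx⟩ := hJ2 x (by simp) b (by simp [hb])
  have hcyc := toPerm_commutator hUV hh hk (hhx ▸ hax)
    (by rw [hkx]; exact fun e => hxW (e ▸ hb))
  haveI : IsPreprimitive (toPermHom G Ω).range Ω :=
    IsPreprimitive.of_surjective (φ := (toPermHom G Ω).rangeRestrict)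
      (f := (⟨id, fun _ _ => rfl⟩ : Ω →ₑ[(toPermHom G Ω).rangeRestrict] Ω)) Function.surjective_id
  have hA := Equiv.Perm.alternatingGroup_le_of_isPreprimitive_of_isThreeCycle_mem
    (G := (toPermHom G Ω).range) (by assumption) hcyc ⟨_, rfl⟩
  intro σ hσ
  exact hA (Equiv.Perm.mem_alternatingGroup.2 hσ)

end

end CfsgLib.Perm.Marggraf
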