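import Mathlib

/-!
Certified closures of small groups of 2×2 matrices over `ZMod p` acting on the plane.
-/

namespace CfsgLib.Perm

open Matrix

/-- A 2×2 matrix given by four natural numbers. -/
abbrev Quad := ℕ × ℕ × ℕ × ℕ

/-- Product of quadruples modulo `p`. -/
def qmul (p : ℕ) : Quad → Quad → Quad
  | (a, b, c, d), (a', b', c', d') =>
    ((a * a' + b * c') % p, (a * b' + b * d') % p, (c * a' + d * c') % p, (c * b' + d * d') % p)

/-- The elements enumerated by a certificate of parent and generator indices. -/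
def qList (p : ℕ) (gens : List Quad) : List (ℕ × ℕ) → List Quad → List Quad
  | [], acc => acc
  | (i, j) :: rest, acc =>
    qList p gens rest (acc ++ [qmul p (acc.getD i (1, 0, 0, 1)) (gens.getD j (1, 0, 0, 1))])

/-- Closedness of a list under right multiplication by generators. -/
def qClosed (p : ℕ) (gens l : List Quad) : Bool :=
  l.all fun x => gens.all fun g => l.contains (qmul p x g)

/-- Image of the first unit vector. -/
def qCol : Quad → ℕ × ℕ
  | (a, _, c, _) => (a, c)

variable {p : ℕ}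

/-- The matrix of a quadruple. -/
def qMat (p : ℕ) : Quad → Matrix (Fin 2) (Fin 2) (ZMod p)
  | (a, b, c, d) => !![(a : ZMod p), b; c, d]

theorem qMat_qmul (x y : Quad) : qMat p (qmul p x y) = qMat p x * qMat p y := by
  obtain ⟨a, b, c, d⟩ := x
  obtain ⟨a', b', c', d'⟩ := y
  ext i j
  fin_cases i <;> fin_cases j <;> simp [qMat, qmul, Matrix.mul_apply, Fin.sum_univ_two]

theorem qMat_one : qMat p (1, 0, 0, 1) = 1 := by
  ext i j
  fin_cases i <;> fin_cases j <;> simp [qMat]

theorem qList_mem {S : Submonoid (Matrix (Fin 2) (Fin 2) (ZMod p))} {gens : List Quad}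
    (hg : ∀ g ∈ gens, qMat p g ∈ S) :
    ∀ (cert : List (ℕ × ℕ)) (acc : List Quad), (∀ x ∈ acc, qMat p x ∈ S) →
      ∀ x ∈ qList p gens cert acc, qMat p x ∈ S := by
  intro cert
  induction cert with
  | nil => intro acc h x hx; exact h x hx
  | cons c rest ih =>
    obtain ⟨i, j⟩ := c
    intro acc h
    refine ih _ fun x hx => ?_
    rcases List.mem_append.1 hx with hx | hx
    · exact h x hx
    · rw [List.mem_singleton] at hx
      subst hx
      rw [qMat_qmul]
      have key : ∀ (l : List Quad), (∀ x ∈ l, qMat p x ∈ S) → ∀ n,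
          qMat p (l.getD n (1, 0, 0, 1)) ∈ S := by
        intro l hl n
        rw [List.getD_eq_getElem?_getD]
        rcases hln : l[n]? with _ | v
        · simpa [qMat_one] using S.one_mem
        · exact hl v (List.mem_of_getElem? hln)
      exact S.mul_mem (key acc h i) (key gens hg j)

variable [Fact p.Prime]

/-- Elements of the closure of generators lie in a closed list. -/
theorem closure_subset_qList (S : Set (GL (Fin 2) (ZMod p))) (gens l : List Quad)
    (hS : ∀ g ∈ S, ∃ q ∈ gens, qMat p q = (g : Matrix (Fin 2) (Fin 2) (ZMod p)))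
    (h1 : (1, 0, 0, 1) ∈ l) (hcl : qClosed p gens l = true)
    {h : GL (Fin 2) (ZMod p)} (hh : h ∈ Subgroup.closure S) :
    ∃ q ∈ l, qMat p q = (h : Matrix (Fin 2) (Fin 2) (ZMod p)) := by
  have hfin : ∀ x : GL (Fin 2) (ZMod p), x ∈ Subgroup.closure S → x ∈ Submonoid.closure S := by
    intro x hx
    rwa [← Subgroup.closure_toSubmonoid_of_finite]
  induction hfin h hh using Submonoid.closure_induction_right with
  | one => exact ⟨_, h1, qMat_one⟩
  | mul_right x hx y hy ih =>
    obtain ⟨q, hq, hqx⟩ := ih (by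
      rw [← Subgroup.closure_toSubmonoid_of_finite] at hx
      exact hx)
    obtain ⟨g, hg, hgy⟩ := hS y hy
    refine ⟨qmul p q g, ?_, by rw [qMat_qmul, hqx, hgy, Units.val_mul]⟩
    simp only [qClosed, List.all_eq_true, List.contains_iff_mem] at hcl
    exact hcl q hq g hg

/-- Listed elements lie in the closure. -/
theorem qList_subset_closure (S : Set (GL (Fin 2) (ZMod p))) (gens : List Quad)
    (hS : ∀ q ∈ gens, ∃ g ∈ S, qMat p q = (g : Matrix (Fin 2) (Fin 2) (ZMod p)))
    (cert : List (ℕ × ℕ)) {q : Quad} (hq : q ∈ qList p gens cert [(1, 0, 0, 1)]) :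
    ∃ h ∈ Subgroup.closure S, qMat p q = (h : Matrix (Fin 2) (Fin 2) (ZMod p)) := by
  have := qList_mem (p := p) (S := (Subgroup.closure S).toSubmonoid.map (Units.coeHom _))
    (gens := gens) (fun q hq => by
      obtain ⟨g, hg, he⟩ := hS q hq
      exact ⟨g, Subgroup.subset_closure hg, he.symm⟩)
    cert [(1, 0, 0, 1)] (fun x hx => by
      rw [List.mem_singleton] at hx
      rw [hx, qMat_one]
      exact ⟨1, Subgroup.one_mem _, rfl⟩) q hq
  obtain ⟨h, hh, he⟩ := this
  exact ⟨h, hh, he.symm⟩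

/-- A group with trivial vector stabiliser and large enough order acts regularly. -/
theorem regular_of_card_dvd (G : Subgroup (GL (Fin 2) (ZMod p)))
    (hstab : ∀ h ∈ G, (h : Matrix (Fin 2) (Fin 2) (ZMod p)) *ᵥ ![1, 0] = ![1, 0] → h = 1)
    (hdvd : p ^ 2 - 1 ∣ Nat.card G) :
    Nat.card G = p ^ 2 - 1 ∧ ∀ v w : Fin 2 → ZMod p, v ≠ 0 → w ≠ 0 →
      ∃! h : G, ((h : GL (Fin 2) (ZMod p)) : Matrix (Fin 2) (Fin 2) (ZMod p)) *ᵥ v = w := by
  classical
  set e : Fin 2 → ZMod p := ![1, 0] with he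
  have he0 : e ≠ 0 := fun h => by simpa [he] using congrFun h 0
  have hne : ∀ h : G, ((h : GL (Fin 2) (ZMod p)) : Matrix (Fin 2) (Fin 2) (ZMod p)) *ᵥ e ≠ 0 := by
    intro h hc
    have := congrArg (fun u => (((h : GL (Fin 2) (ZMod p))⁻¹ : GL (Fin 2) (ZMod p)) :
      Matrix (Fin 2) (Fin 2) (ZMod p)) *ᵥ u) hc
    rw [Matrix.mulVec_mulVec, Units.inv_mul, Matrix.one_mulVec, Matrix.mulVec_zero] at this
    exact he0 this
  let f : G → {u : Fin 2 → ZMod p // u ≠ 0} := fun h => ⟨_, hne h⟩
  have hinj : Function.Injective f := by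
    intro a b hab
    have h1 := congrArg Subtype.val hab
    simp only [f] at h1
    have h2 := hstab _ (G.mul_mem (G.inv_mem a.2) b.2) (by
      rw [Units.val_mul, ← Matrix.mulVec_mulVec, ← h1, Matrix.mulVec_mulVec, Units.inv_mul,
        Matrix.one_mulVec])
    rw [inv_mul_eq_one] at h2
    exact Subtype.ext h2
  have hcard : Nat.card {u : Fin 2 → ZMod p // u ≠ 0} = p ^ 2 - 1 := by
    rw [Nat.card_eq_fintype_card, Fintype.card_subtype_compl, Fintype.card_subtype_eq,
      Fintype.card_fun, ZMod.card, Fintype.card_fin]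
  have hle := Nat.card_le_card_of_injective f hinj
  rw [hcard] at hle
  have hG : Nat.card G = p ^ 2 - 1 := le_antisymm hle (Nat.le_of_dvd Nat.card_pos hdvd)
  refine ⟨hG, fun v w hv hw => ?_⟩
  have hbij : Function.Bijective f :=
    (Nat.bijective_iff_injective_and_card f).2 ⟨hinj, by rw [hG, hcard]⟩
  obtain ⟨x, hx⟩ := hbij.2 ⟨v, hv⟩
  obtain ⟨y, hy⟩ := hbij.2 ⟨w, hw⟩
  have hxv := congrArg Subtype.val hx
  have hyw := congrArg Subtype.val hy
  simp only [f] at hxv hyw
  refine ⟨y * x⁻¹, ?_, fun z hz => ?_⟩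
  · simp only [Subgroup.coe_mul, Subgroup.coe_inv, Units.val_mul]
    rw [← hxv, Matrix.mulVec_mulVec, mul_assoc, Units.inv_mul, mul_one, hyw]
  · refine eq_mul_inv_of_mul_eq (hinj (Subtype.ext ?_))
    simp only [f, Subgroup.coe_mul, Units.val_mul]
    rw [← Matrix.mulVec_mulVec, hxv, hz, hyw]

end CfsgLib.Perm
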