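import Cfsg.Prelude.Def_Perm
import Cfsg.Agent.Lib.Perm.Sharp

/-!
Near-fields and their affine groups; finite sharply 2-transitive groups come from near-fields.
-/

namespace CfsgLib.Perm

open MulAction

section affine

variable {F : Type*} [Cfsg.NearField F]

theorem nf_zero_mul (a : F) : (0 : F) * a = 0 := by
  have h := Cfsg.NearField.right_distrib (0 : F) 0 a
  rw [add_zero] at h
  exact left_eq_add.1 h

theorem nf_neg_mul (x a : F) : (-x) * a = -(x * a) := by
  apply eq_neg_of_add_eq_zero_left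
  rw [← Cfsg.NearField.right_distrib, neg_add_cancel, nf_zero_mul]

theorem nf_mul_ne_zero {a b : F} (ha : a ≠ 0) (hb : b ≠ 0) : a * b ≠ 0 := by
  intro h
  obtain ⟨b', hbb', -⟩ := Cfsg.NearField.exists_inv b hb
  apply ha
  calc a = a * b * b' := by rw [mul_assoc, hbb', mul_one]
    _ = 0 := by rw [h, nf_zero_mul]

variable (F) in
/-- The group of maps `x ↦ x * a + b`, `a ≠ 0`. -/
def nearAffine : Subgroup (Equiv.Perm F) where
  carrier := {σ | ∃ a b : F, a ≠ 0 ∧ ∀ x : F, σ x = x * a + b}
  one_mem' := ⟨1, 0, fun h => Cfsg.NearField.zero_ne_one h.symm, fun x => by simp⟩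
  mul_mem' := by
    rintro σ τ ⟨a, b, ha, hσ⟩ ⟨c, d, hc, hτ⟩
    refine ⟨c * a, d * a + b, nf_mul_ne_zero hc ha, fun x => ?_⟩
    rw [Equiv.Perm.mul_apply, hτ, hσ, Cfsg.NearField.right_distrib, mul_assoc, add_assoc]
  inv_mem' := by
    rintro σ ⟨a, b, ha, hσ⟩
    obtain ⟨a', haa', ha'a⟩ := Cfsg.NearField.exists_inv a ha
    have ha' : a' ≠ 0 := fun h => Cfsg.NearField.zero_ne_one (by
      rw [← haa', h, Cfsg.NearField.mul_zero])
    refine ⟨a', -(b * a'), ha', fun x => ?_⟩
    rw [Equiv.Perm.inv_eq_iff_eq, hσ, Cfsg.NearField.right_distrib, mul_assoc, ha'a, mul_one,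
      nf_neg_mul, mul_assoc, ha'a, mul_one, add_assoc, neg_add_cancel, add_zero]

theorem mem_nearAffine {σ : Equiv.Perm F} :
    σ ∈ nearAffine F ↔ ∃ a b : F, a ≠ 0 ∧ ∀ x : F, σ x = x * a + b := Iff.rfl

/-- The permutation `x ↦ x * a + b`. -/
noncomputable def nearMap (a : F) (ha : a ≠ 0) (b : F) : Equiv.Perm F :=
  Equiv.ofBijective (fun x => x * a + b) (by
    obtain ⟨a', haa', ha'a⟩ := Cfsg.NearField.exists_inv a ha
    constructor
    · intro x y hxy
      have h : x * a = y * a := add_right_cancel hxy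
      have := congrArg (fun t => t * a') h
      simpa [mul_assoc, haa'] using this
    · intro y
      refine ⟨(y - b) * a', ?_⟩
      simp [mul_assoc, ha'a])

theorem nearMap_mem (a : F) (ha : a ≠ 0) (b : F) : nearMap a ha b ∈ nearAffine F :=
  ⟨a, b, ha, fun _ => rfl⟩

theorem nearAffine_two : IsMultiplyPretransitive (nearAffine F) F 2 := by
  rw [is_two_pretransitive_iff]
  intro x₁ x₂ y₁ y₂ hx hy
  obtain ⟨u, huu, hu'u⟩ := Cfsg.NearField.exists_inv (x₁ - x₂) (sub_ne_zero.2 hx)
  have hu0 : u ≠ 0 := fun h => Cfsg.NearField.zero_ne_one (by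
    rw [← huu, h, Cfsg.NearField.mul_zero])
  set a := u * (y₁ - y₂) with hadef
  have ha : a ≠ 0 := nf_mul_ne_zero hu0 (sub_ne_zero.2 hy)
  have key : x₁ * a + -(x₂ * a) = y₁ - y₂ := by
    rw [← nf_neg_mul, ← Cfsg.NearField.right_distrib, ← sub_eq_add_neg, hadef, ← mul_assoc, huu,
      one_mul]
  refine ⟨⟨nearMap a ha (-(x₁ * a) + y₁), nearMap_mem _ _ _⟩, ?_, ?_⟩
  · change x₁ * a + (-(x₁ * a) + y₁) = y₁
    rw [add_neg_cancel_left]
  · change x₂ * a + (-(x₁ * a) + y₁) = y₂
    have h2 : x₂ * a = -(y₁ - y₂) + x₁ * a := by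
      rw [← key, neg_add_rev, neg_neg, add_assoc, neg_add_cancel, add_zero]
    rw [h2, add_assoc, add_neg_cancel_left, neg_sub, sub_add_cancel]

theorem nearAffine_sharp (x : Fin 2 ↪ F) : stabilizer (nearAffine F) x = ⊥ := by
  rw [Subgroup.eq_bot_iff_forall]
  intro τ hs
  rw [mem_stabilizer_iff] at hs
  obtain ⟨σ, a, b, ha0, hσ⟩ := τ
  have h0 : σ (x 0) = x 0 := congrArg (fun e : Fin 2 ↪ F => e 0) hs
  have h1 : σ (x 1) = x 1 := congrArg (fun e : Fin 2 ↪ F => e 1) hs
  rw [hσ] at h0 h1
  have hne : x 0 - x 1 ≠ 0 := sub_ne_zero.2 (x.injective.ne (by decide))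
  have h2 : (x 0 - x 1) * a = x 0 - x 1 := by
    rw [sub_eq_add_neg, Cfsg.NearField.right_distrib, nf_neg_mul, ← sub_eq_add_neg]
    conv_rhs => rw [← h0, ← h1, neg_add_rev, add_assoc, add_neg_cancel_left]
    rw [sub_eq_add_neg]
  obtain ⟨u, huu, hu'u⟩ := Cfsg.NearField.exists_inv _ hne
  have ha : a = 1 := by
    calc a = u * (x 0 - x 1) * a := by rw [hu'u, one_mul]
      _ = 1 := by rw [mul_assoc, h2, hu'u]
  subst ha
  have hb : b = 0 := by simpa using h0
  refine Subtype.ext (Equiv.ext fun y => ?_)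
  change σ y = y
  rw [hσ, hb, mul_one, add_zero]

variable [Fintype F]

theorem nearAffine_isSharpTwo : IsSharpTwo (nearAffine F) where
  two := nearAffine_two
  sharp := nearAffine_sharp
  card := Fintype.one_lt_card_iff.2 ⟨0, 1, Cfsg.NearField.zero_ne_one⟩

end affine

section construct

variable {α : Type*} [Fintype α] {H : Subgroup (Equiv.Perm α)}

/-- Every finite sharply 2-transitive group is the affine group of a near-field. -/
theorem IsSharpTwo.exists_nearField (h : IsSharpTwo H) :
    ∃ _ : Cfsg.NearField α, ∀ σ : Equiv.Perm α, σ ∈ H ↔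
      ∃ a b : α, a ≠ 0 ∧ ∀ x : α, σ x = x * a + b := by
  classical
  obtain ⟨o, i, hoi⟩ := Fintype.exists_pair_of_one_lt_card (lt_of_lt_of_le one_lt_two h.card)
  obtain ⟨p, j, K, -, -, -, hKn, -, -, hKc, -, hKt, hKr⟩ := h.exists_kernel
  have hKu : ∀ y : α, ∃! k : K, k • o = y := by
    intro y
    obtain ⟨k, hk⟩ := MulAction.exists_smul_eq K o y
    refine ⟨k, hk, fun k' hk' => ?_⟩
    have : k⁻¹ * k' ∈ stabilizer K o := by
      rw [mem_stabilizer_iff, mul_smul, hk', ← hk, inv_smul_smul]
    rw [hKr, Subgroup.mem_bot, inv_mul_eq_one] at this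
    exact this.symm
  choose k hk hkuniq using hKu
  have hMu : ∀ a : α, a ≠ o → ∃! m : H, m • o = o ∧ m • i = a := by
    intro a ha
    obtain ⟨m, hm⟩ := is_two_pretransitive_iff.1 h.two hoi (Ne.symm ha)
    refine ⟨m, hm, fun m' hm' => ?_⟩
    have := h.eq_one hoi (g := m⁻¹ * m') (by rw [mul_smul, hm'.1, inv_smul_eq_iff, hm.1])
      (by rw [mul_smul, hm'.2, inv_smul_eq_iff, hm.2])
    rw [inv_mul_eq_one] at this
    exact this.symm
  choose m hm hmuniq using hMu
  let add' : α → α → α := fun x y => (k y : H) • x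
  let mul' : α → α → α := fun x a => if ha : a = o then o else m a ha • x
  have kmul : ∀ x y, k ((k y : H) • x) = k y * k x := fun x y => by
    refine (hkuniq _ _ ?_).symm
    change ((k y * k x : K) : H) • o = _
    rw [Subgroup.coe_mul, mul_smul]
    congr 1
    exact hk x
  have hk' : ∀ y, (k y : H) • o = y := hk
  have hkcomm : ∀ x y, k x * k y = k y * k x := fun x y =>
    Subtype.ext (hKc _ (k x).2 _ (k y).2)
  have add_assoc' : ∀ x y z, add' (add' x y) z = add' x (add' y z) := fun x y z => by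
    change (k z : H) • (k y : H) • x = (k (add' y z) : H) • x
    rw [kmul, Subgroup.coe_mul, mul_smul]
  have k_o : k o = 1 := (hkuniq o 1 (one_smul _ _)).symm
  have mul_ne : ∀ x a, x ≠ o → a ≠ o → mul' x a ≠ o := by
    intro x a hx ha heq
    simp only [mul', dif_neg ha] at heq
    exact hx (MulAction.injective (m a ha) (heq.trans (hm a ha).1.symm))
  have mul_assoc' : ∀ x a b, mul' (mul' x a) b = mul' x (mul' a b) := by
    intro x a b
    by_cases hb : b = o
    · simp [mul', hb]
    by_cases ha : a = o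
    · simp [mul', ha, hb, (hm b hb).1]
    have hab : mul' a b ≠ o := mul_ne a b ha hb
    have : m (mul' a b) hab = m b hb * m a ha := by
      refine (hmuniq _ hab _ ⟨?_, ?_⟩).symm
      · rw [mul_smul, (hm a ha).1, (hm b hb).1]
      · rw [mul_smul, (hm a ha).2]
        simp only [mul', dif_neg hb]
    simp only [mul', dif_neg ha, dif_neg hb] at hab this ⊢
    rw [dif_neg hab, this, mul_smul]
  have m_i : m i hoi.symm = 1 :=
    (hmuniq i hoi.symm 1 ⟨one_smul _ _, one_smul _ _⟩).symm
  have distrib' : ∀ x y c, mul' (add' x y) c = add' (mul' x c) (mul' y c) := by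
    intro x y c
    by_cases hc : c = o
    · simp [mul', add', hc, k_o]
    simp only [mul', dif_neg hc, add']
    set g := m c hc
    have hconj : k (g • y) = ⟨g * (k y : H) * g⁻¹, hKn.conj_mem _ (k y).2 g⟩ := by
      refine (hkuniq _ _ ?_).symm
      change (g * (k y : H) * g⁻¹) • o = g • y
      rw [mul_smul, mul_smul, inv_smul_eq_iff.2 (hm c hc).1.symm, hk']
    rw [hconj]
    simp [mul_smul]
  let inst : Cfsg.NearField α :=
    { add := add'
      add_assoc := add_assoc'
      zero := o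
      zero_add := fun x => hk' x
      add_zero := fun x => by change (k o : H) • x = x; simp [k_o]
      nsmul := @nsmulRec α ⟨o⟩ ⟨add'⟩
      neg := fun x => (k x : H)⁻¹ • o
      zsmul := @zsmulRec α ⟨o⟩ ⟨add'⟩ ⟨fun x => (k x : H)⁻¹ • o⟩ (@nsmulRec α ⟨o⟩ ⟨add'⟩)
      neg_add_cancel := fun x => by
        change (k x : H) • (k x : H)⁻¹ • o = o
        rw [smul_inv_smul]
      mul := mul'
      mul_assoc := mul_assoc'
      one := i
      one_mul := fun a => by
        change mul' i a = a
        by_cases ha : a = o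
        · simp [mul', ha]
        · simp only [mul', dif_neg ha]; exact (hm a ha).2
      mul_one := fun x => by
        change mul' x i = x
        simp only [mul', dif_neg hoi.symm, m_i, one_smul]
      npow := @npowRec α ⟨i⟩ ⟨mul'⟩
      right_distrib := distrib'
      mul_zero := fun x => by change mul' x o = o; simp [mul']
      zero_ne_one := hoi
      exists_inv := fun a ha => by
        change a ≠ o at ha
        have hb : (m a ha)⁻¹ • i ≠ o := fun hb => hoi ((inv_smul_eq_iff.1 hb).trans (hm a ha).1).symm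
        have hmb : m _ hb = (m a ha)⁻¹ :=
          (hmuniq _ hb _ ⟨inv_smul_eq_iff.2 (hm a ha).1.symm, rfl⟩).symm
        refine ⟨(m a ha)⁻¹ • i, ?_, ?_⟩
        · change mul' a _ = i
          simp only [mul', dif_neg hb, hmb]
          rw [inv_smul_eq_iff, (hm a ha).2]
        · change mul' _ a = i
          simp only [mul', dif_neg ha, smul_inv_smul] }
  refine ⟨inst, fun σ => ⟨fun hσ => ?_, ?_⟩⟩
  · let g : H := ⟨σ, hσ⟩
    let b := g • o
    let a := ((k b : H)⁻¹ * g) • i
    have h1 : ((k b : H)⁻¹ * g) • o = o := by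
      rw [mul_smul, inv_smul_eq_iff]
      exact (hk' b).symm
    have ha : a ≠ o := fun hao => hoi.symm (MulAction.injective _ (hao.trans h1.symm))
    refine ⟨a, b, ha, fun x => ?_⟩
    change g • x = add' (mul' x a) b
    simp only [add', mul', dif_neg ha]
    rw [← hmuniq a ha _ ⟨h1, rfl⟩, mul_smul, smul_inv_smul]
  · rintro ⟨a, b, ha, hσ⟩
    change a ≠ o at ha
    have : σ = (((k b : H) * m a ha : H) : Equiv.Perm α) := Equiv.ext fun x => by
      rw [hσ]
      change add' (mul' x a) b = ((k b : H) * m a ha) • x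
      simp only [add', mul', dif_neg ha, mul_smul]
    rw [this]
    exact SetLike.coe_mem _

end construct

end CfsgLib.Perm
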