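import Cfsg.Agent.Lib.Perm.NearLinearNonsoluble
import Cfsg.Agent.Lib.Base.Transport
import Cfsg.Agent.Lib.Chars.Burnside

/-!
Insoluble regular linear groups: the exceptional near-fields of orders `11^2`, `29^2`, `59^2`.
-/

namespace CfsgLib.Perm

open Subgroup

theorem small_primes_exceptional {p : ℕ} (hp : p < 120) (h7 : 7 ≤ p) (hpp : Nat.Prime p)
    (h1 : 120 ∣ p ^ 2 - 1) (h2 : p + 1 ∣ 120) : p = 11 ∨ p = 19 ∨ p = 29 ∨ p = 59 := by
  have key : ∀ q : Fin 120, 7 ≤ q.val → 120 ∣ q.val ^ 2 - 1 → q.val + 1 ∣ 120 → q.val.Prime →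
      q.val = 11 ∨ q.val = 19 ∨ q.val = 29 ∨ q.val = 59 := by decide +kernel
  exact key ⟨p, hp⟩ h7 h1 h2 hpp

theorem small_squares_exceptional {p : ℕ} (hp : p < 16) (h7 : 7 ≤ p) : ¬ p ^ 2 + 1 ∣ 240 := by
  have key : ∀ q : Fin 16, 7 ≤ q.val → ¬ q.val ^ 2 + 1 ∣ 240 := by decide +kernel
  exact key ⟨p, hp⟩ h7

/-- The degree arithmetic for insoluble exceptional near-field groups. -/
theorem degree_arith_insoluble {p k n a d e : ℕ} (hp : p.Prime) (hk : 1 ≤ k) (h2k : 2 * k ≤ n)
    (hkn : k ∣ n) (ha : a ∣ p ^ k - 1) (hd1 : 1 ≤ d) (hd2 : d ≤ 2) (he : 1 ≤ e) (hek : e ≤ k)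
    (h120 : 120 ∣ p ^ n - 1) (ha2 : 2 ∣ a) (h : p ^ n - 1 = a * (60 * d) * e) :
    n = 2 ∧ d = 1 ∧ e = 1 ∧
      ((p = 11 ∧ a = 2) ∨ (p = 19 ∧ a = 6) ∨ (p = 29 ∧ a = 14) ∨ (p = 59 ∧ a = 58)) := by
  have hn1 : n ≠ 0 := by omega
  have hp7 : 7 ≤ p := by
    by_contra hlt
    have h2 := hp.two_le
    have hd : ∀ q : ℕ, q ∣ p → q ∣ 120 → 1 < q → False := by
      intro q hq hq' hq1
      have hpn : q ∣ p ^ n := hq.trans (dvd_pow_self p hn1)
      have hpos : 1 ≤ p ^ n := Nat.one_le_pow n p hp.pos
      have h1 : q ∣ p ^ n - (p ^ n - 1) := Nat.dvd_sub hpn (hq'.trans h120)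
      rw [show p ^ n - (p ^ n - 1) = 1 by omega] at h1
      exact absurd (Nat.le_of_dvd one_pos h1) (by omega)
    interval_cases p
    · exact hd 2 dvd_rfl (by norm_num) (by norm_num)
    · exact hd 3 dvd_rfl (by norm_num) (by norm_num)
    · norm_num at hp
    · exact hd 5 dvd_rfl (by norm_num) (by norm_num)
    · norm_num at hp
  obtain ⟨m, rfl⟩ := hkn
  have hm : 2 ≤ m := by
    by_contra hm
    push Not at hm
    interval_cases m <;> omega
  obtain ⟨t, ht⟩ := ha
  have hpk : 7 ≤ p ^ k := hp7.trans (Nat.le_self_pow (by omega) p)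
  obtain ⟨y, hy⟩ : ∃ y, p ^ k = y + 1 := ⟨p ^ k - 1, by omega⟩
  have ha' : a * t = y := by omega
  have ht0 : 1 ≤ t := by
    rcases Nat.eq_zero_or_pos t with rfl | h'
    · rw [mul_zero] at ha'; omega
    · exact h'
  have hay : a ≤ y := ha' ▸ Nat.le_mul_of_pos_right a ht0
  have hde : 60 * d * e ≤ 120 * k := Nat.mul_le_mul (by omega) hek
  have hup : p ^ (k * m) ≤ y * (120 * k) + 1 := by
    have : a * (60 * d) * e ≤ y * (120 * k) := by rw [mul_assoc]; exact Nat.mul_le_mul hay hde
    omega
  have h7 : 7 ^ k ≤ p ^ k := Nat.pow_le_pow_left hp7 k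
  have hm2 : m = 2 := by
    by_contra hne
    have h1 : p ^ (3 * k) ≤ p ^ (k * m) :=
      Nat.pow_le_pow_right hp.pos (by rw [mul_comm 3 k]; exact Nat.mul_le_mul_left k (by omega))
    rw [show 3 * k = k + k + k by omega, pow_add, pow_add, hy] at h1
    have h2 : y * y + 3 * y + 3 ≤ 120 * k := by
      by_contra hcon
      push Not at hcon
      have : y * (120 * k) < y * (y * y + 3 * y + 3) := Nat.mul_lt_mul_of_pos_left hcon (by omega)
      nlinarith
    rcases Nat.lt_or_ge k 2 with hk1 | hk2
    · have hk' : k = 1 := by omega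
      subst hk'
      rw [pow_one] at hy
      have hy9 : y ≤ 9 := by nlinarith
      have hp10 : p ≤ 10 := by omega
      interval_cases p
      · have hy6 : y = 6 := by omega
        subst hy6
        have hm3 : m ≤ 3 := by
          by_contra hm4
          have : 7 ^ 4 ≤ 7 ^ (1 * m) := Nat.pow_le_pow_right (by norm_num) (by omega)
          omega
        have : m = 3 := by omega
        subst this
        norm_num at h120
      all_goals norm_num at hp
    · have h4 : 24 * k ≤ 7 ^ k := by
        clear * - hk2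
        induction k, hk2 using Nat.le_induction with
        | base => norm_num
        | succ j hj ih => rw [pow_succ]; omega
      nlinarith
  subst hm2
  rw [pow_mul, hy] at h
  have hsq : (y + 1) ^ 2 - 1 = y * (y + 2) := by
    rw [show (y + 1) ^ 2 = y * (y + 2) + 1 by ring, Nat.add_sub_cancel]
  rw [hsq] at h
  have hdvd : (y + 2) * t = 60 * d * e := by
    have ha0 : 0 < a := by
      rcases Nat.eq_zero_or_pos a with rfl | h'
      · rw [zero_mul] at ha'; omega
      · exact h'
    refine Nat.eq_of_mul_eq_mul_left ha0 ?_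
    rw [show a * (60 * d * e) = a * (60 * d) * e by ring, ← h]
    subst ha'; ring
  have hle : p ^ k + 1 ≤ 120 * k := by
    have h1 : y + 2 ≤ 60 * d * e := Nat.le_of_dvd (by positivity) (Dvd.intro t hdvd)
    omega
  have hk3 : k ≤ 3 := by
    by_contra hk4
    have : 120 * k < 7 ^ k := by
      clear * - hk4
      have hk4' : 4 ≤ k := by omega
      clear hk4
      induction k, hk4' using Nat.le_induction with
      | base => norm_num
      | succ j hj ih => rw [pow_succ]; omega
    omega
  interval_cases k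
  · have he1 : e = 1 := by omega
    subst he1
    rw [pow_one] at hy hle
    have hd120 : p + 1 ∣ 120 := by
      rw [hy, show y + 1 + 1 = y + 2 from rfl]
      refine (Dvd.intro t hdvd).trans ?_
      interval_cases d <;> norm_num
    rcases small_primes_exceptional (p := p) (by omega) hp7 hp (by simpa using h120) hd120 with
      rfl | rfl | rfl | rfl
    all_goals
      have hyv : y = _ := (Nat.succ.inj hy).symm
      subst hyv
      norm_num at h hdvd
      interval_cases d
      · refine ⟨rfl, rfl, rfl, ?_⟩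
        omega
      · omega
  · exfalso
    have hdiv : p ^ 2 + 1 ∣ 240 := by
      rw [hy, show y + 1 + 1 = y + 2 from rfl]
      refine (Dvd.intro t hdvd).trans ?_
      interval_cases d <;> interval_cases e <;> norm_num
    have hp16 : p < 16 := by
      by_contra hge
      have := Nat.pow_le_pow_left (Nat.le_of_not_lt hge) 2
      omega
    exact small_squares_exceptional hp16 hp7 hdiv
  · exfalso
    have hp8 : p < 8 := by
      by_contra hge
      have := Nat.pow_le_pow_left (Nat.le_of_not_lt hge) 3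
      omega
    have : p = 7 := by omega
    subst this
    have hyv : y = 342 := by norm_num at hy; omega
    subst hyv
    have ht1 : t = 1 := by
      by_contra hne
      have := Nat.mul_le_mul_left (342 + 2) (show 2 ≤ t by omega)
      omega
    subst ht1
    interval_cases d <;> interval_cases e <;> omega

variable {p : ℕ} [Fact p.Prime] {V : Type*} [AddCommGroup V] [Module (ZMod p) V]
  {H : Subgroup (V ≃ₗ[ZMod p] V)}

/-- The centraliser of an irreducible subgroup is abelian. -/
theorem centralizer_comm_of_irreducible [Finite V] [Nontrivial V] {A : Subgroup H}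
    (hirr : ∀ W : Submodule (ZMod p) V, LinInv A W → W = ⊥ ∨ W = ⊤) :
    IsMulCommutative (Subgroup.centralizer (A : Set H)) := by
  classical
  let E : Subalgebra (ZMod p) (Module.End (ZMod p) V) :=
    Subalgebra.centralizer (ZMod p) (linEnd H '' (A : Set H))
  have : Finite (Module.End (ZMod p) V) := Finite.of_injective _ DFunLike.coe_injective
  have : NoZeroDivisors E := ⟨by
    rintro ⟨a, ha⟩ ⟨b, hb⟩ hab
    by_cases hb0 : b = 0
    · exact Or.inr (Subtype.ext hb0)
    left
    refine Subtype.ext ?_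
    have hinv : LinInv A (LinearMap.ker a) := fun g hg x hx => by
      rw [LinearMap.mem_ker] at hx ⊢
      have h := LinearMap.congr_fun (Subalgebra.mem_centralizer_iff (ZMod p) |>.1 ha _ ⟨g, hg, rfl⟩) x
      simp only [Module.End.mul_apply, linEnd_apply] at h
      rw [← h, hx, map_zero]
    rcases hirr _ hinv with h | h
    · exfalso
      apply hb0
      refine LinearMap.ext fun x => ?_
      have hx : b x ∈ LinearMap.ker a := LinearMap.congr_fun (congrArg Subtype.val hab) x
      rwa [h, Submodule.mem_bot] at hx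
    · exact LinearMap.ker_eq_top.1 h⟩
  refine ⟨⟨fun a b => Subtype.ext (linEnd_injective ?_)⟩⟩
  have hmem : ∀ c : Subgroup.centralizer (A : Set H), linEnd H c ∈ E := fun c => by
    rw [Subalgebra.mem_centralizer_iff]
    rintro _ ⟨g, hg, rfl⟩
    rw [← map_mul, ← map_mul, Subgroup.mem_centralizer_iff.1 c.2 g hg]
  rw [Subgroup.coe_mul, Subgroup.coe_mul, map_mul, map_mul]
  exact congrArg Subtype.val (finite_domain_comm (⟨_, hmem a⟩ : E) ⟨_, hmem b⟩)

/-- A group with a cyclic normal subgroup whose centraliser is soluble is soluble. -/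
theorem isSolvable_of_cyclic_normal {G : Type*} [Group G] [Finite G] (A : Subgroup G) [A.Normal]
    [IsCyclic A] [Group.IsSolvable (Subgroup.centralizer (A : Set G))] : Group.IsSolvable G := by
  let φ : G →* (ZMod (Nat.card A))ˣ :=
    (IsCyclic.mulAutMulEquiv (G := A)).toMonoidHom.comp MulAut.conjNormal
  refine Group.isSolvable_of_ker_le_range (Subgroup.centralizer (A : Set G)).subtype φ ?_
  intro g hg
  rw [Subgroup.range_subtype, Subgroup.mem_centralizer_iff]
  intro a ha
  have h1 : MulAut.conjNormal g = (1 : MulAut A) := by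
    apply (IsCyclic.mulAutMulEquiv (G := A)).injective
    rw [map_one]
    exact hg
  have h2 := congrArg Subtype.val (DFunLike.congr_fun h1 ⟨a, ha⟩)
  simp only [MulAut.conjNormal_apply, MulAut.one_apply] at h2
  exact (mul_inv_eq_iff_eq_mul.1 h2).symm

theorem card_mulAut_SL_five :
    Nat.card (MulAut (Matrix.SpecialLinearGroup (Fin 2) (ZMod 5))) ≤ 120 := by
  have : Fact (Nat.Prime 5) := ⟨by norm_num⟩
  obtain ⟨f, hf⟩ := Zass.exists_cover_SL_five
  set S := Matrix.SpecialLinearGroup (Fin 2) (ZMod 5)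
  have hker : f.ker = center S := by
    have h2 : Nat.card f.ker = 2 := by
      have := card_mul_index f.ker
      rw [index_ker, MonoidHom.range_eq_top.2 hf, card_top, nat_card_alternatingGroup, Nat.card_fin,
        Zass.card_SL_five] at this
      rw [show Nat.factorial 5 / 2 = 60 from rfl] at this
      omega
    have hle : f.ker ≤ center S := fun x hx => Zass.mem_center_of_normal_card_two h2 hx
    refine eq_of_le_of_card_ge hle ?_
    rw [h2, CfsgLib.Classical.card_center_SL_fin 2 (by norm_num), Nat.card_zmod]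
    rfl
  have hmap : ∀ σ : MulAut S, f.ker ≤ (f.comp σ.toMonoidHom).ker := fun σ x hx => by
    rw [hker] at hx
    rw [MonoidHom.mem_ker, MonoidHom.comp_apply, ← MonoidHom.mem_ker, hker, mem_center_iff]
    intro g
    obtain ⟨g, rfl⟩ := σ.surjective g
    exact (map_mul σ g x).symm.trans ((congrArg σ (mem_center_iff.1 hx g)).trans (map_mul σ x g))
  let Ψ : MulAut S → (alternatingGroup (Fin 5) →* alternatingGroup (Fin 5)) := fun σ =>
    f.liftOfSurjective hf ⟨f.comp σ.toMonoidHom, hmap σ⟩
  have hΨ : ∀ (σ : MulAut S) (g : S), Ψ σ (f g) = f (σ g) := fun σ g =>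
    MonoidHom.liftOfRightInverse_comp_apply f _ _ ⟨f.comp σ.toMonoidHom, hmap σ⟩ g
  have hbij : ∀ σ, Function.Bijective (Ψ σ) := fun σ => by
    refine Function.Surjective.bijective_of_nat_card_le (fun a => ?_) le_rfl
    obtain ⟨g, rfl⟩ := hf a
    exact ⟨f (σ⁻¹ g), by rw [hΨ, MulAut.inv_def, MulEquiv.apply_symm_apply]⟩
  refine (Nat.card_le_card_of_injective (fun σ => MulEquiv.ofBijective (Ψ σ) (hbij σ)) fun σ τ h => ?_).trans
    Zass.card_mulAut_alternating_five
  have hf' : ∀ g, f (σ g) = f (τ g) := fun g => by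
    rw [← hΨ, ← hΨ]
    exact DFunLike.congr_fun h (f g)
  have hz : ∀ g, (τ g)⁻¹ * σ g ∈ center S := fun g => by
    rw [← hker, MonoidHom.mem_ker, map_mul, map_inv, hf', inv_mul_cancel]
  let ζ : S →* center S :=
    { toFun := fun g => ⟨(τ g)⁻¹ * σ g, hz g⟩
      map_one' := Subtype.ext (by simp)
      map_mul' := fun g g' => Subtype.ext (by
        simp only [map_mul, _root_.mul_inv_rev, Subgroup.coe_mul]
        have hc := mem_center_iff.1 (hz g) (τ g')⁻¹
        calc (τ g')⁻¹ * (τ g)⁻¹ * (σ g * σ g') = (τ g')⁻¹ * ((τ g)⁻¹ * σ g) * σ g' := by group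
          _ = (τ g)⁻¹ * σ g * (τ g')⁻¹ * σ g' := by rw [hc]
          _ = (τ g)⁻¹ * σ g * ((τ g')⁻¹ * σ g') := by group) }
  have h1 : ζ = 1 := by
    let _ : CommGroup (center S) :=
      { (inferInstance : Group (center S)) with
        mul_comm := fun a b => Subtype.ext (mem_center_iff.1 b.2 a) }
    have hk := Abelianization.commutator_subset_ker ζ
    rw [Zass.commutator_SL_five] at hk
    exact MonoidHom.ext fun g => hk (mem_top g)
  refine MulEquiv.ext fun g => ?_
  exact (inv_mul_eq_one.1 (congrArg Subtype.val (DFunLike.congr_fun h1 g))).symm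

/-- Insoluble regular linear groups. -/
theorem IsRegularLinear.insoluble_classification (hreg : IsRegularLinear H) [Finite V]
    (hsolv : ¬ Group.IsSolvable H) :
    (Nat.card V = 121 ∧ Nonempty (H ≃* Matrix.SpecialLinearGroup (Fin 2) (ZMod 5))) ∨
    (Nat.card V = 841 ∧
      Nonempty (H ≃* Matrix.SpecialLinearGroup (Fin 2) (ZMod 5) × Multiplicative (ZMod 7))) ∨
    (Nat.card V = 3481 ∧
      Nonempty (H ≃* Matrix.SpecialLinearGroup (Fin 2) (ZMod 5) × Multiplicative (ZMod 29))) := by
  classical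
  have : Fact (Nat.Prime 5) := ⟨by norm_num⟩
  have : Finite (V ≃ₗ[ZMod p] V) := Finite.of_injective _ DFunLike.coe_injective
  have : Nontrivial V := by
    rcases subsingleton_or_nontrivial V with h | h
    · exfalso
      refine hsolv (Group.isSolvable_of_comm fun a b => Subtype.ext (LinearEquiv.ext fun v => ?_))
      exact Subsingleton.elim _ _
    · exact h
  have hI : ∀ A : Subgroup H, A.Normal → IsCyclic A → ∃ W : Submodule (ZMod p) V, W ≠ ⊥ ∧ W ≠ ⊤ ∧
      LinInv A W := by
    intro A hAn hAc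
    by_contra hno
    push Not at hno
    have hirr : ∀ W : Submodule (ZMod p) V, LinInv A W → W = ⊥ ∨ W = ⊤ := fun W hW =>
      or_iff_not_imp_left.2 fun h0 => by
        by_contra htop
        exact hno W h0 htop hW
    have hcc := centralizer_comm_of_irreducible hirr
    have : Group.IsSolvable (Subgroup.centralizer (A : Set H)) :=
      Group.isSolvable_of_comm fun a b => hcc.is_comm.comm a b
    exact hsolv (isSolvable_of_cyclic_normal A)
  obtain ⟨A, ⟨hAn, hAc⟩, hmax⟩ := (wellFounded_gt (α := Subgroup H)).has_min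
    {A | A.Normal ∧ IsMulCommutative A} ⟨⊥, inferInstance, inferInstance⟩
  have hAmax : ∀ B : Subgroup H, B.Normal → IsMulCommutative B → A ≤ B → B = A := by
    intro B hBn hBc hle
    by_contra hne
    exact hmax B ⟨hBn, hBc⟩ (lt_of_le_of_ne hle (Ne.symm hne))
  obtain ⟨W, -, -, hd⟩ := hreg.exists_nearData hI A
  obtain ⟨hlt, hnc⟩ := hreg.centralizer_not_abelian hI A hAmax
  set C := Subgroup.centralizer (A : Set H)
  obtain ⟨N, ⟨hNn, hNC, hNc⟩, hmin⟩ := (wellFounded_lt (α := Subgroup H)).has_min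
    {N | N.Normal ∧ N ≤ C ∧ ¬ IsMulCommutative N} ⟨C, inferInstance, le_rfl, hnc⟩
  have hNmin : ∀ M : Subgroup H, M.Normal → M ≤ N → ¬ IsMulCommutative M → M = N := by
    intro M hM hle hMc
    by_contra hne
    exact hmin M ⟨hM, hle.trans hNC, hMc⟩ (lt_of_le_of_ne hle hne)
  have hCN : Subgroup.centralizer (N : Set H) = A :=
    hAmax _ inferInstance (hreg.centralizer_comm hNc) (Subgroup.le_centralizer_iff.1 hNC)
  have : IsCyclic A := hreg.isCyclic_abelian A
  let φ : C →* MulAut N := MulAut.conjNormal.comp C.subtype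
  have hker : φ.ker = A.subgroupOf C := by
    ext g
    rw [MonoidHom.mem_ker, Subgroup.mem_subgroupOf, ← hCN, Subgroup.mem_centralizer_iff]
    constructor
    · intro h n hn
      have h1 := congrArg Subtype.val (DFunLike.congr_fun h ⟨n, hn⟩)
      simp only [φ, MonoidHom.comp_apply, Subgroup.coe_subtype, MulAut.conjNormal_apply,
        MulAut.one_apply] at h1
      exact (mul_inv_eq_iff_eq_mul.1 h1).symm
    · intro h
      refine MulEquiv.ext fun n => Subtype.ext ?_
      simp only [φ, MonoidHom.comp_apply, Subgroup.coe_subtype, MulAut.conjNormal_apply,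
        MulAut.one_apply]
      exact mul_inv_eq_iff_eq_mul.2 (h n n.2).symm
  have hC : Nat.card C = Nat.card A * Nat.card φ.range := by
    have h2 := φ.ker.card_mul_index
    rw [Subgroup.index_ker, hker,
      Nat.card_congr (Subgroup.subgroupOfEquivOfLe hlt.le).toEquiv] at h2
    exact h2.symm
  rcases hreg.minimal_nonabelian A hAmax N hNC hNc hNmin with ⟨⟨ε⟩⟩ | ⟨⟨ε⟩⟩
  · exfalso
    apply hsolv
    have hQ : Group.IsSolvable (MulAut N) := by
      have h24 : Nat.card (MulAut N) = 24 := by
        rw [Nat.card_congr (MulAut.congr ε).toEquiv, card_mulAut_quaternion]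
      exact CfsgLib.Chars.isSolvable_of_card_eq_pow_mul_pow (a := 3) (b := 1) Nat.prime_two Nat.prime_three
        (by rw [h24]; norm_num)
    have : Group.IsSolvable φ.ker := by
      rw [hker]
      exact Group.isSolvable_of_comm fun a b => Subtype.ext (Subtype.ext
        ((congrArg Subtype.val (hAc.is_comm.comm ⟨_, Subgroup.mem_subgroupOf.1 a.2⟩
          ⟨_, Subgroup.mem_subgroupOf.1 b.2⟩)) :))
    have : Group.IsSolvable C := Group.isSolvable_of_ker_le_range φ.ker.subtype φ
      (le_of_eq (Subgroup.range_subtype _).symm)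
    exact isSolvable_of_cyclic_normal A
  -- the special linear case
  have hN120 : Nat.card N = 120 := by rw [Nat.card_congr ε.toEquiv, Zass.card_SL_five]
  obtain ⟨z, hz⟩ : ∃ z : N, z ∈ center N ∧ z ≠ 1 := by
    have h2 : Nat.card (center (Matrix.SpecialLinearGroup (Fin 2) (ZMod 5))) = 2 := by
      rw [CfsgLib.Classical.card_center_SL_fin 2 (by norm_num), Nat.card_zmod]; rfl
    obtain ⟨⟨w, hw⟩, hw1, -⟩ := (Nat.card_eq_two_iff' 1).1 h2
    refine ⟨ε.symm w, mem_center_iff.2 fun g => ?_, fun h => hw1 (Subtype.ext ?_)⟩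
    · apply ε.injective
      rw [map_mul, map_mul, MulEquiv.apply_symm_apply]
      exact mem_center_iff.1 hw _
    · exact (MulEquiv.symm_apply_eq ε).1 h |>.trans (map_one ε)
  have hcN2 : Nat.card (center N) = 2 := by
    rw [Nat.card_congr (Subgroup.centerCongr ε).toEquiv,
      CfsgLib.Classical.card_center_SL_fin 2 (by norm_num), Nat.card_zmod]
    rfl
  have hNA : N ⊓ A = (center N).map N.subtype := by
    refine le_antisymm (fun g hg => ?_) ?_
    · have hc : (⟨g, hg.1⟩ : N) ∈ center N := mem_center_iff.2 fun n => Subtype.ext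
        (mem_centralizer_iff.1 (hCN.symm ▸ hg.2 : g ∈ centralizer (N : Set H)) n n.2)
      exact ⟨_, hc, rfl⟩
    · rintro _ ⟨n, hn, rfl⟩
      refine ⟨n.2, hCN ▸ mem_centralizer_iff.2 fun g hg => ?_⟩
      exact congrArg Subtype.val (mem_center_iff.1 hn ⟨g, hg⟩)
  have hNA2 : Nat.card (N ⊓ A : Subgroup H) = 2 := by
    rw [hNA, ← Nat.card_congr ((center N).equivMapOfInjective _ N.subtype_injective).toEquiv, hcN2]
  have ha2 : 2 ∣ Nat.card A := hNA2 ▸ card_dvd_of_le inf_le_right
  have hsup : Nat.card (N ⊔ A : Subgroup H) = Nat.card A * 60 := by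
    have h := CfsgLib.Base.card_sup_mul_card_inf N A
    rw [hNA2, hN120] at h
    omega
  have hr : 60 ∣ Nat.card φ.range := by
    have h := card_dvd_of_le (sup_le hNC hlt.le)
    rw [hsup, hC] at h
    exact Nat.dvd_of_mul_dvd_mul_left Nat.card_pos h
  obtain ⟨d, hrd⟩ := hr
  have hr120 : Nat.card φ.range ≤ 120 := by
    refine le_trans ?_ card_mulAut_SL_five
    rw [← Nat.card_congr (MulAut.congr ε).toEquiv]
    exact card_le_card_group φ.range
  have hrpos : 0 < Nat.card φ.range := Nat.card_pos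
  have hH : Nat.card H = Nat.card A * (60 * d) * C.index := by
    rw [← hrd, ← hC, C.card_mul_index]
  have h120 : 120 ∣ p ^ Module.finrank (ZMod p) V - 1 := by
    rw [← hd.card_H, ← hN120]; exact card_subgroup_dvd_card N
  obtain ⟨hn, rfl, he1, hcases⟩ := degree_arith_insoluble (d := d) (Fact.out : p.Prime) hd.k_pos hd.two_k_le
    hd.k_dvd hd.card_A (by omega) (by omega)
    (Nat.one_le_iff_ne_zero.2 Subgroup.index_ne_zero_of_finite) hd.index_le h120 ha2
    (by rw [← hd.card_H, hH])
  have htop : N ⊔ A = ⊤ := eq_top_of_card_eq _ (by rw [hsup, hH, he1]; ring)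
  have hcV := hd.card_V
  rw [hn] at hcV
  have hcomm : ∀ a ∈ A, ∀ n ∈ N, a * n = n * a := fun a ha n hn =>
    mem_centralizer_iff.1 (hNC hn) a ha
  have prod : ∀ q : ℕ, q.Prime → ¬ q ∣ 120 → Nat.card A = 2 * q →
      Nonempty (H ≃* Matrix.SpecialLinearGroup (Fin 2) (ZMod 5) × Multiplicative (ZMod q)) := by
    intro q hq hq120 hAq
    have := Fact.mk hq
    obtain ⟨c, hc⟩ := exists_prime_orderOf_dvd_card' (G := A) q (hAq ▸ dvd_mul_left q 2)
    let Q : Subgroup H := zpowers (c : H)
    have hQc : Nat.card Q = q := by rw [Nat.card_zpowers, Subgroup.orderOf_coe, hc]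
    have hQA : Q ≤ A := zpowers_le.2 c.2
    have hcp : ∀ (x : N) (y : Q), Commute (x : H) (y : H) := fun x y => (hcomm y (hQA y.2) x x.2).symm
    let f : N × Q →* H := N.subtype.noncommCoprod Q.subtype hcp
    have hfinj : Function.Injective f := by
      refine (injective_iff_map_eq_one f).2 fun ⟨x, y⟩ hxy => ?_
      change (x : H) * (y : H) = 1 at hxy
      have hxQ : (x : H) ∈ N ⊓ Q := ⟨x.2, by rw [eq_inv_of_mul_eq_one_left hxy]; exact Q.inv_mem y.2⟩
      have hbot : N ⊓ Q = ⊥ := eq_bot_of_card_eq _ (Nat.eq_one_of_dvd_coprimes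
        ((hq.coprime_iff_not_dvd.2 hq120)) (hQc ▸ card_dvd_of_le inf_le_right)
        (hN120 ▸ card_dvd_of_le inf_le_left))
      rw [hbot, mem_bot] at hxQ
      rw [hxQ, one_mul] at hxy
      exact Prod.ext (Subtype.ext hxQ) (Subtype.ext hxy)
    have hbij : Function.Bijective f := hfinj.bijective_of_nat_card_le (by
      rw [Nat.card_prod, hN120, hQc, hH, he1, hAq]; omega)
    have e2 : Q ≃* Multiplicative (ZMod q) := (zmodMulEquivOfGenerator (g := ⟨(c : H), mem_zpowers _⟩)
      (fun x => by
        obtain ⟨i, hi⟩ := mem_zpowers_iff.1 x.2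
        exact ⟨i, Subtype.ext hi⟩)
      hQc).symm
    exact ⟨(MulEquiv.ofBijective f hbij).symm.trans (MulEquiv.prodCongr ε e2)⟩
  rcases hcases with ⟨rfl, ha⟩ | ⟨rfl, ha⟩ | ⟨rfl, ha⟩ | ⟨rfl, ha⟩
  · left
    refine ⟨by rw [hcV]; norm_num, ⟨((topEquiv.symm.trans (MulEquiv.subgroupCongr ?_)).trans ε)⟩⟩
    symm
    refine eq_top_of_card_eq _ ?_
    rw [hN120, hH, he1, ha]
  · exfalso
    have : Fact (Nat.Prime 3) := ⟨Nat.prime_three⟩
    obtain ⟨c, hc⟩ := exists_prime_orderOf_dvd_card' (G := A) 3 (ha ▸ (by norm_num))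
    obtain ⟨x, hx⟩ := exists_prime_orderOf_dvd_card' (G := N) 3 (hN120 ▸ (by norm_num))
    have hcx : (c : H) * (x : H) = (x : H) * c := hcomm _ c.2 _ x.2
    set K := Subgroup.closure ({(c : H), (x : H)} : Set H)
    have hK : IsMulCommutative K := by
      refine Subgroup.isMulCommutative_closure ?_
      rintro a (rfl | rfl) b (rfl | rfl)
      exacts [rfl, hcx, hcx.symm, rfl]
    have hKc := hreg.isCyclic_abelian K
    let c' : K := ⟨c, subset_closure (Set.mem_insert _ _)⟩
    let x' : K := ⟨x, subset_closure (Set.mem_insert_of_mem _ rfl)⟩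
    have hc' : orderOf c' = 3 := by
      rw [← orderOf_injective K.subtype K.subtype_injective c']
      exact (Subgroup.orderOf_coe c).trans hc
    have hx' : orderOf x' = 3 := by
      rw [← orderOf_injective K.subtype K.subtype_injective x']
      exact (Subgroup.orderOf_coe x).trans hx
    have hmem : x' ∈ zpowers c' := by
      let _ : Fintype K := Fintype.ofFinite K
      let s : Finset K := Finset.univ.filter fun g => g ^ 3 = 1
      have hs : s.card ≤ 3 := IsCyclic.card_pow_eq_one_le (by norm_num)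
      have hsub : (zpowers c' : Set K).toFinset ⊆ s := fun g hg => by
        rw [Set.mem_toFinset, SetLike.mem_coe] at hg
        obtain ⟨i, rfl⟩ := mem_zpowers_iff.1 hg
        refine Finset.mem_filter.2 ⟨Finset.mem_univ _, ?_⟩
        rw [← zpow_natCast, ← zpow_mul, mul_comm, zpow_mul, zpow_natCast, ← hc', pow_orderOf_eq_one,
          one_zpow]
      have heq := Finset.eq_of_subset_of_card_le hsub (hs.trans (le_of_eq (by
        rw [← Set.ncard_eq_toFinset_card', ← Nat.card_coe_set_eq, SetLike.coe_sort_coe,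
          Nat.card_zpowers, hc'])))
      have hxs : x' ∈ s := Finset.mem_filter.2 ⟨Finset.mem_univ _, hx' ▸ pow_orderOf_eq_one x'⟩
      rw [← heq, Set.mem_toFinset] at hxs
      exact hxs
    obtain ⟨i, hi⟩ := mem_zpowers_iff.1 hmem
    have hxA : (x : H) ∈ A := by
      have : ((c' ^ i : K) : H) = (x : H) := congrArg Subtype.val hi
      rw [← this, Subgroup.coe_zpow]
      exact A.zpow_mem c.2 i
    have h3 : 3 ∣ 2 := by
      rw [← hNA2, ← hx, ← Subgroup.orderOf_coe]
      exact Subgroup.orderOf_dvd_natCard _ ⟨x.2, hxA⟩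
    norm_num at h3
  · right; left
    exact ⟨by rw [hcV]; norm_num, prod 7 (by norm_num) (by norm_num) (by rw [ha])⟩
  · right; right
    exact ⟨by rw [hcV]; norm_num, prod 29 (by norm_num) (by norm_num) (by rw [ha])⟩

end CfsgLib.Perm
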