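import Mathlib

/-!
Linear groups regular on the nonzero vectors: abelian subgroups are cyclic, a normal abelian
subgroup spans a field.
-/

namespace CfsgLib.Perm

variable {p : ℕ} [Fact p.Prime] {V : Type*} [AddCommGroup V] [Module (ZMod p) V]

/-- `H` is regular on nonzero vectors. -/
def IsRegularLinear (H : Subgroup (V ≃ₗ[ZMod p] V)) : Prop :=
  ∀ v w : V, v ≠ 0 → w ≠ 0 → ∃! h : H, (h : V ≃ₗ[ZMod p] V) v = w

variable {H : Subgroup (V ≃ₗ[ZMod p] V)}

/-- `W` is invariant under the subgroup `A`. -/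
def LinInv (A : Subgroup H) (W : Submodule (ZMod p) V) : Prop :=
  ∀ a ∈ A, ∀ v ∈ W, ((a : H) : V ≃ₗ[ZMod p] V) v ∈ W

/-- `W` is a minimal invariant subspace. -/
def IsMinInv (A : Subgroup H) (W : Submodule (ZMod p) V) : Prop :=
  W ≠ ⊥ ∧ LinInv A W ∧ ∀ W' : Submodule (ZMod p) V, W' ≤ W → LinInv A W' → W' = ⊥ ∨ W' = W

theorem IsRegularLinear.eq_one (hreg : IsRegularLinear H) {h : H} {v : V} (hv : v ≠ 0)
    (hfix : (h : V ≃ₗ[ZMod p] V) v = v) : h = 1 :=
  (hreg v v hv hv).unique hfix rfl

theorem IsRegularLinear.exists_apply (hreg : IsRegularLinear H) {v w : V} (hv : v ≠ 0)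
    (hw : w ≠ 0) : ∃ h : H, (h : V ≃ₗ[ZMod p] V) v = w :=
  (hreg v w hv hw).exists

theorem IsRegularLinear.card_eq (hreg : IsRegularLinear H) [Finite V] [Nontrivial V] :
    Nat.card H = Nat.card V - 1 := by
  classical
  let _ : Fintype V := Fintype.ofFinite V
  obtain ⟨v, hv⟩ := exists_ne (0 : V)
  have hne : ∀ h : H, (h : V ≃ₗ[ZMod p] V) v ≠ 0 := fun h =>
    (LinearEquiv.map_ne_zero_iff _).2 hv
  have hbij : Function.Bijective (fun h : H => (⟨_, hne h⟩ : {w : V // w ≠ 0})) := by
    constructor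
    · intro a b hab
      exact (hreg v _ hv (hne a)).unique rfl (congrArg Subtype.val hab).symm
    · intro w
      obtain ⟨h, hh⟩ := hreg.exists_apply hv w.2
      exact ⟨h, Subtype.ext hh⟩
  rw [Nat.card_eq_of_bijective _ hbij, Nat.card_eq_fintype_card, Fintype.card_subtype_compl,
    Fintype.card_subtype_eq, Nat.card_eq_fintype_card]

theorem linInv_span_orbit (A : Subgroup H) (v : V) :
    LinInv A (Submodule.span (ZMod p) (Set.range fun a : A => ((a : H) : V ≃ₗ[ZMod p] V) v)) := by
  intro a ha w hw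
  induction hw using Submodule.span_induction with
  | mem x hx =>
    obtain ⟨b, rfl⟩ := hx
    exact Submodule.subset_span ⟨⟨a, ha⟩ * b, rfl⟩
  | zero => simp
  | add x y _ _ hx hy => rw [map_add]; exact Submodule.add_mem _ hx hy
  | smul c x _ hx => rw [map_smul]; exact Submodule.smul_mem _ c hx

theorem exists_isMinInv [Finite V] (A : Subgroup H) (W : Submodule (ZMod p) V) (hW : W ≠ ⊥)
    (hinv : LinInv A W) : ∃ U ≤ W, IsMinInv A U := by
  have : WellFoundedLT (Submodule (ZMod p) V) := inferInstance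
  obtain ⟨U, ⟨hU0, hUW, hUi⟩, hmin⟩ := (wellFounded_lt (α := Submodule (ZMod p) V)).has_min
    {U | U ≠ ⊥ ∧ U ≤ W ∧ LinInv A U} ⟨W, hW, le_rfl, hinv⟩
  refine ⟨U, hUW, hU0, hUi, fun W' hle hi => or_iff_not_imp_left.2 fun h0 => ?_⟩
  by_contra hne
  exact hmin W' ⟨h0, hle.trans hUW, hi⟩ (lt_of_le_of_ne hle hne)

variable (H) in
/-- The inclusion of `H` in the endomorphism ring. -/
def linEnd : H →* Module.End (ZMod p) V where
  toFun h := (h : V ≃ₗ[ZMod p] V).toLinearMap
  map_one' := rfl
  map_mul' _ _ := rfl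

theorem linEnd_apply (h : H) (v : V) : linEnd H h v = (h : V ≃ₗ[ZMod p] V) v := rfl

theorem linEnd_injective : Function.Injective (linEnd H) := fun a b h =>
  Subtype.ext (LinearEquiv.toLinearMap_injective h)

/-- The algebra spanned by a subgroup. -/
def spanAlg (A : Subgroup H) : Subalgebra (ZMod p) (Module.End (ZMod p) V) :=
  Algebra.adjoin (ZMod p) (linEnd H '' (A : Set H))

theorem linEnd_mem_spanAlg {A : Subgroup H} {a : H} (ha : a ∈ A) : linEnd H a ∈ spanAlg A :=
  Algebra.subset_adjoin ⟨a, ha, rfl⟩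

theorem spanAlg_mem_inv {A : Subgroup H} {r : Module.End (ZMod p) V} (hr : r ∈ spanAlg A)
    {W : Submodule (ZMod p) V} (hW : LinInv A W) : ∀ v ∈ W, r v ∈ W := by
  induction hr using Algebra.adjoin_induction with
  | mem x hx => obtain ⟨a, ha, rfl⟩ := hx; exact hW a ha
  | algebraMap c => intro v hv; exact W.smul_mem c hv
  | add x y _ _ hx hy => intro v hv; exact W.add_mem (hx v hv) (hy v hv)
  | mul x y _ _ hx hy => intro v hv; exact hx _ (hy v hv)

theorem spanAlg_commute {A : Subgroup H} [IsMulCommutative A] :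
    ∀ r ∈ spanAlg A, ∀ s ∈ spanAlg A, r * s = s * r := by
  have : IsMulCommutative (spanAlg A) := by
    refine Algebra.isMulCommutative_adjoin (ZMod p) ?_
    rintro _ ⟨a, ha, rfl⟩ _ ⟨b, hb, rfl⟩
    rw [← map_mul, ← map_mul]
    exact congrArg (linEnd H) (congrArg Subtype.val (mul_comm' (⟨a, ha⟩ : A) ⟨b, hb⟩))
  exact fun r hr s hs => congrArg Subtype.val (mul_comm' (⟨r, hr⟩ : spanAlg A) ⟨s, hs⟩)

/-- An element of the algebra killing a nonzero vector of a minimal invariant subspace kills
the whole subspace. -/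
theorem IsMinInv.kill {A : Subgroup H} [IsMulCommutative A] {W : Submodule (ZMod p) V}
    (hW : IsMinInv A W) {r : Module.End (ZMod p) V} (hr : r ∈ spanAlg A) {w : V} (hw : w ∈ W)
    (hw0 : w ≠ 0) (hrw : r w = 0) : ∀ v ∈ W, r v = 0 := by
  have hinv : LinInv A (W ⊓ LinearMap.ker r) := fun a ha v hv => by
    refine ⟨hW.2.1 a ha v hv.1, ?_⟩
    have := LinearMap.congr_fun (spanAlg_commute _ hr _ (linEnd_mem_spanAlg ha)) v
    simp only [Module.End.mul_apply] at this
    rw [SetLike.mem_coe, LinearMap.mem_ker, ← linEnd_apply, this,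
      LinearMap.mem_ker.1 hv.2, map_zero]
  rcases hW.2.2 _ inf_le_left hinv with h | h
  · have hmem : w ∈ W ⊓ LinearMap.ker r := ⟨hw, hrw⟩
    rw [h, Submodule.mem_bot] at hmem
    exact absurd hmem hw0
  · intro v hv
    rw [← h] at hv
    exact hv.2

/-- Abelian subgroups of a regular linear group are cyclic. -/
theorem IsRegularLinear.isCyclic_abelian (hreg : IsRegularLinear H) [Finite V] [Nontrivial V]
    (A : Subgroup H) [IsMulCommutative A] : IsCyclic A := by
  obtain ⟨W, -, hW⟩ := exists_isMinInv A ⊤ top_ne_bot (fun _ _ _ _ => Submodule.mem_top)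
  obtain ⟨w, hw, hw0⟩ := Submodule.exists_mem_ne_zero_of_ne_bot hW.1
  let _ : CommRing (spanAlg A) :=
    { (inferInstance : Ring (spanAlg A)) with
      mul_comm := fun r s => Subtype.ext (spanAlg_commute _ r.2 _ s.2) }
  let I : Ideal (spanAlg A) :=
    { carrier := {r | (r : Module.End (ZMod p) V) w = 0}
      add_mem' := fun {r s} hr hs => by
        change (r : Module.End (ZMod p) V) w + (s : Module.End (ZMod p) V) w = 0
        rw [hr, hs, add_zero]
      zero_mem' := rfl
      smul_mem' := fun c r hr => by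
        change (c : Module.End (ZMod p) V) ((r : Module.End (ZMod p) V) w) = 0
        rw [show (r : Module.End (ZMod p) V) w = 0 from hr, map_zero] }
  have hI : I.IsPrime := by
    refine ⟨fun h => hw0 ?_, fun {r s} hrs => ?_⟩
    · have h1 : (1 : spanAlg A) ∈ I := h ▸ Submodule.mem_top
      exact h1
    · change (r : Module.End (ZMod p) V) ((s : Module.End (ZMod p) V) w) = 0 at hrs
      refine or_iff_not_imp_right.2 fun hs => ?_
      exact hW.kill r.2 (spanAlg_mem_inv s.2 hW.2.1 w hw) hs hrs w hw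
  let f : A →* spanAlg A ⧸ I :=
    ((Ideal.Quotient.mk I).toMonoidHom).comp
      { toFun := fun a => ⟨linEnd H a, linEnd_mem_spanAlg a.2⟩
        map_one' := Subtype.ext (map_one (linEnd H))
        map_mul' := fun a b => Subtype.ext (map_mul (linEnd H) (a : H) b) }
  have : Finite H := Finite.of_injective _
    (DFunLike.coe_injective.comp Subtype.coe_injective : Function.Injective fun h : H => ⇑(h : V ≃ₗ[ZMod p] V))
  refine isCyclic_of_injective_ringHom f (fun a b hab => ?_)
  have h := Ideal.Quotient.eq.1 hab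
  have h' : (linEnd H (a : H)) w - (linEnd H (b : H)) w = 0 := h
  rw [sub_eq_zero, linEnd_apply, linEnd_apply] at h'
  exact Subtype.ext ((hreg w _ hw0 ((LinearEquiv.map_ne_zero_iff _).2 hw0)).unique rfl h'.symm)

theorem LinInv.smul {A : Subgroup H} [hA : A.Normal] {W : Submodule (ZMod p) V} (hW : LinInv A W)
    (h : H) : LinInv A (W.map (h : V ≃ₗ[ZMod p] V).toLinearMap) := by
  rintro a ha _ ⟨v, hv, rfl⟩
  have := hW _ (hA.conj_mem a ha h⁻¹) v hv
  rw [inv_inv] at this
  refine ⟨_, this, ?_⟩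
  change (h : V ≃ₗ[ZMod p] V) (((h⁻¹ * a * h : H) : V ≃ₗ[ZMod p] V) v) =
    ((a : H) : V ≃ₗ[ZMod p] V) ((h : V ≃ₗ[ZMod p] V) v)
  have e : (h : V ≃ₗ[ZMod p] V) * ((h⁻¹ * a * h : H) : V ≃ₗ[ZMod p] V)
      = ((a : H) : V ≃ₗ[ZMod p] V) * (h : V ≃ₗ[ZMod p] V) := by
    rw [← Subgroup.coe_mul, ← Subgroup.coe_mul]
    congr 1
    group
  exact congrArg (fun u : V ≃ₗ[ZMod p] V => u v) e

theorem map_inv_self (h : H) (W : Submodule (ZMod p) V) :
    (W.map ((h⁻¹ : H) : V ≃ₗ[ZMod p] V).toLinearMap).map (h : V ≃ₗ[ZMod p] V).toLinearMap = W := by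
  rw [← Submodule.map_comp]
  conv_rhs => rw [← Submodule.map_id W]
  congr 1
  change linEnd H h * linEnd H h⁻¹ = 1
  rw [← map_mul, mul_inv_cancel, map_one]

/-- Every nonzero vector lies in a translate of a given minimal invariant subspace. -/
theorem IsMinInv.smul {A : Subgroup H} [A.Normal] {W : Submodule (ZMod p) V} (hW : IsMinInv A W)
    (h : H) : IsMinInv A (W.map (h : V ≃ₗ[ZMod p] V).toLinearMap) := by
  refine ⟨?_, hW.2.1.smul h, fun W' hle hi => ?_⟩
  · rw [ne_eq, Submodule.map_eq_bot_iff]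
    exact hW.1
  · have hle' : W'.map ((h⁻¹ : H) : V ≃ₗ[ZMod p] V).toLinearMap ≤ W := by
      refine (Submodule.map_mono hle).trans ?_
      have := map_inv_self h⁻¹ W
      rw [inv_inv] at this
      rw [this]
    rcases hW.2.2 _ hle' (hi.smul h⁻¹) with h' | h'
    · left
      rwa [Submodule.map_eq_bot_iff] at h'
    · right
      rw [← h', map_inv_self]

theorem IsRegularLinear.exists_translate (hreg : IsRegularLinear H) {A : Subgroup H} [A.Normal]
    {W : Submodule (ZMod p) V} (hW : IsMinInv A W) {v : V} (hv : v ≠ 0) :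
    ∃ U, IsMinInv A U ∧ v ∈ U ∧ Nat.card U = Nat.card W := by
  obtain ⟨w, hw, hw0⟩ := Submodule.exists_mem_ne_zero_of_ne_bot hW.1
  obtain ⟨h, rfl⟩ := hreg.exists_apply hw0 hv
  refine ⟨_, hW.smul h, ⟨w, hw, rfl⟩, ?_⟩
  exact Nat.card_congr ((h : V ≃ₗ[ZMod p] V).submoduleMap W).symm.toEquiv

/-- For a normal abelian subgroup every nonzero element of its algebra is injective. -/
theorem IsRegularLinear.spanAlg_injective (hreg : IsRegularLinear H) [Finite V] [Nontrivial V]
    {A : Subgroup H} [A.Normal] [IsMulCommutative A] {r : Module.End (ZMod p) V}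
    (hr : r ∈ spanAlg A) {w : V} (hw0 : w ≠ 0) (hrw : r w = 0) : r = 0 := by
  obtain ⟨W₀, -, hW₀⟩ := exists_isMinInv A ⊤ top_ne_bot (fun _ _ _ _ => Submodule.mem_top)
  by_contra hne
  obtain ⟨u, hu⟩ : ∃ u, r u ≠ 0 := by
    by_contra! hall
    exact hne (LinearMap.ext hall)
  have hu0 : u ≠ 0 := fun h => hu (by rw [h, map_zero])
  have hv0 : u + w ≠ 0 := fun h => hu (by
    rw [eq_neg_of_add_eq_zero_left h, map_neg, hrw, neg_zero])
  obtain ⟨U, hU, huU, -⟩ := hreg.exists_translate hW₀ hu0
  obtain ⟨U', hU', hvU, -⟩ := hreg.exists_translate hW₀ hv0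
  have hru : r u ∈ U ⊓ U' := ⟨spanAlg_mem_inv hr hU.2.1 u huU, by
    have := spanAlg_mem_inv hr hU'.2.1 _ hvU
    rwa [map_add, hrw, add_zero] at this⟩
  have hinv : LinInv A (U ⊓ U') := fun a ha v hv =>
    ⟨hU.2.1 a ha v hv.1, hU'.2.1 a ha v hv.2⟩
  have hUU : U ⊓ U' ≠ ⊥ := fun h => hu ((Submodule.mem_bot _).1 (h ▸ hru))
  have e1 := (hU.2.2 _ inf_le_left hinv).resolve_left hUU
  have e2 := (hU'.2.2 _ inf_le_right hinv).resolve_left hUU
  have heq : U = U' := e1.symm.trans e2
  have hwU : w ∈ U := by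
    have := U.sub_mem (heq.symm ▸ hvU) huU
    rwa [add_sub_cancel_left] at this
  exact hu (hU.kill hr hwU hw0 hrw u huU)

/-- `|A|` divides `|W| - 1` for an invariant subspace `W`. -/
theorem IsRegularLinear.card_dvd (hreg : IsRegularLinear H) [Finite V] (A : Subgroup H)
    {W : Submodule (ZMod p) V} (hW : LinInv A W) : Nat.card A ∣ Nat.card W - 1 := by
  classical
  let _ : Fintype V := Fintype.ofFinite V
  let act : MulAction A {w : W // w ≠ 0} :=
    { smul := fun a w => ⟨⟨((a : H) : V ≃ₗ[ZMod p] V) w.1.1, hW _ a.2 _ w.1.2⟩, fun h => w.2 (by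
        have := congrArg Subtype.val h
        exact Subtype.ext ((LinearEquiv.map_eq_zero_iff _).1 this))⟩
      one_smul := fun w => rfl
      mul_smul := fun a b w => rfl }
  have hstab : ∀ w : {w : W // w ≠ 0}, MulAction.stabilizer A w = ⊥ := by
    intro w
    rw [Subgroup.eq_bot_iff_forall]
    intro a ha
    refine Subtype.ext (hreg.eq_one (v := w.1.1) (fun h => w.2 (Subtype.ext h)) ?_)
    exact congrArg (fun u : {w : W // w ≠ 0} => u.1.1) ha
  have hcard : Nat.card {w : W // w ≠ 0} = Nat.card W - 1 := by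
    rw [Nat.card_eq_fintype_card, Fintype.card_subtype_compl, Fintype.card_subtype_eq,
      Nat.card_eq_fintype_card]
  refine hcard ▸ ⟨Nat.card (MulAction.orbitRel.Quotient A {w : W // w ≠ 0}), ?_⟩
  rw [Nat.card_congr (MulAction.selfEquivSigmaOrbits A _)]
  have : Finite H := Finite.of_injective _
    (DFunLike.coe_injective.comp Subtype.coe_injective : Function.Injective fun h : H => ⇑(h : V ≃ₗ[ZMod p] V))
  let _ : Fintype A := Fintype.ofFinite A
  rw [Nat.card_sigma, Nat.card_eq_fintype_card (α := MulAction.orbitRel.Quotient A _)]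
  have : ∀ q : MulAction.orbitRel.Quotient A {w : W // w ≠ 0},
      Nat.card (MulAction.orbit A q.out) = Nat.card A := by
    intro q
    rw [Nat.card_coe_set_eq, ← MulAction.index_stabilizer, hstab, Subgroup.index_bot]
  simp only [this, Finset.sum_const, Finset.card_univ, smul_eq_mul]
  ring

theorem IsMinInv.finrank_le (hreg : IsRegularLinear H) [Finite V] [Nontrivial V] {A : Subgroup H}
    [A.Normal] [IsMulCommutative A] {W : Submodule (ZMod p) V} (hW : IsMinInv A W) :
    Module.finrank (ZMod p) (spanAlg A) ≤ Module.finrank (ZMod p) W := by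
  obtain ⟨w, hw, hw0⟩ := Submodule.exists_mem_ne_zero_of_ne_bot hW.1
  let f : spanAlg A →ₗ[ZMod p] W :=
    { toFun := fun r => ⟨(r : Module.End (ZMod p) V) w, spanAlg_mem_inv r.2 hW.2.1 w hw⟩
      map_add' := fun r s => rfl
      map_smul' := fun c r => rfl }
  refine LinearMap.finrank_le_finrank_of_injective (f := f) ((injective_iff_map_eq_zero f).2 fun r hr => ?_)
  exact Subtype.ext (hreg.spanAlg_injective r.2 hw0 (congrArg Subtype.val hr))

/-- The index of the centraliser of a normal cyclic subgroup is at most the dimension of a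
minimal invariant subspace. -/
theorem IsRegularLinear.index_centralizer_le (hreg : IsRegularLinear H) [Finite V] [Nontrivial V]
    {A : Subgroup H} [A.Normal] [IsMulCommutative A] {W : Submodule (ZMod p) V}
    (hW : IsMinInv A W) :
    (Subgroup.centralizer (A : Set H)).index ≤ Module.finrank (ZMod p) W := by
  classical
  have : Finite H := Finite.of_injective _
    (DFunLike.coe_injective.comp Subtype.coe_injective : Function.Injective fun h : H => ⇑(h : V ≃ₗ[ZMod p] V))
  obtain ⟨⟨a, haA⟩, hgen⟩ := (hreg.isCyclic_abelian A).exists_zpow_surjective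
  let S := spanAlg A
  let _ : CommRing S :=
    { (inferInstance : Ring S) with
      mul_comm := fun r s => Subtype.ext (spanAlg_commute _ r.2 _ s.2) }
  have hnt : Nontrivial S := ⟨⟨1, 0, fun h => by
    obtain ⟨v, hv⟩ := exists_ne (0 : V)
    exact hv (LinearMap.congr_fun (congrArg Subtype.val h) v)⟩⟩
  have : NoZeroDivisors S := ⟨fun {r s} hrs => by
    by_cases hs : s = 0
    · exact Or.inr hs
    · left
      obtain ⟨u, hu⟩ : ∃ u, (s : Module.End (ZMod p) V) u ≠ 0 := by
        by_contra! hall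
        exact hs (Subtype.ext (LinearMap.ext hall))
      exact Subtype.ext (hreg.spanAlg_injective r.2 hu
        (LinearMap.congr_fun (congrArg Subtype.val hrs) u))⟩
  have : IsDomain S := NoZeroDivisors.to_isDomain S
  have : Finite S := Finite.of_injective (fun r : S => ⇑(r : Module.End (ZMod p) V))
    (DFunLike.coe_injective.comp Subtype.coe_injective)
  set x : S := ⟨linEnd H a, linEnd_mem_spanAlg haA⟩
  let conjS : H → S := fun h =>
    ⟨linEnd H (h * a * h⁻¹), linEnd_mem_spanAlg ((inferInstance : A.Normal).conj_mem a haA h)⟩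
  have hroot : ∀ h, conjS h ∈ ((minpoly (ZMod p) x).map (algebraMap (ZMod p) S)).roots.toFinset := by
    intro h
    have hint : IsIntegral (ZMod p) x := IsIntegral.of_finite _ _
    rw [Multiset.mem_toFinset, Polynomial.mem_roots
      (Polynomial.map_ne_zero (minpoly.ne_zero hint)), Polynomial.IsRoot,
      ← Polynomial.eval₂_eq_eval_map, ← Polynomial.aeval_def]
    refine Subtype.ext ?_
    let P := minpoly (ZMod p) x
    have e1 : ∀ (y : S), ((Polynomial.aeval y P : S) : Module.End (ZMod p) V) =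
        Polynomial.aeval (y : Module.End (ZMod p) V) P := fun y =>
      (Polynomial.aeval_algHom_apply S.val y P).symm
    have hconj : ∀ (n : ℕ), linEnd H (h * a * h⁻¹) ^ n = linEnd H h * linEnd H a ^ n * linEnd H h⁻¹ := by
      intro n
      rw [← map_pow, conj_pow, map_mul, map_mul, map_pow]
    rw [e1]
    change Polynomial.aeval (linEnd H (h * a * h⁻¹)) P = 0
    have h0 : Polynomial.aeval (linEnd H a) P = 0 := by
      have := e1 x
      rw [minpoly.aeval] at this
      exact this.symm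
    rw [Polynomial.aeval_eq_sum_range] at h0 ⊢
    have hterm : ∀ (c : ZMod p) (u : Module.End (ZMod p) V),
        c • (linEnd H h * u * linEnd H h⁻¹) = linEnd H h * (c • u) * linEnd H h⁻¹ := fun c u => by
      rw [mul_smul_comm, smul_mul_assoc]
    simp only [hconj, hterm, ← Finset.sum_mul, ← Finset.mul_sum, h0, mul_zero, zero_mul]
  let T := ((minpoly (ZMod p) x).map (algebraMap (ZMod p) S)).roots.toFinset
  let q : H ⧸ Subgroup.centralizer (A : Set H) → T := fun c =>
    Quotient.liftOn' c (fun h => (⟨conjS h, hroot h⟩ : T)) (by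
      intro g g' hgg
      refine Subtype.ext (Subtype.ext (congrArg (linEnd H) ?_))
      rw [QuotientGroup.leftRel_apply, Subgroup.mem_centralizer_iff] at hgg
      have h1 := hgg a haA
      calc g * a * g⁻¹ = g * (a * (g⁻¹ * g')) * g'⁻¹ := by group
        _ = g * (g⁻¹ * g' * a) * g'⁻¹ := by rw [h1]
        _ = g' * a * g'⁻¹ := by group)
  have hq : Function.Injective q := by
    rintro ⟨g⟩ ⟨g'⟩ hgg
    have h1 : g * a * g⁻¹ = g' * a * g'⁻¹ :=
      linEnd_injective (congrArg (fun t : T => ((t : S) : Module.End (ZMod p) V)) hgg)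
    apply Quotient.sound'
    rw [QuotientGroup.leftRel_apply, Subgroup.mem_centralizer_iff]
    intro y hy
    obtain ⟨i, hi⟩ := hgen ⟨y, hy⟩
    have hya : y = a ^ i := (congrArg Subtype.val hi).symm
    rw [hya]
    have hc : Commute a (g⁻¹ * g') := by
      calc a * (g⁻¹ * g') = g⁻¹ * (g * a * g⁻¹) * g' := by group
        _ = g⁻¹ * (g' * a * g'⁻¹) * g' := by rw [h1]
        _ = g⁻¹ * g' * a := by group
    exact (hc.zpow_left i).eq
  rw [Subgroup.index_eq_card]
  refine (Nat.card_le_card_of_injective q hq).trans ?_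
  rw [Nat.card_eq_fintype_card, Fintype.card_coe]
  calc T.card ≤ _ := Multiset.toFinset_card_le _
    _ ≤ _ := Polynomial.card_roots' _
    _ ≤ (minpoly (ZMod p) x).natDegree := Polynomial.natDegree_map_le
    _ ≤ Module.finrank (ZMod p) S := minpoly.natDegree_le x
    _ ≤ _ := hW.finrank_le hreg

end CfsgLib.Perm
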