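import Cfsg.Agent.Lib.Perm.NearLinearSoluble
import Cfsg.Agent.Lib.Perm.Zass.Apply

/-!
Non-abelian normal subgroups of regular linear groups: irreducibility, centralisers, and the
minimal ones.
-/

open scoped commutatorElement

namespace CfsgLib.Perm

variable {p : ℕ} [Fact p.Prime] {V : Type*} [AddCommGroup V] [Module (ZMod p) V]
  {H : Subgroup (V ≃ₗ[ZMod p] V)}

theorem nontrivial_of_not_comm {N : Subgroup H} (hN : ¬ IsMulCommutative N) : Nontrivial V := by
  rcases subsingleton_or_nontrivial V with h | h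
  · exact absurd ⟨⟨fun a b => Subtype.ext (Subtype.ext (LinearEquiv.ext fun v => Subsingleton.elim _ _))⟩⟩ hN
  · exact h

/-- A finite ring without zero divisors inside endomorphisms: commutativity. -/
theorem finite_domain_comm {R : Type*} [Ring R] [Finite R] [Nontrivial R] [NoZeroDivisors R]
    (a b : R) : a * b = b * a := by
  have : IsDomain R := NoZeroDivisors.to_isDomain R
  exact (Finite.isDomain_to_isField R).mul_comm a b

/-- Left annihilation by the algebra of a subgroup passes between distinct minimal subspaces. -/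
theorem IsRegularLinear.kill_transfer (hreg : IsRegularLinear H) {N : Subgroup H} [N.Normal]
    [Finite V] {W U : Submodule (ZMod p) V} (hW : IsMinInv N W) (hU : IsMinInv N U) (hne : W ≠ U)
    {u : V} (hu : u ∈ U) (hu0 : u ≠ 0) {r : Module.End (ZMod p) V} (hr : r ∈ spanAlg N)
    (hru : r u = 0) : ∀ w ∈ W, r w = 0 := by
  have hbot : W ⊓ U = ⊥ := by
    refine (hW.2.2 _ inf_le_left fun a ha x hx =>
      ⟨hW.2.1 a ha x hx.1, hU.2.1 a ha x hx.2⟩).resolve_right fun h => ?_
    exact hne ((hU.2.2 W (inf_eq_left.1 h) hW.2.1).resolve_left hW.1)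
  intro w hw
  by_cases hwu : w + u = 0
  · have : u ∈ W ⊓ U := ⟨by rw [← neg_eq_of_add_eq_zero_right hwu]; exact W.neg_mem hw, hu⟩
    rw [hbot] at this
    exact absurd ((Submodule.mem_bot _).1 this) hu0
  -- a minimal subspace through `w + u`
  obtain ⟨w0, hw0, hw00⟩ := Submodule.exists_mem_ne_zero_of_ne_bot hW.1
  obtain ⟨h, hh⟩ := hreg.exists_apply hw00 hwu
  set M := W.map (h : V ≃ₗ[ZMod p] V).toLinearMap with hM
  have hMmin : IsMinInv N M := hW.smul h
  have hmem : w + u ∈ M := ⟨w0, hw0, hh⟩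
  have hWM : W ⊓ M = ⊥ := by
    refine (hW.2.2 _ inf_le_left fun a ha x hx =>
      ⟨hW.2.1 a ha x hx.1, hMmin.2.1 a ha x hx.2⟩).resolve_right fun h' => ?_
    have hWeq := (hMmin.2.2 W (inf_eq_left.1 h') hW.2.1).resolve_left hW.1
    rw [← hWeq] at hmem
    have : u ∈ W ⊓ U := ⟨by simpa using W.sub_mem hmem hw, hu⟩
    rw [hbot] at this
    exact hu0 ((Submodule.mem_bot _).1 this)
  have h1 : r (w + u) ∈ M := spanAlg_mem_inv hr hMmin.2.1 _ hmem
  have h2 : r (w + u) = r w := by rw [map_add, hru, add_zero]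
  have h3 : r w ∈ W ⊓ M := ⟨spanAlg_mem_inv hr hW.2.1 _ hw, h2 ▸ h1⟩
  rwa [hWM, Submodule.mem_bot] at h3

/-- A non-abelian normal subgroup of a regular linear group is irreducible. -/
theorem IsRegularLinear.normal_irreducible (hreg : IsRegularLinear H) [Finite V] {N : Subgroup H}
    [N.Normal] (hN : ¬ IsMulCommutative N) {W₀ : Submodule (ZMod p) V} (hW₀ : LinInv N W₀) :
    W₀ = ⊥ ∨ W₀ = ⊤ := by
  classical
  by_contra hcon
  push Not at hcon
  obtain ⟨W, hWle, hW⟩ := exists_isMinInv N W₀ hcon.1 hW₀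
  obtain ⟨v, hv⟩ : ∃ v, v ∉ W := by
    by_contra! h
    exact hcon.2 (top_le_iff.1 fun x _ => hWle (h x))
  obtain ⟨w0, hw0, hw00⟩ := Submodule.exists_mem_ne_zero_of_ne_bot hW.1
  have hv0 : v ≠ 0 := fun h => hv (h ▸ W.zero_mem)
  obtain ⟨h, hh⟩ := hreg.exists_apply hw00 hv0
  set U := W.map (h : V ≃ₗ[ZMod p] V).toLinearMap with hU'
  have hU : IsMinInv N U := hW.smul h
  have hvU : v ∈ U := ⟨w0, hw0, hh⟩
  have hne : W ≠ U := fun e => hv (e ▸ hvU)
  -- restriction to `W`
  have key : ∀ r ∈ spanAlg N, ∀ w ∈ W, w ≠ 0 → r w = 0 → ∀ x ∈ W, r x = 0 := by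
    intro r hr w hw hw' hrw x hx
    exact hreg.kill_transfer hW hU hne hvU hv0 hr
      (hreg.kill_transfer hU hW hne.symm hw hw' hr hrw v hvU) x hx
  let Φ : spanAlg N →+* Module.End (ZMod p) W :=
    { toFun := fun r => (r : Module.End (ZMod p) V).restrict (fun x hx => spanAlg_mem_inv r.2 hW.2.1 x hx)
      map_one' := LinearMap.ext fun x => Subtype.ext rfl
      map_mul' := fun a b => LinearMap.ext fun x => Subtype.ext rfl
      map_zero' := LinearMap.ext fun x => Subtype.ext rfl
      map_add' := fun a b => LinearMap.ext fun x => Subtype.ext rfl }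
  have : Finite (Module.End (ZMod p) W) := Finite.of_injective _ DFunLike.coe_injective
  have : Nontrivial W := (Submodule.nontrivial_iff_ne_bot).2 hW.1
  have : Nontrivial Φ.range := ⟨⟨0, 1, fun e => zero_ne_one (congrArg Subtype.val e)⟩⟩
  have : NoZeroDivisors Φ.range := ⟨by
    rintro ⟨_, a, rfl⟩ ⟨_, b, rfl⟩ hab
    by_cases hb : Φ b = 0
    · exact Or.inr (Subtype.ext hb)
    left
    obtain ⟨x, hx⟩ : ∃ x : W, Φ b x ≠ 0 := by
      by_contra! h
      exact hb (LinearMap.ext h)
    have hax : Φ a (Φ b x) = 0 := LinearMap.congr_fun (congrArg Subtype.val hab) x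
    refine Subtype.ext (LinearMap.ext fun y => Subtype.ext ?_)
    exact key a a.2 _ (Φ b x).2 (fun e => hx (Subtype.ext e)) (congrArg Subtype.val hax) y y.2⟩
  apply hN
  refine ⟨⟨fun a b => Subtype.ext ?_⟩⟩
  have hc := finite_domain_comm (⟨_, ⟨_, linEnd_mem_spanAlg a.2⟩, rfl⟩ : Φ.range)
    ⟨_, ⟨_, linEnd_mem_spanAlg b.2⟩, rfl⟩
  have hcw := congrArg Subtype.val (LinearMap.congr_fun (congrArg Subtype.val hc) ⟨w0, hw0⟩)
  change linEnd H a (linEnd H b w0) = linEnd H b (linEnd H a w0) at hcw
  have hfix : linEnd H ((b * a : N) : H)⁻¹ (linEnd H ((a * b : N) : H) w0) = w0 := by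
    rw [Subgroup.coe_mul, Subgroup.coe_mul, map_mul (linEnd H) (a : H) (b : H),
      Module.End.mul_apply, hcw, ← Module.End.mul_apply, ← map_mul, ← Module.End.mul_apply,
      ← map_mul, mul_assoc, inv_mul_cancel, map_one, Module.End.one_apply]
  rw [← Module.End.mul_apply, ← map_mul] at hfix
  exact (inv_mul_eq_one.1 (hreg.eq_one hw00 hfix)).symm

/-- The centraliser of a non-abelian normal subgroup is abelian. -/
theorem IsRegularLinear.centralizer_comm (hreg : IsRegularLinear H) [Finite V] {N : Subgroup H}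
    [N.Normal] (hN : ¬ IsMulCommutative N) :
    IsMulCommutative (Subgroup.centralizer (N : Set H)) := by
  classical
  have := nontrivial_of_not_comm hN
  let E : Subalgebra (ZMod p) (Module.End (ZMod p) V) :=
    Subalgebra.centralizer (ZMod p) (linEnd H '' (N : Set H))
  have : Finite (Module.End (ZMod p) V) := Finite.of_injective _ DFunLike.coe_injective
  have : NoZeroDivisors E := ⟨by
    rintro ⟨a, ha⟩ ⟨b, hb⟩ hab
    by_cases hb0 : b = 0
    · exact Or.inr (Subtype.ext hb0)
    left
    refine Subtype.ext ?_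
    have hinv : LinInv N (LinearMap.ker a) := fun g hg x hx => by
      rw [LinearMap.mem_ker] at hx ⊢
      have h := LinearMap.congr_fun (Subalgebra.mem_centralizer_iff (ZMod p) |>.1 ha _ ⟨g, hg, rfl⟩) x
      simp only [Module.End.mul_apply, linEnd_apply] at h
      rw [← h, hx, map_zero]
    rcases hreg.normal_irreducible hN hinv with h | h
    · exfalso
      apply hb0
      refine LinearMap.ext fun x => ?_
      have hx : a (b x) = 0 := LinearMap.congr_fun (congrArg Subtype.val hab) x
      have : b x ∈ LinearMap.ker a := hx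
      rwa [h, Submodule.mem_bot] at this
    · exact LinearMap.ker_eq_top.1 h⟩
  refine ⟨⟨fun a b => Subtype.ext (linEnd_injective ?_)⟩⟩
  have hmem : ∀ c : Subgroup.centralizer (N : Set H), linEnd H c ∈ E := fun c => by
    rw [Subalgebra.mem_centralizer_iff]
    rintro _ ⟨g, hg, rfl⟩
    rw [← map_mul, ← map_mul, Subgroup.mem_centralizer_iff.1 c.2 g hg]
  rw [Subgroup.coe_mul, Subgroup.coe_mul, map_mul, map_mul]
  exact congrArg Subtype.val (finite_domain_comm (⟨_, hmem a⟩ : E) ⟨_, hmem b⟩)

/-- Minimal non-abelian normal subgroups centralising a maximal abelian one. -/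
theorem IsRegularLinear.minimal_nonabelian (hreg : IsRegularLinear H) [Finite V] (A : Subgroup H)
    [A.Normal] [IsMulCommutative A]
    (hAmax : ∀ B : Subgroup H, B.Normal → IsMulCommutative B → A ≤ B → B = A)
    (N : Subgroup H) [N.Normal] (hNle : N ≤ Subgroup.centralizer (A : Set H))
    (hNna : ¬ IsMulCommutative N)
    (hNmin : ∀ M : Subgroup H, M.Normal → M ≤ N → ¬ IsMulCommutative M → M = N) :
    Nonempty (N ≃* QuaternionGroup 2) ∨
      Nonempty (N ≃* Matrix.SpecialLinearGroup (Fin 2) (ZMod 5)) := by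
  classical
  have := nontrivial_of_not_comm hNna
  have : Finite (V ≃ₗ[ZMod p] V) := Finite.of_injective _ DFunLike.coe_injective
  have hsmall : ∀ M : Subgroup H, M.Normal → M ≤ N → M ≠ N → M ≤ A := by
    intro M hM hle hne
    have hMc : IsMulCommutative M := by
      by_contra h
      exact hne (hNmin M hM hle h)
    have := isMulCommutative_sup_of (X := M) (Y := A) fun m hm a ha =>
      (Subgroup.mem_centralizer_iff.1 (hNle (hle hm)) a ha).symm
    exact le_sup_left.trans (hAmax _ inferInstance this le_sup_right).le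
  by_cases hperf : ⁅N, N⁆ = N
  · right
    have hp : commutator N = ⊤ := by
      refine Subgroup.map_injective N.subtype_injective ?_
      rw [commutator_def, Subgroup.map_commutator, ← MonoidHom.range_eq_map, Subgroup.range_subtype]
      exact hperf
    have : Nontrivial N := by
      rcases subsingleton_or_nontrivial N with h | h
      · exact absurd ⟨⟨fun a b => Subsingleton.elim _ _⟩⟩ hNna
      · exact h
    exact Zass.mulEquiv_SL_five_of_linear hp ((linEnd H).comp N.subtype)
      fun g v hv hgv => Subtype.ext (hreg.eq_one hv hgv)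
  · left
    obtain ⟨r, hr, hP, hexp, hcomm⟩ := isPGroup_of_minimal_nonabelian A N hNle hNna hsmall
      (hsmall _ inferInstance (Subgroup.commutator_le_left N N) hperf)
    exact hreg.nonempty_q8 A N hNle hNna hr hP hexp hcomm

end CfsgLib.Perm
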