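import Cfsg.Agent.Lib.Perm.NearLinear

/-!
The setting of a regular linear group without irreducible cyclic normal subgroup.
-/

namespace CfsgLib.Perm

variable {p : ℕ} [Fact p.Prime] {V : Type*} [AddCommGroup V] [Module (ZMod p) V]
  {H : Subgroup (V ≃ₗ[ZMod p] V)}

/-- A free action of a finite group has orbits of full length. -/
theorem card_dvd_of_free (G X : Type*) [Group G] [Finite G] [Finite X] [MulAction G X]
    (h : ∀ x : X, MulAction.stabilizer G x = ⊥) : Nat.card G ∣ Nat.card X := by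
  classical
  let _ : Fintype X := Fintype.ofFinite X
  let _ : Fintype G := Fintype.ofFinite G
  refine ⟨Nat.card (MulAction.orbitRel.Quotient G X), ?_⟩
  rw [Nat.card_congr (MulAction.selfEquivSigmaOrbits G X), Nat.card_sigma,
    Nat.card_eq_fintype_card (α := MulAction.orbitRel.Quotient G X)]
  have : ∀ q : MulAction.orbitRel.Quotient G X, Nat.card (MulAction.orbit G q.out) = Nat.card G := by
    intro q
    rw [Nat.card_coe_set_eq, ← MulAction.index_stabilizer, h, Subgroup.index_bot]
  simp only [this, Finset.sum_const, Finset.card_univ, smul_eq_mul]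
  ring

theorem IsMinInv.card_dvd_sub_one (hreg : IsRegularLinear H) [Finite V] [Nontrivial V]
    {A : Subgroup H} [A.Normal] [IsMulCommutative A] {W : Submodule (ZMod p) V}
    (hW : IsMinInv A W) : Nat.card W - 1 ∣ Nat.card V - 1 := by
  classical
  let _ : Fintype V := Fintype.ofFinite V
  obtain ⟨w, hw, hw0⟩ := Submodule.exists_mem_ne_zero_of_ne_bot hW.1
  let S := spanAlg A
  let _ : CommRing S :=
    { (inferInstance : Ring S) with
      mul_comm := fun r s => Subtype.ext (spanAlg_commute _ r.2 _ s.2) }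
  have hinj : ∀ (r : S) (u : V), u ≠ 0 → (r : Module.End (ZMod p) V) u = 0 → r = 0 := fun r u hu h =>
    Subtype.ext (hreg.spanAlg_injective r.2 hu h)
  have : Finite S := Finite.of_injective (fun r : S => ⇑(r : Module.End (ZMod p) V))
    (DFunLike.coe_injective.comp Subtype.coe_injective)
  let f : S →ₗ[ZMod p] W :=
    { toFun := fun r => ⟨(r : Module.End (ZMod p) V) w, spanAlg_mem_inv r.2 hW.2.1 w hw⟩
      map_add' := fun r s => rfl
      map_smul' := fun c r => rfl }
  have hf : Function.Bijective f := by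
    refine ⟨(injective_iff_map_eq_zero f).2 fun r hr => hinj r w hw0 (congrArg Subtype.val hr), ?_⟩
    have hrange : (LinearMap.range f).map W.subtype = W := by
      refine (hW.2.2 _ ?_ ?_).resolve_left ?_
      · exact Submodule.map_subtype_le _ _
      · rintro a ha _ ⟨_, ⟨r, rfl⟩, rfl⟩
        exact ⟨_, ⟨⟨linEnd H a, linEnd_mem_spanAlg ha⟩ * r, rfl⟩, rfl⟩
      · intro h
        have : w ∈ (LinearMap.range f).map W.subtype := ⟨_, ⟨1, rfl⟩, rfl⟩
        rw [h, Submodule.mem_bot] at this
        exact hw0 this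
    intro u
    have hu : (u : V) ∈ (LinearMap.range f).map W.subtype := by rw [hrange]; exact u.2
    obtain ⟨_, ⟨r, rfl⟩, hr⟩ := hu
    exact ⟨r, Subtype.ext hr⟩
  have hmulinj : ∀ r : S, r ≠ 0 → Function.Injective (r : Module.End (ZMod p) V) := fun r hr =>
    (injective_iff_map_eq_zero _).2 fun u hu => by
      by_contra hu0
      exact hr (hinj r u hu0 hu)
  have : Nontrivial S := ⟨⟨1, 0, fun h => hw0 (LinearMap.congr_fun (congrArg Subtype.val h) w)⟩⟩
  have : NoZeroDivisors S := ⟨fun {r s} hrs => by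
    by_contra hcon
    push Not at hcon
    refine hw0 (hmulinj s hcon.2 (hmulinj r hcon.1 ?_))
    rw [map_zero, map_zero]
    exact LinearMap.congr_fun (congrArg Subtype.val hrs) w⟩
  have : IsDomain S := NoZeroDivisors.to_isDomain S
  have hunits : Nat.card Sˣ = Nat.card W - 1 := by
    let _ : Fintype S := Fintype.ofFinite S
    let _ : Field S := { Fintype.fieldOfDomain S with }
    rw [Nat.card_units, Nat.card_eq_of_bijective f hf]
  let act : MulAction Sˣ {v : V // v ≠ 0} :=
    { smul := fun r v => ⟨((r : S) : Module.End (ZMod p) V) v.1, fun h =>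
        v.2 (hmulinj r r.ne_zero (by rw [h, map_zero]))⟩
      one_smul := fun v => rfl
      mul_smul := fun r s v => rfl }
  have hdvd := card_dvd_of_free Sˣ {v : V // v ≠ 0} fun v => by
    rw [Subgroup.eq_bot_iff_forall]
    intro r hr
    refine Units.ext (sub_eq_zero.1 (hinj ((r : S) - 1) v.1 v.2 ?_))
    change ((r : S) : Module.End (ZMod p) V) v.1 - v.1 = 0
    exact sub_eq_zero.2 (congrArg Subtype.val hr)
  rw [hunits] at hdvd
  rwa [Nat.card_eq_fintype_card (α := {v : V // v ≠ 0}), Fintype.card_subtype_compl,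
    Fintype.card_subtype_eq, ← Nat.card_eq_fintype_card (α := V)] at hdvd

/-- Numerical data of a maximal normal abelian subgroup. -/
structure NearData (A : Subgroup H) (k n : ℕ) : Prop where
  k_pos : 1 ≤ k
  two_k_le : 2 * k ≤ n
  k_dvd : k ∣ n
  card_V : Nat.card V = p ^ n
  card_H : Nat.card H = p ^ n - 1
  card_A : Nat.card A ∣ p ^ k - 1
  index_le : (Subgroup.centralizer (A : Set H)).index ≤ k

theorem nontrivial_of_noIrreducibleCyclic
    (hI : ∀ A : Subgroup H, A.Normal → IsCyclic A → ∃ W : Submodule (ZMod p) V, W ≠ ⊥ ∧ W ≠ ⊤ ∧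
      LinInv A W) : Nontrivial V := by
  obtain ⟨W, hW, -⟩ := hI ⊥ inferInstance inferInstance
  obtain ⟨w, -, hw⟩ := Submodule.exists_mem_ne_zero_of_ne_bot hW
  exact ⟨⟨w, 0, hw⟩⟩

theorem IsRegularLinear.exists_nearData (hreg : IsRegularLinear H) [Finite V]
    (hI : ∀ A : Subgroup H, A.Normal → IsCyclic A → ∃ W : Submodule (ZMod p) V, W ≠ ⊥ ∧ W ≠ ⊤ ∧
      LinInv A W) (A : Subgroup H) [A.Normal] [IsMulCommutative A] :
    ∃ W : Submodule (ZMod p) V, IsMinInv A W ∧ W ≠ ⊤ ∧
      NearData A (Module.finrank (ZMod p) W) (Module.finrank (ZMod p) V) := by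
  classical
  have := nontrivial_of_noIrreducibleCyclic hI
  have hp := (Fact.out : p.Prime)
  let _ : Fintype V := Fintype.ofFinite V
  obtain ⟨W₀, hW₀, hW₀t, hW₀i⟩ := hI A inferInstance (hreg.isCyclic_abelian A)
  obtain ⟨W, hWle, hW⟩ := exists_isMinInv A W₀ hW₀ hW₀i
  have hWt : W ≠ ⊤ := fun h => hW₀t (top_le_iff.1 (h ▸ hWle))
  have hV : Nat.card V = p ^ Module.finrank (ZMod p) V := by
    rw [Module.natCard_eq_pow_finrank (K := ZMod p), Nat.card_zmod]
  have hWc : Nat.card W = p ^ Module.finrank (ZMod p) W := by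
    rw [Module.natCard_eq_pow_finrank (K := ZMod p), Nat.card_zmod]
  have hk : 1 ≤ Module.finrank (ZMod p) W := by
    rw [Nat.one_le_iff_ne_zero]
    exact fun h => hW.1 (Submodule.finrank_eq_zero.1 h)
  refine ⟨W, hW, hWt, hk, ?_, ?_, hV, ?_, ?_, hreg.index_centralizer_le hW⟩
  · obtain ⟨w, hw, hw0⟩ := Submodule.exists_mem_ne_zero_of_ne_bot hW.1
    obtain ⟨v, hv⟩ : ∃ v, v ∉ W := by
      by_contra! h
      exact hWt (eq_top_iff.2 fun x _ => h x)
    obtain ⟨h, hh⟩ := hreg.exists_apply hw0 (fun h0 : v = 0 => hv (h0 ▸ W.zero_mem))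
    let U := W.map (h : V ≃ₗ[ZMod p] V).toLinearMap
    have hU : IsMinInv A U := hW.smul h
    have hinv : LinInv A (W ⊓ U) := fun a ha x hx => ⟨hW.2.1 a ha x hx.1, hU.2.1 a ha x hx.2⟩
    have hbot : W ⊓ U = ⊥ := by
      refine (hW.2.2 _ inf_le_left hinv).resolve_right fun heq => ?_
      have hWU : W = U := (hU.2.2 W (inf_eq_left.1 heq) hW.2.1).resolve_left hW.1
      exact hv (hWU ▸ ⟨w, hw, hh⟩)
    have hfin := Submodule.finrank_sup_add_finrank_inf_eq W U
    rw [hbot, finrank_bot, add_zero,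
      show Module.finrank (ZMod p) U = Module.finrank (ZMod p) W from
        LinearEquiv.finrank_map_eq _ _] at hfin
    have := Submodule.finrank_le (W ⊔ U)
    omega
  · have hd := hW.card_dvd_sub_one hreg
    rw [hV, hWc] at hd
    have hg := Nat.gcd_eq_left hd
    rw [Nat.pow_sub_one_gcd_pow_sub_one] at hg
    have := Nat.pow_right_injective hp.two_le
      (show p ^ Nat.gcd (Module.finrank (ZMod p) W) (Module.finrank (ZMod p) V)
        = p ^ Module.finrank (ZMod p) W by
        have h1 := Nat.one_le_pow (Nat.gcd (Module.finrank (ZMod p) W) (Module.finrank (ZMod p) V))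
          p hp.pos
        have h2 := Nat.one_le_pow (Module.finrank (ZMod p) W) p hp.pos
        omega)
    exact Nat.gcd_eq_left_iff_dvd.1 this
  · rw [hreg.card_eq, hV]
  · rw [← hWc]
    exact hreg.card_dvd A hW.2.1

/-- A maximal normal abelian subgroup is strictly inside its centraliser. -/
theorem IsRegularLinear.centralizer_not_abelian (hreg : IsRegularLinear H) [Finite V]
    (hI : ∀ A : Subgroup H, A.Normal → IsCyclic A → ∃ W : Submodule (ZMod p) V, W ≠ ⊥ ∧ W ≠ ⊤ ∧
      LinInv A W) (A : Subgroup H) [A.Normal] [IsMulCommutative A]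
    (hAmax : ∀ B : Subgroup H, B.Normal → IsMulCommutative B → A ≤ B → B = A) :
    A < Subgroup.centralizer (A : Set H) ∧ ¬ IsMulCommutative (Subgroup.centralizer (A : Set H)) := by
  classical
  have := nontrivial_of_noIrreducibleCyclic hI
  have hp := (Fact.out : p.Prime)
  obtain ⟨W, hW, -, hd⟩ := hreg.exists_nearData hI A
  set k := Module.finrank (ZMod p) W
  set n := Module.finrank (ZMod p) V
  have hle : A ≤ Subgroup.centralizer (A : Set H) := Subgroup.le_centralizer A
  have hne : A ≠ Subgroup.centralizer (A : Set H) := by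
    intro heq
    have h1 := (Subgroup.centralizer (A : Set H)).card_mul_index
    rw [← heq, hd.card_H] at h1
    have h2 : Nat.card A ≤ p ^ k - 1 := Nat.le_of_dvd
      (by have := Nat.one_lt_pow (by have := hd.k_pos; omega : k ≠ 0) hp.one_lt; omega) hd.card_A
    have h3 : A.index ≤ k := by
      have := hd.index_le
      rwa [← heq] at this
    have h4 : p ^ n - 1 ≤ (p ^ k - 1) * k := h1 ▸ Nat.mul_le_mul h2 h3
    have h5 : p ^ (2 * k) ≤ p ^ n := Nat.pow_le_pow_right hp.pos hd.two_k_le
    have h6 : k < p ^ k := Nat.lt_pow_self hp.one_lt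
    obtain ⟨x, hx⟩ : ∃ x, p ^ k = x + 1 := ⟨p ^ k - 1, by omega⟩
    rw [hx] at h4 h6
    rw [show 2 * k = k + k by omega, pow_add, hx] at h5
    simp only [Nat.add_sub_cancel] at h4
    have h7 : x * k ≤ x * x := Nat.mul_le_mul_left _ (by omega)
    have h8 := hd.k_pos
    nlinarith [Nat.sub_add_cancel (Nat.one_le_pow n p hp.pos)]
  refine ⟨lt_of_le_of_ne hle hne, fun hab => hne (hAmax _ ?_ hab hle).symm⟩
  infer_instance

end CfsgLib.Perm
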