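import Cfsg.Agent.Lib.Perm.NearLinearSetup
import Cfsg.Agent.Lib.Perm.ClassTwoQ8

/-!
Soluble regular linear groups without irreducible cyclic normal subgroup: a normal quaternion
subgroup centralising a maximal normal abelian subgroup.
-/

open scoped commutatorElement

namespace CfsgLib.Perm

variable {p : ℕ} [Fact p.Prime] {V : Type*} [AddCommGroup V] [Module (ZMod p) V]
  {H : Subgroup (V ≃ₗ[ZMod p] V)}

theorem eq_one_or_apply_eq_neg (hreg : IsRegularLinear H) {h : H} (hh : h * h = 1) :
    h = 1 ∨ ∀ v : V, (h : V ≃ₗ[ZMod p] V) v = -v := by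
  refine or_iff_not_imp_left.2 fun hne v => ?_
  by_contra hv
  refine hne (hreg.eq_one (v := (h : V ≃ₗ[ZMod p] V) v + v) ?_ ?_)
  · exact fun h0 => hv (eq_neg_of_add_eq_zero_left h0)
  · rw [map_add]
    have : (h : V ≃ₗ[ZMod p] V) ((h : V ≃ₗ[ZMod p] V) v) = v := by
      have := DFunLike.congr_fun (congrArg Subtype.val hh) v
      simpa using this
    rw [this, add_comm]

/-- Two involutions of a regular linear group coincide. -/
theorem IsRegularLinear.involution_unique (hreg : IsRegularLinear H) {s t : H} (hs : s * s = 1)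
    (hs1 : s ≠ 1) (ht : t * t = 1) (ht1 : t ≠ 1) : s = t := by
  refine Subtype.ext (LinearEquiv.ext fun v => ?_)
  rw [(eq_one_or_apply_eq_neg hreg hs).resolve_left hs1 v,
    (eq_one_or_apply_eq_neg hreg ht).resolve_left ht1 v]

theorem isMulCommutative_sup_of {G : Type*} [Group G] {X Y : Subgroup G} [IsMulCommutative X]
    [IsMulCommutative Y] (h : ∀ x ∈ X, ∀ y ∈ Y, x * y = y * x) : IsMulCommutative (X ⊔ Y : Subgroup G) := by
  have hc : IsMulCommutative (Subgroup.closure ((X : Set G) ∪ Y)) := by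
    refine Subgroup.isMulCommutative_closure ?_
    rintro x (hx | hx) y (hy | hy)
    · exact congrArg Subtype.val (mul_comm' (⟨x, hx⟩ : X) ⟨y, hy⟩)
    · exact h x hx y hy
    · exact (h y hy x hx).symm
    · exact congrArg Subtype.val (mul_comm' (⟨x, hx⟩ : Y) ⟨y, hy⟩)
  refine ⟨⟨fun a b => Subtype.ext (congrArg Subtype.val (hc.is_comm.comm
    ⟨a, by rw [← Subgroup.sup_eq_closure]; exact a.2⟩ ⟨b, by rw [← Subgroup.sup_eq_closure]; exact b.2⟩) :)⟩⟩

/-- A minimal non-abelian normal subgroup centralising a maximal abelian one and with derived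
subgroup inside it is a group of prime power order of class two. -/
theorem isPGroup_of_minimal_nonabelian [Finite H] (A : Subgroup H) [A.Normal] [IsMulCommutative A]
    (N : Subgroup H) [hNn : N.Normal] (hBA : N ≤ Subgroup.centralizer (A : Set H))
    (hNc : ¬ IsMulCommutative N) (hsmall : ∀ M : Subgroup H, M.Normal → M ≤ N → M ≠ N → M ≤ A)
    (hder : ⁅N, N⁆ ≤ A) :
    ∃ r : ℕ, r.Prime ∧ IsPGroup r N ∧ (∀ g ∈ N, g ^ r ∈ A) ∧
      ∀ a ∈ N, ∀ b ∈ N, a⁻¹ * b⁻¹ * a * b ∈ A := by
  classical
  have hcomm : ∀ a ∈ N, ∀ b ∈ N, a⁻¹ * b⁻¹ * a * b ∈ A := by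
    intro a ha b hb
    have := Subgroup.commutator_le.1 hder a⁻¹ (inv_mem ha) b⁻¹ (inv_mem hb)
    rw [commutatorElement_def, inv_inv, inv_inv] at this
    exact this
  -- a prime for the chief factor `N / (N ⊓ A)`
  have hNA : ¬ N ≤ A := fun h => hNc
    ⟨⟨fun a b => Subtype.ext (congrArg Subtype.val
      (mul_comm' (⟨a.1, h a.2⟩ : A) ⟨b.1, h b.2⟩) :)⟩⟩
  obtain ⟨x, hxN, hxA⟩ := SetLike.not_le_iff_exists.1 hNA
  let π := QuotientGroup.mk' A
  have hπker : ∀ g, π g = 1 ↔ g ∈ A := fun g => QuotientGroup.eq_one_iff g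
  have hπx : π x ≠ 1 := fun h => hxA ((hπker x).1 h)
  have hord : orderOf (π x) ≠ 1 := fun h => hπx (orderOf_eq_one_iff.1 h)
  obtain ⟨r, hr, hrd⟩ := Nat.exists_prime_and_dvd hord
  have hexp : ∀ g ∈ N, g ^ r ∈ A := by
    let M : Subgroup H :=
      { carrier := {g | g ∈ N ∧ g ^ r ∈ A}
        one_mem' := ⟨N.one_mem, by rw [one_pow]; exact A.one_mem⟩
        mul_mem' := fun {a b} ha hb => ⟨N.mul_mem ha.1 hb.1, by
          rw [← hπker, map_pow, map_mul]
          have hc : Commute (π a) (π b) := by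
            have := (hπker _).2 (hcomm a ha.1 b hb.1)
            simp only [map_mul, map_inv] at this
            calc π a * π b = π b * π a * ((π a)⁻¹ * (π b)⁻¹ * π a * π b) := by group
              _ = π b * π a := by rw [this, mul_one]
          rw [hc.mul_pow, ← map_pow, ← map_pow, (hπker _).2 ha.2, (hπker _).2 hb.2, one_mul]⟩
        inv_mem' := fun {a} ha => ⟨N.inv_mem ha.1, by rw [inv_pow]; exact A.inv_mem ha.2⟩ }
    have hMn : M.Normal := ⟨fun g hg h => ⟨hNn.conj_mem g hg.1 h, by
      rw [conj_pow]; exact Subgroup.Normal.conj_mem inferInstance _ hg.2 h⟩⟩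
    have hMN : M = N := by
      by_contra hne
      have hxM : x ^ (orderOf (π x) / r) ∈ M := ⟨N.pow_mem hxN _, by
        rw [← pow_mul, Nat.div_mul_cancel hrd, ← hπker, map_pow, pow_orderOf_eq_one]⟩
      have := hsmall M hMn (fun g hg => hg.1) hne hxM
      rw [← hπker, map_pow, ← orderOf_dvd_iff_pow_eq_one] at this
      have hlt : orderOf (π x) / r < orderOf (π x) :=
        Nat.div_lt_self (orderOf_pos _) hr.one_lt
      have hpos : 0 < orderOf (π x) / r :=
        Nat.div_pos (Nat.le_of_dvd (orderOf_pos _) hrd) hr.pos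
      exact absurd (Nat.le_of_dvd hpos this) (by omega)
    intro g hg
    rw [← hMN] at hg
    exact hg.2
  -- `N` is nilpotent and equals its Sylow `r`-subgroup
  have : Fact r.Prime := ⟨hr⟩
  have hcen : ∀ z : N, (z : H) ∈ A → z ∈ Subgroup.center N := fun z hz =>
    Subgroup.mem_center_iff.2 fun g => Subtype.ext
      (Subgroup.mem_centralizer_iff.1 (hBA g.2) z hz).symm
  have hnil : Group.IsNilpotent N := by
    let f : N →* H ⧸ A := π.comp N.subtype
    have : IsMulCommutative f.range := ⟨⟨by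
      rintro ⟨_, a, rfl⟩ ⟨_, b, rfl⟩
      refine Subtype.ext ?_
      change π a * π b = π b * π a
      have := (hπker _).2 (hcomm a a.2 b b.2)
      simp only [map_mul, map_inv] at this
      calc π a * π b = π b * π a * ((π a)⁻¹ * (π b)⁻¹ * π a * π b) := by group
        _ = π b * π a := by rw [this, mul_one]⟩⟩
    have : Group.IsNilpotent f.range := by
      let _ : CommGroup f.range := { (inferInstance : Group f.range) with mul_comm := mul_comm' }
      infer_instance
    refine Subgroup.isNilpotent_of_ker_le_center f.rangeRestrict ?_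
    intro z hz
    rw [MonoidHom.ker_rangeRestrict, MonoidHom.mem_ker] at hz
    exact hcen z ((hπker z.1).1 hz)
  obtain ⟨P⟩ := (inferInstance : Nonempty (Sylow r N))
  have hPn : (P : Subgroup N).Normal := by
    have htfae := (Group.isNilpotent_of_finite_tfae (G := N)).out 0 3
    exact htfae.1 hnil r inferInstance P
  have := P.characteristic_of_normal hPn
  have hRn : ((P : Subgroup N).map N.subtype).Normal := ConjAct.normal_of_characteristic_of_normal
  have hPA : ¬ IsMulCommutative (P : Subgroup N) := by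
    intro hPc
    let S : Subgroup N := (P : Subgroup N) ⊔ A.subgroupOf N
    have hSn : S.Normal := inferInstance
    have hS : S = ⊤ := by
      refine eq_top_iff.2 fun g _ => ?_
      have h1 : orderOf (QuotientGroup.mk' S g) ∣ r := by
        rw [orderOf_dvd_iff_pow_eq_one, ← map_pow]
        refine (QuotientGroup.eq_one_iff _).2 (Subgroup.mem_sup_right ?_)
        exact Subgroup.mem_subgroupOf.2 (hexp g g.2)
      have h2 : orderOf (QuotientGroup.mk' S g) ∣ (P : Subgroup N).index := by
        refine (orderOf_dvd_natCard _).trans ?_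
        rw [← Subgroup.index_eq_card]
        exact Subgroup.index_dvd_of_le le_sup_left
      have h3 : orderOf (QuotientGroup.mk' S g) ≠ r := fun h => by rw [h] at h2; exact P.not_dvd_index h2
      have h4 := ((Nat.dvd_prime hr).1 h1).resolve_right h3
      exact (QuotientGroup.eq_one_iff g).1 (orderOf_eq_one_iff.1 h4)
    have hc : IsMulCommutative S := by
      have hAc : IsMulCommutative (A.subgroupOf N) := ⟨⟨fun u v => Subtype.ext
        (Subgroup.mem_center_iff.1 (hcen v.1 (Subgroup.mem_subgroupOf.1 v.2)) u.1)⟩⟩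
      exact isMulCommutative_sup_of fun a _ z hz =>
        Subgroup.mem_center_iff.1 (hcen z (Subgroup.mem_subgroupOf.1 hz)) a
    refine hNc ⟨⟨fun a b => ?_⟩⟩
    exact congrArg Subtype.val (mul_comm' (⟨a, by rw [hS]; exact Subgroup.mem_top a⟩ : S) ⟨b, by rw [hS]; exact Subgroup.mem_top b⟩)
  have hR : (P : Subgroup N).map N.subtype = N := by
    by_contra hne
    have hle : (P : Subgroup N).map N.subtype ≤ N := Subgroup.map_subtype_le _
    have := hsmall _ hRn hle hne
    refine hPA ⟨⟨fun a b => Subtype.ext (Subtype.ext ?_)⟩⟩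
    exact (congrArg Subtype.val (mul_comm' (⟨_, this ⟨a, a.2, rfl⟩⟩ : A) ⟨_, this ⟨b, b.2, rfl⟩⟩) :)
  have hP : IsPGroup r N := hR ▸ P.isPGroup'.map N.subtype
  exact ⟨r, hr, hP, hexp, hcomm⟩

theorem exists_normal_isPGroup_nonabelian [Finite H] [Group.IsSolvable H] (A : Subgroup H)
    [A.Normal] [IsMulCommutative A]
    (hAmax : ∀ B : Subgroup H, B.Normal → IsMulCommutative B → A ≤ B → B = A)
    (B : Subgroup H) [B.Normal] (hBA : B ≤ Subgroup.centralizer (A : Set H))
    (hB : ¬ IsMulCommutative B) :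
    ∃ (r : ℕ) (N : Subgroup H), r.Prime ∧ N.Normal ∧ N ≤ B ∧ ¬ IsMulCommutative N ∧ IsPGroup r N ∧
      (∀ g ∈ N, g ^ r ∈ A) ∧ ∀ a ∈ N, ∀ b ∈ N, a⁻¹ * b⁻¹ * a * b ∈ A := by
  classical
  obtain ⟨N, ⟨hNn, hNB, hNc⟩, hmin⟩ := (wellFounded_lt (α := Subgroup H)).has_min
    {N | N.Normal ∧ N ≤ B ∧ ¬ IsMulCommutative N} ⟨B, inferInstance, le_rfl, hB⟩
  have hsmall : ∀ M : Subgroup H, M.Normal → M ≤ N → M ≠ N → M ≤ A := by
    intro M hM hle hne
    have hMc : IsMulCommutative M := by
      by_contra h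
      exact hmin M ⟨hM, hle.trans hNB, h⟩ (lt_of_le_of_ne hle hne)
    have := isMulCommutative_sup_of (X := M) (Y := A) fun m hm a ha =>
      (Subgroup.mem_centralizer_iff.1 (hBA (hNB (hle hm))) a ha).symm
    exact le_sup_left.trans (hAmax _ inferInstance this le_sup_right).le
  have hNbot : N ≠ ⊥ := by
    rintro rfl
    exact hNc inferInstance
  have hder : ⁅N, N⁆ ≤ A :=
    hsmall _ inferInstance (Subgroup.commutator_le_left N N) (Group.IsSolvable.commutator_lt_of_ne_bot hNbot).ne
  obtain ⟨r, hr, hP, hexp, hcomm⟩ :=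
    isPGroup_of_minimal_nonabelian A N (hNn := hNn) (hNB.trans hBA) hNc hsmall hder
  exact ⟨r, N, hr, hNn, hNB, hNc, hP, hexp, hcomm⟩

theorem IsRegularLinear.nonempty_q8 (hreg : IsRegularLinear H) [Finite V] [Nontrivial V]
    (A : Subgroup H) (N : Subgroup H) (hNA : N ≤ Subgroup.centralizer (A : Set H))
    (hNc : ¬ IsMulCommutative N) {r : ℕ} (hr : r.Prime) (hP : IsPGroup r N)
    (hexp : ∀ g ∈ N, g ^ r ∈ A) (hcomm : ∀ a ∈ N, ∀ b ∈ N, a⁻¹ * b⁻¹ * a * b ∈ A) :
    Nonempty (N ≃* QuaternionGroup 2) := by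
  have : Finite H := by
    have : Finite (V ≃ₗ[ZMod p] V) := Finite.of_injective _ DFunLike.coe_injective
    infer_instance
  have hac : CyclicAbelianSubgroups N := fun K hK => by
    have := hreg.isCyclic_abelian (K.map N.subtype)
    exact (K.equivMapOfInjective N.subtype N.subtype_injective).isCyclic.2 this
  obtain ⟨x, y, hxy⟩ : ∃ x y : N, x * y ≠ y * x := by
    by_contra! h
    exact hNc ⟨⟨h⟩⟩
  refine nonempty_mulEquiv_quaternion hr hP hac (A.subgroupOf N) ?_ ?_ ?_ hxy
  · intro z hz g
    exact Subtype.ext (Subgroup.mem_centralizer_iff.1 (hNA g.2) z (Subgroup.mem_subgroupOf.1 hz))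
  · exact fun g => Subgroup.mem_subgroupOf.2 (hexp g g.2)
  · exact fun a b => Subgroup.mem_subgroupOf.2 (hcomm a a.2 b b.2)

theorem IsRegularLinear.exists_normal_q8 (hreg : IsRegularLinear H) [Finite V] [Nontrivial V]
    [Group.IsSolvable H] (A : Subgroup H) [A.Normal] [IsMulCommutative A]
    (hAmax : ∀ B : Subgroup H, B.Normal → IsMulCommutative B → A ≤ B → B = A)
    (B : Subgroup H) [B.Normal] (hBA : B ≤ Subgroup.centralizer (A : Set H))
    (hB : ¬ IsMulCommutative B) :
    ∃ N : Subgroup H, N.Normal ∧ N ≤ B ∧ Nonempty (N ≃* QuaternionGroup 2) := by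
  have : Finite H := by
    have : Finite (V ≃ₗ[ZMod p] V) := Finite.of_injective _ DFunLike.coe_injective
    infer_instance
  obtain ⟨r, N, hr, hNn, hNB, hNc, hP, hexp, hcomm⟩ :=
    exists_normal_isPGroup_nonabelian A hAmax B hBA hB
  exact ⟨N, hNn, hNB, hreg.nonempty_q8 A N (hNB.trans hBA) hNc hr hP hexp hcomm⟩

theorem IsRegularLinear.soluble_data (hreg : IsRegularLinear H) [Finite V]
    (hI : ∀ A : Subgroup H, A.Normal → IsCyclic A → ∃ W : Submodule (ZMod p) V, W ≠ ⊥ ∧ W ≠ ⊤ ∧
      LinInv A W) [Group.IsSolvable H] :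
    ∃ (A N : Subgroup H) (k n : ℕ), NearData A k n ∧ A.Normal ∧ IsMulCommutative A ∧
      (∀ B : Subgroup H, B.Normal → IsMulCommutative B → A ≤ B → B = A) ∧
      Nonempty (N ≃* QuaternionGroup 2) ∧
      ∃ d e, d ∣ 24 ∧ 1 ≤ e ∧ e ≤ k ∧ p ^ n - 1 = Nat.card A * d * e := by
  classical
  have := nontrivial_of_noIrreducibleCyclic hI
  have : Finite (V ≃ₗ[ZMod p] V) := Finite.of_injective _ DFunLike.coe_injective
  obtain ⟨A, ⟨hAn, hAc⟩, hmax⟩ := (wellFounded_gt (α := Subgroup H)).has_min
    {A | A.Normal ∧ IsMulCommutative A} ⟨⊥, inferInstance, inferInstance⟩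
  have hAmax : ∀ B : Subgroup H, B.Normal → IsMulCommutative B → A ≤ B → B = A := by
    intro B hBn hBc hle
    by_contra hne
    exact hmax B ⟨hBn, hBc⟩ (lt_of_le_of_ne hle (Ne.symm hne))
  obtain ⟨W, -, -, hd⟩ := hreg.exists_nearData hI A
  obtain ⟨hlt, hnc⟩ := hreg.centralizer_not_abelian hI A hAmax
  set C := Subgroup.centralizer (A : Set H)
  obtain ⟨N, hNn, hNC, ⟨ε⟩⟩ := hreg.exists_normal_q8 A hAmax C le_rfl hnc
  refine ⟨A, N, _, _, hd, hAn, hAc, hAmax, ⟨ε⟩, ?_⟩
  -- elements of `C` commuting with `N` form `A`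
  have hD : C ⊓ Subgroup.centralizer (N : Set H) = A := by
    refine hAmax _ inferInstance ?_ (le_inf (Subgroup.le_centralizer A) ?_)
    swap
    · exact Subgroup.le_centralizer_iff.1 hNC
    by_contra hDc
    obtain ⟨M, hMn, hMD, ⟨δ⟩⟩ := hreg.exists_normal_q8 A hAmax _ inf_le_left hDc
    have hM : ∀ m ∈ M, ∀ g ∈ N, g * m = m * g := fun m hm =>
      Subgroup.mem_centralizer_iff.1 (hMD hm).2
    let q : QuaternionGroup 2 := .a 1
    have hcopy : ∀ (K : Subgroup H) (e : K ≃* QuaternionGroup 2),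
        ((e.symm q : H) * e.symm q) * ((e.symm q : H) * e.symm q) = 1 ∧
        (e.symm q : H) * e.symm q ≠ 1 := by
      intro K e
      refine ⟨?_, fun h => ?_⟩
      · have : ((e.symm q * e.symm q) * (e.symm q * e.symm q) : K) = 1 := by
          rw [← map_mul, ← map_mul, show q * q * (q * q) = 1 by decide, map_one]
        exact congrArg Subtype.val this
      · have h1 : e.symm (q * q) = e.symm 1 := by
          rw [map_mul, map_one]; exact Subtype.ext h
        exact absurd (e.symm.injective h1) (by decide)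
    obtain ⟨hx4, hx2⟩ := hcopy N ε
    obtain ⟨hu4, hu2⟩ := hcopy M δ
    set x : H := (ε.symm q : H) with hxdef
    set u : H := (δ.symm q : H) with hudef
    have hxu : x * u = u * x := hM u (δ.symm q).2 x (ε.symm q).2
    have hsq : x * x = u * u := hreg.involution_unique hx4 hx2 hu4 hu2
    have hsq' : (x * u) * (x * u) = 1 := by
      calc (x * u) * (x * u) = x * (u * x) * u := by simp only [mul_assoc]
        _ = x * (x * u) * u := by rw [hxu]
        _ = (x * x) * (u * u) := by simp only [mul_assoc]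
        _ = 1 := by rw [← hsq]; exact hx4
    have hxuN : x * u ∈ N := by
      by_cases h1 : x * u = 1
      · rw [h1]; exact N.one_mem
      · rw [← hreg.involution_unique hx4 hx2 hsq' h1]
        exact N.mul_mem (ε.symm q).2 (ε.symm q).2
    have huN : u ∈ N := by
      have := N.mul_mem (N.inv_mem (ε.symm q).2) hxuN
      rwa [← hxdef, inv_mul_cancel_left] at this
    have hcen : ∀ g : QuaternionGroup 2, g * ε ⟨u, huN⟩ = ε ⟨u, huN⟩ * g := by
      intro g
      have h1 : (ε.symm g) * ⟨u, huN⟩ = ⟨u, huN⟩ * ε.symm g :=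
        Subtype.ext (hM u (δ.symm q).2 _ (ε.symm g).2)
      simpa using congrArg ε h1
    have hdec : ∀ z : QuaternionGroup 2, (∀ g, g * z = z * g) → z * z = 1 := by decide
    have h2 := hdec _ hcen
    rw [← map_mul, MulEquiv.map_eq_one_iff] at h2
    exact hu2 (congrArg Subtype.val h2)
  let φ : C →* MulAut N := MulAut.conjNormal.comp C.subtype
  have hker : φ.ker = A.subgroupOf C := by
    ext g
    rw [MonoidHom.mem_ker, Subgroup.mem_subgroupOf, ← hD, Subgroup.mem_inf,
      Subgroup.mem_centralizer_iff]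
    constructor
    · intro h
      refine ⟨g.2, fun n hn => ?_⟩
      have h1 := congrArg Subtype.val (DFunLike.congr_fun h ⟨n, hn⟩)
      simp only [φ, MonoidHom.comp_apply, Subgroup.coe_subtype, MulAut.conjNormal_apply,
        MulAut.one_apply] at h1
      exact (mul_inv_eq_iff_eq_mul.1 h1).symm
    · rintro ⟨-, h⟩
      refine MulEquiv.ext fun n => Subtype.ext ?_
      simp only [φ, MonoidHom.comp_apply, Subgroup.coe_subtype, MulAut.conjNormal_apply,
        MulAut.one_apply]
      exact mul_inv_eq_iff_eq_mul.2 (h n n.2).symm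
  refine ⟨Nat.card φ.range, C.index, ?_, ?_, hd.index_le, ?_⟩
  · rw [← card_mulAut_quaternion, ← Nat.card_congr (MulAut.congr ε).toEquiv]
    exact Subgroup.card_subgroup_dvd_card _
  · exact Nat.one_le_iff_ne_zero.2 Subgroup.index_ne_zero_of_finite
  · have h1 := C.card_mul_index
    have h2 := φ.ker.card_mul_index
    rw [Subgroup.index_ker, hker,
      Nat.card_congr (Subgroup.subgroupOfEquivOfLe hlt.le).toEquiv] at h2
    rw [← hd.card_H, ← h1, ← h2]

end CfsgLib.Perm

namespace CfsgLib.Perm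

/-- The degree arithmetic for soluble exceptional near-field groups. -/
theorem degree_arith {p k n a d e : ℕ} (hp : p.Prime) (hk : 1 ≤ k) (h2k : 2 * k ≤ n) (hkn : k ∣ n)
    (ha : a ∣ p ^ k - 1) (hd : d ∣ 24) (he : 1 ≤ e) (hek : e ≤ k) (h8 : 8 ∣ p ^ n - 1)
    (h : p ^ n - 1 = a * d * e) : n = 2 ∧ (p = 3 ∨ p = 5 ∨ p = 7 ∨ p = 11 ∨ p = 23) := by
  have hpodd : 3 ≤ p := by
    rcases hp.two_le.lt_or_eq with h' | rfl
    · omega
    · exfalso
      have h1 : 1 ≤ 2 ^ n := Nat.one_le_two_pow
      have h2 : 2 ∣ 2 ^ n := dvd_pow_self 2 (by omega)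
      omega
  have hd24 : d ≤ 24 := Nat.le_of_dvd (by norm_num) hd
  obtain ⟨m, rfl⟩ := hkn
  have hm : 2 ≤ m := by
    by_contra hm
    push Not at hm
    interval_cases m <;> omega
  obtain ⟨t, ht⟩ := ha
  have hpk : 3 ≤ p ^ k := hpodd.trans (Nat.le_self_pow (by omega) p)
  obtain ⟨y, hy⟩ : ∃ y, p ^ k = y + 1 := ⟨p ^ k - 1, by omega⟩
  have ha' : a * t = y := by omega
  have ht0 : 1 ≤ t := by
    rcases Nat.eq_zero_or_pos t with rfl | h'
    · rw [mul_zero] at ha'; omega
    · exact h'
  have hay : a ≤ y := ha' ▸ Nat.le_mul_of_pos_right a ht0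
  have hde : d * e ≤ 24 * k := Nat.mul_le_mul hd24 hek
  have hup : p ^ (k * m) ≤ y * (24 * k) + 1 := by
    have : a * d * e ≤ y * (24 * k) := by rw [mul_assoc]; exact Nat.mul_le_mul hay hde
    omega
  have hm2 : m = 2 := by
    by_contra hne
    have h1 : p ^ (3 * k) ≤ p ^ (k * m) :=
      Nat.pow_le_pow_right hp.pos (by rw [mul_comm 3 k]; exact Nat.mul_le_mul_left k (by omega))
    rw [show 3 * k = k + k + k by omega, pow_add, pow_add, hy] at h1
    have h2 : y * y + 3 * y + 3 ≤ 24 * k := by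
      by_contra hcon
      push Not at hcon
      have : y * (24 * k) < y * (y * y + 3 * y + 3) := Nat.mul_lt_mul_of_pos_left hcon (by omega)
      nlinarith
    rcases Nat.lt_or_ge k 2 with hk1 | hk2
    · have hk' : k = 1 := by omega
      subst hk'
      rw [pow_one] at hy
      have hy3 : y ≤ 3 := by nlinarith
      have hp3 : p = 3 := by
        have : p ≤ 4 := by omega
        interval_cases p
        · rfl
        · norm_num at hp
      subst hp3
      have hy2 : y = 2 := by omega
      subst hy2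
      have hm3 : m ≤ 3 := by
        by_contra hm4
        have : 3 ^ 4 ≤ 3 ^ (1 * m) := Nat.pow_le_pow_right (by norm_num) (by omega)
        omega
      have : m = 3 := by omega
      subst this
      norm_num at h8
    · have h3 : 3 ^ k ≤ p ^ k := Nat.pow_le_pow_left hpodd k
      have h4 : 4 * k + 1 ≤ 3 ^ k := by
        clear * - hk2
        induction k, hk2 using Nat.le_induction with
        | base => norm_num
        | succ j hj ih => rw [pow_succ]; omega
      nlinarith
  subst hm2
  rw [pow_mul, hy] at h hup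
  have hsq : (y + 1) ^ 2 - 1 = y * (y + 2) := by
    rw [show (y + 1) ^ 2 = y * (y + 2) + 1 by ring, Nat.add_sub_cancel]
  rw [hsq] at h
  have hdvd : (y + 2) * t = d * e := by
    have ha0 : 0 < a := by
      rcases Nat.eq_zero_or_pos a with rfl | h'
      · rw [zero_mul] at ha'; omega
      · exact h'
    refine Nat.eq_of_mul_eq_mul_left ha0 ?_
    rw [show a * (d * e) = a * d * e by ring, ← h]
    subst ha'; ring
  have hdiv : p ^ k + 1 ∣ 24 * e := by
    rw [hy, show y + 1 + 1 = y + 2 from rfl]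
    exact (Dvd.intro t hdvd).trans (Nat.mul_dvd_mul hd dvd_rfl)
  have hle : p ^ k + 1 ≤ 24 * e := Nat.le_of_dvd (by omega) hdiv
  have h3 : 3 ^ k ≤ p ^ k := Nat.pow_le_pow_left hpodd k
  have hk4 : k ≤ 4 := by
    by_contra hk5
    have : 24 * k < 3 ^ k := by
      clear * - hk5
      have hk5' : 5 ≤ k := by omega
      clear hk5
      induction k, hk5' using Nat.le_induction with
      | base => norm_num
      | succ j hj ih => rw [pow_succ]; omega
    omega
  have hpb : p ≤ 23 := by
    by_contra hcon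
    have h1 : 24 ^ k ≤ p ^ k := Nat.pow_le_pow_left (by omega) k
    interval_cases k <;> omega
  interval_cases k
  · interval_cases e
    interval_cases p <;> first | (norm_num at hp; done) | (norm_num at hdiv; done) | norm_num
  · exfalso
    interval_cases e <;> interval_cases p <;> first | (norm_num at hp; done) | (norm_num at hdiv; done)
  · exfalso
    interval_cases e <;> interval_cases p <;> first | (norm_num at hp; done) | (norm_num at hdiv; done)
  · exfalso
    interval_cases e <;> interval_cases p <;> first | (norm_num at hp; done) | (norm_num at hdiv; done)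

variable {p : ℕ} [Fact p.Prime] {V : Type*} [AddCommGroup V] [Module (ZMod p) V]
  {H : Subgroup (V ≃ₗ[ZMod p] V)}

theorem IsRegularLinear.card_soluble_type_two (hreg : IsRegularLinear H) [Finite V]
    (hI : ∀ A : Subgroup H, A.Normal → IsCyclic A → ∃ W : Submodule (ZMod p) V, W ≠ ⊥ ∧ W ≠ ⊤ ∧
      LinInv A W) [Group.IsSolvable H] :
    Nat.card V = 25 ∨ Nat.card V = 49 ∨ Nat.card V = 121 ∨ Nat.card V = 529 := by
  have := nontrivial_of_noIrreducibleCyclic hI
  have : Finite (V ≃ₗ[ZMod p] V) := Finite.of_injective _ DFunLike.coe_injective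
  obtain ⟨A, N, k, n, hd, hAn, hAc, hAmax, ⟨ε⟩, d, e, hd24, he, hek, hcard⟩ := hreg.soluble_data hI
  have hN8 : Nat.card N = 8 := by
    rw [Nat.card_congr ε.toEquiv, Nat.card_eq_fintype_card, QuaternionGroup.card]
  have h8 : 8 ∣ p ^ n - 1 := by
    rw [← hd.card_H, ← hN8]; exact Subgroup.card_subgroup_dvd_card N
  obtain ⟨hn, hp⟩ := degree_arith (Fact.out : p.Prime) hd.k_pos hd.two_k_le hd.k_dvd hd.card_A hd24
    he hek h8 hcard
  subst hn
  rcases hp with rfl | rfl | rfl | rfl | rfl
  · exfalso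
    have hk : k = 1 := by have := hd.k_pos; have := hd.two_k_le; omega
    subst hk
    have hA2 : Nat.card A ≤ 2 := Nat.le_of_dvd (by norm_num) (by simpa using hd.card_A)
    have hH : Nat.card H = 8 := by rw [hd.card_H]; norm_num
    let x : H := (ε.symm (.a 1) : H)
    have hx4 : orderOf x = 4 := by
      rw [Subgroup.orderOf_coe, MulEquiv.orderOf_eq, QuaternionGroup.orderOf_a_one]
    have hBcard : Nat.card (Subgroup.zpowers x) = 4 := by rw [Nat.card_zpowers, hx4]
    have hBi : (Subgroup.zpowers x).index = 2 := by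
      have := (Subgroup.zpowers x).card_mul_index
      rw [hBcard, hH] at this
      omega
    have hBn := Subgroup.normal_of_index_eq_two hBi
    have hxx : x ^ 2 ≠ 1 := fun h => by
      have := orderOf_dvd_of_pow_eq_one h
      rw [hx4] at this
      norm_num at this
    have hAB : A ≤ Subgroup.zpowers x := by
      intro a ha
      by_cases ha1 : a = 1
      · rw [ha1]; exact one_mem _
      · have h2 : a * a = 1 := by
          have hord : orderOf (⟨a, ha⟩ : A) ∣ Nat.card A := orderOf_dvd_natCard _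
          rw [Subgroup.orderOf_mk] at hord
          have h1 : orderOf a ≤ 2 := (Nat.le_of_dvd Nat.card_pos hord).trans hA2
          have h0 : orderOf a ≠ 1 := fun h => ha1 (orderOf_eq_one_iff.1 h)
          have hpos : 0 < orderOf a := orderOf_pos a
          rw [← pow_two, ← show orderOf a = 2 by omega, pow_orderOf_eq_one]
        have hx22 : x ^ 2 * x ^ 2 = 1 := by
          rw [← pow_add, show 2 + 2 = orderOf x from hx4.symm, pow_orderOf_eq_one]
        rw [hreg.involution_unique h2 ha1 hx22 hxx]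
        exact pow_mem (Subgroup.mem_zpowers x) 2
    have := hAmax _ hBn inferInstance hAB
    rw [this] at hBcard
    omega
  all_goals simp [hd.card_V]

end CfsgLib.Perm
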