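import Cfsg.Agent.Lib.Recog.TransLinearSolvable
import Cfsg.Agent.Lib.Base.Nilpotent
import Cfsg.Agent.Lib.Base.Fitting
import Cfsg.Agent.Lib.FT.OddOrderTheorem

/-!
Transitive linear groups of odd order.
-/

set_option autoImplicit false

open CfsgLib.Base Cfsg
open scoped commutatorElement

namespace CfsgLib.Perm.OddTransLinear

/-- A prime that singles out the full field inside a field with `2 ^ d` elements, among odd degree subfields. -/
theorem exists_prime {d : ℕ} (hd : 2 ≤ d) : ∃ r : ℕ, r.Prime ∧ r ∣ 2 ^ d - 1 ∧ ¬ r ∣ d ∧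
    ∀ e, e ∣ d → Odd (d / e) → r ∣ 2 ^ e - 1 → e = d := by
  by_cases h6 : d = 6
  · subst h6
    refine ⟨7, by norm_num, by norm_num, by norm_num, fun e he ho h => ?_⟩
    have := Nat.le_of_dvd (by norm_num) he
    interval_cases e <;> simp_all (config := { decide := true })
  by_cases h2 : d = 2
  · subst h2
    refine ⟨3, by norm_num, by norm_num, by norm_num, fun e he ho h => ?_⟩
    have := Nat.le_of_dvd (by norm_num) he
    interval_cases e <;> simp_all (config := { decide := true })
  obtain ⟨r, hr, ho⟩ := CfsgLib.Recog.ZsigmondyPrime.exists_primitive_prime (a := 2) (n := d) le_rfl (by omega)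
    fun h => h6 h.2
  haveI := Fact.mk hr
  have hsub : ∀ k : ℕ, r ∣ 2 ^ k - 1 ↔ d ∣ k := fun k => by
    rw [← ho, orderOf_dvd_iff_pow_eq_one, ← ZMod.natCast_eq_zero_iff, Nat.cast_sub (Nat.one_le_two_pow),
      sub_eq_zero, Nat.cast_pow, Nat.cast_one]
  have hle := CfsgLib.Recog.TransLinear.le_of_orderOf (p := 2) ho (by omega)
  refine ⟨r, hr, (hsub d).2 dvd_rfl, fun h => ?_, fun e he _ h => Nat.dvd_antisymm he ((hsub e).1 h)⟩
  have := Nat.le_of_dvd (by omega) h
  omega

theorem main {D E : Type*} [Group D] [Finite D]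
    [AddCommGroup E] [Finite E] [Nontrivial E] [DistribMulAction D E] [FaithfulSMul D E]
    (hodd : Odd (Nat.card D)) {q : ℕ} (hq : q.Prime) (hE : ∀ e : E, q • e = 0)
    (htrans : ∀ a b : E, a ≠ 0 → b ≠ 0 → ∃ d : D, d • a = b) :
    IsCyclic ↥(Cfsg.fittingSubgroup D) ∧
      (∀ g ∈ Cfsg.fittingSubgroup D, g ≠ 1 → ∀ a : E, g • a = a → a = 0) ∧
      commutator D ≤ Cfsg.fittingSubgroup D := by
  classical
  haveI := Fact.mk hq
  have inst : Module (ZMod q) E := AddCommGroup.zmodModule hE
  let R : D →* Module.End (ZMod q) E :=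
    { toFun := fun g => (DistribSMul.toAddMonoidHom E g).toZModLinearMap q
      map_one' := LinearMap.ext fun v => one_smul D v
      map_mul' := fun g h => LinearMap.ext fun v => mul_smul g h v }
  have hRv : ∀ g v, R g v = g • v := fun g v => rfl
  have hR : Function.Injective R := fun g h hgh =>
    FaithfulSMul.eq_of_smul_eq_smul (α := E) fun v => by rw [← hRv, hgh, hRv]
  have hdvd := CfsgLib.Recog.TransLinear.sub_one_dvd_card R htrans
  obtain ⟨d, hd⟩ := (IsPGroup.iff_card (p := q) (G := Multiplicative E)).1 fun x => ⟨1, by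
    rw [pow_one]; exact congrArg Multiplicative.ofAdd (hE x.toAdd)⟩
  change Nat.card E = q ^ d at hd
  have hq2 : q = 2 := by
    by_contra h
    rw [hd] at hdvd
    have hdd : d ≠ 0 := fun h0 => by
      rw [h0, pow_zero] at hd
      exact Finite.one_lt_card.ne' hd
    have : 2 ∣ q ^ d - 1 := by
      obtain ⟨k, hk⟩ := (hq.odd_of_ne_two h).pow (n := d)
      exact ⟨k, by omega⟩
    exact hodd.not_two_dvd_nat (this.trans hdvd)
  subst hq2
  by_cases hd1 : d ≤ 1
  · have hsub : ∀ g : D, g = 1 := fun g => FaithfulSMul.eq_of_smul_eq_smul (α := E) fun v => by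
      rw [one_smul]
      by_cases hv : v = 0
      · rw [hv, smul_zero]
      · by_contra h
        have hne : g • v ≠ 0 := fun e => hv ((smul_eq_zero_iff_eq g).1 e)
        haveI := Fintype.ofFinite E
        have := Finset.card_le_univ ({0, v, g • v} : Finset E)
        rw [Finset.card_eq_three.2 ⟨0, v, g • v, Ne.symm hv, hne.symm, Ne.symm h, rfl⟩] at this
        have hc : Fintype.card E ≤ 2 := by
          rw [← Nat.card_eq_fintype_card, hd]
          exact (Nat.pow_le_pow_right (by norm_num) hd1).trans (by norm_num)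
        omega
    haveI : Subsingleton D := ⟨fun a b => by rw [hsub a, hsub b]⟩
    exact ⟨inferInstance, fun g _ hg => absurd (hsub g) hg, fun g _ => (hsub g) ▸ one_mem _⟩
  haveI hsol := CfsgLib.FT.isSolvable_of_odd hodd
  obtain ⟨F₀, _, _, e₀, he₀⟩ := (CfsgLib.Recog.TransLinear.semilinear_or_small hR hsol htrans).resolve_right
    fun h => by
      simp only [Set.mem_insert_iff, Set.mem_singleton_iff] at h
      have : 2 ∣ Nat.card E := by rw [hd]; exact dvd_pow_self 2 (by omega)
      omega
  have : Fintype (GaloisField 2 d) := Fintype.ofFinite _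
  let ρ : F₀ ≃+* GaloisField 2 d := FiniteField.ringEquivOfCardEq (by
    rw [← Nat.card_eq_fintype_card, ← Nat.card_eq_fintype_card, GaloisField.card 2 d (by omega),
      ← Nat.card_congr e₀.toEquiv, hd])
  let e : E ≃+ GaloisField 2 d := e₀.trans ρ.toAddEquiv
  have hsemi : ∀ g : D, ∃ (a : GaloisField 2 d) (σ : GaloisField 2 d ≃ₐ[ZMod 2] GaloisField 2 d),
      ∀ v, e (g • v) = a * σ (e v) := by
    intro g
    obtain ⟨a, σ, hσ⟩ := he₀ g
    refine ⟨ρ a, AlgEquiv.ofRingEquiv (f := (ρ.symm.trans σ).trans ρ) fun x => ?_, fun v => ?_⟩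
    · exact RingHom.congr_fun (Subsingleton.elim
        (((ρ.symm.trans σ).trans ρ).toRingHom.comp (algebraMap (ZMod 2) (GaloisField 2 d))) (algebraMap _ _)) x
    · change ρ (e₀ (R g v)) = ρ a * ρ (σ (ρ.symm (ρ (e₀ v))))
      rw [hσ, map_mul, RingEquiv.symm_apply_apply]
  choose c σ hσ using hsemi
  have hone : ∀ g, c g = e (g • e.symm 1) := fun g => by rw [hσ, e.apply_symm_apply, map_one, mul_one]
  have hc0 : ∀ g, c g ≠ 0 := fun g h => by
    have h1 := hσ g (e.symm 1)
    rw [h, zero_mul, e.map_eq_zero_iff, smul_eq_zero_iff_eq, e.symm.map_eq_zero_iff] at h1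
    exact one_ne_zero h1
  have hmul : ∀ g h, c (g * h) = c g * σ g (c h) ∧ σ (g * h) = σ g * σ h := fun g h => by
    have h1 : c (g * h) = c g * σ g (c h) := by
      rw [hone (g * h), mul_smul, hσ, ← hone]
    refine ⟨h1, AlgEquiv.ext fun x => ?_⟩
    obtain ⟨v, rfl⟩ := e.surjective x
    have h2 := hσ (g * h) v
    rw [mul_smul, hσ, hσ, map_mul, ← mul_assoc, ← h1] at h2
    exact (mul_left_cancel₀ (hc0 _) h2).symm
  let τ : D →* (GaloisField 2 d ≃ₐ[ZMod 2] GaloisField 2 d) := MonoidHom.mk' σ fun g h => (hmul g h).2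
  let A := τ.ker
  have hA : ∀ g ∈ A, σ g = 1 := fun g hg => hg
  let ψ : A →* GaloisField 2 d := {
    toFun := fun g => c g
    map_one' := by rw [Subgroup.coe_one, hone, one_smul, e.apply_symm_apply]
    map_mul' := fun g h => by rw [Subgroup.coe_mul, (hmul _ _).1, hA _ g.2]; rfl }
  have hψ : Function.Injective ψ := fun g h hgh => Subtype.ext (FaithfulSMul.eq_of_smul_eq_smul (α := E)
    fun v => e.injective (by rw [hσ, hσ, hA _ g.2, hA _ h.2]; exact congrArg (· * _) hgh))
  have hAcyc : IsCyclic A := isCyclic_of_injective_ringHom ψ hψ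
  haveI : IsMulCommutative A := ⟨⟨fun a b => hψ (by rw [map_mul, map_mul, mul_comm])⟩⟩
  have hAF : A ≤ fittingSubgroup D := le_fittingSubgroup_of_isMulCommutative
  have hcomm : commutator D ≤ A := by
    rw [commutator_def, Subgroup.commutator_le]
    intro g _ h _
    refine MonoidHom.mem_ker.2 ?_
    rw [map_commutatorElement, commutatorElement_eq_one_iff_mul_comm]
    exact IsCyclic.isMulCommutative.is_comm.comm _ _
  obtain ⟨r, hr, hrd, hrn, hre⟩ := exists_prime (d := d) (by omega)
  haveI := Fact.mk hr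
  have hrA : r ∣ Nat.card A := by
    have h1 : r ∣ Nat.card D := hrd.trans (by rw [← hd]; exact hdvd)
    rw [← A.card_mul_index, Subgroup.index_ker] at h1
    refine (hr.dvd_mul.1 h1).resolve_right fun h2 => hrn (h2.trans ?_)
    refine (Subgroup.card_subgroup_dvd_card _).trans ?_
    rw [IsGalois.card_aut_eq_finrank, GaloisField.finrank 2 (by omega)]
  obtain ⟨t, ht⟩ := exists_prime_orderOf_dvd_card' r hrA
  have hFA : fittingSubgroup D ≤ A := by
    intro g hg
    haveI := isNilpotent_fittingSubgroup D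
    let T₀ : Subgroup D :=
      { carrier := {x | x ∈ A ∧ x ^ r = 1}
        one_mem' := ⟨A.one_mem, one_pow r⟩
        mul_mem' := fun {x y} hx hy => ⟨A.mul_mem hx.1 hy.1, by
          rw [Commute.mul_pow (show Commute x y from congrArg Subtype.val (mul_comm' (⟨x, hx.1⟩ : A) ⟨y, hy.1⟩)),
            hx.2, hy.2, one_mul]⟩
        inv_mem' := fun {x} hx => ⟨A.inv_mem hx.1, by rw [inv_pow, hx.2, inv_one]⟩ }
    haveI : T₀.Normal := ⟨fun x hx y => ⟨(inferInstance : A.Normal).conj_mem x hx.1 y, by
      rw [conj_pow, hx.2, mul_one, mul_inv_cancel]⟩⟩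
    let T : Subgroup (fittingSubgroup D) := T₀.subgroupOf _
    have hTne : T ≠ ⊥ := fun h => by
      have : (⟨t, hAF t.2⟩ : fittingSubgroup D) ∈ T :=
        Subgroup.mem_subgroupOf.2 ⟨t.2, by rw [← ht, ← Subgroup.orderOf_coe, pow_orderOf_eq_one]⟩
      rw [h, Subgroup.mem_bot] at this
      rw [← Subgroup.orderOf_coe, show (t : D) = 1 from congrArg Subtype.val this, orderOf_one] at ht
      exact hr.one_lt.ne ht
    obtain ⟨z, hz, hz1⟩ := (Subgroup.bot_or_exists_ne_one _).resolve_left (inf_center_ne_bot_of_isNilpotent hTne)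
    obtain ⟨hzA, hzr⟩ : (z : D) ∈ A ∧ (z : D) ^ r = 1 := hz.1
    have hzo : orderOf (⟨z, hzA⟩ : A) = r :=
      orderOf_eq_prime (Subtype.ext (by rw [Subgroup.coe_pow]; exact hzr))
        (fun h => hz1 (Subtype.ext (by simpa using congrArg Subtype.val h)))
    clear ht t
    obtain ⟨t, ht, htz⟩ : ∃ t : A, orderOf t = r ∧ (t : D) = z := ⟨_, hzo, rfl⟩
    have hTc : (t : D) * g = g * t := by
      rw [htz]; exact congrArg Subtype.val (Subgroup.mem_center_iff.1 hz.2 ⟨g, hg⟩).symm
    have h2 : σ g (c t) = c t := by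
      have h3 : c (t * g) = c (g * t) := by rw [hTc]
      rw [(hmul _ _).1, (hmul _ _).1, hA _ t.2, AlgEquiv.one_apply, mul_comm] at h3
      exact (mul_left_cancel₀ (hc0 g) h3).symm
    let H := Subgroup.zpowers (σ g)
    let K := IntermediateField.fixedField H
    have hmem : c (t : D) ∈ K := by
      rw [IntermediateField.mem_fixedField_iff]
      intro f hf
      have : H ≤ MulAction.stabilizer _ (c (t : D)) := Subgroup.zpowers_le.2 h2
      exact this hf
    have hK := Module.finrank_mul_finrank (ZMod 2) K (GaloisField 2 d)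
    rw [IntermediateField.finrank_fixedField_eq_card, GaloisField.finrank 2 (by omega : d ≠ 0)] at hK
    have hKc := Module.natCard_eq_pow_finrank (K := ZMod 2) (V := K)
    rw [Nat.card_zmod] at hKc
    have hpos : 0 < Module.finrank (ZMod 2) K := Module.finrank_pos
    have hHodd : Odd (Nat.card H) := by
      rw [Nat.card_zpowers]
      exact hodd.of_dvd_nat ((orderOf_map_dvd τ g).trans (orderOf_dvd_natCard g))
    have he : Module.finrank (ZMod 2) K = d := by
      refine hre _ (Dvd.intro _ hK) ?_ ?_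
      · have hK' : Module.finrank (ZMod 2) K * Nat.card H / Module.finrank (ZMod 2) K = Nat.card H :=
          Nat.mul_div_cancel_left _ hpos
        rw [hK] at hK'
        rwa [hK']
      · rw [← hKc, ← Nat.card_units]
        let u : Kˣ := Units.mk0 ⟨c (t : D), hmem⟩ fun h => hc0 _ (congrArg Subtype.val h)
        have hu : orderOf u = r := by
          rw [← orderOf_units, ← orderOf_injective (K.val : K →* GaloisField 2 d) Subtype.val_injective, ← ht,
            ← orderOf_injective ψ hψ t]
          rfl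
        exact hu ▸ orderOf_dvd_natCard u
    rw [he] at hK
    have h1 : Nat.card H = 1 := by
      have : d * Nat.card H = d * 1 := by rw [hK, mul_one]
      exact Nat.eq_of_mul_eq_mul_left (by omega) this
    rw [Nat.card_zpowers, orderOf_eq_one_iff] at h1
    exact h1
  have hFeq : fittingSubgroup D = A := le_antisymm hFA hAF
  refine ⟨hFeq ▸ hAcyc, fun g hg hg1 a ha => ?_, hFeq ▸ hcomm⟩
  by_contra hne
  have hgA := hFA hg
  refine hg1 (congrArg Subtype.val (hψ (a₁ := ⟨g, hgA⟩) (a₂ := 1) ?_))
  rw [map_one]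
  have h1 := hσ g a
  rw [ha, hA g hgA, AlgEquiv.one_apply] at h1
  exact (mul_eq_right₀ (fun h => hne (e.map_eq_zero_iff.1 h))).1 h1.symm

end CfsgLib.Perm.OddTransLinear
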