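import Cfsg.Prelude.Def_Perm
import Cfsg.Agent.Lib.Perm.IsotypicProj
import Cfsg.Agent.Lib.Chars.PermChar

/-!
The centraliser algebra of a permutation representation: orbital operators, transposition, traces.
-/

set_option autoImplicit false

namespace CfsgLib.Perm.Isotypic

open Module Cfsg
open scoped ComplexConjugate

universe u v

variable {G : Type u} [Group G] {Ω : Type v} [MulAction G Ω]

/-- Intertwining endomorphisms of the permutation module. -/
def IsInter (G : Type u) [Group G] {Ω : Type v} [MulAction G Ω] (S : (Ω → ℂ) →ₗ[ℂ] (Ω → ℂ)) : Prop :=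
  ∀ (g : G) (f : Ω → ℂ), S (Cfsg.permRep ℂ G Ω g f) = Cfsg.permRep ℂ G Ω g (S f)

theorem permRep_apply' (g : G) (f : Ω → ℂ) (x : Ω) : Cfsg.permRep ℂ G Ω g f x = f (g⁻¹ • x) := rfl

/-- A matrix entry. -/
noncomputable def entry (S : (Ω → ℂ) →ₗ[ℂ] (Ω → ℂ)) (x y : Ω) : ℂ :=
  haveI := Classical.decEq Ω
  S (Pi.single y 1) x

theorem isInter_comp {S T : (Ω → ℂ) →ₗ[ℂ] (Ω → ℂ)} (hS : IsInter G S) (hT : IsInter G T) :
    IsInter G (S ∘ₗ T) := fun g f => by rw [LinearMap.comp_apply, hT, hS]; rfl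

theorem entry_smul {S : (Ω → ℂ) →ₗ[ℂ] (Ω → ℂ)} (hS : IsInter G S) (g : G) (x y : Ω) :
    entry S (g • x) (g • y) = entry S x y := by
  classical
  have h : Cfsg.permRep ℂ G Ω g (Pi.single y 1) = Pi.single (g • y) (1 : ℂ) := by
    funext z
    simp only [permRep_apply', Pi.single_apply, inv_smul_eq_iff]
  show S (Pi.single (g • y) 1) (g • x) = S (Pi.single y 1) x
  rw [← h, hS, permRep_apply', inv_smul_smul]

variable [Fintype Ω]

theorem apply_eq_sum (S : (Ω → ℂ) →ₗ[ℂ] (Ω → ℂ)) (f : Ω → ℂ) (x : Ω) :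
    S f x = ∑ y, entry S x y * f y := by
  classical
  conv_lhs => rw [pi_eq_sum_univ' f]
  simp [entry, mul_comm]

theorem ext_entry {S T : (Ω → ℂ) →ₗ[ℂ] (Ω → ℂ)} (h : ∀ x y, entry S x y = entry T x y) : S = T :=
  LinearMap.ext fun f => funext fun x => by simp only [apply_eq_sum, h]

theorem entry_comp (S T : (Ω → ℂ) →ₗ[ℂ] (Ω → ℂ)) (x y : Ω) :
    entry (S ∘ₗ T) x y = ∑ z, entry S x z * entry T z y := by
  classical
  show S (T (Pi.single y 1)) x = _
  rw [apply_eq_sum]
  rfl

theorem trace_eq_sum_entry (S : (Ω → ℂ) →ₗ[ℂ] (Ω → ℂ)) :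
    LinearMap.trace ℂ (Ω → ℂ) S = ∑ x, entry S x x := by
  classical
  rw [LinearMap.trace_eq_matrix_trace ℂ (Pi.basisFun ℂ Ω), Matrix.trace]
  refine Finset.sum_congr rfl fun x _ => ?_
  rw [Matrix.diag_apply, LinearMap.toMatrix_apply, Pi.basisFun_repr, Pi.basisFun_apply]
  rfl

/-- Symmetric intertwining maps commute. -/
theorem commute_of_symm {S T : (Ω → ℂ) →ₗ[ℂ] (Ω → ℂ)}
    (hS : ∀ x y, entry S x y = entry S y x) (hT : ∀ x y, entry T x y = entry T y x)
    (hTS : ∀ x y, entry (T ∘ₗ S) x y = entry (T ∘ₗ S) y x) : S ∘ₗ T = T ∘ₗ S :=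
  ext_entry fun x y => by
    rw [hTS x y, entry_comp, entry_comp]
    exact Finset.sum_congr rfl fun z _ => by rw [hS x z, hT z y, mul_comm]

section orbital

variable (G) in
/-- The operator of the orbital of `(a, b)`. -/
noncomputable def orbOp (a b : Ω) : (Ω → ℂ) →ₗ[ℂ] (Ω → ℂ) :=
  haveI := Classical.propDecidable
  { toFun := fun f x => ∑ y ∈ Finset.univ.filter (fun y => ∃ g : G, g • a = x ∧ g • b = y), f y
    map_add' := fun f f' => funext fun x => Finset.sum_add_distrib
    map_smul' := fun c f => funext fun x => by simp [Finset.mul_sum] }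

theorem entry_orbOp (a b x y : Ω) [Decidable (∃ g : G, g • a = x ∧ g • b = y)] :
    entry (orbOp G a b) x y = if ∃ g : G, g • a = x ∧ g • b = y then 1 else 0 := by
  classical
  show (∑ z ∈ Finset.univ.filter (fun z => ∃ g : G, g • a = x ∧ g • b = z), (Pi.single y 1 : Ω → ℂ) z) = _
  simp [Pi.single_apply, Finset.sum_ite_eq']

theorem isInter_orbOp (a b : Ω) : IsInter G (orbOp G a b) := by
  classical
  intro h f
  funext x
  show (∑ y ∈ Finset.univ.filter (fun y => ∃ g : G, g • a = x ∧ g • b = y), f (h⁻¹ • y)) =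
    ∑ y ∈ Finset.univ.filter (fun y => ∃ g : G, g • a = h⁻¹ • x ∧ g • b = y), f y
  refine Finset.sum_equiv (MulAction.toPerm (h⁻¹ : G)) (fun y => ?_) (fun y _ => rfl)
  simp only [Finset.mem_filter, Finset.mem_univ, true_and, MulAction.toPerm_apply]
  constructor
  · rintro ⟨g, h1, h2⟩; exact ⟨h⁻¹ * g, by rw [mul_smul, h1], by rw [mul_smul, h2]⟩
  · rintro ⟨g, h1, h2⟩
    exact ⟨h * g, by rw [mul_smul, h1, smul_inv_smul], by rw [mul_smul, h2, smul_inv_smul]⟩

variable [MulAction.IsPretransitive G Ω]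

theorem sum_entry_orbOp (a b x : Ω) :
    ∑ y, entry (orbOp G a b) x y = (Nat.card (MulAction.orbit (MulAction.stabilizer G a) b) : ℂ) := by
  classical
  simp only [entry_orbOp]
  rw [Finset.sum_boole, ← Fintype.card_subtype, ← Nat.card_eq_fintype_card]
  congr 1
  obtain ⟨h, hh⟩ := MulAction.exists_smul_eq G a x
  refine (Nat.card_congr ((MulAction.toPerm h).subtypeEquiv fun y => ?_)).symm
  simp only [MulAction.toPerm_apply]
  constructor
  · rintro ⟨⟨g, hg⟩, rfl⟩
    exact ⟨h * g, by rw [mul_smul, MulAction.mem_stabilizer_iff.1 hg, hh], mul_smul h g b⟩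
  · rintro ⟨g, h1, h2⟩
    exact ⟨⟨h⁻¹ * g, by rw [MulAction.mem_stabilizer_iff, mul_smul, h1, inv_smul_eq_iff, hh]⟩,
      show (h⁻¹ * g) • b = y by rw [mul_smul, h2, inv_smul_smul]⟩

theorem trace_orbOp {a b : Ω} (hab : b ≠ a) : LinearMap.trace ℂ (Ω → ℂ) (orbOp G a b) = 0 := by
  classical
  rw [trace_eq_sum_entry]
  refine Finset.sum_eq_zero fun x _ => ?_
  rw [entry_orbOp, if_neg]
  rintro ⟨g, h1, h2⟩
  exact hab (smul_left_cancel g (h2.trans h1.symm))

/-- Eigenvalues of the orbital operators are algebraic integers. -/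
theorem isIntegral_of_orbOp (a b : Ω) {t : ℂ} {v : Ω → ℂ} (hv : v ≠ 0)
    (h : orbOp G a b v = t • v) : IsIntegral ℤ t := by
  classical
  let A : Matrix Ω Ω ℤ := fun x y => if ∃ g : G, g • a = x ∧ g • b = y then 1 else 0
  have hA : Matrix.toLin' (A.map (Int.castRingHom ℂ)) = orbOp G a b := ext_entry fun x y => by
    rw [entry_orbOp]
    show Matrix.toLin' (A.map (Int.castRingHom ℂ)) (Pi.single y 1) x = _
    rw [Matrix.toLin'_apply, Matrix.mulVec_single_one]
    show ((A x y : ℤ) : ℂ) = _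
    simp only [A]
    split_ifs <;> simp
  have he : Module.End.HasEigenvalue (Matrix.toLin' (A.map (Int.castRingHom ℂ))) t := by
    rw [hA]; exact Module.End.hasEigenvalue_of_hasEigenvector ⟨Module.End.mem_eigenspace_iff.2 h, hv⟩
  rw [Module.End.hasEigenvalue_iff_isRoot_charpoly, Matrix.charpoly_toLin', Matrix.charpoly_map] at he
  refine ⟨A.charpoly, A.charpoly_monic, ?_⟩
  rw [Polynomial.IsRoot.def, Polynomial.eval_map] at he
  exact he

end orbital

variable [Fintype G]

theorem isInter_proj (χ : IrrCharacter G) : IsInter G (proj (Cfsg.permRep ℂ G Ω) χ) :=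
  fun g f => proj_comm _ χ g f

theorem character_perm (g : G) :
    (Cfsg.permRep ℂ G Ω).character g = (Nat.card (MulAction.fixedBy Ω g) : ℂ) :=
  CfsgLib.Chars.character_permRep g

theorem inner_perm (χ : IrrCharacter G) :
    classInner (fun g : G => (Nat.card (MulAction.fixedBy Ω g) : ℂ)) χ =
      classInner (Cfsg.permRep ℂ G Ω).character χ := by
  congr 1; funext g; exact (character_perm g).symm

/-- Transposing the projection gives the projection of the conjugate character. -/
theorem entry_proj_swap {χ χ' : IrrCharacter G} (hχ : ∀ g, (χ' : G → ℂ) g = conj ((χ : G → ℂ) g)) (x y : Ω) :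
    entry (proj (Cfsg.permRep ℂ G Ω) χ) y x = entry (proj (Cfsg.permRep ℂ G Ω) χ') x y := by
  classical
  have h1 : (χ' : G → ℂ) 1 = (χ : G → ℂ) 1 := by
    obtain ⟨n, -, hn⟩ := CfsgLib.Chars.irr_degree_nat χ.2
    rw [hχ, hn, map_natCast]
  show (proj (Cfsg.permRep ℂ G Ω) χ (Pi.single x 1)) y = (proj (Cfsg.permRep ℂ G Ω) χ' (Pi.single y 1)) x
  simp only [proj, LinearMap.smul_apply, CfsgLib.Chars.avgOp_apply, Pi.smul_apply, Finset.sum_apply, h1]
  congr 1
  refine Fintype.sum_equiv (Equiv.inv G) _ _ fun g => ?_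
  simp only [Equiv.inv_apply, inv_inv, permRep_apply', Pi.single_apply, smul_eq_mul]
  rw [hχ, CfsgLib.Chars.irr_inv, starRingEnd_self_apply]
  simp only [inv_smul_eq_iff, eq_comm]
  congr 1
  exact if_congr ⟨fun h => by rw [h, inv_smul_smul], fun h => by rw [h, smul_inv_smul]⟩ rfl rfl

theorem proj_eq_zero {χ : IrrCharacter G}
    (h : classInner (Cfsg.permRep ℂ G Ω).character χ = 0) : proj (Cfsg.permRep ℂ G Ω) χ = 0 := by
  have h1 := finrank_part (Cfsg.permRep ℂ G Ω) χ
  rw [h, mul_zero, Nat.cast_eq_zero, Submodule.finrank_eq_zero] at h1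
  exact LinearMap.range_eq_bot.1 h1

variable [MulAction.IsPretransitive G Ω]

theorem proj_principal_apply (f : Ω → ℂ) (x y : Ω) :
    proj (Cfsg.permRep ℂ G Ω) (CfsgLib.Chars.principal G) f x =
      proj (Cfsg.permRep ℂ G Ω) (CfsgLib.Chars.principal G) f y := by
  obtain ⟨h, rfl⟩ := MulAction.exists_smul_eq G x y
  simp only [proj, LinearMap.smul_apply, CfsgLib.Chars.avgOp_apply, Pi.smul_apply, Finset.sum_apply,
    CfsgLib.Chars.principal_apply, permRep_apply', one_smul, inv_inv]
  congr 1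
  exact Fintype.sum_equiv (Equiv.mulRight h⁻¹) _ _ fun g => by simp [← mul_smul]

theorem inner_principal [Nonempty Ω] :
    classInner (Cfsg.permRep ℂ G Ω).character (CfsgLib.Chars.principal G) = 1 := by
  rw [← inner_perm]
  show classInner _ (fun _ => (1 : ℂ)) = 1
  rw [CfsgLib.Chars.inner_fixedBy_one]
  have : Nat.card (MulAction.orbitRel.Quotient G Ω) = 1 := by
    rw [Nat.card_eq_one_iff_unique]
    refine ⟨⟨fun p q => ?_⟩, ⟨Quotient.mk'' (Classical.arbitrary Ω)⟩⟩
    obtain ⟨p, rfl⟩ := Quotient.mk''_surjective p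
    obtain ⟨q, rfl⟩ := Quotient.mk''_surjective q
    exact Quotient.sound' (MulAction.exists_smul_eq G q p)
  rw [this, Nat.cast_one]

/-- On a nonprincipal part the coordinates sum to zero. -/
theorem sum_proj_eq_zero {χ : IrrCharacter G} (hne : χ ≠ CfsgLib.Chars.principal G) (f : Ω → ℂ) :
    ∑ x, proj (Cfsg.permRep ℂ G Ω) χ f x = 0 := by
  classical
  rcases isEmpty_or_nonempty Ω with hΩ | ⟨⟨x₀⟩⟩
  · simp
  set v := proj (Cfsg.permRep ℂ G Ω) χ f with hv
  have h0 : proj (Cfsg.permRep ℂ G Ω) (CfsgLib.Chars.principal G) v = 0 := by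
    rw [hv, proj_proj, if_neg (Ne.symm hne)]
  have h := congrFun h0 x₀
  have hsum : ∀ g : G, ∑ x, v (g • x) = ∑ x, v x := fun g =>
    Fintype.sum_equiv (MulAction.toPerm g) _ _ fun x => rfl
  have hall : ∀ x, proj (Cfsg.permRep ℂ G Ω) (CfsgLib.Chars.principal G) v x = 0 := fun x => by rw [h0]; rfl
  have htot := Finset.sum_eq_zero (s := Finset.univ) fun x _ => hall x
  simp only [proj, LinearMap.smul_apply, CfsgLib.Chars.avgOp_apply, Pi.smul_apply, Finset.sum_apply,
    CfsgLib.Chars.principal_apply, permRep_apply', one_smul, inv_inv, smul_eq_mul, ← Finset.mul_sum] at htot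
  rw [Finset.sum_comm] at htot
  simp only [hsum, Finset.sum_const, Finset.card_univ, nsmul_eq_mul, ← mul_assoc] at htot
  rcases mul_eq_zero.1 htot with h | h
  · simp [Nat.card_eq_fintype_card, Fintype.card_ne_zero] at h
  · exact h

/-- The trace of an orbital operator on an isotypic part is the degree times an algebraic integer. -/
theorem trace_orbOp_proj (a b : Ω) (χ : IrrCharacter G) {f : ℕ} (hf : ∃ m : ℕ, (χ : G → ℂ) 1 = (f : ℂ) * m) :
    ∃ z : ℂ, IsIntegral ℤ z ∧
      LinearMap.trace ℂ (Ω → ℂ) (orbOp G a b ∘ₗ proj (Cfsg.permRep ℂ G Ω) χ) = (f : ℂ) * z := by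
  classical
  set ρ := Cfsg.permRep ℂ G Ω with hρ
  set T := orbOp G a b ∘ₗ proj ρ χ with hT
  have hTi : IsInter G T := isInter_comp (isInter_orbOp a b) (isInter_proj χ)
  have hds : DirectSum.IsInternal fun t : ℂ => Module.End.maxGenEigenspace T t :=
    DirectSum.isInternal_submodule_of_iSupIndep_of_iSup_eq_top (Module.End.independent_maxGenEigenspace T)
      (Module.End.iSup_maxGenEigenspace_eq_top T)
  have hfin : {t : ℂ | Module.End.maxGenEigenspace T t ≠ ⊥}.Finite :=
    WellFoundedGT.finite_ne_bot_of_iSupIndep (Module.End.independent_maxGenEigenspace T)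
  have hmaps : ∀ t : ℂ, Set.MapsTo T (Module.End.maxGenEigenspace T t) (Module.End.maxGenEigenspace T t) :=
    fun t => Module.End.mapsTo_maxGenEigenspace_of_comm (Commute.refl T) t
  have htr := LinearMap.trace_eq_sum_trace_restrict' hds hfin hmaps
  obtain ⟨m, hm⟩ := hf
  obtain ⟨d, -, hd⟩ := CfsgLib.Chars.irr_degree_nat χ.2
  have hdf : d = f * m := by rw [hd] at hm; exact_mod_cast hm
  have key : ∀ t : ℂ, ∃ z : ℂ, IsIntegral ℤ z ∧
      LinearMap.trace ℂ (Module.End.maxGenEigenspace T t) (T.restrict (hmaps t)) = (f : ℂ) * z := by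
    intro t
    have htrace : LinearMap.trace ℂ (Module.End.maxGenEigenspace T t) (T.restrict (hmaps t)) =
        t * (finrank ℂ (Module.End.maxGenEigenspace T t) : ℂ) := by
      have hn := Module.End.isNilpotent_restrict_maxGenEigenspace_sub_algebraMap T t
      have h0 := (LinearMap.isNilpotent_trace_of_isNilpotent hn).eq_zero
      have e : T.restrict (hmaps t) = (T - algebraMap ℂ (Module.End ℂ (Ω → ℂ)) t).restrict
          (Module.End.mapsTo_maxGenEigenspace_of_comm (Algebra.mul_sub_algebraMap_commutes T t) t) +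
          t • LinearMap.id := LinearMap.ext fun x => Subtype.ext (by
            show T (x : Ω → ℂ) = (T (x : Ω → ℂ) - t • (x : Ω → ℂ)) + t • (x : Ω → ℂ)
            rw [sub_add_cancel])
      rw [e, map_add, h0, zero_add, map_smul, LinearMap.trace_id, smul_eq_mul]
    rw [htrace]
    rcases eq_or_ne t 0 with rfl | ht
    · exact ⟨0, isIntegral_zero, by simp⟩
    rcases eq_or_ne (Module.End.maxGenEigenspace T t) ⊥ with hbot | hbot
    · exact ⟨0, isIntegral_zero, by rw [hbot]; simp⟩
    have hrange : ∀ w, T w ∈ (part ρ χ).toSubmodule := fun w => by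
      show orbOp G a b (proj ρ χ w) ∈ LinearMap.range (proj ρ χ)
      rw [proj_commute ρ (isInter_orbOp a b)]
      exact LinearMap.mem_range_self _ _
    have hle : Module.End.maxGenEigenspace T t ≤ (part ρ χ).toSubmodule := by
      suffices h : ∀ (j : ℕ) (w : Ω → ℂ), ((T - t • 1) ^ j : Module.End ℂ (Ω → ℂ)) w = 0 →
          w ∈ (part ρ χ).toSubmodule from fun w hw =>
        let ⟨j, hj⟩ := (Module.End.mem_maxGenEigenspace T t w).1 hw
        h j w hj
      intro j
      induction j with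
      | zero =>
        intro w hj
        rw [pow_zero, Module.End.one_apply] at hj
        rw [hj]; exact Submodule.zero_mem _
      | succ j ih =>
        intro w hj
        have h1 := ih ((T - t • 1 : Module.End ℂ (Ω → ℂ)) w) (by rw [← Module.End.mul_apply, ← pow_succ]; exact hj)
        have h3 : t • w ∈ (part ρ χ).toSubmodule := by
          rw [show t • w = T w - (T - t • 1 : Module.End ℂ (Ω → ℂ)) w by simp]
          exact Submodule.sub_mem _ (hrange w) h1
        exact (Submodule.smul_mem_iff _ ht).1 h3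
    have hinv : ∀ g, ∀ w ∈ Module.End.maxGenEigenspace T t, ρ g w ∈ Module.End.maxGenEigenspace T t :=
      fun g => Module.End.mapsTo_maxGenEigenspace_of_comm
        (LinearMap.ext fun w => hTi g w : Commute T (ρ g)) t
    obtain ⟨q, hq⟩ := degree_dvd_finrank ρ χ hd hinv hle
    obtain ⟨v, hv, hv0⟩ : ∃ v ∈ Module.End.eigenspace T t, v ≠ 0 :=
      Submodule.exists_mem_ne_zero_of_ne_bot fun h => by
        have h' : Module.End.HasEigenvalue T t :=
          (show Module.End.HasUnifEigenvalue T t ⊤ from hbot).lt zero_lt_one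
        exact h' h
    rw [Module.End.mem_eigenspace_iff] at hv
    have hvW : v ∈ (part ρ χ).toSubmodule :=
      (Submodule.smul_mem_iff _ ht).1 (hv ▸ hrange v)
    have hMv : orbOp G a b v = t • v := by
      rw [← hv]; show _ = orbOp G a b (proj ρ χ v); rw [proj_eq_self ρ hvW]
    refine ⟨t * (m : ℂ) * (q : ℂ), ((isIntegral_of_orbOp a b hv0 hMv).mul (isIntegral_natCast m)).mul (isIntegral_natCast q), ?_⟩
    rw [hq, hdf]; push_cast; ring
  choose z hzi hz using key
  refine ⟨∑ t ∈ hfin.toFinset, z t, IsIntegral.sum _ fun t _ => hzi t, ?_⟩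
  rw [htr, Finset.mul_sum]
  exact Finset.sum_congr rfl fun t _ => hz t

end CfsgLib.Perm.Isotypic
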