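import Cfsg.Agent.Lib.Perm.PermDegrees

/-!
Wielandt's parameters of rank three groups of degree `2 m` with constituent degrees `m - 1` and `m`.
-/

set_option autoImplicit false

namespace CfsgLib.Perm.Isotypic

open Module Cfsg
open scoped ComplexConjugate

universe u v

variable {G : Type u} [Group G] [Fintype G] {Ω : Type v} [Fintype Ω] [MulAction G Ω]

/-- The arithmetic of the two eigenvalues. -/
theorem wielandt_arith {m k : ℕ} {θ₁ θ₂ : ℤ} (hk : 2 ≤ k) (hkm : k < m)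
    (hlin : (k : ℤ) + ((m : ℤ) - 1) * θ₁ + (m : ℤ) * θ₂ = 0) (hdiv : ∃ s : ℤ, θ₁ = k + m * s)
    (hsq : (k : ℤ) ^ 2 + ((m : ℤ) - 1) * θ₁ ^ 2 + (m : ℤ) * θ₂ ^ 2 = 2 * m * k) :
    ∃ a : ℕ, 0 < a ∧ m = 2 * a ^ 2 + 2 * a + 1 ∧ k = a * (2 * a + 1) := by
  obtain ⟨s, hs⟩ := hdiv
  have hm : (2 : ℤ) < m := by exact_mod_cast (lt_of_le_of_lt hk hkm)
  have hk' : (2 : ℤ) ≤ k := by exact_mod_cast hk
  have hkm' : (k : ℤ) + 1 ≤ m := by exact_mod_cast hkm
  have h1 : ((m : ℤ) - 1) * θ₁ ^ 2 ≤ ((m : ℤ) - 1) * (m + 1) := by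
    nlinarith [sq_nonneg θ₂, sq_nonneg ((m : ℤ) - k - 1)]
  have hb : θ₁ ^ 2 ≤ m + 1 := le_of_mul_le_mul_left h1 (by omega)
  have hs0 : s = 0 ∨ s = -1 := by
    rcases (show s ≤ -2 ∨ s = -1 ∨ s = 0 ∨ 1 ≤ s by omega) with h | h | h | h
    · have : θ₁ ≤ -((m : ℤ) + 1) := by rw [hs]; nlinarith
      nlinarith
    · exact Or.inr h
    · exact Or.inl h
    · have : (m : ℤ) + 1 ≤ θ₁ := by rw [hs]; nlinarith
      nlinarith
  rcases hs0 with rfl | rfl
  · exfalso
    rw [mul_zero, add_zero] at hs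
    subst hs
    have hθ : θ₂ = -(k : ℤ) := by
      have : (m : ℤ) * (θ₂ + k) = 0 := by linear_combination hlin
      rcases mul_eq_zero.1 this with h | h <;> omega
    subst hθ
    have : (2 * (m : ℤ)) * (k * ((k : ℤ) - 1)) = 0 := by linear_combination hsq
    rcases mul_eq_zero.1 this with h | h
    · omega
    · rcases mul_eq_zero.1 h with h | h <;> omega
  · obtain ⟨t, ht⟩ : ∃ t : ℕ, m = k + t := ⟨m - k, by omega⟩
    subst ht
    push_cast at hs hlin hsq hm hkm' ⊢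
    have hθ1 : θ₁ = -(t : ℤ) := by linear_combination hs
    subst hθ1
    have hθ2 : θ₂ = (t : ℤ) - 1 := by
      have : ((k : ℤ) + t) * (θ₂ - ((t : ℤ) - 1)) = 0 := by linear_combination hlin
      rcases mul_eq_zero.1 this with h | h <;> omega
    subst hθ2
    have hmt : (k : ℤ) + t = (t : ℤ) ^ 2 + ((t : ℤ) - 1) ^ 2 := by
      have : ((k : ℤ) + t) * ((t : ℤ) ^ 2 + ((t : ℤ) - 1) ^ 2 - (k + t)) = 0 := by linear_combination hsq
      rcases mul_eq_zero.1 this with h | h <;> omega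
    rcases Nat.lt_or_ge t 2 with ht2 | ht2
    · interval_cases t <;> norm_num at hmt <;> omega
    refine ⟨t - 1, by omega, ?_, ?_⟩
    · zify [show 1 ≤ t by omega]
      linear_combination hmt
    · zify [show 1 ≤ t by omega]
      linear_combination hmt

theorem rank_three_parameters (hprim : MulAction.IsPreprimitive G Ω) {m : ℕ} (hm : Fintype.card Ω = 2 * m)
    (a₀ : Ω) (hrank : Nat.card (MulAction.orbitRel.Quotient (MulAction.stabilizer G a₀) Ω) = 3)
    (χ₁ χ₂ : IrrCharacter G)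
    (hπ : ∀ g : G, (Cfsg.permRep ℂ G Ω).character g = 1 + (χ₁ : G → ℂ) g + (χ₂ : G → ℂ) g)
    (hd₁ : (χ₁ : G → ℂ) 1 = (m : ℂ) - 1) (hd₂ : (χ₂ : G → ℂ) 1 = m) :
    ∃ a : ℕ, 0 < a ∧ m = 2 * a ^ 2 + 2 * a + 1 ∧ ∀ b : Ω, b ≠ a₀ →
      Nat.card (MulAction.orbit (MulAction.stabilizer G a₀) b) = a * (2 * a + 1) ∨
      Nat.card (MulAction.orbit (MulAction.stabilizer G a₀) b) = (a + 1) * (2 * a + 1) := by
  classical
  have : Nonempty Ω := ⟨a₀⟩
  have htrans : MulAction.IsPretransitive G Ω := hprim.toIsPretransitive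
  have := CfsgLib.Chars.irrFintype G
  set ρ := Cfsg.permRep ℂ G Ω with hρ
  set P := CfsgLib.Chars.principal G with hP
  -- the multiplicities
  have hin : ∀ χ : IrrCharacter G, classInner ρ.character χ =
      classInner (P : G → ℂ) χ + classInner (χ₁ : G → ℂ) χ + classInner (χ₂ : G → ℂ) χ := fun χ => by
    rw [show ρ.character = (P : G → ℂ) + (χ₁ : G → ℂ) + (χ₂ : G → ℂ) from funext fun g => by
      rw [hπ]; rfl, CfsgLib.Chars.inner_add_left, CfsgLib.Chars.inner_add_left]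
  have h12 : χ₁ ≠ χ₂ := fun h => by rw [h, hd₂] at hd₁; exact one_ne_zero (α := ℂ) (by linear_combination hd₁)
  have hPP := hin P
  rw [inner_principal, CfsgLib.Chars.inner_irr_self, CfsgLib.Chars.inner_irr, CfsgLib.Chars.inner_irr] at hPP
  have hP1 : χ₁ ≠ P := fun h => by
    rw [if_pos h] at hPP; split_ifs at hPP <;> norm_num at hPP
  have hP2 : χ₂ ≠ P := fun h => by
    rw [if_pos h, if_neg hP1] at hPP; norm_num at hPP
  have hμ : ∀ χ : IrrCharacter G, classInner ρ.character χ =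
      if χ = P ∨ χ = χ₁ ∨ χ = χ₂ then 1 else 0 := fun χ => by
    rw [hin, CfsgLib.Chars.inner_irr, CfsgLib.Chars.inner_irr, CfsgLib.Chars.inner_irr]
    by_cases h1 : χ = P
    · subst h1; simp [hP1, hP2]
    by_cases h2 : χ = χ₁
    · subst h2; simp [Ne.symm h1, Ne.symm h12]
    by_cases h3 : χ = χ₂
    · subst h3; simp [Ne.symm h1, h12]
    simp [h1, h2, h3, Ne.symm h1, Ne.symm h2, Ne.symm h3]
  have hmf : ∀ χ : IrrCharacter G, classInner ρ.character χ = 0 ∨ classInner ρ.character χ = 1 := fun χ => by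
    rw [hμ]; split_ifs <;> simp
  -- the suborbits
  set H := MulAction.stabilizer G a₀
  let _ := Fintype.ofFinite (MulAction.orbitRel.Quotient H Ω)
  have hcardΩ : Nat.card Ω = 2 * m := by rw [Nat.card_eq_fintype_card, hm]
  let q₀ : MulAction.orbitRel.Quotient H Ω := Quotient.mk'' a₀
  have hk : ∀ q : MulAction.orbitRel.Quotient H Ω, ∀ b : Ω, (Quotient.mk'' b : MulAction.orbitRel.Quotient H Ω) = q →
      MulAction.orbit H q.out = MulAction.orbit H b := fun q b hb =>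
    MulAction.orbit_eq_iff.2 (MulAction.orbitRel_apply.1 (Quotient.exact'
      (q.out_eq.trans hb.symm : Quotient.mk'' q.out = Quotient.mk'' b)))
  obtain ⟨q₁, q₂, hq12, hq⟩ : ∃ q₁ q₂, q₁ ≠ q₂ ∧ (Finset.univ.erase q₀) = {q₁, q₂} := by
    apply Finset.card_eq_two.1
    rw [Finset.card_erase_of_mem (Finset.mem_univ q₀), Finset.card_univ, ← Nat.card_eq_fintype_card, hrank]
  set k₁ := Nat.card (MulAction.orbit H q₁.out)
  set k₂ := Nat.card (MulAction.orbit H q₂.out)
  have hsum : 1 + (k₁ + k₂) = 2 * m := by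
    rw [← hcardΩ, card_eq_sum_orbits H, ← Finset.add_sum_erase _ _ (Finset.mem_univ q₀), hq, Finset.sum_pair hq12,
      hk q₀ a₀ rfl]
    congr 1
    rw [eq_comm, Nat.card_eq_one_iff_unique]
    refine ⟨⟨fun u v => Subtype.ext ?_⟩, ⟨⟨a₀, MulAction.mem_orbit_self a₀⟩⟩⟩
    obtain ⟨⟨g, hg⟩, hu⟩ := u.2
    obtain ⟨⟨g', hg'⟩, hv⟩ := v.2
    rw [← hu, ← hv]; exact hg.trans hg'.symm
  -- `b` in the smaller suborbit, `c` in the larger
  obtain ⟨q, q', hqq, hle⟩ : ∃ q q', ((q = q₁ ∧ q' = q₂) ∨ (q = q₂ ∧ q' = q₁)) ∧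
      Nat.card (MulAction.orbit H q.out) ≤ Nat.card (MulAction.orbit H q'.out) := by
    rcases le_total k₁ k₂ with h | h
    · exact ⟨q₁, q₂, Or.inl ⟨rfl, rfl⟩, h⟩
    · exact ⟨q₂, q₁, Or.inr ⟨rfl, rfl⟩, h⟩
  have hq_ne : ∀ q ∈ Finset.univ.erase q₀, q.out ≠ a₀ := fun q hq h =>
    Finset.ne_of_mem_erase hq (by rw [← q.out_eq, h])
  set b := q.out with hb
  set c := q'.out with hc
  have hba : b ≠ a₀ := hq_ne q (by rw [hq]; rcases hqq with ⟨rfl, -⟩ | ⟨rfl, -⟩ <;> simp)
  have hca : c ≠ a₀ := hq_ne q' (by rw [hq]; rcases hqq with ⟨-, rfl⟩ | ⟨-, rfl⟩ <;> simp)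
  set k := Nat.card (MulAction.orbit H b)
  set l := Nat.card (MulAction.orbit H c)
  have hkl : 1 + (k + l) = 2 * m := by
    rcases hqq with ⟨rfl, rfl⟩ | ⟨rfl, rfl⟩
    · exact hsum
    · rw [add_comm k l]; exact hsum
  have hcases : ∀ d : Ω, d ≠ a₀ → MulAction.orbit H d = MulAction.orbit H b ∨ MulAction.orbit H d = MulAction.orbit H c := by
    intro d hd
    have hmem : (Quotient.mk'' d : MulAction.orbitRel.Quotient H Ω) ∈ Finset.univ.erase q₀ :=
      Finset.mem_erase.2 ⟨fun h => hd (by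
        obtain ⟨g, hg⟩ := MulAction.orbitRel_apply.1 (Quotient.exact' h)
        exact hg.symm.trans g.2), Finset.mem_univ _⟩
    rw [hq, Finset.mem_insert, Finset.mem_singleton] at hmem
    rcases hqq with ⟨rfl, rfl⟩ | ⟨rfl, rfl⟩ <;> rcases hmem with h | h
    · exact Or.inl (hk _ d h).symm
    · exact Or.inr (hk _ d h).symm
    · exact Or.inr (hk _ d h).symm
    · exact Or.inl (hk _ d h).symm
  have hbc : b ∉ MulAction.orbit H c := fun h => by
    have e : q = q' := by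
      rw [← q.out_eq, ← q'.out_eq]; exact Quotient.sound' h
    rcases hqq with ⟨rfl, rfl⟩ | ⟨rfl, rfl⟩
    · exact hq12 e
    · exact hq12 e.symm
  set M := orbOp G a₀ b with hM
  have hkpos : 0 < k := by
    have : Nonempty (MulAction.orbit H b) := ⟨⟨b, MulAction.mem_orbit_self b⟩⟩
    exact Nat.card_pos
  -- the smaller suborbit is self-paired
  have hpair : ∀ u v : Ω, (∃ g : G, g • a₀ = u ∧ g • b = v) → ∃ g : G, g • a₀ = v ∧ g • b = u := by
    by_contra hno
    push Not at hno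
    obtain ⟨u, v, ⟨g, rfl, rfl⟩, hno⟩ := hno
    obtain ⟨g₀, hg₀⟩ := MulAction.exists_smul_eq G b a₀
    have hd : g₀ • a₀ ≠ a₀ := fun h => hba (smul_left_cancel g₀ (hg₀.trans h.symm))
    rcases hcases _ hd with h | h
    · obtain ⟨x, hx⟩ := MulAction.orbit_eq_iff.1 h
      have hx' : ((x : G) • b) = g₀ • a₀ := hx
      refine hno (g * g₀⁻¹ * x) ?_ ?_
      · rw [mul_smul, mul_smul, show (x : G) • a₀ = a₀ from x.2, inv_smul_eq_iff.2 hg₀.symm]
      · rw [mul_smul, mul_smul, hx', inv_smul_smul]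
    · obtain ⟨x, hx⟩ := MulAction.orbit_eq_iff.1 h
      have hx' : ((x : G) • c) = g₀ • a₀ := hx
      have hco : ∀ u v, entry (orbOp G a₀ c) u v = entry M v u := by
        intro u v
        rw [entry_orbOp, entry_orbOp]
        refine if_congr ⟨?_, ?_⟩ rfl rfl
        · rintro ⟨g, rfl, rfl⟩
          refine ⟨g * (x : G)⁻¹ * g₀, ?_, ?_⟩
          · rw [mul_smul, mul_smul, ← hx', inv_smul_smul]
          · rw [mul_smul, mul_smul, hg₀, inv_smul_eq_iff.2 (show (x : G) • a₀ = a₀ from x.2).symm]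
        · rintro ⟨g, rfl, rfl⟩
          refine ⟨g * g₀⁻¹ * (x : G), ?_, ?_⟩
          · rw [mul_smul, mul_smul, show (x : G) • a₀ = a₀ from x.2, inv_smul_eq_iff.2 hg₀.symm]
          · rw [mul_smul, mul_smul, hx', inv_smul_smul]
      have h1 : ∑ u, ∑ v, entry (orbOp G a₀ c) u v = ∑ v, ∑ u, entry M v u := by
        rw [Finset.sum_comm]; simp only [hco]
      simp only [hM, sum_entry_orbOp, Finset.sum_const, Finset.card_univ, nsmul_eq_mul] at h1
      have : l = k := by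
        have h2 := mul_left_cancel₀ (Nat.cast_ne_zero.2 Fintype.card_ne_zero) h1
        exact_mod_cast h2
      omega
  have hMsymm : ∀ u v, entry M u v = entry M v u := fun u v => by
    rw [hM, entry_orbOp, entry_orbOp]
    exact if_congr ⟨hpair u v, hpair v u⟩ rfl rfl
  have hMsq : ∀ u v, entry M u v * entry M u v = entry M u v := fun u v => by
    rw [hM, entry_orbOp]; split_ifs <;> simp
  -- the square of the operator
  set lam := (Finset.univ.filter fun z => (∃ g : G, g • a₀ = a₀ ∧ g • b = z) ∧ ∃ g : G, g • a₀ = z ∧ g • b = b).card with hlam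
  set mu := (Finset.univ.filter fun z => (∃ g : G, g • a₀ = a₀ ∧ g • b = z) ∧ ∃ g : G, g • a₀ = z ∧ g • b = c).card with hmu
  have hMM : ∀ u v, entry (M ∘ₗ M) u v =
      if u = v then (k : ℂ) else (lam : ℂ) * entry M u v + (mu : ℂ) * (1 - entry M u v) := by
    intro u v
    split_ifs with huv
    · subst huv
      rw [entry_comp, ← sum_entry_orbOp (G := G) a₀ b u]
      exact Finset.sum_congr rfl fun z _ => by rw [hMsymm z u, hMsq]
    · have hi := isInter_comp (isInter_orbOp (G := G) a₀ b) (isInter_orbOp (G := G) a₀ b)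
      have hcount : ∀ d, entry (M ∘ₗ M) a₀ d = ((Finset.univ.filter fun z =>
          (∃ g : G, g • a₀ = a₀ ∧ g • b = z) ∧ ∃ g : G, g • a₀ = z ∧ g • b = d).card : ℂ) := fun d => by
        rw [entry_comp, ← Finset.sum_boole]
        refine Finset.sum_congr rfl fun z _ => ?_
        rw [hM, entry_orbOp, entry_orbOp, ite_mul, one_mul, zero_mul, ← ite_and]
      obtain ⟨g, hg⟩ := MulAction.exists_smul_eq G a₀ u
      have hne : g⁻¹ • v ≠ a₀ := fun h => huv (by rw [← hg, ← h, smul_inv_smul])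
      have hent : ∀ S, IsInter G S → entry S u v = entry S a₀ (g⁻¹ • v) := fun S hS => by
        rw [← entry_smul hS g a₀ (g⁻¹ • v), hg, smul_inv_smul]
      rw [hent _ hi, hent M (isInter_orbOp a₀ b)]
      rcases hcases _ hne with h | h <;> obtain ⟨x, hx⟩ := MulAction.orbit_eq_iff.1 h
      · have he : ∀ S, IsInter G S → entry S a₀ (g⁻¹ • v) = entry S a₀ b := fun S hS => by
          rw [← hx, ← entry_smul hS (x : G) a₀ b, show (x : G) • a₀ = a₀ from x.2]; rfl
        rw [he _ hi, he M (isInter_orbOp a₀ b), hcount, hM, entry_orbOp,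
          if_pos ⟨1, one_smul _ _, one_smul _ _⟩]
        simp [hlam]
      · have he : ∀ S, IsInter G S → entry S a₀ (g⁻¹ • v) = entry S a₀ c := fun S hS => by
          rw [← hx, ← entry_smul hS (x : G) a₀ c, show (x : G) • a₀ = a₀ from x.2]; rfl
        rw [he _ hi, he M (isInter_orbOp a₀ b), hcount, hM, entry_orbOp, if_neg ?_]
        · simp [hmu]
        · rintro ⟨g', h1, h2⟩
          refine hbc ?_
          rw [← MulAction.orbit_eq_iff, eq_comm, MulAction.orbit_eq_iff]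
          exact ⟨⟨g', h1⟩, h2⟩
  -- scalars on the two parts
  obtain ⟨θ₁, hθ₁⟩ := scalar_on_part ρ χ₁ (hmf χ₁) (isInter_orbOp (G := G) a₀ b)
  obtain ⟨θ₂, hθ₂⟩ := scalar_on_part ρ χ₂ (hmf χ₂) (isInter_orbOp (G := G) a₀ b)
  have hnz : ∀ χ : IrrCharacter G, classInner ρ.character χ = 1 → ∃ f, proj ρ χ f ≠ 0 := fun χ h => by
    by_contra! h0
    have ht := trace_proj ρ χ
    rw [show proj ρ χ = 0 from LinearMap.ext h0, map_zero, h, mul_one] at ht
    exact CfsgLib.Chars.irr_degree_ne_zero χ.2 ht.symm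
  have hquad : ∀ (χ : IrrCharacter G) (θ : ℂ), χ ≠ P → classInner ρ.character χ = 1 →
      (∀ x, M (proj ρ χ x) = θ • proj ρ χ x) → θ * θ = (k : ℂ) + lam * θ + mu * (-1 - θ) ∧ IsIntegral ℤ θ := by
    intro χ θ hχ h1 hθ
    obtain ⟨f, hf⟩ := hnz χ h1
    refine ⟨?_, isIntegral_of_orbOp a₀ b hf (hθ f)⟩
    obtain ⟨x, hx⟩ : ∃ x, proj ρ χ f x ≠ 0 := Function.ne_iff.1 hf
    set w := proj ρ χ f with hw
    have e1 : (M ∘ₗ M) w x = θ * θ * w x := by
      rw [LinearMap.comp_apply, hθ, map_smul, hθ, smul_smul]; rfl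
    have e2 : (M w) x = θ * w x := by rw [hθ]; rfl
    rw [apply_eq_sum] at e1 e2
    have e3 : ∑ y, w y = 0 := sum_proj_eq_zero hχ f
    have e4 : ∀ y, entry (M ∘ₗ M) x y * w y = (lam : ℂ) * (entry M x y * w y) + (mu : ℂ) * (w y - entry M x y * w y) +
        (if x = y then ((k : ℂ) - (mu : ℂ)) * w y else 0) := fun y => by
      rw [hMM]
      split_ifs with h
      · subst h
        rw [hM, entry_orbOp, if_neg]
        · ring
        · rintro ⟨g, h1, h2⟩
          exact hba (smul_left_cancel g (h2.trans h1.symm))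
      · ring
    simp only [e4, Finset.sum_add_distrib, ← Finset.mul_sum, Finset.sum_sub_distrib, e2, e3,
      Finset.sum_ite_eq, Finset.mem_univ, if_true] at e1
    refine mul_right_cancel₀ hx ?_
    linear_combination -e1
  have h11 : classInner ρ.character χ₁ = 1 := by rw [hμ]; simp
  have h22 : classInner ρ.character χ₂ = 1 := by rw [hμ]; simp
  obtain ⟨hq1, hi1⟩ := hquad χ₁ θ₁ hP1 h11 hθ₁
  obtain ⟨hq2, -⟩ := hquad χ₂ θ₂ hP2 h22 hθ₂
  have hPM : ∀ x, M (proj ρ P x) = (k : ℂ) • proj ρ P x := fun x => funext fun y => by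
    rw [apply_eq_sum, Pi.smul_apply, smul_eq_mul, ← sum_entry_orbOp (G := G) a₀ b y, Finset.sum_mul]
    exact Finset.sum_congr rfl fun z _ => by rw [proj_principal_apply x z y]
  have htrace : ∀ (S : (Ω → ℂ) →ₗ[ℂ] (Ω → ℂ)) (s₀ s₁ s₂ : ℂ), (∀ x, S (proj ρ P x) = s₀ • proj ρ P x) →
      (∀ x, S (proj ρ χ₁ x) = s₁ • proj ρ χ₁ x) → (∀ x, S (proj ρ χ₂ x) = s₂ • proj ρ χ₂ x) →
      LinearMap.trace ℂ (Ω → ℂ) S = s₀ + s₁ * ((m : ℂ) - 1) + s₂ * m := by
    intro S s₀ s₁ s₂ h0 h1 h2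
    have e : S = s₀ • proj ρ P + s₁ • proj ρ χ₁ + s₂ • proj ρ χ₂ := by
      refine LinearMap.ext fun x => ?_
      conv_lhs => rw [← sum_proj ρ x, map_sum]
      rw [← Finset.sum_subset (Finset.subset_univ ({P, χ₁, χ₂} : Finset (IrrCharacter G))) fun χ _ hχ => ?_,
        Finset.sum_insert (by simp only [Finset.mem_insert, Finset.mem_singleton, not_or]; exact ⟨Ne.symm hP1, Ne.symm hP2⟩),
        Finset.sum_pair h12, h0, h1, h2]
      · simp [add_assoc]
      · simp only [Finset.mem_insert, Finset.mem_singleton] at hχ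
        have h' := proj_eq_zero (Ω := Ω) (χ := χ) (by rw [hμ, if_neg hχ])
        rw [h', LinearMap.zero_apply, map_zero]
    rw [e, map_add, map_add, map_smul, map_smul, map_smul, trace_proj, trace_proj, trace_proj,
      inner_principal, h11, h22, hd₁, hd₂, CfsgLib.Chars.principal_apply]
    simp only [smul_eq_mul, mul_one]
  have hlin : (0 : ℂ) = k + θ₁ * ((m : ℂ) - 1) + θ₂ * m := by
    rw [← htrace M k θ₁ θ₂ hPM hθ₁ hθ₂, trace_orbOp hba]
  have hsq : (2 * m * k : ℂ) = k * k + θ₁ * θ₁ * ((m : ℂ) - 1) + θ₂ * θ₂ * m := by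
    rw [← htrace (M ∘ₗ M) (k * k) (θ₁ * θ₁) (θ₂ * θ₂)
      (fun x => by rw [LinearMap.comp_apply, hPM, map_smul, hPM, smul_smul])
      (fun x => by rw [LinearMap.comp_apply, hθ₁, map_smul, hθ₁, smul_smul])
      (fun x => by rw [LinearMap.comp_apply, hθ₂, map_smul, hθ₂, smul_smul]), trace_eq_sum_entry]
    simp only [hMM, if_true, Finset.sum_const, Finset.card_univ, hm, nsmul_eq_mul]
    push_cast; ring
  -- the eigenvalues are rational integers
  have hne : θ₁ ≠ θ₂ := fun h => by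
    subst h
    obtain ⟨N, hN⟩ : ∃ N : ℕ, 2 * m = N + 1 := ⟨k + l, by omega⟩
    have hN' : (N : ℂ) + 1 = 2 * m := by exact_mod_cast hN.symm
    have hN0 : (N : ℂ) ≠ 0 := Nat.cast_ne_zero.2 (by omega)
    have hdvd : N ∣ k := CfsgLib.Chars.dvd_of_isIntegral_div (by omega) (by
      rw [show (k : ℂ) / (N : ℂ) = -θ₁ by
        rw [div_eq_iff hN0]; linear_combination -hlin + θ₁ * hN']
      exact hi1.neg)
    have := Nat.le_of_dvd hkpos hdvd
    omega
  have hadd : θ₁ + θ₂ = (((lam : ℤ) - (mu : ℤ) : ℤ) : ℂ) := by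
    have : (θ₁ - θ₂) * (θ₁ + θ₂ - ((lam : ℂ) - mu)) = 0 := by linear_combination hq1 - hq2
    push_cast
    exact sub_eq_zero.1 ((mul_eq_zero.1 this).resolve_left (sub_ne_zero.2 hne))
  set s : ℤ := (lam : ℤ) - mu with hs
  have hθ1 : θ₁ = (((k : ℤ) + m * s : ℤ) : ℂ) := by
    push_cast
    push_cast at hadd
    linear_combination hlin + (m : ℂ) * hadd
  have hθ2 : θ₂ = ((s - ((k : ℤ) + m * s) : ℤ) : ℂ) := by
    rw [Int.cast_sub, ← hθ1, ← hadd]; ring
  have hk2 : 2 ≤ k := by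
    -- otherwise the stabiliser fixes a second point
    by_contra hk1
    have hk1 : k = 1 := by omega
    have hsub := (Nat.card_eq_one_iff_unique.1 hk1).1
    have hfix : H ≤ MulAction.stabilizer G b := fun g hg => MulAction.mem_stabilizer_iff.2
      (congrArg Subtype.val (Subsingleton.elim
        (⟨g • b, ⟨⟨g, hg⟩, rfl⟩⟩ : MulAction.orbit H b) ⟨b, MulAction.mem_orbit_self b⟩))
    have : Nontrivial Ω := ⟨a₀, b, hba.symm⟩
    have hmax : IsCoatom H := MulAction.IsPreprimitive.isCoatom_stabilizer_of_isPreprimitive G a₀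
    have hbtop : MulAction.stabilizer G b ≠ ⊤ := fun h => hba (by
      obtain ⟨g, hg⟩ := MulAction.exists_smul_eq G b a₀
      exact (MulAction.mem_stabilizer_iff.1 (h ▸ Subgroup.mem_top g : g ∈ MulAction.stabilizer G b)).symm.trans hg)
    have hHb : H = MulAction.stabilizer G b := by
      rcases hfix.eq_or_lt with h | h
      · exact h
      · exact absurd (hmax.2 _ h) hbtop
    obtain ⟨g, hg⟩ := MulAction.exists_smul_eq G a₀ b
    have hgH : g ∈ Subgroup.normalizer (H : Set G) := by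
      rw [Subgroup.mem_normalizer_iff]
      intro h
      constructor
      · intro hh
        rw [hHb, MulAction.mem_stabilizer_iff, ← hg, mul_smul, mul_smul, inv_smul_smul, MulAction.mem_stabilizer_iff.1 hh]
      · intro hh
        rw [hHb, MulAction.mem_stabilizer_iff, ← hg, mul_smul, mul_smul, inv_smul_smul, smul_left_cancel_iff] at hh
        exact hh
    have hnotH : g ∉ H := fun h => hba (hg.symm.trans h)
    have htop : Subgroup.normalizer (H : Set G) = ⊤ := by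
      rcases (Subgroup.le_normalizer (H := H)).eq_or_lt with h | h
      · exact absurd (h ▸ hgH) hnotH
      · exact hmax.2 _ h
    have hN : H.Normal := Subgroup.normalizer_eq_top_iff.1 htop
    have hcfix : ∀ h ∈ H, h • c = c := fun h hh => by
      obtain ⟨g, hgc⟩ := MulAction.exists_smul_eq G a₀ c
      have := hN.conj_mem h hh g⁻¹
      rw [MulAction.mem_stabilizer_iff, inv_inv, mul_smul, mul_smul, hgc, inv_smul_eq_iff, hgc] at this
      exact this
    have hl1 : l = 1 := by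
      rw [Nat.card_eq_one_iff_unique]
      refine ⟨⟨fun u v => Subtype.ext ?_⟩, ⟨⟨c, MulAction.mem_orbit_self c⟩⟩⟩
      obtain ⟨⟨g, hg⟩, hu⟩ := u.2
      obtain ⟨⟨g', hg'⟩, hv⟩ := v.2
      rw [← hu, ← hv]
      exact (hcfix g hg).trans (hcfix g' hg').symm
    omega
  obtain ⟨a, ha, hma, hka⟩ := wielandt_arith (m := m) (k := k) (θ₁ := (k : ℤ) + m * s)
    (θ₂ := s - ((k : ℤ) + m * s)) hk2 (by omega)
    (Int.cast_injective (α := ℂ) (by push_cast at hθ1 hθ2 ⊢; rw [← hθ1] at hθ2 ⊢; rw [← hθ2]; linear_combination -hlin))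
    ⟨s, rfl⟩
    (Int.cast_injective (α := ℂ) (by push_cast at hθ1 hθ2 ⊢; rw [← hθ1] at hθ2 ⊢; rw [← hθ2]; linear_combination -hsq))
  refine ⟨a, ha, hma, fun d hd => ?_⟩
  have hla : l = (a + 1) * (2 * a + 1) := by
    have : k + l + 1 = 2 * (2 * a ^ 2 + 2 * a + 1) := by omega
    nlinarith
  rcases hcases d hd with h | h
  · exact Or.inl (by rw [h]; exact hka)
  · exact Or.inr (by rw [h]; exact hla)

end CfsgLib.Perm.Isotypic
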