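/-
Praeger's fixed point theorem for Sylow subgroups, in subgroup language: if `K` is generated by
Sylow `p`-subgroups of `G` and `H` does not contain `K`, then at most a `(p-1)/(2p-1)` fraction of
the Sylow subgroups inside `K` lies in `H`.
-/
import Mathlib.GroupTheory.Sylow
import Mathlib.GroupTheory.PGroup
import Mathlib.Data.Finset.Max
import Mathlib.Tactic.LinearCombination
import Mathlib.Tactic.Linarith
import Mathlib.Tactic.Ring

set_option autoImplicit false
set_option linter.unusedSectionVars false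
open scoped Pointwise

namespace CfsgLib.Perm.Praeger

variable {G : Type*} [Group G] [Finite G] {p : ℕ} [Fact p.Prime]

/-- conjugate of a subgroup -/
def cj (g : G) (H : Subgroup G) : Subgroup G := MulAut.conj g • H

theorem mem_cj {g x : G} {H : Subgroup G} : x ∈ cj g H ↔ g⁻¹ * x * g ∈ H := by
  unfold cj
  rw [Subgroup.mem_pointwise_smul_iff_inv_smul_mem, ← map_inv, MulAut.smul_def, MulAut.conj_apply,
    inv_inv]

theorem cj_one (H : Subgroup G) : cj 1 H = H := by
  ext x; simp [mem_cj]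

theorem cj_cj (g h : G) (H : Subgroup G) : cj g (cj h H) = cj (g * h) H := by
  ext x; simp [mem_cj, mul_assoc]

theorem cj_mono {g : G} {H K : Subgroup G} (h : H ≤ K) : cj g H ≤ cj g K := by
  intro x hx; rw [mem_cj] at hx ⊢; exact h hx

theorem cj_inv_le {g : G} {H K : Subgroup G} : cj g H ≤ K ↔ H ≤ cj g⁻¹ K := by
  constructor
  · intro h
    have := cj_mono (g := g⁻¹) h
    rwa [cj_cj, inv_mul_cancel, cj_one] at this
  · intro h
    have := cj_mono (g := g) h
    rwa [cj_cj, mul_inv_cancel, cj_one] at this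

theorem cj_inf (g : G) (H K : Subgroup G) : cj g (H ⊓ K) = cj g H ⊓ cj g K := by
  ext x; simp [mem_cj]

theorem cj_eq_self {g : G} {H : Subgroup G} (hg : g ∈ H) : cj g H = H := by
  ext x
  rw [mem_cj, Subgroup.mul_mem_cancel_right H hg, Subgroup.mul_mem_cancel_left H (H.inv_mem hg)]

theorem coe_smul_eq (g : G) (P : Sylow p G) :
    ((g • P : Sylow p G) : Subgroup G) = cj g (P : Subgroup G) := rfl

variable (p) in
/-- the Sylow subgroups inside a subgroup -/
noncomputable def syl (H : Subgroup G) : Finset (Sylow p G) :=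
  letI := Fintype.ofFinite (Sylow p G)
  letI := Classical.decPred fun P : Sylow p G => (P : Subgroup G) ≤ H
  Finset.univ.filter fun P : Sylow p G => (P : Subgroup G) ≤ H

theorem mem_syl {H : Subgroup G} {P : Sylow p G} : P ∈ syl p H ↔ (P : Subgroup G) ≤ H := by
  simp [syl]

theorem card_syl_cj (g : G) (H : Subgroup G) : (syl p (cj g H)).card = (syl p H).card := by
  refine (Finset.card_bij (fun P _ => g • P) ?_ ?_ ?_).symm
  · intro P hP
    rw [mem_syl, coe_smul_eq]
    exact cj_mono (mem_syl.1 hP)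
  · intro P _ Q _ h
    exact smul_left_cancel g h
  · intro Q hQ
    refine ⟨g⁻¹ • Q, ?_, smul_inv_smul g Q⟩
    rw [mem_syl, coe_smul_eq, cj_inv_le, inv_inv]
    exact mem_syl.1 hQ

theorem syl_mono {H K : Subgroup G} (h : H ≤ K) : syl p H ⊆ syl p K := fun _ hP =>
  mem_syl.2 ((mem_syl.1 hP).trans h)

variable (p) in
/-- subgroup generated by the Sylow subgroups inside -/
noncomputable def genBy (H : Subgroup G) : Subgroup G :=
  ⨆ P ∈ syl p H, (P : Subgroup G)

theorem genBy_le (H : Subgroup G) : genBy p H ≤ H := iSup₂_le fun _ hP => mem_syl.1 hP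

theorem le_genBy {H : Subgroup G} {P : Sylow p G} (hP : (P : Subgroup G) ≤ H) :
    (P : Subgroup G) ≤ genBy p H :=
  le_iSup₂_of_le P (mem_syl.2 hP) le_rfl

theorem syl_genBy (H : Subgroup G) : syl p (genBy p H) = syl p H :=
  le_antisymm (syl_mono (genBy_le H)) fun _ hP => mem_syl.2 (le_genBy (mem_syl.1 hP))

theorem genBy_mono_syl {H K : Subgroup G} (h : syl p H ⊆ syl p K) : genBy p H ≤ genBy p K :=
  iSup₂_le fun _ hP => le_genBy (mem_syl.1 (h hP))

theorem genBy_cj (g : G) (H : Subgroup G) : genBy p (cj g H) = cj g (genBy p H) := by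
  refine le_antisymm (iSup₂_le fun P hP => ?_) ?_
  · have h1 : ((g⁻¹ • P : Sylow p G) : Subgroup G) ≤ genBy p H := by
      refine le_genBy ?_
      rw [coe_smul_eq, cj_inv_le, inv_inv]
      exact mem_syl.1 hP
    rw [coe_smul_eq, cj_inv_le, inv_inv] at h1
    exact h1
  · rw [cj_inv_le]
    refine iSup₂_le fun P hP => ?_
    rw [← cj_inv_le, ← coe_smul_eq]
    exact le_genBy (by rw [coe_smul_eq]; exact cj_mono (mem_syl.1 hP))

/-- a `p`-element normalising a subgroup containing a Sylow subgroup lies inside it -/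
theorem mem_of_normalizes {D : Subgroup G} {P : Sylow p G} (hP : (P : Subgroup G) ≤ D) {x : G}
    (hx : ∃ k : ℕ, x ^ p ^ k = 1) (hn : cj x D = D) : x ∈ D := by
  set M : Subgroup G := Subgroup.normalizer (D : Set G) with hM
  have hxM : x ∈ M := by
    rw [hM, Subgroup.mem_normalizer_iff]
    intro a
    conv_rhs => rw [← hn, mem_cj]
    group
  have hDM : D ≤ M := Subgroup.le_normalizer
  obtain ⟨k, hk⟩ := hx
  have hz : IsPGroup p (Subgroup.zpowers (⟨x, hxM⟩ : M)) := by
    intro y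
    obtain ⟨i, hi⟩ := Subgroup.mem_zpowers_iff.1 y.2
    refine ⟨k, Subtype.ext ?_⟩
    rw [SubmonoidClass.coe_pow, ← hi, OneMemClass.coe_one]
    apply Subtype.ext
    rw [SubmonoidClass.coe_pow, Subgroup.coe_zpow, OneMemClass.coe_one, ← zpow_natCast,
      ← zpow_mul, mul_comm, zpow_mul, zpow_natCast, hk, one_zpow]
  obtain ⟨R, hR⟩ := hz.exists_le_sylow
  obtain ⟨m, hm⟩ := MulAction.exists_smul_eq M (P.subtype (hP.trans hDM)) R
  have hxR : (⟨x, hxM⟩ : M) ∈ (R : Subgroup M) := hR (Subgroup.mem_zpowers _)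
  rw [← hm] at hxR
  rw [Sylow.coe_subgroup_smul, Subgroup.mem_pointwise_smul_iff_inv_smul_mem, ← map_inv,
    MulAut.smul_def, MulAut.conj_apply, inv_inv, Sylow.coe_subtype, Subgroup.mem_subgroupOf] at hxR
  have h1 : (m : G)⁻¹ * x * (m : G) ∈ D := hP hxR
  have h2 := (Subgroup.mem_normalizer_iff.1 m.2 _).1 h1
  simpa [mul_assoc] using h2

theorem le_of_normalizes {D : Subgroup G} {Q : Sylow p G} (hQ : (Q : Subgroup G) ≤ D)
    (P : Sylow p G) (hn : ∀ x ∈ (P : Subgroup G), cj x D = D) : (P : Subgroup G) ≤ D := by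
  intro x hx
  obtain ⟨k, hk⟩ := P.isPGroup' ⟨x, hx⟩
  exact mem_of_normalizes hQ ⟨k, by simpa [Subtype.ext_iff] using hk⟩ (hn x hx)

/-- Sylow subgroups inside `L` are conjugate under `L` -/
theorem exists_cj_eq {L : Subgroup G} {P Q : Sylow p G} (hP : (P : Subgroup G) ≤ L)
    (hQ : (Q : Subgroup G) ≤ L) : ∃ g ∈ L, g • P = Q := by
  obtain ⟨m, hm⟩ := MulAction.exists_smul_eq L (P.subtype hP) (Q.subtype hQ)
  refine ⟨m, m.2, Sylow.ext (SetLike.ext fun x => ?_)⟩
  rw [coe_smul_eq, mem_cj]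
  constructor
  · intro h
    have hxL : x ∈ L := by
      have := L.mul_mem (L.mul_mem m.2 (hP h)) (L.inv_mem m.2)
      simpa [mul_assoc] using this
    have h' : (⟨x, hxL⟩ : L) ∈ ((m • P.subtype hP : Sylow p L) : Subgroup L) := by
      rw [Sylow.coe_subgroup_smul, Subgroup.mem_pointwise_smul_iff_inv_smul_mem, ← map_inv,
        MulAut.smul_def, MulAut.conj_apply, inv_inv, Sylow.coe_subtype, Subgroup.mem_subgroupOf]
      exact h
    rw [hm, Sylow.coe_subtype, Subgroup.mem_subgroupOf] at h'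
    exact h'
  · intro h
    have hxL : x ∈ L := hQ h
    have h' : (⟨x, hxL⟩ : L) ∈ ((Q.subtype hQ : Sylow p L) : Subgroup L) := by
      rw [Sylow.coe_subtype, Subgroup.mem_subgroupOf]; exact h
    rw [← hm, Sylow.coe_subgroup_smul, Subgroup.mem_pointwise_smul_iff_inv_smul_mem, ← map_inv,
        MulAut.smul_def, MulAut.conj_apply, inv_inv, Sylow.coe_subtype, Subgroup.mem_subgroupOf] at h'
    exact h'

/-- `X` is stable under conjugation by `L` -/
def Inv (L : Subgroup G) (X : Finset (Subgroup G)) : Prop := ∀ g ∈ L, ∀ z ∈ X, cj g z ∈ X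

open Classical in
/-- members of `X` containing `P` -/
noncomputable def fP (X : Finset (Subgroup G)) (P : Sylow p G) : ℕ :=
  (X.filter fun z => (P : Subgroup G) ≤ z).card

/-- the units -/
noncomputable def E (X : Finset (Subgroup G)) (P : Sylow p G) : ℤ :=
  ((p : ℤ) - 1) * X.card - (2 * (p : ℤ) - 1) * fP X P

theorem fP_eq {L : Subgroup G} {X : Finset (Subgroup G)} (hX : Inv L X) {P Q : Sylow p G}
    (hP : (P : Subgroup G) ≤ L) (hQ : (Q : Subgroup G) ≤ L) : fP X P = fP X Q := by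
  classical
  obtain ⟨g, hg, hgP⟩ := exists_cj_eq hP hQ
  have hQP : (Q : Subgroup G) = cj g (P : Subgroup G) := by rw [← hgP, coe_smul_eq]
  unfold fP
  refine Finset.card_bij (fun z _ => cj g z) ?_ ?_ ?_
  · intro z hz
    rw [Finset.mem_filter] at hz ⊢
    exact ⟨hX g hg z hz.1, hQP ▸ cj_mono hz.2⟩
  · intro a _ b _ h
    have := congrArg (cj g⁻¹) h
    rwa [cj_cj, cj_cj, inv_mul_cancel, cj_one, cj_one] at this
  · intro w hw
    rw [Finset.mem_filter] at hw
    refine ⟨cj g⁻¹ w, ?_, by rw [cj_cj, mul_inv_cancel, cj_one]⟩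
    rw [Finset.mem_filter]
    exact ⟨hX g⁻¹ (L.inv_mem hg) w hw.1, cj_inv_le.1 (hQP ▸ hw.2)⟩

/-- double counting -/
theorem sum_syl {L : Subgroup G} {X : Finset (Subgroup G)} (hX : Inv L X) {P : Sylow p G}
    (hP : (P : Subgroup G) ≤ L) :
    ∑ z ∈ X, (syl p (z ⊓ L)).card = (syl p L).card * fP X P := by
  classical
  have h1 : ∀ z, syl p (z ⊓ L) = (syl p L).filter fun Q : Sylow p G => (Q : Subgroup G) ≤ z := by
    intro z; ext Q; simp [mem_syl, and_comm]
  calc ∑ z ∈ X, (syl p (z ⊓ L)).card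
      = ∑ z ∈ X, ∑ Q ∈ syl p L, if (Q : Subgroup G) ≤ z then 1 else 0 := by
        refine Finset.sum_congr rfl fun z _ => ?_
        rw [h1 z, Finset.card_filter]
    _ = ∑ Q ∈ syl p L, fP X Q := by
        rw [Finset.sum_comm]
        refine Finset.sum_congr rfl fun Q _ => ?_
        rw [fP, Finset.card_filter]
    _ = ∑ _Q ∈ syl p L, fP X P :=
        Finset.sum_congr rfl fun Q hQ => fP_eq hX (mem_syl.1 hQ) hP
    _ = (syl p L).card * fP X P := by simp

variable (p) in
/-- weight of a point -/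
noncomputable def wt (L z : Subgroup G) : ℤ :=
  ((p : ℤ) - 1) * (syl p L).card - (2 * (p : ℤ) - 1) * (syl p (z ⊓ L)).card

theorem sum_wt {L : Subgroup G} {X : Finset (Subgroup G)} (hX : Inv L X) {P : Sylow p G}
    (hP : (P : Subgroup G) ≤ L) : ∑ z ∈ X, wt p L z = (syl p L).card * E X P := by
  have h := sum_syl hX hP
  have h' : ∑ z ∈ X, ((syl p (z ⊓ L)).card : ℤ) = ((syl p L).card : ℤ) * fP X P := by
    exact_mod_cast h
  simp only [wt, Finset.sum_sub_distrib, ← Finset.mul_sum, Finset.sum_const, nsmul_eq_mul, h', E]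
  ring

variable (p) in
/-- the statement to be proved for `L` -/
def Bound (L : Subgroup G) : Prop :=
  ∀ H : Subgroup G, ¬ L ≤ H → (2 * p - 1) * (syl p (H ⊓ L)).card ≤ (p - 1) * (syl p L).card

theorem wt_nonneg {L : Subgroup G} (hB : Bound p L) {z : Subgroup G} (hz : ¬ L ≤ z) :
    0 ≤ wt p L z := by
  have h := hB z hz
  have hp1 : 1 ≤ p := (Fact.out : p.Prime).one_lt.le
  have h' : (((2 * p - 1) * (syl p (z ⊓ L)).card : ℕ) : ℤ) ≤
      (((p - 1) * (syl p L).card : ℕ) : ℤ) := by exact_mod_cast h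
  rw [Nat.cast_mul, Nat.cast_mul, Nat.cast_sub hp1, Nat.cast_sub (by omega), Nat.cast_mul] at h'
  push_cast at h'
  rw [wt]; linarith

theorem syl_card_pos {L : Subgroup G} {P : Sylow p G} (hP : (P : Subgroup G) ≤ L) :
    0 < (syl p L).card :=
  Finset.card_pos.2 ⟨P, mem_syl.2 hP⟩

theorem E_nonneg {L : Subgroup G} (hB : Bound p L) {X : Finset (Subgroup G)} (hX : Inv L X)
    {P : Sylow p G} (hP : (P : Subgroup G) ≤ L) (hz : ∀ z ∈ X, ¬ L ≤ z) : 0 ≤ E X P := by
  have h := Finset.sum_nonneg fun z hzX => wt_nonneg (p := p) hB (hz z hzX)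
  rw [sum_wt hX hP] at h
  exact nonneg_of_mul_nonneg_right h (by exact_mod_cast syl_card_pos hP)

/-- conjugation action congruence -/
theorem card_modEq {L : Subgroup G} {X : Finset (Subgroup G)} (hX : Inv L X) {P : Sylow p G}
    (hP : (P : Subgroup G) ≤ L) (hS : ∀ z ∈ X, ∃ Q : Sylow p G, (Q : Subgroup G) ≤ z) :
    X.card ≡ fP X P [MOD p] := by
  classical
  letI : MulAction (P : Subgroup G) X :=
    { smul := fun g z => ⟨cj (g : G) z, hX g (hP g.2) z z.2⟩
      one_smul := fun z => Subtype.ext (cj_one _)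
      mul_smul := fun g h z => Subtype.ext (cj_cj _ _ _).symm }
  have h := P.isPGroup'.card_modEq_card_fixedPoints X
  rw [Nat.card_eq_fintype_card, Fintype.card_coe] at h
  have hfix : Nat.card (MulAction.fixedPoints (P : Subgroup G) X) = fP X P := by
    rw [fP, ← Nat.card_eq_finsetCard]
    refine Nat.card_congr
      { toFun := fun z => ⟨(z : X), ?_⟩
        invFun := fun z => ⟨⟨z, (Finset.mem_filter.1 z.2).1⟩, ?_⟩
        left_inv := fun z => rfl
        right_inv := fun z => rfl }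
    · rw [Finset.mem_filter]
      refine ⟨(z : X).2, ?_⟩
      obtain ⟨Q, hQ⟩ := hS _ (z : X).2
      exact le_of_normalizes hQ P fun x hx => congrArg Subtype.val (z.2 ⟨x, hx⟩)
    · intro g
      exact Subtype.ext (cj_eq_self ((Finset.mem_filter.1 z.2).2 g.2))
  rwa [hfix] at h

theorem dvd_E {L : Subgroup G} {X : Finset (Subgroup G)} (hX : Inv L X) {P : Sylow p G}
    (hP : (P : Subgroup G) ≤ L) (hS : ∀ z ∈ X, ∃ Q : Sylow p G, (Q : Subgroup G) ≤ z) :
    (p : ℤ) ∣ E X P := by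
  obtain ⟨c, hc⟩ := Nat.modEq_iff_dvd.1 (card_modEq hX hP hS)
  refine ⟨(X.card : ℤ) - 2 * fP X P + c, ?_⟩
  rw [E]
  linear_combination hc

theorem E_zero {L : Subgroup G} {X : Finset (Subgroup G)} (hX : Inv L X) {P : Sylow p G}
    (hP : (P : Subgroup G) ≤ L) (hS : ∀ z ∈ X, ∃ Q : Sylow p G, (Q : Subgroup G) ≤ z)
    (h0 : fP X P = 0) (hne : X.Nonempty) : (p : ℤ) * ((p : ℤ) - 1) ≤ E X P := by
  have h := card_modEq hX hP hS
  rw [h0] at h
  have hd : p ∣ X.card := Nat.modEq_zero_iff_dvd.1 h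
  have hle : (p : ℤ) ≤ X.card := by exact_mod_cast Nat.le_of_dvd (Finset.card_pos.2 hne) hd
  have hp1 : (1 : ℤ) ≤ p := by exact_mod_cast (Fact.out : p.Prime).one_lt.le
  rw [E, h0]
  push_cast
  nlinarith [mul_le_mul_of_nonneg_left hle (sub_nonneg.2 hp1)]

theorem fP_add_of_filter (X : Finset (Subgroup G)) (q : Subgroup G → Prop) [DecidablePred q]
    (P : Sylow p G) : E X P = E (X.filter q) P + E (X.filter fun z => ¬ q z) P := by
  classical
  have h1 := Finset.card_filter_add_card_filter_not (s := X) q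
  have h2 := Finset.card_filter_add_card_filter_not
    (s := X.filter fun z => (P : Subgroup G) ≤ z) q
  have e1 : fP (X.filter q) P = ((X.filter fun z => (P : Subgroup G) ≤ z).filter q).card := by
    rw [fP, Finset.filter_comm]
  have e2 : fP (X.filter fun z => ¬ q z) P =
      ((X.filter fun z => (P : Subgroup G) ≤ z).filter fun z => ¬ q z).card := by
    rw [fP, Finset.filter_comm]
  have h1' : (X.card : ℤ) = (X.filter q).card + (X.filter fun z => ¬ q z).card := by
    exact_mod_cast h1.symm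
  have h2' : (fP X P : ℤ) = fP (X.filter q) P + fP (X.filter fun z => ¬ q z) P := by
    rw [e1, e2, fP]; exact_mod_cast h2.symm
  rw [E, E, E, h1', h2']
  ring

variable (p) in
/-- admissible points below `L` -/
def Good (L : Subgroup G) (X : Finset (Subgroup G)) : Prop :=
  ∀ z ∈ X, z ≤ L ∧ ¬ L ≤ z ∧ (∃ Q : Sylow p G, (Q : Subgroup G) ≤ z) ∧ z ≤ genBy p z

variable (p) in
/-- the joint fixing property -/
def Joint (q : ℕ) : Prop :=
  ∀ L : Subgroup G, Bound p L → (∀ y : Subgroup G, y < L → y ≤ genBy p y → Bound p y) →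
    ∀ P : Sylow p G, (P : Subgroup G) ≤ L → ∀ X : Finset (Subgroup G), Inv L X → Good p L X →
      ∀ Y : Finset (Subgroup G), Y ⊆ X → Y.card = q →
        E X P + p * q ≤ p * ((p : ℤ) - 1) →
          ∃ R : Sylow p G, (R : Subgroup G) ≤ L ∧ ∀ y ∈ Y, (R : Subgroup G) ≤ y

theorem step {q : ℕ} (ih : ∀ m ≤ q, Joint (G := G) p m) {L : Subgroup G}
    (hsub : ∀ y : Subgroup G, y < L → y ≤ genBy p y → Bound p y)
    {P : Sylow p G} (hP : (P : Subgroup G) ≤ L) {X : Finset (Subgroup G)} (hX : Inv L X)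
    (hG : Good p L X) {Y : Finset (Subgroup G)} (hY : Y ⊆ X) (hc : Y.card = q + 1)
    {y : Subgroup G} (hy : y ∈ Y) (hmax : ∀ z ∈ X, (syl p z).card ≤ (syl p y).card)
    (hE : E X P + p * (q + 1) ≤ p * ((p : ℤ) - 1)) :
    ∃ R : Sylow p G, (R : Subgroup G) ≤ L ∧ ∀ w ∈ Y, (R : Subgroup G) ≤ w := by
  classical
  obtain ⟨hyL, hLy, ⟨Py, hPy⟩, hygen⟩ := hG y (hY hy)
  rcases Nat.eq_zero_or_pos q with rfl | hq
  · obtain ⟨a, ha⟩ := Finset.card_eq_one.1 hc
    refine ⟨Py, hPy.trans hyL, fun w hw => ?_⟩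
    rw [ha, Finset.mem_singleton] at hw hy
    rw [hw, ← hy]; exact hPy
  have hylt : y < L := lt_of_le_not_ge hyL hLy
  have hBy : Bound p y := hsub y hylt hygen
  set X1 := X.erase y with hX1
  have hX1inv : Inv y X1 := by
    intro g hg z hz
    rw [hX1, Finset.mem_erase] at hz ⊢
    refine ⟨fun h => hz.1 ?_, hX g (hyL hg) z hz.2⟩
    have := congrArg (cj g⁻¹) h
    rwa [cj_cj, inv_mul_cancel, cj_one, cj_eq_self (y.inv_mem hg)] at this
  have hnot : ∀ z ∈ X1, ¬ y ≤ z := by
    intro z hz hle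
    rw [hX1, Finset.mem_erase] at hz
    have heq : syl p y = syl p z :=
      Finset.eq_of_subset_of_card_le (syl_mono hle) (hmax z hz.2)
    have h2 : z ≤ y := calc
      z ≤ genBy p z := (hG z hz.2).2.2.2
      _ ≤ genBy p y := genBy_mono_syl heq.ge
      _ ≤ y := genBy_le y
    exact hz.1 (le_antisymm h2 hle)
  have hE1 : E X1 Py = E X P + p := by
    have hf : fP X Py = fP X P := fP_eq hX (hPy.trans hyL) hP
    have h1 : fP X1 Py + 1 = fP X Py := by
      unfold fP
      rw [hX1, Finset.filter_erase, Finset.card_erase_add_one]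
      exact Finset.mem_filter.2 ⟨hY hy, hPy⟩
    have h2 : X1.card + 1 = X.card := Finset.card_erase_add_one (hY hy)
    rw [E, E, ← hf, ← h1, ← h2]
    push_cast
    ring
  have hsylne : ∀ z ∈ X1, (syl p (z ⊓ y)).Nonempty := by
    intro w hw
    by_contra hempty
    have hsplit := fP_add_of_filter X1 (fun z => ¬ (syl p (z ⊓ y)).Nonempty) Py
    have hinv : ∀ g ∈ y, ∀ z, (syl p (cj g z ⊓ y)).Nonempty ↔ (syl p (z ⊓ y)).Nonempty := by
      intro g hg z
      rw [← Finset.card_pos, ← Finset.card_pos]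
      have : cj g z ⊓ y = cj g (z ⊓ y) := by rw [cj_inf, cj_eq_self hg]
      rw [this, card_syl_cj]
    have hA : (p : ℤ) * ((p : ℤ) - 1) ≤
        E (X1.filter fun z => ¬ (syl p (z ⊓ y)).Nonempty) Py := by
      refine E_zero (L := y) ?_ hPy ?_ ?_ ⟨w, Finset.mem_filter.2 ⟨hw, hempty⟩⟩
      · intro g hg z hz
        rw [Finset.mem_filter] at hz ⊢
        exact ⟨hX1inv g hg z hz.1, fun h => hz.2 ((hinv g hg z).1 h)⟩
      · intro z hz
        exact (hG z (Finset.mem_of_mem_erase (Finset.mem_filter.1 hz).1)).2.2.1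
      · rw [fP, Finset.card_eq_zero, Finset.filter_eq_empty_iff]
        intro z hz hle
        exact (Finset.mem_filter.1 hz).2 ⟨Py, mem_syl.2 (le_inf hle hPy)⟩
    have hB' : 0 ≤ E (X1.filter fun z => ¬ ¬ (syl p (z ⊓ y)).Nonempty) Py := by
      refine E_nonneg hBy ?_ hPy fun z hz => hnot z (Finset.mem_filter.1 hz).1
      intro g hg z hz
      rw [Finset.mem_filter, not_not] at hz ⊢
      exact ⟨hX1inv g hg z hz.1, (hinv g hg z).2 hz.2⟩
    have hp0 : (0 : ℤ) < p := by exact_mod_cast (Fact.out : p.Prime).pos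
    have hq' : (1 : ℤ) ≤ q := by exact_mod_cast hq
    nlinarith
  -- collapse
  let g : Subgroup G → Subgroup G := fun z => genBy p (z ⊓ y)
  have hgy : ∀ z, g z ≤ y := fun z => (genBy_le _).trans inf_le_right
  have hgz : ∀ z, g z ≤ z := fun z => (genBy_le _).trans inf_le_left
  set X3 := X1.image g with hX3
  have hX3inv : Inv y X3 := by
    intro a ha v hv
    rw [hX3, Finset.mem_image] at hv ⊢
    obtain ⟨z, hz, rfl⟩ := hv
    refine ⟨cj a z, hX1inv a ha z hz, ?_⟩
    show genBy p (cj a z ⊓ y) = cj a (genBy p (z ⊓ y))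
    rw [← genBy_cj, cj_inf, cj_eq_self ha]
  have hX3G : Good p y X3 := by
    intro v hv
    rw [hX3, Finset.mem_image] at hv
    obtain ⟨z, hz, rfl⟩ := hv
    obtain ⟨Q, hQ⟩ := hsylne z hz
    refine ⟨hgy z, fun h => hnot z hz (h.trans (hgz z)), ⟨Q, le_genBy (mem_syl.1 hQ)⟩, ?_⟩
    exact genBy_mono_syl (syl_genBy _).ge
  have hwt : ∀ z, wt p y (g z) = wt p y z := by
    intro z
    have : g z ⊓ y = g z := inf_eq_left.2 (hgy z)
    rw [wt, wt, this]
    show _ - _ * ((syl p (genBy p (z ⊓ y))).card : ℤ) = _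
    rw [syl_genBy]
  have hE3 : E X3 Py ≤ E X1 Py := by
    have h1 : ∑ v ∈ X3, wt p y v ≤ ∑ z ∈ X1, wt p y z := by
      rw [← Finset.sum_fiberwise_of_maps_to (t := X3) (g := g)
        (fun z hz => Finset.mem_image_of_mem g hz) (fun z => wt p y z)]
      refine Finset.sum_le_sum fun v hv => ?_
      rw [hX3, Finset.mem_image] at hv
      obtain ⟨z, hz, rfl⟩ := hv
      rw [hwt z]
      exact Finset.single_le_sum (f := fun z => wt p y z)
        (fun w hw => wt_nonneg hBy (hnot w (Finset.mem_filter.1 hw).1))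
        (Finset.mem_filter.2 ⟨hz, rfl⟩)
    rw [sum_wt hX3inv hPy, sum_wt hX1inv hPy] at h1
    exact le_of_mul_le_mul_left h1 (by exact_mod_cast syl_card_pos hPy)
  set Y' := (Y.erase y).image g with hY'
  have hY'sub : Y' ⊆ X3 := Finset.image_subset_image fun w hw => by
    rw [hX1]; exact Finset.mem_erase.2 ⟨Finset.ne_of_mem_erase hw, hY (Finset.mem_of_mem_erase hw)⟩
  have hY'le : Y'.card ≤ q := Finset.card_image_le.trans (by
    rw [Finset.card_erase_of_mem hy]; omega)
  obtain ⟨R, hRy, hR⟩ := ih Y'.card hY'le y hBy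
    (fun z hz hzg => hsub z (hz.trans hylt) hzg) Py hPy X3 hX3inv hX3G Y' hY'sub rfl (by
      have h' : ((Y'.card : ℕ) : ℤ) ≤ q := by exact_mod_cast hY'le
      have hp0 : (0 : ℤ) ≤ p := Nat.cast_nonneg _
      nlinarith)
  refine ⟨R, hRy.trans hyL, fun w hw => ?_⟩
  by_cases hwy : w = y
  · exact hwy ▸ hRy
  · exact (hR (g w) (Finset.mem_image_of_mem g (Finset.mem_erase.2 ⟨hwy, hw⟩))).trans (hgz w)

theorem joint : ∀ q : ℕ, Joint (G := G) p q := by
  intro q
  induction q using Nat.strong_induction_on with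
  | _ q IH =>
    classical
    intro L hBL hsub P hP X hX hG Y hY hc hE
    rcases Nat.eq_zero_or_pos q with rfl | hq
    · refine ⟨P, hP, fun w hw => ?_⟩
      rw [Finset.card_eq_zero.1 hc] at hw
      simp at hw
    obtain ⟨r, rfl⟩ := Nat.exists_eq_succ_of_ne_zero hq.ne'
    obtain ⟨y, hy, hmax⟩ := Finset.exists_max_image Y (fun z => (syl p z).card)
      (Finset.card_pos.1 (hc ▸ hq))
    set X0 := X.filter fun z => (syl p z).card ≤ (syl p y).card with hX0
    have hinv0 : Inv L X0 := by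
      intro g hg z hz
      rw [hX0, Finset.mem_filter] at hz ⊢
      exact ⟨hX g hg z hz.1, by rw [card_syl_cj]; exact hz.2⟩
    have hsplit := fP_add_of_filter X (fun z => (syl p z).card ≤ (syl p y).card) P
    have hrest : 0 ≤ E (X.filter fun z => ¬ (syl p z).card ≤ (syl p y).card) P := by
      refine E_nonneg hBL ?_ hP fun z hz => (hG z (Finset.mem_filter.1 hz).1).2.1
      intro g hg z hz
      rw [Finset.mem_filter] at hz ⊢
      exact ⟨hX g hg z hz.1, by rw [card_syl_cj]; exact hz.2⟩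
    refine step (fun m hm => IH m (Nat.lt_succ_of_le hm)) hsub hP hinv0
      (fun z hz => hG z (Finset.mem_filter.1 hz).1)
      (fun w hw => Finset.mem_filter.2 ⟨hY hw, hmax w hw⟩) hc hy
      (fun z hz => (Finset.mem_filter.1 hz).2) ?_
    push_cast at hE
    rw [← hX0] at hsplit
    linarith

/-- the main bound -/
theorem bound (K : Subgroup G) (hK : K ≤ genBy p K) : Bound p K := by
  classical
  induction K using WellFoundedLT.induction with
  | _ K IH =>
  intro H hKH
  by_contra hlt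
  push_neg at hlt
  set J := genBy p (H ⊓ K) with hJ
  have hJK : J ≤ K := (genBy_le _).trans inf_le_right
  have hKJ : ¬ K ≤ J := fun h => hKH (h.trans ((genBy_le _).trans inf_le_left))
  have hsJ : syl p J = syl p (H ⊓ K) := syl_genBy _
  have hpos : 0 < (syl p J).card := by
    rw [hsJ]
    rcases Nat.eq_zero_or_pos (syl p (H ⊓ K)).card with h | h
    · rw [h] at hlt; simp at hlt
    · exact h
  obtain ⟨P0, hP0⟩ := Finset.card_pos.1 hpos
  have hP0J : (P0 : Subgroup G) ≤ J := mem_syl.1 hP0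
  have hP0K : (P0 : Subgroup G) ≤ K := hP0J.trans hJK
  set Ω : Finset (Subgroup G) :=
    (Set.toFinite {z : Subgroup G | ∃ g ∈ K, z = cj g J}).toFinset with hΩ
  have memΩ : ∀ {z}, z ∈ Ω ↔ ∃ g ∈ K, z = cj g J := by simp [hΩ]
  have hΩinv : Inv K Ω := by
    intro a ha z hz
    obtain ⟨g, hg, rfl⟩ := memΩ.1 hz
    exact memΩ.2 ⟨a * g, K.mul_mem ha hg, cj_cj a g J⟩
  have hΩG : Good p K Ω := by
    intro z hz
    obtain ⟨g, hg, rfl⟩ := memΩ.1 hz
    have hle : cj g J ≤ K := (cj_mono hJK).trans (cj_eq_self hg).le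
    refine ⟨hle, fun h => hKJ ?_, ⟨g • P0, by rw [coe_smul_eq]; exact cj_mono hP0J⟩, ?_⟩
    · have h2 := cj_mono (g := g⁻¹) h
      rwa [cj_eq_self (K.inv_mem hg), cj_cj, inv_mul_cancel, cj_one] at h2
    · rw [genBy_cj]
      exact cj_mono (genBy_mono_syl hsJ.ge)
  have hconst : ∀ z ∈ Ω, (syl p z).card = (syl p J).card := by
    intro z hz
    obtain ⟨g, -, rfl⟩ := memΩ.1 hz
    exact card_syl_cj g J
  have hneg : E Ω P0 < 0 := by
    have hs := sum_wt hΩinv hP0K
    have hterm : ∀ z ∈ Ω, wt p K z < 0 := by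
      intro z hz
      have : z ⊓ K = z := inf_eq_left.2 (hΩG z hz).1
      rw [wt, this, hconst z hz, hsJ]
      have hp1 : 1 ≤ p := (Fact.out : p.Prime).one_lt.le
      have h' : (((p - 1) * (syl p K).card : ℕ) : ℤ) <
          (((2 * p - 1) * (syl p (H ⊓ K)).card : ℕ) : ℤ) := by exact_mod_cast hlt
      rw [Nat.cast_mul, Nat.cast_mul, Nat.cast_sub hp1, Nat.cast_sub (by omega),
        Nat.cast_mul] at h'
      push_cast at h'
      linarith
    have hne : Ω.Nonempty := ⟨J, memΩ.2 ⟨1, K.one_mem, (cj_one J).symm⟩⟩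
    have h0 := Finset.sum_neg hterm hne
    rw [hs] at h0
    by_contra hcon
    push_neg at hcon
    nlinarith
  have hp0 : (0 : ℤ) < p := by exact_mod_cast (Fact.out : p.Prime).pos
  have hEle : E Ω P0 ≤ -(p : ℤ) := by
    obtain ⟨c, hc⟩ := dvd_E hΩinv hP0K fun z hz => (hΩG z hz).2.2.1
    rw [hc] at hneg ⊢
    have : c < 0 := by
      by_contra h; push_neg at h; nlinarith
    nlinarith [Int.le_sub_one_of_lt this]
  -- a cycle of length `p`
  obtain ⟨P, hPK, hPJ⟩ : ∃ P : Sylow p G, (P : Subgroup G) ≤ K ∧ ¬ (P : Subgroup G) ≤ J := by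
    by_contra h
    push_neg at h
    exact hKJ (hK.trans (iSup₂_le fun P hP => h P (mem_syl.1 hP)))
  obtain ⟨x0, hx0P, hx0J⟩ := SetLike.not_le_iff_exists.1 hPJ
  obtain ⟨k, hk⟩ := P.isPGroup' ⟨x0, hx0P⟩
  have hk' : x0 ^ p ^ k = 1 := by simpa [Subtype.ext_iff] using hk
  have hex : ∃ n, x0 ^ p ^ n ∈ J := ⟨k, hk' ▸ J.one_mem⟩
  obtain ⟨n, hn1, hn2⟩ : ∃ n, x0 ^ p ^ n ∉ J ∧ x0 ^ p ^ (n + 1) ∈ J := by
    by_contra h
    push_neg at h
    have : ∀ n, x0 ^ p ^ n ∉ J := by
      intro n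
      induction n with
      | zero => simpa using hx0J
      | succ n ihn => exact h n ihn
    exact this k (hk' ▸ J.one_mem)
  set x := x0 ^ p ^ n with hx
  have hxp : x ^ p ∈ J := by rw [hx, ← pow_mul, ← pow_succ]; exact hn2
  have hxK : x ∈ K := K.pow_mem (hPK hx0P) _
  have hxtor : ∃ k : ℕ, x ^ p ^ k = 1 :=
    ⟨k, by rw [hx, ← pow_mul, mul_comm, pow_mul, hk', one_pow]⟩
  set Y : Finset (Subgroup G) := (Finset.range p).image fun i => cj (x ^ i) J with hYdef
  have hJY : J ∈ Y := Finset.mem_image.2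
    ⟨0, Finset.mem_range.2 (Fact.out : p.Prime).pos, by rw [pow_zero, cj_one]⟩
  have hYΩ : Y ⊆ Ω := by
    intro z hz
    obtain ⟨i, -, rfl⟩ := Finset.mem_image.1 hz
    exact memΩ.2 ⟨x ^ i, K.pow_mem hxK i, rfl⟩
  have hcard : Y.card ≤ p := Finset.card_image_le.trans (Finset.card_range p).le
  obtain ⟨r, hr⟩ : ∃ r, Y.card = r + 1 :=
    Nat.exists_eq_succ_of_ne_zero (Finset.card_ne_zero.2 ⟨J, hJY⟩)
  obtain ⟨R, -, hR⟩ := step (q := r) (fun m _ => joint m)
    (fun y hy hyg => IH y hy hyg) hP0K hΩinv hΩG hYΩ hr hJY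
    (fun z hz => (hconst z hz).le) (by
      have : ((r : ℤ) + 1) ≤ p := by exact_mod_cast hr ▸ hcard
      nlinarith)
  have hshift : ∀ z ∈ Y, cj x z ∈ Y := by
    intro z hz
    obtain ⟨i, hi, rfl⟩ := Finset.mem_image.1 hz
    rw [cj_cj, ← pow_succ']
    rcases lt_or_ge (i + 1) p with h | h
    · exact Finset.mem_image.2 ⟨i + 1, Finset.mem_range.2 h, rfl⟩
    · have : i + 1 = p := by have := Finset.mem_range.1 hi; omega
      rw [this, cj_eq_self hxp]; exact hJY
  have himg : Y.image (cj x) = Y := by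
    refine Finset.eq_of_subset_of_card_le (Finset.image_subset_iff.2 hshift) ?_
    rw [Finset.card_image_of_injective (s := Y) (f := cj x)]
    intro a b h
    have := congrArg (cj x⁻¹) h
    rwa [cj_cj, cj_cj, inv_mul_cancel, cj_one, cj_one] at this
  set D : Subgroup G := ⨅ z ∈ Y, z with hD
  have hnorm : cj x D = D := by
    ext a
    simp only [mem_cj, hD, Subgroup.mem_iInf]
    constructor
    · intro h z hz
      rw [← himg, Finset.mem_image] at hz
      obtain ⟨w, hw, rfl⟩ := hz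
      exact mem_cj.2 (h w hw)
    · intro h z hz
      exact mem_cj.1 (h _ (hshift z hz))
  have hxD : x ∈ D := mem_of_normalizes (le_iInf₂ hR) hxtor hnorm
  exact hn1 ((iInf₂_le J hJY : D ≤ J) hxD)

theorem card_sylow_subgroup (H : Subgroup G) {P : Sylow p G} (hP : (P : Subgroup G) ≤ H) :
    Nat.card (Sylow p H) = (syl p H).card := by
  classical
  rw [← Nat.card_eq_finsetCard]
  refine (Nat.card_congr (Equiv.ofBijective
    (fun Q : syl p H => (Q : Sylow p G).subtype (mem_syl.1 Q.2)) ⟨?_, ?_⟩)).symm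
  · intro Q R h
    exact Subtype.ext (Sylow.subtype_injective h)
  · intro Q
    obtain ⟨m, hm⟩ := MulAction.exists_smul_eq H (P.subtype hP) Q
    refine ⟨⟨(m : G) • P, mem_syl.2 (by rw [coe_smul_eq]; exact (cj_mono hP).trans (cj_eq_self m.2).le)⟩, ?_⟩
    rw [← hm]
    exact (Sylow.smul_subtype hP m).symm

theorem top_le_genBy_of_closure
    (hgen : Subgroup.closure {g : G | ∃ k : ℕ, orderOf g = p ^ k} = ⊤) :
    (⊤ : Subgroup G) ≤ genBy p ⊤ := by
  rw [← hgen, Subgroup.closure_le]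
  rintro g ⟨k, hk⟩
  have hg : IsPGroup p (Subgroup.zpowers g) :=
    IsPGroup.of_card (n := k) (by rw [Nat.card_zpowers, hk])
  obtain ⟨Q, hQ⟩ := hg.exists_le_sylow
  rw [hgen]
  exact le_genBy (show (Q : Subgroup G) ≤ ⊤ from le_top) (hQ (Subgroup.mem_zpowers g))

theorem card_syl_top : (syl p (⊤ : Subgroup G)).card = Nat.card (Sylow p G) := by
  classical
  rw [← Nat.card_eq_finsetCard]
  exact Nat.card_congr (Equiv.subtypeUnivEquiv fun Q => mem_syl.2 le_top)

end CfsgLib.Perm.Praeger
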