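import Cfsg.Agent.Lib.Perm.PrimeDegreeOrbits
import Cfsg.Agent.Lib.Perm.Multi

/-!
A nonsoluble group of prime degree normalised by a negation `j ↦ -j` is triply transitive.

For an orbit `F` of triples put `F' (a, b, d) = F (-a, -d, -b)`.  The moments
`∑ a, (2 a - b - d) (F + F') (a, b, d)` vanish, so irreducibility of the heart makes `F + F'`
constant, and two different orbits would have equal sizes with odd total `p - 2`.
-/

set_option autoImplicit false

namespace CfsgLib.PrimeHalf

open MulAction

variable {Δ : Type*} [Fintype Δ] {q : ℕ} [Fact q.Prime] {H : Subgroup (Equiv.Perm Δ)}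

/-- If some permutation normalising `H` is the negation in the coordinates of a `q`-cycle of `H`,
then `H` is triply transitive. -/
theorem three_transitive_of_neg [IsPretransitive H Δ] (hα : Fintype.card Δ = q)
    (hH : ¬ Group.IsSolvable H) (σ : H) (e : ZMod q ≃ Δ) (he : Perm.IsCoord σ e)
    (η : Equiv.Perm Δ) (hη : ∀ j, η (e j) = e (-j))
    (hnorm : ∀ g ∈ H, η * g * η⁻¹ ∈ H) : IsMultiplyPretransitive H Δ 3 := by
  classical
  have hq5 := Perm.five_le hα hH
  have h2 := Perm.two_transitive hα hH
  have hpair : ∀ {b d b' d' : Δ}, b ≠ d → b' ≠ d' → ∃ g : H, g • b = b' ∧ g • d = d' :=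
    fun hbd hbd' => MulAction.is_two_pretransitive_iff.1 h2 hbd hbd'
  have hηη : ∀ a, η (η a) = a := fun a => by
    obtain ⟨j, rfl⟩ := e.surjective a
    rw [hη, hη, neg_neg]
  have hηi : η⁻¹ = η := Equiv.ext fun a => by rw [Equiv.Perm.inv_eq_iff_eq, hηη]
  have hcompat : ∀ g : H, ∃ g' : H, ∀ a, η (g • a) = g' • η a := fun g =>
    ⟨⟨η * g * η⁻¹, hnorm g g.2⟩, fun a => by
      simp [Subgroup.smul_def, hηi, hηη]⟩
  have key : ∀ a₀ b₀ d₀ : Δ, a₀ ≠ b₀ → a₀ ≠ d₀ → b₀ ≠ d₀ → ∀ a b d : Δ, a ≠ b → a ≠ d → b ≠ d →
      ∃ g : H, g • a₀ = a ∧ g • b₀ = b ∧ g • d₀ = d := by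
    intro a₀ b₀ d₀ hab₀ had₀ hbd₀
    let R : Δ → Δ → Δ → Prop := fun a b d => ∃ g : H, g • a₀ = a ∧ g • b₀ = b ∧ g • d₀ = d
    have hR : ∀ (g : H) a b d, R (g • a) (g • b) (g • d) ↔ R a b d := by
      intro g a b d
      constructor
      · rintro ⟨g', h1, h2, h3⟩
        refine ⟨g⁻¹ * g', ?_, ?_, ?_⟩ <;> simp [mul_smul, h1, h2, h3]
      · rintro ⟨g', rfl, rfl, rfl⟩
        exact ⟨g * g', mul_smul .., mul_smul .., mul_smul ..⟩
    let R' : Δ → Δ → Δ → Prop := fun a b d => R (η a) (η d) (η b)
    have hR' : ∀ (g : H) a b d, R' (g • a) (g • b) (g • d) ↔ R' a b d := by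
      intro g a b d
      obtain ⟨g', hg'⟩ := hcompat g
      simp only [R', hg', hR]
    have hRne : ∀ {a b d}, R a b d → a ≠ b ∧ a ≠ d := by
      rintro a b d ⟨g, rfl, rfl, rfl⟩
      exact ⟨(MulAction.injective g).ne hab₀, (MulAction.injective g).ne had₀⟩
    let k : ℕ := (Finset.univ.filter fun a => R a b₀ d₀).card
    have hk : ∀ b d, b ≠ d → (Finset.univ.filter fun a => R a b d).card = k := by
      intro b d hbd
      obtain ⟨g, hb, hd⟩ := hpair hbd₀ hbd
      refine (Finset.card_equiv (MulAction.toPerm g) fun a => ?_).symm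
      simp only [Finset.mem_filter, Finset.mem_univ, true_and, MulAction.toPerm_apply, ← hb, ← hd, hR]
    have hk' : ∀ b d, b ≠ d → (Finset.univ.filter fun a => R' a b d).card = k := by
      intro b d hbd
      rw [← hk (η d) (η b) (η.injective.ne hbd.symm)]
      refine Finset.card_equiv η fun a => ?_
      simp [R']
    let x : Δ → ZMod q := fun a => e.symm a
    let F : Δ → Δ → Δ → ZMod q := fun a b d => if R a b d then 1 else 0
    let F' : Δ → Δ → Δ → ZMod q := fun a b d => if R' a b d then 1 else 0
    let ψ : Δ → Δ → ZMod q := fun b d => ∑ a, (2 * x a - x b - x d) * F a b d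
    have hψshift : ∀ (n : ℕ) b d, ψ (σ ^ n • b) (σ ^ n • d) = ψ b d := by
      intro n b d
      simp only [ψ]
      rw [← Equiv.sum_comp (MulAction.toPerm (σ ^ n))]
      refine Finset.sum_congr rfl fun a _ => ?_
      have hx : ∀ a, x (σ ^ n • a) = x a + n := fun a => by
        obtain ⟨j, rfl⟩ := e.surjective a
        simp [x, he.pow_smul]
      simp only [MulAction.toPerm_apply, hx, F, hR]
      ring
    have hψ : ∀ b d, ∑ a, (2 * x a - x b - x d) * (F a b d + F' a b d) = 0 := by
      intro b d
      have hxη : ∀ a, x (η a) = - x a := fun a => by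
        obtain ⟨j, rfl⟩ := e.surjective a
        simp [x, hη]
      have h1 : ∑ a, (2 * x a - x b - x d) * F' a b d = - ψ (η d) (η b) := by
        rw [← Equiv.sum_comp η]
        simp only [ψ, ← Finset.sum_neg_distrib]
        refine Finset.sum_congr rfl fun a _ => ?_
        simp only [F', R', F, hηη, hxη]
        ring
      have h3 := hψshift (x b + x d).val (η d) (η b)
      have h4 : ∀ b d, σ ^ (x b + x d).val • η d = b := fun b d => by
        obtain ⟨i, rfl⟩ := e.surjective b
        obtain ⟨j, rfl⟩ := e.surjective d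
        simp only [x, Equiv.symm_apply_apply, hη, he.pow_smul, ZMod.natCast_val, ZMod.cast_id]
        congr 1; ring
      rw [h4 b d, show σ ^ (x b + x d).val • η b = d by rw [add_comm (x b)]; exact h4 d b] at h3
      simp only [mul_add, Finset.sum_add_distrib, h1, ← h3]
      exact add_neg_cancel _
    have hsum : ∀ b d, b ≠ d → ∑ a, (F a b d + F' a b d) = 2 * (k : ZMod q) := by
      intro b d hbd
      have h1 : ∑ a, F a b d = (k : ZMod q) := by
        rw [← hk b d hbd, Finset.card_filter, Nat.cast_sum]
        exact Finset.sum_congr rfl fun a _ => by simp [F]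
      have h2 : ∑ a, F' a b d = (k : ZMod q) := by
        rw [← hk' b d hbd, Finset.card_filter, Nat.cast_sum]
        exact Finset.sum_congr rfl fun a _ => by simp [F']
      rw [Finset.sum_add_distrib, h1, h2]
      ring
    let G₁ : Δ → Δ → Δ → ZMod q := fun a b d =>
      F a b d + F' a b d - (k : ZMod q) * ((if a = b then 1 else 0) + (if a = d then 1 else 0))
    have hG1sum : ∀ b d, b ≠ d → ∑ a, G₁ a b d = 0 := by
      intro b d hbd
      simp only [G₁, Finset.sum_sub_distrib, hsum b d hbd, ← Finset.mul_sum, Finset.sum_add_distrib,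
        Finset.sum_ite_eq', Finset.mem_univ, if_true]
      ring
    have h2ne : (2 : ZMod q) ≠ 0 := by
      intro h
      have h' : ((2 : ℕ) : ZMod q) = 0 := by exact_mod_cast h
      rw [ZMod.natCast_eq_zero_iff] at h'
      have := Nat.le_of_dvd (by norm_num) h'
      omega
    have hG1x : ∀ b d, b ≠ d → ∑ a, x a * G₁ a b d = 0 := by
      intro b d hbd
      have h := hψ b d
      simp only [sub_mul, Finset.sum_sub_distrib, ← Finset.mul_sum, hsum b d hbd, mul_assoc] at h
      have h5 : ∑ a, x a * (F a b d + F' a b d) = (k : ZMod q) * (x b + x d) := by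
        refine mul_left_cancel₀ h2ne ?_
        linear_combination h
      have h6 : ∀ a, x a * G₁ a b d = x a * (F a b d + F' a b d) -
          (k : ZMod q) * ((if a = b then x a else 0) + (if a = d then x a else 0)) := fun a => by
        simp only [G₁]
        split_ifs <;> ring
      rw [Finset.sum_congr rfl fun a _ => h6 a, Finset.sum_sub_distrib, h5, ← Finset.mul_sum,
        Finset.sum_add_distrib]
      simp only [Finset.sum_ite_eq', Finset.mem_univ, if_true, sub_self]
    have hG1smul : ∀ (g : H) a b d, G₁ (g • a) (g • b) (g • d) = G₁ a b d := by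
      intro g a b d
      simp only [G₁, F, F', hR, hR', smul_left_cancel_iff]
    have hall : ∀ u : Δ → ZMod q, ∑ a, u a = 0 → ∀ b d, b ≠ d → ∑ a, u a * G₁ a b d = 0 := by
      intro u hu
      have hmem := sumZero_le_span hα hH σ e he u hu
      clear hu
      induction hmem using Submodule.span_induction with
      | mem w hw =>
        obtain ⟨g, rfl⟩ := hw
        intro b d hbd
        rw [← Equiv.sum_comp (MulAction.toPerm g)]
        obtain ⟨b', rfl⟩ := (MulAction.toPerm g).surjective b
        obtain ⟨d', rfl⟩ := (MulAction.toPerm g).surjective d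
        have hbd' : b' ≠ d' := fun h => hbd (by rw [h])
        simp only [MulAction.toPerm_apply, inv_smul_smul, hG1smul]
        exact hG1x b' d' hbd'
      | zero => intro b d _; simp
      | add u v _ _ hu hv =>
        intro b d hbd
        simp [add_mul, Finset.sum_add_distrib, hu b d hbd, hv b d hbd]
      | smul t u _ hu =>
        intro b d hbd
        simp [mul_assoc, ← Finset.mul_sum, hu b d hbd]
    have hconst : ∀ a b d, a ≠ b → a ≠ d → b ≠ d → F a b d + F' a b d = -(k : ZMod q) := by
      intro a b d hab had hbd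
      have h := hall (Pi.single a 1 - Pi.single b 1) (by simp [Finset.sum_sub_distrib]) b d hbd
      have hb0 : F b b d = 0 := if_neg fun h => (hRne h).1 rfl
      have hb0' : F' b b d = 0 := if_neg fun h => (hRne h).2 rfl
      have h' : G₁ a b d = G₁ b b d := by
        simpa [sub_mul, Finset.sum_sub_distrib, Pi.single_apply, sub_eq_zero] using h
      simp only [G₁, hb0, hb0', if_neg hab, if_neg had, if_neg hbd, if_true] at h'
      linear_combination h'
    have hR0 : R a₀ b₀ d₀ := ⟨1, one_smul .., one_smul .., one_smul ..⟩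
    have h01 : (0 : ZMod q) ≠ 1 := zero_ne_one
    have h12 : (1 : ZMod q) ≠ 1 + 1 := fun h => one_ne_zero (α := ZMod q) (by linear_combination -h)
    by_cases hR'0 : R' a₀ b₀ d₀
    · intro a b d hab had hbd
      have h := (hconst a b d hab had hbd).trans (hconst a₀ b₀ d₀ hab₀ had₀ hbd₀).symm
      simp only [F, F', if_pos hR0, if_pos hR'0] at h
      by_contra hno
      rw [if_neg (show ¬ R a b d from hno)] at h
      split_ifs at h
      · exact h12 (by simp at h)
      · exact h2ne (by linear_combination -h)
    · exfalso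
      have hexc : ∀ a, a ≠ b₀ → a ≠ d₀ → (R a b₀ d₀ ↔ ¬ R' a b₀ d₀) := by
        intro a hab had
        have h := (hconst a b₀ d₀ hab had hbd₀).trans (hconst a₀ b₀ d₀ hab₀ had₀ hbd₀).symm
        simp only [F, F', if_pos hR0, if_neg hR'0, add_zero] at h
        split_ifs at h with h1 h2 h2
        · exact absurd h.symm h12
        · exact iff_of_true h1 h2
        · exact iff_of_false h1 (not_not.2 h2)
        · exact absurd (by simpa using h) h01
      have hdisj : Disjoint (Finset.univ.filter fun a => R a b₀ d₀)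
          (Finset.univ.filter fun a => R' a b₀ d₀) := by
        rw [Finset.disjoint_filter]
        intro a _ ha
        exact (hexc a (hRne ha).1 (hRne ha).2).1 ha
      have hun : (Finset.univ.filter fun a => R a b₀ d₀) ∪ (Finset.univ.filter fun a => R' a b₀ d₀) =
          (Finset.univ.erase b₀).erase d₀ := by
        ext a
        simp only [Finset.mem_union, Finset.mem_filter, Finset.mem_univ, true_and, Finset.mem_erase,
          and_true]
        constructor
        · rintro (h | h)
          · exact ⟨(hRne h).2, (hRne h).1⟩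
          · exact ⟨fun e => (hRne h).1 (by rw [e]), fun e => (hRne h).2 (by rw [e])⟩
        · rintro ⟨had, hab⟩
          by_cases h : R a b₀ d₀
          · exact Or.inl h
          · exact Or.inr (not_not.1 (mt (hexc a hab had).2 h))
      have hcard := congrArg Finset.card hun
      rw [Finset.card_union_of_disjoint hdisj, hk b₀ d₀ hbd₀, hk' b₀ d₀ hbd₀,
        Finset.card_erase_of_mem (Finset.mem_erase.2 ⟨hbd₀.symm, Finset.mem_univ _⟩),
        Finset.card_erase_of_mem (Finset.mem_univ _), Finset.card_univ, hα] at hcard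
      obtain ⟨t, ht⟩ := (Fact.out : q.Prime).odd_of_ne_two (by omega)
      omega
  refine Perm.isMultiplyPretransitive_of_fixing (by omega) fun T hT a a' ha ha' => ?_
  obtain ⟨b, d, hbd, rfl⟩ := Finset.card_eq_two.1 (show T.card = 2 from hT)
  simp only [Finset.mem_insert, Finset.mem_singleton, not_or] at ha ha'
  obtain ⟨g, h1, h3, h4⟩ := key a b d ha.1 ha.2 hbd a' b d ha'.1 ha'.2 hbd
  refine ⟨g, fun t ht => ?_, h1⟩
  rcases Finset.mem_insert.1 ht with rfl | ht
  · exact h3
  · rw [Finset.mem_singleton.1 ht, h4]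

end CfsgLib.PrimeHalf
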