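import Cfsg.Agent.Lib.Perm.PrimeDegree

/-!
Nonsoluble transitive groups of prime degree `p` containing a permutation `j ↦ c j` with `c` of order
`(p - 1) / 2`: the group has at most six orbits on ordered triples.

An invariant function `f` on triples is determined by its values at two points, by two values of
`∑ a, f a b c` and two values of `∑ a, x a * f a b c`, where `x` is the coordinate function.
-/

set_option autoImplicit false

namespace CfsgLib.PrimeHalf

open MulAction

section Setup

variable {Ω : Type*} [Fintype Ω] {p : ℕ} [Fact p.Prime]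

/-- The translates of the coordinate function span all functions with zero sum. -/
theorem sumZero_le_span {G : Subgroup (Equiv.Perm Ω)} [IsPretransitive G Ω] (hα : Fintype.card Ω = p)
    (hG : ¬ Group.IsSolvable G) (σ : G) (e : ZMod p ≃ Ω) (he : Perm.IsCoord σ e)
    (u : Ω → ZMod p) (hu : ∑ a, u a = 0) :
    u ∈ Submodule.span (ZMod p) (Set.range fun g : G => fun a : Ω => e.symm (g⁻¹ • a)) := by
  classical
  set x : Ω → ZMod p := fun a => e.symm a with hx
  set S := Submodule.span (ZMod p) (Set.range fun g : G => fun a : Ω => e.symm (g⁻¹ • a)) with hS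
  let W : Subrepresentation (Cfsg.permRep (ZMod p) G Ω) :=
    { toSubmodule := S
      apply_mem_toSubmodule := fun g v hv => by
        rw [hS] at hv ⊢
        induction hv using Submodule.span_induction with
        | mem w hw =>
          obtain ⟨h, rfl⟩ := hw
          refine Submodule.subset_span ⟨g * h, ?_⟩
          funext a
          simp [Perm.permRep_apply, mul_smul]
        | zero => simp
        | add a b _ _ ha hb => rw [map_add]; exact add_mem ha hb
        | smul c a _ ha => rw [map_smul]; exact Submodule.smul_mem _ _ ha }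
  have hxS : x ∈ S := Submodule.subset_span ⟨1, funext fun a => by simp [hx]⟩
  have hone : (fun _ : Ω => (1 : ZMod p)) ∈ S := by
    have h1 : (fun a => e.symm (σ⁻¹⁻¹ • a)) ∈ S := Submodule.subset_span ⟨σ⁻¹, rfl⟩
    convert S.sub_mem h1 hxS using 1
    funext a
    obtain ⟨j, rfl⟩ := e.surjective a
    simp [hx, he j]
  have hp5 := Perm.five_le hα hG
  have hsum : ∑ a, x a = 0 := by
    rw [hx, Equiv.sum_comp e.symm (fun j : ZMod p => j)]
    simpa using FiniteField.sum_pow_lt_card_sub_one (K := ZMod p) 1 (by rw [ZMod.card]; omega)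
  have h1 : (Cfsg.permConstants (ZMod p) G Ω).toSubmodule ≤ W.toSubmodule := by
    intro v hv
    obtain ⟨c, hc⟩ := Perm.mem_permConstants.1 hv
    have : v = c • (fun _ : Ω => (1 : ZMod p)) := funext fun a => by simp [hc a]
    rw [this]
    exact S.smul_mem c hone
  have h2 : W.toSubmodule ≤ (Cfsg.permSumZero (ZMod p) G Ω).toSubmodule := by
    change S ≤ _
    rw [hS, Submodule.span_le]
    rintro _ ⟨g, rfl⟩
    rw [SetLike.mem_coe, Perm.mem_permSumZero, ← hsum]
    exact Fintype.sum_equiv (MulAction.toPerm g⁻¹) _ _ fun _ => rfl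
  rcases Perm.heart_irreducible hα hG W h1 h2 with h | h
  · exfalso
    have hxW : x ∈ W.toSubmodule := hxS
    rw [h] at hxW
    obtain ⟨c, hc⟩ := Perm.mem_permConstants.1 hxW
    have h0 := hc (e 0)
    have h1' := hc (e 1)
    simp only [hx, Equiv.symm_apply_apply] at h0 h1'
    exact one_ne_zero (h1'.trans h0.symm)
  · have : u ∈ (Cfsg.permSumZero (ZMod p) G Ω).toSubmodule := Perm.mem_permSumZero.2 hu
    rwa [← h] at this

end Setup

section Orbits

variable {Ω : Type*} [Fintype Ω] {p : ℕ} [Fact p.Prime] {G : Subgroup (Equiv.Perm Ω)}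

/-- If `c` generates a subgroup of index two of the units, two representatives suffice. -/
theorem exists_reps (c : (ZMod p)ˣ) (hc : 2 * orderOf c = p - 1) :
    ∃ ν : ZMod p, ∀ d : ZMod p, d ≠ 0 → ∃ (i : ℕ) (r : ZMod p), (r = 1 ∨ r = ν) ∧ d = (c : ZMod p) ^ i * r := by
  classical
  have hidx : (Subgroup.zpowers c).index = 2 := by
    have h := (Subgroup.zpowers c).card_mul_index
    rw [Nat.card_zpowers, Nat.card_eq_fintype_card, ZMod.card_units, ← hc, mul_comm 2] at h
    exact Nat.eq_of_mul_eq_mul_left (orderOf_pos c) h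
  obtain ⟨ν, hν⟩ : ∃ ν : (ZMod p)ˣ, ν ∉ Subgroup.zpowers c := by
    by_contra h
    push Not at h
    rw [(Subgroup.eq_top_iff' _).2 h, Subgroup.index_top] at hidx
    omega
  refine ⟨(ν : ZMod p), fun d hd => ?_⟩
  set D : (ZMod p)ˣ := Units.mk0 d hd with hD
  by_cases h : D ∈ Subgroup.zpowers c
  · obtain ⟨i, hi⟩ := mem_powers_iff_mem_zpowers.2 h
    refine ⟨i, 1, Or.inl rfl, ?_⟩
    have := congrArg (fun w : (ZMod p)ˣ => (w : ZMod p)) hi
    simp only [hD, Units.val_pow_eq_pow_val, Units.val_mk0] at this
    rw [mul_one, this]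
  · have h' : D * ν⁻¹ ∈ Subgroup.zpowers c := by
      rw [Subgroup.mul_mem_iff_of_index_two hidx]
      simp [h, hν]
    obtain ⟨i, hi⟩ := mem_powers_iff_mem_zpowers.2 h'
    refine ⟨i, ν, Or.inr rfl, ?_⟩
    have := congrArg (fun w : (ZMod p)ˣ => (w : ZMod p) * (ν : ZMod p)) hi
    simp only [hD, Units.val_pow_eq_pow_val, Units.val_mul, Units.val_mk0, Units.inv_mul_cancel_right] at this
    exact this.symm

/-- A nonsoluble group of degree `p` with a dilation of order `(p - 1) / 2` has at most six orbits
on ordered triples. -/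
theorem card_orbits_triples_le_six [IsPretransitive G Ω] (hα : Fintype.card Ω = p)
    (hG : ¬ Group.IsSolvable G) (σ s : G) (e : ZMod p ≃ Ω) (he : Perm.IsCoord σ e)
    (c : (ZMod p)ˣ) (hc : 2 * orderOf c = p - 1) (hs : ∀ j, s • e j = e ((c : ZMod p) * j)) :
    Nat.card (orbitRel.Quotient G (Ω × Ω × Ω)) ≤ 6 := by
  classical
  obtain ⟨ν, hν⟩ := exists_reps c hc
  have hp5 := Perm.five_le hα hG
  have hc1 : (c : ZMod p) ≠ 1 := by
    intro h
    rw [Units.val_eq_one.1 h, orderOf_one] at hc
    omega
  have h2 := Perm.two_transitive hα hG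
  let O := orbitRel.Quotient G (Ω × Ω × Ω)
  let q : Ω → Ω → Ω → O := fun a b d => Quotient.mk'' (a, b, d)
  haveI : Fintype O := Fintype.ofFinite O
  have hq : ∀ (g : G) a b d, q (g • a) (g • b) (g • d) = q a b d := fun g a b d =>
    Quotient.sound ⟨g, rfl⟩
  let x : Ω → ZMod p := fun a => e.symm a
  let k : (O → ZMod p) → Ω → Ω → ZMod p := fun F b d => ∑ a, F (q a b d)
  let m : (Ω → ZMod p) → (O → ZMod p) → Ω → Ω → ZMod p := fun u F b d => ∑ a, u a * F (q a b d)
  have hk : ∀ F (g : G) b d, k F (g • b) (g • d) = k F b d := fun F g b d =>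
    (Fintype.sum_equiv (MulAction.toPerm g) _ _ fun a => by
      show F (q a b d) = F (q (g • a) (g • b) (g • d))
      rw [hq]).symm
  have hm : ∀ u F (g : G) b d, m (fun a => u (g⁻¹ • a)) F (g • b) (g • d) = m u F b d :=
    fun u F g b d => (Fintype.sum_equiv (MulAction.toPerm g) _ _ fun a => by
      show u a * F (q a b d) = u (g⁻¹ • g • a) * F (q (g • a) (g • b) (g • d))
      rw [hq, inv_smul_smul]).symm
  let Φ : (O → ZMod p) →ₗ[ZMod p] (Fin 6 → ZMod p) :=
    { toFun := fun F => ![k F (e 0) (e 0), k F (e 0) (e 1), m x F (e 0) (e 1), m x F (e 0) (e ν),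
        F (q (e 0) (e 0) (e 0)), F (q (e 0) (e 0) (e 1))]
      map_add' := fun F F' => by
        funext i
        fin_cases i <;> simp [k, m, Finset.sum_add_distrib, mul_add]
      map_smul' := fun t F => by
        funext i
        fin_cases i <;> simp [k, m, Finset.mul_sum, mul_left_comm] }
  have hinj : Function.Injective Φ := by
    rw [← LinearMap.ker_eq_bot, LinearMap.ker_eq_bot']
    intro F hF
    have e0 : k F (e 0) (e 0) = 0 := congrFun hF 0
    have e1 : k F (e 0) (e 1) = 0 := congrFun hF 1
    have e2 : m x F (e 0) (e 1) = 0 := congrFun hF 2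
    have e3 : m x F (e 0) (e ν) = 0 := congrFun hF 3
    have e4 : F (q (e 0) (e 0) (e 0)) = 0 := congrFun hF 4
    have e5 : F (q (e 0) (e 0) (e 1)) = 0 := congrFun hF 5
    have hk0 : ∀ b d, k F b d = 0 := by
      intro b d
      by_cases hbd : b = d
      · subst hbd
        obtain ⟨g, rfl⟩ := exists_smul_eq G (e 0) b
        rw [hk, e0]
      · obtain ⟨g, h1, h1'⟩ := MulAction.is_two_pretransitive_iff.1 h2
          (show e 0 ≠ e 1 from fun h => zero_ne_one (e.injective h)) hbd
        rw [← h1, ← h1', hk, e1]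
    have hshift : ∀ i j, m x F (e (i + 1)) (e (j + 1)) = m x F (e i) (e j) := by
      intro i j
      have h := hm x F σ (e i) (e j)
      rw [he i, he j] at h
      rw [← h]
      have hsum : ∀ b d, m (fun a => x (σ⁻¹ • a)) F b d = m x F b d := by
        intro b d
        have : ∀ a, x (σ⁻¹ • a) = x a - 1 := fun a => by
          obtain ⟨l, rfl⟩ := e.surjective a
          simp [x, he.inv_smul l]
        simp only [m, this, sub_mul, one_mul, Finset.sum_sub_distrib]
        rw [show ∑ a, F (q a b d) = 0 from hk0 b d, sub_zero]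
      rw [hsum]
    have hscale : ∀ i j, m x F (e ((c : ZMod p) * i)) (e ((c : ZMod p) * j)) =
        (c : ZMod p) * m x F (e i) (e j) := by
      intro i j
      have h := hm x F s (e i) (e j)
      rw [hs i, hs j] at h
      rw [← h]
      simp only [m, Finset.mul_sum]
      refine Finset.sum_congr rfl fun a _ => ?_
      obtain ⟨l, rfl⟩ := e.surjective a
      have hl : s⁻¹ • e l = e (((c⁻¹ : (ZMod p)ˣ) : ZMod p) * l) := by
        rw [inv_smul_eq_iff, hs, Units.mul_inv_cancel_left]
      simp only [x, hl, Equiv.symm_apply_apply]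
      rw [← mul_assoc, Units.mul_inv_cancel_left]
    have hbase : ∀ d, m x F (e 0) (e d) = 0 := by
      intro d
      by_cases hd : d = 0
      · subst hd
        have h := hscale 0 0
        rw [mul_zero] at h
        have h' : ((c : ZMod p) - 1) * m x F (e 0) (e 0) = 0 := by linear_combination -h
        exact (mul_eq_zero.1 h').resolve_left (sub_ne_zero.2 hc1)
      · obtain ⟨i, r, hr, rfl⟩ := hν d hd
        clear hd
        induction i with
        | zero =>
          rcases hr with rfl | rfl
          · simpa using e2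
          · simpa using e3
        | succ i ih =>
          have h := hscale 0 ((c : ZMod p) ^ i * r)
          rw [mul_zero, ih, mul_zero] at h
          rw [pow_succ', mul_assoc, h]
    have hmx : ∀ i j, m x F (e i) (e j) = 0 := by
      have key : ∀ (n : ℕ) d, m x F (e (n : ZMod p)) (e ((n : ZMod p) + d)) = 0 := by
        intro n
        induction n with
        | zero => intro d; simpa using hbase d
        | succ n ih =>
          intro d
          rw [Nat.cast_succ, show (n : ZMod p) + 1 + d = (n : ZMod p) + d + 1 by ring, hshift, ih]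
      intro i j
      have := key i.val (j - i)
      simpa using this
    have hall : ∀ u : Ω → ZMod p, ∑ a, u a = 0 → ∀ b d, m u F b d = 0 := by
      intro u hu
      have hmem := sumZero_le_span hα hG σ e he u hu
      clear hu
      induction hmem using Submodule.span_induction with
      | mem w hw =>
        obtain ⟨g, rfl⟩ := hw
        intro b d
        obtain ⟨b', rfl⟩ := (MulAction.toPerm g).surjective b
        obtain ⟨d', rfl⟩ := (MulAction.toPerm g).surjective d
        simp only [MulAction.toPerm_apply]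
        rw [show m (fun a => e.symm (g⁻¹ • a)) F (g • b') (g • d') = m x F b' d' from hm x F g b' d']
        obtain ⟨i, rfl⟩ := e.surjective b'
        obtain ⟨j, rfl⟩ := e.surjective d'
        exact hmx i j
      | zero => intro b d; simp [m]
      | add a b _ _ ha hb =>
        intro b' d'
        have h := congrArg₂ (· + ·) (ha b' d') (hb b' d')
        simpa [m, add_mul, Finset.sum_add_distrib] using h
      | smul t a _ ha =>
        intro b d
        have h := congrArg (t * ·) (ha b d)
        simpa [m, Finset.mul_sum, mul_assoc] using h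
    have hconst : ∀ a a' b d, F (q a b d) = F (q a' b d) := by
      intro a a' b d
      by_cases haa : a = a'
      · rw [haa]
      have h := hall (Pi.single a 1 - Pi.single a' 1) (by simp [Finset.sum_sub_distrib]) b d
      simpa [m, sub_mul, Finset.sum_sub_distrib, Pi.single_apply, sub_eq_zero] using h
    funext o
    induction o using Quotient.inductionOn' with
    | h t =>
      obtain ⟨a, b, d⟩ := t
      show F (q a b d) = 0
      rw [hconst a b b d]
      by_cases hbd : b = d
      · subst hbd
        obtain ⟨g, rfl⟩ := exists_smul_eq G (e 0) b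
        rw [hq, e4]
      · obtain ⟨g, h1, h1'⟩ := MulAction.is_two_pretransitive_iff.1 h2
          (show e 0 ≠ e 1 from fun h => zero_ne_one (e.injective h)) hbd
        rw [← h1, ← h1', hq, e5]
  have := LinearMap.finrank_le_finrank_of_injective hinj
  rwa [Module.finrank_fintype_fun_eq_card, Module.finrank_fin_fun, ← Nat.card_eq_fintype_card] at this

end Orbits

section Count

variable {G : Type*} [Group G] [Finite G] {Ω : Type*} [MulAction G Ω] [Finite Ω]

/-- A two-point stabiliser has at most two orbits on the remaining points if `G` has at most six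
orbits on triples. -/
theorem card_quotient_le_four (h6 : Nat.card (orbitRel.Quotient G (Ω × Ω × Ω)) ≤ 6) {α β : Ω}
    (hαβ : α ≠ β) :
    Nat.card (orbitRel.Quotient ↥(stabilizer G α ⊓ stabilizer G β) Ω) ≤ 4 := by
  classical
  set H := stabilizer G α ⊓ stabilizer G β with hH
  let Q := orbitRel.Quotient ↥H Ω
  let R := {r : Q // r ≠ Quotient.mk'' α ∧ r ≠ Quotient.mk'' β}
  let j : Fin 4 ⊕ R → Ω × Ω × Ω := Sum.elim ![(α, α, α), (α, α, β), (α, β, α), (β, α, α)]
    (fun r => (α, β, r.1.out))
  let Φ : Fin 4 ⊕ R → orbitRel.Quotient G (Ω × Ω × Ω) := fun z => Quotient.mk'' (j z)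
  have hout : ∀ r : R, r.1.out ≠ α ∧ r.1.out ≠ β := fun r =>
    ⟨fun h => r.2.1 (by rw [← Quotient.out_eq r.1]; exact congrArg Quotient.mk'' h),
      fun h => r.2.2 (by rw [← Quotient.out_eq r.1]; exact congrArg Quotient.mk'' h)⟩
  have hinj : Function.Injective Φ := by
    intro z z' h
    obtain ⟨g, hg⟩ : (orbitRel G (Ω × Ω × Ω)).r (j z) (j z') := Quotient.exact h
    have hiff : ∀ u v : Ω, (g • u = g • v ↔ u = v) := fun u v => (MulAction.injective g).eq_iff
    have hab : ((j z).1 = (j z).2.1 ↔ (j z').1 = (j z').2.1) := by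
      rw [← hg]; exact hiff _ _
    have hac : ((j z).1 = (j z).2.2 ↔ (j z').1 = (j z').2.2) := by
      rw [← hg]; exact hiff _ _
    have hbc : ((j z).2.1 = (j z).2.2 ↔ (j z').2.1 = (j z').2.2) := by
      rw [← hg]; exact hiff _ _
    rcases z with i | r <;> rcases z' with i' | r'
    · congr 1
      fin_cases i <;> fin_cases i' <;> simp [j, hαβ, hαβ.symm] at hab hac hbc ⊢
    · exfalso
      have := hout r'
      fin_cases i <;> simp [j, hαβ, hαβ.symm, this.1.symm, this.2.symm] at hab hac hbc
    · exfalso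
      have := hout r
      fin_cases i' <;> simp [j, hαβ, hαβ.symm, this.1.symm, this.2.symm] at hab hac hbc
    · congr 1
      apply Subtype.ext
      rw [← Quotient.out_eq r.1, ← Quotient.out_eq r'.1]
      have h1 : g • α = α := congrArg Prod.fst hg
      have h2 : g • β = β := congrArg (fun t => t.2.1) hg
      have h3 : g • r'.1.out = r.1.out := congrArg (fun t => t.2.2) hg
      exact Quotient.sound ⟨⟨g, mem_stabilizer_iff.2 h1, mem_stabilizer_iff.2 h2⟩, h3⟩
  have h1 := Nat.card_le_card_of_injective Φ hinj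
  rw [Nat.card_sum, Nat.card_fin] at h1
  have hR : Nat.card Q ≤ 2 + Nat.card R := by
    let ψ : Q → Fin 2 ⊕ R := fun r => if ha : r = Quotient.mk'' α then Sum.inl 0 else
      if hb : r = Quotient.mk'' β then Sum.inl 1 else Sum.inr ⟨r, ha, hb⟩
    have hψ : Function.Injective ψ := by
      intro r r' hr
      simp only [ψ] at hr
      split_ifs at hr <;> first | exact congrArg Subtype.val (Sum.inr_injective hr) | simp_all
    have := Nat.card_le_card_of_injective ψ hψ
    rwa [Nat.card_sum, Nat.card_fin] at this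
  show Nat.card Q ≤ 4
  omega

/-- In a doubly transitive group either some two-point stabiliser has at least four orbits, or the
group is triply transitive. -/
theorem three_transitive_or (h2 : IsMultiplyPretransitive G Ω 2)
    (h4 : ∀ α β : Ω, α ≠ β → Nat.card (orbitRel.Quotient ↥(stabilizer G α ⊓ stabilizer G β) Ω) ≤ 4) :
    IsMultiplyPretransitive G Ω 3 ∨
    ∀ α β : Ω, α ≠ β →
      Nat.card (orbitRel.Quotient ↥(stabilizer G α ⊓ stabilizer G β) Ω) = 4 := by
  classical
  by_contra hcon
  push Not at hcon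
  obtain ⟨h3, α, β, hαβ, hne⟩ := hcon
  refine h3 ?_
  have key : ∀ c c' : Ω, c ≠ α → c ≠ β → c' ≠ α → c' ≠ β →
      ∃ g : G, g • α = α ∧ g • β = β ∧ g • c = c' := by
    intro c c' hca hcb hca' hcb'
    by_contra hno
    apply hne
    refine le_antisymm (h4 α β hαβ) ?_
    let v : Fin 4 → orbitRel.Quotient ↥(stabilizer G α ⊓ stabilizer G β) Ω :=
      fun i => Quotient.mk'' (![α, β, c, c'] i)
    have hv : Function.Injective v := by
      intro i i' h
      obtain ⟨g, hg⟩ : (orbitRel ↥(stabilizer G α ⊓ stabilizer G β) Ω).r (![α, β, c, c'] i)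
          (![α, β, c, c'] i') := Quotient.exact h
      have ga : (g : G) • α = α := g.2.1
      have gb : (g : G) • β = β := g.2.2
      have hg' : (g : G) • (![α, β, c, c'] i') = ![α, β, c, c'] i := hg
      have hi : (g : G)⁻¹ • α = α ∧ (g : G)⁻¹ • β = β :=
        ⟨inv_smul_eq_iff.2 ga.symm, inv_smul_eq_iff.2 gb.symm⟩
      fin_cases i <;> fin_cases i' <;> simp at hg' ⊢
      all_goals
        first
        | exact hαβ (hg'.symm.trans gb)
        | exact hαβ (ga.symm.trans hg')
        | exact hca ((MulAction.injective (g : G)) (hg'.trans ga.symm))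
        | exact hcb ((MulAction.injective (g : G)) (hg'.trans gb.symm))
        | exact hca' ((MulAction.injective (g : G)) (hg'.trans ga.symm))
        | exact hcb' ((MulAction.injective (g : G)) (hg'.trans gb.symm))
        | exact hca (hg'.symm.trans ga)
        | exact hcb (hg'.symm.trans gb)
        | exact hca' (hg'.symm.trans ga)
        | exact hcb' (hg'.symm.trans gb)
        | exact hno ⟨(g : G), ga, gb, hg'⟩
        | exact hno ⟨(g : G)⁻¹, hi.1, hi.2, inv_smul_eq_iff.2 hg'.symm⟩
    simpa using Nat.card_le_card_of_injective v hv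
  refine ⟨fun u w => ?_⟩
  have hpair : ∀ w : Fin 3 ↪ Ω, ∃ g : G, g • w 0 = α ∧ g • w 1 = β := fun w =>
    MulAction.is_two_pretransitive_iff.1 h2 (w.injective.ne (by decide)) hαβ
  obtain ⟨g1, a1, b1⟩ := hpair u
  obtain ⟨g2, a2, b2⟩ := hpair w
  have hd : ∀ (g : G) (w : Fin 3 ↪ Ω), g • w 0 = α → g • w 1 = β → g • w 2 ≠ α ∧ g • w 2 ≠ β :=
    fun g w ha hb => ⟨fun h => w.injective.ne (show (2 : Fin 3) ≠ 0 by decide)
        (MulAction.injective g (h.trans ha.symm)),
      fun h => w.injective.ne (show (2 : Fin 3) ≠ 1 by decide)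
        (MulAction.injective g (h.trans hb.symm))⟩
  obtain ⟨g, ga, gb, gc⟩ := key _ _ (hd g1 u a1 b1).1 (hd g1 u a1 b1).2 (hd g2 w a2 b2).1 (hd g2 w a2 b2).2
  refine ⟨g2⁻¹ * g * g1, ?_⟩
  ext i
  simp only [Function.Embedding.smul_apply, mul_smul, inv_smul_eq_iff]
  fin_cases i
  · simp [a1, ga, a2]
  · simp [b1, gb, b2]
  · simpa using gc

end Count

section Dilation

variable {Ω : Type*} [Fintype Ω] {p : ℕ} [Fact p.Prime] {G : Subgroup (Equiv.Perm Ω)}

/-- A Sylow normaliser of order `p (p - 1) / 2` yields a dilation of order `(p - 1) / 2`. -/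
theorem exists_dilation (hα : Fintype.card Ω = p) [IsPretransitive G Ω] (hp : 3 < p) (P : Sylow p G)
    (hN : 2 * Nat.card (Subgroup.normalizer ((P : Subgroup G) : Set G)) = p * (p - 1)) :
    ∃ (σ s : G) (e : ZMod p ≃ Ω) (c : (ZMod p)ˣ), Perm.IsCoord σ e ∧ 2 * orderOf c = p - 1 ∧
      ∀ j, s • e j = e ((c : ZMod p) * j) := by
  classical
  have hpp := (Fact.out : p.Prime)
  have hPcard : Nat.card (P : Subgroup G) = p := by
    obtain ⟨σ₀, hσ₀⟩ := Perm.exists_orderOf_eq (G := G) hα
    obtain ⟨n, hn⟩ := P.isPGroup'.exists_card_eq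
    rcases n with _ | _ | n
    · exfalso
      have hdvd : p ∣ Nat.card G := hσ₀ ▸ orderOf_dvd_natCard σ₀
      rw [← (P : Subgroup G).card_mul_index, hn, pow_zero, one_mul] at hdvd
      exact P.not_dvd_index hdvd
    · simpa using hn
    · exfalso
      refine Perm.not_sq_dvd (G := G) hα (dvd_trans ?_ (Subgroup.card_subgroup_dvd_card (P : Subgroup G)))
      rw [hn]; exact pow_dvd_pow p (by omega)
  obtain ⟨σP, hσP⟩ := exists_prime_orderOf_dvd_card' (G := (P : Subgroup G)) p (by rw [hPcard])
  have hσ : orderOf (σP : G) = p := by rwa [Subgroup.orderOf_coe]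
  set σ : G := (σP : G) with hσdef
  have hne : Nonempty Ω := Fintype.card_pos_iff.1 (by rw [hα]; exact hpp.pos)
  obtain ⟨a⟩ := hne
  obtain ⟨e, he, -⟩ := Perm.exists_isCoord hα hσ a
  have hz : Subgroup.zpowers σ = (P : Subgroup G) :=
    Subgroup.eq_of_le_of_card_ge (Subgroup.zpowers_le.2 σP.2) (by rw [Nat.card_zpowers, hσ, hPcard])
  set N := Subgroup.normalizer ((P : Subgroup G) : Set G) with hNdef
  have haff : ∀ g : N, ∀ j, (g : G) • e j =
      e ((e.symm ((g : G) • e 1) - e.symm ((g : G) • e 0)) * j + e.symm ((g : G) • e 0)) := by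
    intro g
    have hconj : (g : G) * σ * (g : G)⁻¹ ∈ Subgroup.zpowers σ := by
      rw [hz]
      exact (Subgroup.mem_normalizer_iff.1 g.2 _).1 σP.2
    obtain ⟨k, hk⟩ := mem_powers_iff_mem_zpowers.2 hconj
    have h := Perm.affine_of_conj_eq_pow he hk.symm
    intro j
    have h1 := h 1
    rw [mul_one] at h1
    conv_lhs => rw [h j]
    rw [h1, Equiv.symm_apply_apply, add_sub_cancel_right]
  let f : N →* ZMod p :=
    { toFun := fun g => e.symm ((g : G) • e 1) - e.symm ((g : G) • e 0)
      map_one' := by simp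
      map_mul' := fun g g' => by
        have h1 : ((g * g' : N) : G) • e 1 = (g : G) • (g' : G) • e 1 := by
          rw [Subgroup.coe_mul, mul_smul]
        have h0 : ((g * g' : N) : G) • e 0 = (g : G) • (g' : G) • e 0 := by
          rw [Subgroup.coe_mul, mul_smul]
        rw [h1, h0, haff g' 1, haff g' 0, haff g _, haff g (_ * 0 + _)]
        simp only [Equiv.symm_apply_apply]
        ring }
  set ψ := f.toHomUnits with hψ
  have hkerle : Nat.card ψ.ker ≤ p := by
    refine le_trans (Nat.card_le_card_of_injective (fun g : ψ.ker => e.symm (((g : N) : G) • e 0)) ?_)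
      (by rw [Nat.card_eq_fintype_card, ZMod.card])
    intro g g' h
    have hslope : ∀ g : ψ.ker, f (g : N) = 1 := fun g => by
      have := g.2
      rw [MonoidHom.mem_ker, Units.ext_iff] at this
      exact this
    refine Subtype.ext (Subtype.ext (Subtype.ext (Equiv.ext fun y => ?_)))
    obtain ⟨j, rfl⟩ := e.surjective y
    change ((g : N) : G) • e j = ((g' : N) : G) • e j
    rw [haff (g : N) j, haff (g' : N) j]
    have h1 := hslope g
    have h2 := hslope g'
    simp only [f, MonoidHom.coe_mk, OneHom.coe_mk] at h1 h2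
    simp only at h
    rw [h1, h2, h]
  have hσN : σ ∈ N := Subgroup.le_normalizer σP.2
  have hpker : p ∣ Nat.card ψ.ker := by
    have hmem : (⟨σ, hσN⟩ : N) ∈ ψ.ker := by
      rw [MonoidHom.mem_ker, Units.ext_iff]
      change e.symm (σ • e 1) - e.symm (σ • e 0) = 1
      rw [he, he]
      simp
    have := orderOf_dvd_natCard (⟨(⟨σ, hσN⟩ : N), hmem⟩ : ψ.ker)
    rwa [Subgroup.orderOf_mk, Subgroup.orderOf_mk, hσ] at this
  have hker : Nat.card ψ.ker = p := le_antisymm hkerle (Nat.le_of_dvd Nat.card_pos hpker)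
  have hran : 2 * Nat.card ψ.range = p - 1 := by
    have h := ψ.ker.card_mul_index
    rw [Subgroup.index_ker, hker] at h
    rw [← h] at hN
    have : p * (2 * Nat.card ψ.range) = p * (p - 1) := by rw [← hN]; ring
    exact Nat.eq_of_mul_eq_mul_left hpp.pos this
  obtain ⟨⟨c, g, hg⟩, hgen⟩ := IsCyclic.exists_generator (α := ψ.range)
  have hord : orderOf c = Nat.card ψ.range := by
    rw [← orderOf_eq_card_of_forall_mem_zpowers hgen]
    exact Subgroup.orderOf_coe (⟨c, g, hg⟩ : ψ.range)
  have hgc : f g = (c : ZMod p) := by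
    rw [← hg]; rfl
  have hcne : (c : ZMod p) ≠ 1 := by
    intro h
    rw [Units.val_eq_one.1 h, orderOf_one] at hord
    omega
  set B : ZMod p := e.symm ((g : G) • e 0) with hB
  refine ⟨σ, σ ^ (-B).val * (g : G), e, c, he, by rw [hord]; exact hran, fun j => ?_⟩
  rw [mul_smul, haff g j, Perm.IsCoord.pow_smul he]
  congr 1
  have : e.symm ((g : G) • e 1) - e.symm ((g : G) • e 0) = (c : ZMod p) := hgc
  rw [this, ZMod.natCast_val, ZMod.cast_id, ← hB]
  ring

end Dilation

end CfsgLib.PrimeHalf
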