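import Cfsg.Agent.Lib.Perm.PrimeDegree

/-!
Subgroups of prime index in transitive groups of prime degree with a negation in coordinates.
-/

namespace CfsgLib.Perm

open MulAction
open scoped Pointwise

variable {α : Type*} [Fintype α] {p : ℕ} [Fact p.Prime] {G : Subgroup (Equiv.Perm α)}

/-- A symmetric difference set in `ZMod p` is trivial. -/
theorem symmetric_difference_set_trivial (hp2 : p ≠ 2) (B : Finset (ZMod p))
    (hsym : ∀ j ∈ B, -j ∈ B) (lam : ℕ)
    (hlam : ∀ d : ZMod p, d ≠ 0 → (B.filter fun j => j + d ∈ B).card = lam) :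
    B ⊆ {0} ∨ Finset.univ.erase 0 ⊆ B := by
  classical
  have hp := (Fact.out : p.Prime)
  have h20 : (2 : ZMod p) ≠ 0 := by
    intro h
    have h' : ((2 : ℕ) : ZMod p) = 0 := by exact_mod_cast h
    rw [ZMod.natCast_eq_zero_iff] at h'
    exact hp2 ((Nat.prime_dvd_prime_iff_eq hp Nat.prime_two).1 h')
  have hpar : ∀ c : ZMod p, c ≠ 0 → ((lam : ZMod 2) = if c ∈ B then 1 else 0) := by
    intro c hc
    have hd : (-(2 * c)) ≠ 0 := neg_ne_zero.2 (mul_ne_zero h20 hc)
    set S := B.filter fun j => j + -(2 * c) ∈ B with hS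
    have hcS : ∀ j, j ∈ S → 2 * c - j ∈ S := by
      intro j hj
      simp only [hS, Finset.mem_filter] at hj ⊢
      have h1 := hsym _ hj.2
      have h2 := hsym _ hj.1
      refine ⟨?_, ?_⟩
      · rwa [show 2 * c - j = -(j + -(2 * c)) by ring]
      · rwa [show 2 * c - j + -(2 * c) = -j by ring]
    have hcmem : c ∈ S ↔ c ∈ B := by
      simp only [hS, Finset.mem_filter]
      refine ⟨fun h => h.1, fun h => ⟨h, ?_⟩⟩
      rw [show c + -(2 * c) = -c by ring]
      exact hsym _ h
    have hzero : ∑ _j ∈ S.erase c, (1 : ZMod 2) = 0 := by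
      refine Finset.sum_involution (fun j _ => 2 * c - j) (fun _ _ => by decide) ?_ ?_ ?_
      · intro j hj _ h
        apply (Finset.mem_erase.1 hj).1
        apply mul_left_cancel₀ h20
        linear_combination (-1 : ZMod p) * h
      · intro j hj
        refine Finset.mem_erase.2 ⟨fun h => (Finset.mem_erase.1 hj).1 ?_, hcS j (Finset.mem_erase.1 hj).2⟩
        linear_combination (-1 : ZMod p) * h
      · intro j _
        ring
    have hsum : ((S.card : ℕ) : ZMod 2) = ∑ _j ∈ S, (1 : ZMod 2) := by simp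
    rw [hlam _ hd] at hsum
    rw [hsum]
    by_cases hcB : c ∈ B
    · rw [← Finset.add_sum_erase _ _ (hcmem.2 hcB), hzero, if_pos hcB, add_zero]
    · rw [← Finset.erase_eq_of_notMem (mt hcmem.1 hcB), hzero, if_neg hcB]
  by_cases h1 : (lam : ZMod 2) = 1
  · refine Or.inr fun c hc => ?_
    have := hpar c (Finset.ne_of_mem_erase hc)
    rw [h1] at this
    by_contra hcB
    rw [if_neg hcB] at this
    exact one_ne_zero this
  · refine Or.inl fun c hc => ?_
    by_contra hc0
    rw [Finset.mem_singleton] at hc0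
    have := hpar c hc0
    rw [if_pos hc] at this
    exact h1 this

theorem not_dvd_card_of_index (hα : Fintype.card α = p) {H : Subgroup G} (hH : H.index = p) :
    ¬ p ∣ Nat.card H := fun h =>
  not_sq_dvd (G := G) hα (by rw [← H.card_mul_index, hH, pow_two]; exact Nat.mul_dvd_mul_right h p)

theorem card_stabilizer_eq (hα : Fintype.card α = p) [IsPretransitive G α] {H : Subgroup G}
    (hH : H.index = p) (a : α) : Nat.card (stabilizer G a) = Nat.card H := by
  have h1 := (stabilizer G a).card_mul_index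
  rw [index_stabilizer_of_transitive, Nat.card_eq_fintype_card (α := α), hα] at h1
  have h2 := H.card_mul_index
  rw [hH] at h2
  exact Nat.eq_of_mul_eq_mul_right (Fact.out : p.Prime).pos (h1.trans h2.symm)

theorem eq_stabilizer_of_le (hα : Fintype.card α = p) [IsPretransitive G α] {H : Subgroup G}
    (hH : H.index = p) {a : α} (h : H ≤ stabilizer G a) : H = stabilizer G a :=
  Subgroup.eq_of_le_of_card_ge h (card_stabilizer_eq hα hH a).le

variable {σ s : G} {e : ZMod p ≃ α}

theorem index_solvable_case (hα : Fintype.card α = p) (hp2 : p ≠ 2) [IsPretransitive G α]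
    (hsolv : Group.IsSolvable G) (hσ : orderOf σ = p) (he : IsCoord σ e) (hs1 : s ≠ 1)
    (hss : s * s = 1) (H : Subgroup G) (hH : H.index = p) : ∃ a : α, H = stabilizer G a := by
  have hp := (Fact.out : p.Prime)
  have hndvd := not_dvd_card_of_index hα hH
  have hH1 : H ≠ ⊥ := by
    intro h
    have hord : orderOf s = 2 := orderOf_eq_prime (by rw [pow_two]; exact hss) hs1
    have h2 : orderOf s ∣ Nat.card G := orderOf_dvd_natCard s
    rw [← H.card_mul_index, hH, h, Subgroup.card_bot, one_mul, hord] at h2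
    exact hp2 ((Nat.prime_dvd_prime_iff_eq Nat.prime_two hp).1 h2).symm
  have transl : ∀ x ∈ H, ∀ B : ZMod p, (∀ j, x • e j = e (j + B)) → B = 0 := by
    intro x hx B hB
    by_contra hB0
    have hpow : ∀ k : ℕ, ∀ j, x ^ k • e j = e (j + k * B) := by
      intro k
      induction k with
      | zero => simp
      | succ k ih =>
        intro j
        rw [pow_succ', mul_smul, ih, hB]
        congr 1; push_cast; ring
    apply hndvd
    have hxp : (⟨x, hx⟩ : H) ^ p = 1 := by
      refine Subtype.ext (Subtype.ext (Equiv.ext fun y => ?_))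
      obtain ⟨j, rfl⟩ := e.surjective y
      change (x ^ p : G) • e j = e j
      rw [hpow, ZMod.natCast_self, zero_mul, add_zero]
    have hne : (⟨x, hx⟩ : H) ≠ 1 := fun h => by
      have h' : x = 1 := congrArg Subtype.val h
      have := hB 0
      rw [h', one_smul, zero_add] at this
      exact hB0 (e.injective this).symm
    exact (orderOf_eq_prime hxp hne) ▸ orderOf_dvd_natCard _
  obtain ⟨h, hh, hh1⟩ := H.ne_bot_iff_exists_ne_one.1 hH1 |> fun ⟨⟨h, hh⟩, hne⟩ =>
    (⟨h, hh, fun e => hne (Subtype.ext e)⟩ : ∃ h, h ∈ H ∧ h ≠ 1)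
  obtain ⟨A, B, hA⟩ := affine_of_isSolvable hα hsolv hσ he h
  have hA1 : A ≠ 1 := by
    rintro rfl
    simp only [one_mul] at hA
    have hB := transl h hh B hA
    apply hh1
    refine Subtype.ext (Equiv.ext fun y => ?_)
    obtain ⟨j, rfl⟩ := e.surjective y
    have h' := hA j
    rw [hB, add_zero] at h'
    simpa [Subgroup.smul_def] using h'
  have hA1' : 1 - A ≠ 0 := sub_ne_zero.2 (Ne.symm hA1)
  refine ⟨e (B / (1 - A)), eq_stabilizer_of_le hα hH fun g hg => ?_⟩
  set x₀ := B / (1 - A) with hx₀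
  have hx : x₀ * (1 - A) = B := div_mul_cancel₀ _ hA1'
  obtain ⟨C, D, hC⟩ := affine_of_isSolvable hα hsolv hσ he g
  -- the commutator is a translation lying in `H`
  have hcomm : A * D + B = C * B + D := by
    have hT : ∀ j, (g * h * (h * g)⁻¹) • e j = e (j + (C * B + D - (A * D + B))) := by
      intro j
      have hC0 : C ≠ 0 := by
        rintro rfl
        have := e.injective (MulAction.injective g ((hC 0).trans (by rw [hC]; simp) :
          g • e 0 = g • e 1))
        exact zero_ne_one this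
      have hA0 : A ≠ 0 := by
        rintro rfl
        have := e.injective (MulAction.injective h ((hA 0).trans (by rw [hA]; simp) :
          h • e 0 = h • e 1))
        exact zero_ne_one this
      have hinv : (h * g)⁻¹ • e j = e ((j - (A * D + B)) / (A * C)) := by
        rw [inv_smul_eq_iff, mul_smul, hC, hA]
        congr 1
        field_simp
        ring
      rw [mul_smul, hinv, mul_smul, hA, hC]
      congr 1
      field_simp
      ring
    have := transl _ (H.mul_mem (H.mul_mem hg hh) (H.inv_mem (H.mul_mem hh hg))) _ hT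
    linear_combination -this
  rw [mem_stabilizer_iff, hC]
  congr 1
  apply mul_right_cancel₀ hA1'
  linear_combination (C - 1) * hx - hcomm

theorem index_nonsolvable_aux (hα : Fintype.card α = p) (hp2 : p ≠ 2) [IsPretransitive G α]
    (hG : ¬ Group.IsSolvable G) (hσ : orderOf σ = p) (he : IsCoord σ e)
    (hs : ∀ j : ZMod p, s • e j = e (-j))
    (H : Subgroup G) (hH : H.index = p) (hsH : s ∈ H) : ∃ a : α, H = stabilizer G a := by
  classical
  have hp := (Fact.out : p.Prime)
  have hndvd := not_dvd_card_of_index hα hH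
  let X := G ⧸ H
  let x₀ : X := ((1 : G) : X)
  let _ : Fintype X := Fintype.ofFinite X
  have hX : Fintype.card X = p := by rw [← Nat.card_eq_fintype_card, ← hH]; rfl
  have hmem : ∀ g : G, g • x₀ = x₀ ↔ g ∈ H := by
    intro g
    change ((g * 1 : G) : G ⧸ H) = ((1 : G) : G ⧸ H) ↔ g ∈ H
    rw [mul_one, QuotientGroup.eq, mul_one, inv_mem_iff]
  -- the action on `X` is faithful
  let ψ : G →* Equiv.Perm X := MulAction.toPermHom G X
  have hψ : Function.Injective ψ := by
    rw [← MonoidHom.ker_eq_bot_iff]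
    by_contra hne
    have := normal_isPretransitive hα ψ.ker hne
    refine hndvd (dvd_trans ?_ (Subgroup.card_dvd_of_le (H := ψ.ker) (K := H) fun g hg => ?_))
    · obtain ⟨a⟩ : Nonempty α := ⟨e 0⟩
      rw [← (stabilizer ψ.ker a).card_mul_index, index_stabilizer_of_transitive,
        Nat.card_eq_fintype_card (α := α), hα]
      exact dvd_mul_left _ _
    · rw [← hmem]
      exact Equiv.ext_iff.1 (MonoidHom.mem_ker.1 hg) x₀
  have : IsPretransitive ψ.range X := by
    constructor
    intro x y
    obtain ⟨g, hg⟩ := MulAction.exists_smul_eq G x y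
    exact ⟨⟨ψ g, g, rfl⟩, hg⟩
  have h2X : ∀ x y : X, x ≠ x₀ → y ≠ x₀ → ∃ h ∈ H, h • x = y := by
    intro x y hx hy
    have hns : ¬ Group.IsSolvable ψ.range := by
      intro hsolv
      exact hG (Group.isSolvable_of_isSolvable_injective (f := ψ.rangeRestrict)
        (fun a b h => hψ (congrArg Subtype.val h)))
    obtain ⟨⟨_, g, rfl⟩, h1, h2⟩ :=
      is_two_pretransitive_iff.1 (two_transitive hX hns) (Ne.symm hx) (Ne.symm hy)
    exact ⟨g, (hmem g).1 h1, h2⟩
  -- an equivariant isomorphism between the two permutation modules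
  let a := e 0
  have hcop : ((Nat.card (stabilizer G a) : ℕ) : ZMod p) ≠ 0 := by
    rw [card_stabilizer_eq hα hH a]
    exact fun h => hndvd ((ZMod.natCast_eq_zero_iff _ _).1 h)
  let _ : Fintype (stabilizer G a) := Fintype.ofFinite _
  let v₀ : X → ZMod p := fun y =>
    ((Finset.univ.filter fun g : stabilizer G a => (g : G) • x₀ = y).card : ZMod p)
      / (Nat.card (stabilizer G a) : ZMod p)
  have hv0sum : ∑ y, v₀ y = 1 := by
    simp only [v₀, ← Finset.sum_div, ← Nat.cast_sum]
    rw [← Finset.card_eq_sum_card_fiberwise (fun g _ => Finset.mem_univ _), Finset.card_univ,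
      ← Nat.card_eq_fintype_card]
    exact div_self hcop
  have hv0inv : ∀ g ∈ stabilizer G a, ∀ y, v₀ (g • y) = v₀ y := by
    intro g hg y
    simp only [v₀]
    congr 2
    refine Finset.card_equiv (Equiv.mulLeft ⟨g, hg⟩⁻¹) fun x => ?_
    simp [Subgroup.coe_mul, mul_smul, inv_smul_eq_iff]
  choose gx hgx using fun x : α => MulAction.exists_smul_eq G a x
  let A : α → X → ZMod p := fun x y => v₀ ((gx x)⁻¹ • y)
  have hA : ∀ (g : G) x y, A (g • x) (g • y) = A x y := by
    intro g x y
    simp only [A]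
    have hst : (gx (g • x))⁻¹ * g * gx x ∈ stabilizer G a := by
      rw [mem_stabilizer_iff, mul_smul, mul_smul, hgx, inv_smul_eq_iff, hgx]
    rw [← hv0inv _ hst ((gx x)⁻¹ • y)]
    simp [mul_smul]
  let T := kernelMap A
  have hsurj : LinearMap.range T = ⊤ := by
    by_contra hne
    have hle := le_sumZero_of_ne_top (G := G) (f := 1) (by rw [hX, pow_one]) (LinearMap.range T)
      (fun g w ⟨v, hv⟩ => ⟨Cfsg.permRep (ZMod p) G α g v, by
        rw [← hv]; exact kernelMap_permRep hA g v⟩) hne
    have h1 := hle ⟨Pi.single a 1, rfl⟩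
    rw [mem_permSumZero, show T (Pi.single a 1) = A a from kernelMap_single A a] at h1
    have h2 : ∑ y, A a y = 1 := by
      rw [← hv0sum]
      exact Fintype.sum_equiv (MulAction.toPerm (gx a)⁻¹) _ _ (fun y => rfl)
    rw [h2] at h1
    exact one_ne_zero h1
  have hinj : Function.Injective T :=
    (LinearMap.injective_iff_surjective_of_finrank_eq_finrank
      (by rw [Module.finrank_fintype_fun_eq_card, Module.finrank_fintype_fun_eq_card, hα, hX])).2
      (LinearMap.range_eq_top.1 hsurj)
  -- `H` has exactly two orbits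
  have hTH : ∀ v : α → ZMod p, (∀ h ∈ H, ∀ x, v (h • x) = v x) →
      ∀ h ∈ H, ∀ y, T v (h • y) = T v y := by
    intro v hv h hh y
    have hfix : Cfsg.permRep (ZMod p) G α h⁻¹ v = v := funext fun x => by
      rw [permRep_apply, inv_inv, hv h hh]
    have := congrFun (kernelMap_permRep hA h⁻¹ v) y
    rw [hfix, permRep_apply, inv_inv] at this
    exact this.symm
  obtain ⟨x₁, hx₁⟩ := Fintype.exists_ne_of_one_lt_card (by rw [hX]; exact hp.one_lt) x₀
  let cls : α → Set α := fun b => {x | ∃ h ∈ H, h • b = x}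
  have hcls : ∀ b, ∀ h ∈ H, ∀ x, h • x ∈ cls b ↔ x ∈ cls b := by
    intro b h hh x
    constructor
    · rintro ⟨k, hk, hkx⟩; exact ⟨h⁻¹ * k, H.mul_mem (H.inv_mem hh) hk, by rw [mul_smul, hkx, inv_smul_smul]⟩
    · rintro ⟨k, hk, rfl⟩; exact ⟨h * k, H.mul_mem hh hk, mul_smul _ _ _⟩
  have htwo : ∀ b₁ b₂ b₃ : α, b₂ ∉ cls b₁ → b₃ ∉ cls b₁ → b₃ ∈ cls b₂ := by
    intro b₁ b₂ b₃ h12 h13
    by_contra h23
    have hself : ∀ b, b ∈ cls b := fun b => ⟨1, H.one_mem, one_smul _ _⟩
    have hsymm : ∀ b c, c ∈ cls b → b ∈ cls c := by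
      rintro b c ⟨k, hk, rfl⟩; exact ⟨k⁻¹, H.inv_mem hk, inv_smul_smul _ _⟩
    let bs : Fin 3 → α := ![b₁, b₂, b₃]
    let ind : Fin 3 → α → ZMod p := fun i x => if x ∈ cls (bs i) then 1 else 0
    let L : (Fin 3 → ZMod p) →ₗ[ZMod p] ZMod p × ZMod p :=
      ((LinearMap.proj x₀).prod (LinearMap.proj x₁)) ∘ₗ T ∘ₗ Fintype.linearCombination (ZMod p) ind
    have hker : LinearMap.ker L ≠ ⊥ := LinearMap.ker_ne_bot_of_finrank_lt (by
      simp [Module.finrank_prod])
    obtain ⟨c, hc, hc0⟩ := Submodule.exists_mem_ne_zero_of_ne_bot hker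
    let v := Fintype.linearCombination (ZMod p) ind c
    have hvH : ∀ h ∈ H, ∀ x, v (h • x) = v x := by
      intro h hh x
      simp [v, Fintype.linearCombination_apply, ind, hcls _ h hh]
    have hTv : T v = 0 := by
      funext y
      have h01 : T v x₀ = 0 ∧ T v x₁ = 0 := by
        rw [LinearMap.mem_ker] at hc
        exact ⟨congrArg Prod.fst hc, congrArg Prod.snd hc⟩
      by_cases hy : y = x₀
      · rw [hy]; exact h01.1
      · obtain ⟨h, hh, rfl⟩ := h2X x₁ y hx₁ hy
        rw [hTH v hvH h hh]; exact h01.2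
    have hv0 : v = 0 := hinj (by rw [hTv, map_zero])
    apply hc0
    funext i
    have hvi := congrFun hv0 (bs i)
    have hoff : ∀ j, j ≠ i → bs i ∉ cls (bs j) := by
      intro j hj
      fin_cases i <;> fin_cases j <;> first | exact absurd rfl hj | simp [bs]
      · exact fun h => h12 (hsymm _ _ h)
      · exact fun h => h13 (hsymm _ _ h)
      · exact h12
      · exact fun h => h23 (hsymm _ _ h)
      · exact h13
      · exact h23
    rw [Pi.zero_apply] at hvi
    simp only [v, Fintype.linearCombination_apply, Finset.sum_apply, Pi.smul_apply,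
      smul_eq_mul] at hvi
    rw [Finset.sum_eq_single i] at hvi
    · simpa [ind, hself] using hvi
    · intro j _ hj; simp [ind, hoff j hj]
    · simp
  -- the orbit of `e 0`, as a subset of `ZMod p`
  let B : Finset (ZMod p) := Finset.univ.filter fun j => e j ∈ cls (e 0)
  have hB0 : (0 : ZMod p) ∈ B := by
    simp only [B, Finset.mem_filter, Finset.mem_univ, true_and]
    exact ⟨1, H.one_mem, one_smul _ _⟩
  have hsym : ∀ j ∈ B, -j ∈ B := by
    intro j hj
    simp only [B, Finset.mem_filter, Finset.mem_univ, true_and] at hj ⊢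
    rw [← hs]
    exact (hcls _ s hsH _).2 hj
  let Bα : Finset α := Finset.univ.filter fun x => x ∈ cls (e 0)
  have hBαH : ∀ h ∈ H, h • Bα = Bα := by
    intro h hh
    ext x
    simp only [← Finset.inv_smul_mem_iff, Bα, Finset.mem_filter, Finset.mem_univ,
      true_and]
    exact hcls _ _ (H.inv_mem hh) x
  have hcap : ∀ d : ZMod p, d ≠ 0 →
      (B.filter fun j => j + d ∈ B).card = (Bα ∩ (σ ^ d.val)⁻¹ • Bα).card := by
    intro d _
    refine Finset.card_equiv e fun j => ?_
    simp [B, Bα, ← Finset.inv_smul_mem_iff, he.pow_smul]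
  have hnotH : ∀ d : ZMod p, d ≠ 0 → (σ ^ d.val)⁻¹ ∉ H := by
    intro d hd hdH
    apply hndvd
    have hk : ¬ p ∣ d.val := fun h =>
      hd ((ZMod.val_eq_zero d).1 (Nat.eq_zero_of_dvd_of_lt h (ZMod.val_lt d)))
    have hord : orderOf ((⟨_, H.inv_mem hdH⟩ : H)) = p := by
      rw [Subgroup.orderOf_mk, inv_inv, orderOf_pow, hσ]
      rw [Nat.Coprime.gcd_eq_one ((Nat.Prime.coprime_iff_not_dvd hp).2 hk), Nat.div_one]
    exact hord ▸ orderOf_dvd_natCard _
  have hinv : ∀ g : G, g ∉ H → (Bα ∩ g • Bα).card = (Bα ∩ σ⁻¹ • Bα).card := by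
    intro g hg
    have hσH : σ⁻¹ ∉ H := by simpa [ZMod.val_one] using hnotH 1 one_ne_zero
    obtain ⟨h, hh, hhg⟩ := h2X (σ⁻¹ • x₀) (g • x₀) (mt (hmem _).1 hσH) (mt (hmem _).1 hg)
    have hk : (h * σ⁻¹)⁻¹ * g ∈ H := by
      rw [← hmem, mul_smul, inv_smul_eq_iff, mul_smul, hhg]
    have hgB : g • Bα = h • σ⁻¹ • Bα := by
      conv_lhs => rw [show g = h * σ⁻¹ * ((h * σ⁻¹)⁻¹ * g) by rw [mul_inv_cancel_left]]
      rw [mul_smul, hBαH _ hk, mul_smul]
    rw [hgB]
    conv_lhs => arg 1; arg 1; rw [← hBαH h hh]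
    rw [← Finset.smul_finset_inter, Finset.card_smul_finset]
  have hdiff := symmetric_difference_set_trivial hp2 B hsym (Bα ∩ σ⁻¹ • Bα).card
    (fun d hd => (hcap d hd).trans (hinv _ (hnotH d hd)))
  rcases hdiff with hsub | hsup
  · refine ⟨e 0, eq_stabilizer_of_le hα hH fun h hh => ?_⟩
    obtain ⟨j, hj⟩ := e.surjective (h • e 0)
    have hjB : j ∈ B := by
      simp only [B, Finset.mem_filter, Finset.mem_univ, true_and, hj]
      exact ⟨h, hh, rfl⟩
    have := hsub hjB
    rw [Finset.mem_singleton] at this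
    rw [mem_stabilizer_iff, ← hj, this]
  · -- `H` is transitive, which is impossible
    exfalso
    have : IsPretransitive H α := by
      have key : ∀ x, x ∈ cls (e 0) := by
        intro x
        obtain ⟨j, rfl⟩ := e.surjective x
        have : j ∈ B := by
          by_cases hj : j = 0
          · rw [hj]; exact hB0
          · exact hsup (Finset.mem_erase.2 ⟨hj, Finset.mem_univ _⟩)
        simpa [B] using this
      constructor
      intro x y
      obtain ⟨k, hk, rfl⟩ := key x
      obtain ⟨l, hl, rfl⟩ := key y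
      exact ⟨⟨l * k⁻¹, H.mul_mem hl (H.inv_mem hk)⟩, by simp [Subgroup.smul_def, mul_smul]⟩
    refine hndvd ?_
    rw [← (stabilizer H (e 0)).card_mul_index, index_stabilizer_of_transitive,
      Nat.card_eq_fintype_card (α := α), hα]
    exact dvd_mul_left _ _

/-- With a negation in the group, every subgroup of index `p` is a point stabiliser. -/
theorem index_eq_stabilizer (hα : Fintype.card α = p) (hp2 : p ≠ 2) [IsPretransitive G α]
    (hσ : orderOf σ = p) (he : IsCoord σ e) (hs1 : s ≠ 1) (hss : s * s = 1)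
    (hs : ∀ j : ZMod p, s • e j = e (-j)) (H : Subgroup G) (hH : H.index = p) :
    ∃ a : α, H = stabilizer G a := by
  classical
  by_cases hG : Group.IsSolvable G
  · exact index_solvable_case hα hp2 hG hσ he hs1 hss H hH
  -- `s` fixes some coset
  let _ : Fintype (G ⧸ H) := Fintype.ofFinite _
  obtain ⟨x, hx⟩ : ∃ x : G ⧸ H, s • x = x := by
    by_contra! hne
    have h2 : ((Finset.univ : Finset (G ⧸ H)).card : ZMod 2) = 0 := by
      rw [Finset.card_eq_sum_ones, Nat.cast_sum, Nat.cast_one]
      refine Finset.sum_involution (fun x _ => s • x) (fun _ _ => by decide) (fun x _ _ => hne x)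
        (fun x _ => Finset.mem_univ _) (fun x _ => ?_)
      rw [← mul_smul, hss, one_smul]
    rw [Finset.card_univ, ← Nat.card_eq_fintype_card, ← Subgroup.index_eq_card, hH,
      ZMod.natCast_eq_zero_iff] at h2
    exact hp2 ((Nat.prime_dvd_prime_iff_eq Nat.prime_two Fact.out).1 h2).symm
  obtain ⟨g, rfl⟩ := QuotientGroup.mk_surjective x
  let H' : Subgroup G := H.map (MulAut.conj g).toMonoidHom
  have hH' : H'.index = p := by
    rw [show H'.index = H.index from Subgroup.index_map_equiv H (MulAut.conj g), hH]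
  have hsH' : s ∈ H' := by
    rw [MulAction.Quotient.smul_coe, smul_eq_mul, eq_comm, QuotientGroup.eq] at hx
    exact ⟨g⁻¹ * (s * g), hx, by simp [mul_assoc]⟩
  obtain ⟨a, ha⟩ := index_nonsolvable_aux hα hp2 hG hσ he hs H' hH' hsH'
  refine ⟨g⁻¹ • a, ?_⟩
  rw [MulAction.stabilizer_smul_eq_stabilizer_map_conj, ← ha, Subgroup.map_map]
  ext x
  simp [mul_assoc]

end CfsgLib.Perm
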