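import Cfsg.Agent.Lib.Perm.DegreeThirteen
import Cfsg.Agent.Lib.Perm.DegreeSeven
import Cfsg.Agent.Lib.KnownA.IndexSix

/-!
Two elements of long prime orders in an alternating group generate an alternating group on the
union of their supports.
-/

open MulAction Equiv
open scoped Pointwise

namespace CfsgLib.Perm

variable {β : Type*} [Fintype β] [DecidableEq β]

theorem closure_pair_le_alternating {x y : Perm β} (hx : Perm.sign x = 1) (hy : Perm.sign y = 1) :
    Subgroup.closure ({x, y} : Set (Perm β)) ≤ alternatingGroup β := by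
  rw [Subgroup.closure_le]
  rintro _ (rfl | rfl)
  · exact Perm.mem_alternatingGroup.2 hx
  · exact Perm.mem_alternatingGroup.2 hy

/-- The two generators give a primitive group. -/
theorem primitive_pair {p q : ℕ} (hp : p.Prime) (hq : q.Prime) {x y : Perm β}
    (hx : orderOf x = p) (hy : y.IsCycle) (hys : y.support.card = q)
    (hbig : Fintype.card β < 2 * q) (hpq : Fintype.card β < p + q)
    (hcov : ∀ u, x u = u → y u ≠ u) :
    IsPreprimitive (Subgroup.closure ({x, y} : Set (Perm β))) β := by
  set H := Subgroup.closure ({x, y} : Set (Perm β))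
  have hxH : x ∈ H := Subgroup.subset_closure (by simp)
  have hyH : y ∈ H := Subgroup.subset_closure (by simp)
  obtain ⟨v, hv, -⟩ := id hy
  have hyord : orderOf y = q := hy.orderOf.trans hys
  -- every point is in the orbit of `v`
  have hy_orb : ∀ u, y u ≠ u → u ∈ orbit H v := fun u hu => by
    obtain ⟨i, rfl⟩ := hy.exists_zpow_eq hv hu
    exact ⟨⟨y ^ i, zpow_mem hyH i⟩, rfl⟩
  have hall : ∀ u, u ∈ orbit H v := by
    intro u
    by_cases hu : y u = u
    swap
    · exact hy_orb u hu
    have hxu : x u ≠ u := fun e => hcov u e hu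
    -- the cycle of `x` at `u` meets the support of `y`
    have hcard : (x.cycleOf u).support.card = p := by
      obtain ⟨m, hm⟩ := Perm.cycleType_prime_order (σ := x) (hx ▸ hp)
      have hmem : (x.cycleOf u).support.card ∈ x.cycleType := by
        rw [Perm.cycleType_def]
        exact Multiset.mem_map.2 ⟨x.cycleOf u,
          Perm.cycleOf_mem_cycleFactorsFinset_iff.2 (Perm.mem_support.2 hxu), rfl⟩
      rw [hm, hx] at hmem
      exact Multiset.eq_of_mem_replicate hmem
    obtain ⟨w, hw, hwy⟩ : ∃ w, w ∈ (x.cycleOf u).support ∧ w ∈ y.support := by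
      by_contra hcon
      push Not at hcon
      have := Finset.card_le_univ ((x.cycleOf u).support ∪ y.support)
      rw [Finset.card_union_of_disjoint (Finset.disjoint_left.2 hcon), hcard, hys] at this
      omega
    obtain ⟨i, hi⟩ := (Perm.mem_support_cycleOf_iff.1 hw).1
    obtain ⟨g, hg⟩ := hy_orb w (Perm.mem_support.1 hwy)
    refine ⟨(⟨x ^ i, zpow_mem hxH i⟩ : H)⁻¹ * g, ?_⟩
    show (⟨x ^ i, zpow_mem hxH i⟩ : H)⁻¹ • (g • v) = u
    rw [inv_smul_eq_iff]
    exact hg.trans hi.symm
  haveI : IsPretransitive H β := ⟨fun a b => by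
    obtain ⟨g, hg⟩ := hall a
    obtain ⟨h, hh⟩ := hall b
    exact ⟨h * g⁻¹, by rw [← hg, mul_smul, inv_smul_smul]; exact hh⟩⟩
  refine IsPreprimitive.of_isTrivialBlock_base v fun {B} hvB hB => ?_
  set Y : H := ⟨y, hyH⟩
  by_cases hmeet : ∃ u ∈ B, u ≠ v ∧ y u ≠ u
  · right
    refine hB.eq_univ_of_card_lt ?_
    -- `y` stabilises the block
    obtain ⟨u, huB, huv, hu⟩ := hmeet
    obtain ⟨i, hi⟩ := hy.exists_zpow_eq hv hu
    have hfix : Y ^ i • B = B := by
      have h1 := (hB.smul_eq_smul_or_disjoint (Y ^ i) 1).resolve_right (fun hd => ?_)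
      · rwa [one_smul] at h1
      · rw [one_smul] at hd
        exact Set.disjoint_left.1 hd ⟨v, hvB, by
          show ((Y ^ i : H) : Perm β) v = u
          rw [SubgroupClass.coe_zpow]; exact hi⟩ huB
    have hiq : ¬ (q : ℤ) ∣ i := fun hd => huv (by
      rw [← hi, orderOf_dvd_iff_zpow_eq_one.1 (hyord ▸ hd), Perm.one_apply])
    obtain ⟨a, b, hab⟩ : ∃ a b : ℤ, i * a + (q : ℤ) * b = 1 :=
      (Int.isCoprime_iff_nat_coprime.2 (Nat.Coprime.symm ((Nat.Prime.coprime_iff_not_dvd hq).2
        (fun hd => hiq (Int.natCast_dvd.2 hd)))) : IsCoprime i (q : ℤ)).elim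
        fun a h => h.elim fun b h => ⟨a, b, by linarith⟩
    have hY : Y • B = B := by
      have h1 : (Y ^ i) ^ a • B = B := by
        refine mem_stabilizer_iff.1 (zpow_mem (mem_stabilizer_iff.2 hfix) a)
      have h2 : (Y ^ i) ^ a = Y := by
        refine Subtype.ext ?_
        simp only [SubgroupClass.coe_zpow, Y]
        calc (y ^ i) ^ a = y ^ (1 - (q : ℤ) * b) := by rw [← zpow_mul]; congr 1; omega
          _ = y := by rw [zpow_sub, zpow_mul, zpow_natCast, ← hyord, pow_orderOf_eq_one, one_zpow,
                        inv_one, mul_one, zpow_one]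
      rwa [h2] at h1
    have hsub : (y.support : Set β) ⊆ B := by
      intro w hw
      obtain ⟨j, hj⟩ := hy.exists_zpow_eq hv (Perm.mem_support.1 hw)
      rw [← mem_stabilizer_iff.1 (zpow_mem (mem_stabilizer_iff.2 hY) j)]
      exact ⟨v, hvB, by
        show ((Y ^ j : H) : Perm β) v = w
        rw [SubgroupClass.coe_zpow]; exact hj⟩
    have := Set.ncard_le_ncard hsub (Set.toFinite B)
    rw [Set.ncard_coe_finset, hys] at this
    rw [Nat.card_eq_fintype_card]
    omega
  · left
    push Not at hmeet
    refine hB.subsingleton_of_card_lt ?_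
    have hinj : Function.Injective fun k : Fin q => (⟨Y ^ (k : ℕ) • B, ⟨_, rfl⟩⟩ : orbit H B) := by
      intro k l h
      have h' : Y ^ (k : ℕ) • B = Y ^ (l : ℕ) • B := congrArg Subtype.val h
      obtain ⟨w, hwB, hw⟩ : (Y ^ (k : ℕ)) • v ∈ Y ^ (l : ℕ) • B := h' ▸ ⟨v, hvB, rfl⟩
      have hw' : (y ^ (l : ℕ)) w = (y ^ (k : ℕ)) v := hw
      by_cases hwy : y w = w
      · rw [Perm.pow_apply_eq_self_of_apply_eq_self hwy] at hw'
        exfalso
        apply hv
        have := hwy
        rw [hw', ← Perm.mul_apply, (Commute.self_pow y (k : ℕ)).eq, Perm.mul_apply] at this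
        exact (y ^ (k : ℕ)).injective this
      · have hwv : w = v := by
          by_contra hne
          exact hwy (hmeet w hwB hne)
        rw [hwv] at hw'
        have h3 : y ^ (l : ℕ) = y ^ (k : ℕ) := by
          refine Equiv.ext fun u => ?_
          by_cases hu : y u = u
          · rw [Perm.pow_apply_eq_self_of_apply_eq_self hu, Perm.pow_apply_eq_self_of_apply_eq_self hu]
          · obtain ⟨j, rfl⟩ := hy.exists_zpow_eq hv hu
            rw [← Perm.mul_apply, ← Perm.mul_apply, ← zpow_natCast, ← zpow_natCast,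
              (Commute.zpow_zpow_self y _ j).eq, (Commute.zpow_zpow_self y ((k : ℕ) : ℤ) j).eq,
              Perm.mul_apply, Perm.mul_apply, zpow_natCast, zpow_natCast, hw']
        rw [pow_eq_pow_iff_modEq, hyord, Nat.ModEq, Nat.mod_eq_of_lt l.2, Nat.mod_eq_of_lt k.2] at h3
        exact Fin.ext h3.symm
    have := Nat.card_le_card_of_injective _ hinj
    rw [Nat.card_eq_fintype_card, Fintype.card_fin, Nat.card_coe_set_eq] at this
    rw [Nat.card_eq_fintype_card]
    omega

theorem affine_two_fixed {p : ℕ} [Fact p.Prime] {G : Subgroup (Perm β)}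
    {e : ZMod p ≃ β} {g : G} (h : IsAffineIn e g) {a b : β} (hab : a ≠ b)
    (ha : g • a = a) (hb : g • b = b) : g = 1 := by
  obtain ⟨A, B, hAB⟩ := h
  obtain ⟨i, rfl⟩ := e.surjective a
  obtain ⟨j, rfl⟩ := e.surjective b
  have h1 := e.injective ((hAB i).symm.trans ha)
  have h2 := e.injective ((hAB j).symm.trans hb)
  have hA : A = 1 := by
    have h3 : (A - 1) * (i - j) = 0 := by linear_combination h1 - h2
    rcases mul_eq_zero.1 h3 with h4 | h4
    · exact sub_eq_zero.1 h4
    · exact absurd (congrArg e (sub_eq_zero.1 h4)) hab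
  have hB : B = 0 := by rw [hA] at h1; linear_combination h1
  refine eq_of_smul_eq_smul (α := β) fun u => ?_
  obtain ⟨k, rfl⟩ := e.surjective u
  rw [hAB, hA, hB, one_mul, add_zero, one_smul]

/-- The degree seven case. -/
theorem closure_pair_seven (h7 : Fintype.card β = 7) {x y : Perm β} (hx : orderOf x = 5)
    (hxs : x.support.card = 5) (hy : y.IsCycle) (hys : y.support.card = 7)
    (hsx : Perm.sign x = 1) (hsy : Perm.sign y = 1) :
    alternatingGroup β ≤ Subgroup.closure ({x, y} : Set (Perm β)) := by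
  haveI : Fact (Nat.Prime 7) := ⟨by norm_num⟩
  set H := Subgroup.closure ({x, y} : Set (Perm β))
  have hle := closure_pair_le_alternating hsx hsy
  haveI : IsPretransitive H β := (primitive_pair (p := 5) (q := 7) (by norm_num) (by norm_num) hx hy hys
    (by omega) (by omega) (fun u _ => by
      rw [← Perm.mem_support, Finset.eq_univ_of_card y.support (by rw [hys, h7])]
      exact Finset.mem_univ u)).toIsPretransitive
  have hxH : x ∈ H := Subgroup.subset_closure (by simp)
  by_contra hne
  have hns : ¬ Group.IsSolvable H := by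
    intro hsol
    obtain ⟨σ, e, hσ, he⟩ := exists_coord (G := H) h7
    have haff := affine_of_isSolvable h7 hsol hσ he ⟨x, hxH⟩
    obtain ⟨a, b, hab, hs⟩ := Finset.card_eq_two.1 (show x.supportᶜ.card = 2 by
      rw [Finset.card_compl, hxs, h7])
    have hfix : ∀ u ∈ x.supportᶜ, x u = u := fun u hu =>
      Perm.notMem_support.1 (Finset.mem_compl.1 hu)
    have h1 := affine_two_fixed haff hab (hfix a (by rw [hs]; simp)) (hfix b (by rw [hs]; simp))
    have h2 : x = 1 := congrArg Subtype.val h1
    rw [h2, orderOf_one] at hx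
    omega
  obtain ⟨h168, -⟩ := degree_seven_even h7 H hle (fun e => hne e.ge) hns
  have := Subgroup.orderOf_dvd_natCard H hxH
  rw [hx, h168] at this
  omega

/-- Two elements of long prime orders with union of supports everything. -/
theorem closure_pair_eq_alternating {p q : ℕ} (hp : p.Prime) (hq : q.Prime) (hpq : p < q)
    {x y : Perm β} (hx : orderOf x = p) (hxs : x.support.card = p ∨ x.support.card = 2 * p)
    (hy : y.IsCycle) (hys : y.support.card = q) (hsx : Perm.sign x = 1) (hsy : Perm.sign y = 1)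
    (hbig : Fintype.card β < 2 * q) (hlt : Fintype.card β < p + q)
    (hcov : ∀ u, x u = u → y u ≠ u)
    (hok : q + 3 ≤ Fintype.card β ∨
      (x.support.card = p ∧ (p = 3 ∨ p + 3 ≤ Fintype.card β ∨ (p = 5 ∧ q = 7) ∨ (p = 11 ∧ q = 13)))) :
    Subgroup.closure ({x, y} : Set (Perm β)) = alternatingGroup β := by
  have hle := closure_pair_le_alternating hsx hsy
  refine le_antisymm hle ?_
  have hprim := primitive_pair hp hq hx hy hys hbig hlt hcov
  have hxH : x ∈ Subgroup.closure ({x, y} : Set (Perm β)) := Subgroup.subset_closure (by simp)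
  have hyH : y ∈ Subgroup.closure ({x, y} : Set (Perm β)) := Subgroup.subset_closure (by simp)
  rcases hok with hok | ⟨hxp, hok⟩
  · haveI := Fact.mk hq
    exact alternatingGroup_le_of_prime_cycle hprim hok hy hys hyH
  have hxc : x.IsCycle := by
    obtain ⟨m, hm⟩ := Perm.cycleType_prime_order (σ := x) (hx ▸ hp)
    have h1 := Perm.sum_cycleType x
    rw [hm, hx, Multiset.sum_replicate, smul_eq_mul, hxp] at h1
    have hm0 : m = 0 := by
      have h2 := Nat.eq_of_mul_eq_mul_right hp.pos (h1.trans (one_mul p).symm)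
      omega
    exact Perm.card_cycleType_eq_one.1 (by rw [hm, Multiset.card_replicate, hm0])
  have hqle : q ≤ Fintype.card β := hys ▸ y.support.card_le_univ
  rcases hok with rfl | hok | hok | hok
  · exact Perm.alternatingGroup_le_of_isPreprimitive_of_isThreeCycle_mem hprim
      (card_support_eq_three_iff.1 hxp) hxH
  · haveI := Fact.mk hp
    exact alternatingGroup_le_of_prime_cycle hprim hok hxc hxp hxH
  · by_cases h : p + 3 ≤ Fintype.card β
    · haveI := Fact.mk hp
      exact alternatingGroup_le_of_prime_cycle hprim h hxc hxp hxH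
    · exact closure_pair_seven (by omega) (hok.1 ▸ hx) (by omega) hy (by omega) hsx hsy
  · by_cases h : p + 3 ≤ Fintype.card β
    · haveI := Fact.mk hp
      exact alternatingGroup_le_of_prime_cycle hprim h hxc hxp hxH
    · exact alternatingGroup_le_of_degree_thirteen hprim hle (by omega) hxc (by omega) hxH

open CfsgLib.KnownA.Six in
theorem double_three_cases : ∀ x : Perm (Fin 6), x * (x * x) = 1 → (∀ u, x u ≠ u) →
    x ∈ X0 ∨ (x * c₀).support.card = 3 ∨ (x * (c₀ * c₀)).support.card = 3 ∨
      (x * c₀⁻¹).support.card = 3 ∨ (x * (c₀⁻¹ * c₀⁻¹)).support.card = 3 := by decide +kernel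

open CfsgLib.KnownA.Six in
/-- Degree six with two 3-cycles: the group is alternating of degree five or six. -/
theorem closure_pair_six (h6 : Fintype.card β = 6) {x y : Perm β} (hx : orderOf x = 3)
    (hxs : x.support.card = 6) (hy : y.IsCycle) (hys : y.support.card = 5)
    (hsx : Perm.sign x = 1) (hsy : Perm.sign y = 1) :
    ∃ d, 5 ≤ d ∧ Nonempty (Subgroup.closure ({x, y} : Set (Perm β)) ≃* alternatingGroup (Fin d)) := by
  classical
  let e₁ := Fintype.equivFinOfCardEq h6
  obtain ⟨g, hg⟩ := isConj_iff.1 (Perm.isConj_iff_cycleType_eq.2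
    (show (e₁.permCongr y).cycleType = c₀.cycleType by
      rw [Perm.IsCycle.cycleType (σ := c₀) ?_, Perm.IsCycle.cycleType (σ := e₁.permCongr y) ?_]
      · have h1 : (e₁.permCongr y).support.card = 5 := by
          rw [← hys, ← Finset.card_map e₁.toEmbedding]
          congr 1
          ext u
          simp [Equiv.permCongr_apply, Equiv.eq_symm_apply]
        rw [h1, show c₀.support.card = 5 by decide +kernel]
      · exact Perm.isCycle_of_prime_order' (by
          rw [show e₁.permCongr y = e₁.permCongrHom y from rfl, MulEquiv.orderOf_eq, hy.orderOf, hys]; norm_num) (by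
          rw [show e₁.permCongr y = e₁.permCongrHom y from rfl, MulEquiv.orderOf_eq, hy.orderOf, hys, Fintype.card_fin]; norm_num)
      · have h5 : orderOf c₀ = 5 :=
          orderOf_eq_prime (hp := ⟨by norm_num⟩) (by decide +kernel) (by decide +kernel)
        exact Perm.isCycle_of_prime_order' (by rw [h5]; norm_num)
          (by rw [h5, Fintype.card_fin]; norm_num)))
  let E : Perm β ≃* Perm (Fin 6) := e₁.permCongrHom.trans (MulAut.conj g)
  have hEy : E y = c₀ := hg
  have hmap : (Subgroup.closure ({x, y} : Set (Perm β))).map E.toMonoidHom =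
      Subgroup.closure {E x, c₀} := by
    rw [MonoidHom.map_closure, Set.image_pair, ← hEy]
    rfl
  suffices h : ∃ d, 5 ≤ d ∧
      Nonempty (Subgroup.closure ({E x, c₀} : Set (Perm (Fin 6))) ≃* alternatingGroup (Fin d)) by
    obtain ⟨d, hd, ⟨f⟩⟩ := h
    exact ⟨d, hd, ⟨((Subgroup.equivMapOfInjective _ E.toMonoidHom E.injective).trans
      (MulEquiv.subgroupCongr hmap)).trans f⟩⟩
  set X := E x with hXdef
  have hX3 : orderOf X = 3 := by rw [hXdef, MulEquiv.orderOf_eq, hx]
  have hXpow : X * (X * X) = 1 := by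
    rw [← pow_two, ← pow_succ', show 2 + 1 = orderOf X by rw [hX3], pow_orderOf_eq_one]
  have hXmove : ∀ u, X u ≠ u := by
    intro u
    have h : ∀ v, x v ≠ v := fun v => Perm.mem_support.1 (by
      rw [Finset.eq_univ_of_card x.support (by rw [hxs, h6])]; exact Finset.mem_univ v)
    intro hu
    apply h (e₁.symm (g⁻¹ u))
    have h1 : X u = g (e₁ (x (e₁.symm (g⁻¹ u)))) := rfl
    rw [h1, ← Perm.eq_inv_iff_eq] at hu
    exact e₁.injective (hu.trans (Equiv.apply_symm_apply e₁ _).symm)
  have hsX : Perm.sign X = 1 := by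
    show Perm.sign (g * e₁.permCongr x * g⁻¹) = 1
    rw [map_mul, map_mul, map_inv, Perm.sign_permCongr, hsx, mul_one, mul_inv_cancel]
  have hc0 : c₀.IsCycle ∧ c₀.support.card = 5 ∧ Perm.sign c₀ = 1 := by
    have h5 : orderOf c₀ = 5 :=
      orderOf_eq_prime (hp := ⟨by norm_num⟩) (by decide +kernel) (by decide +kernel)
    exact ⟨Perm.isCycle_of_prime_order' (by rw [h5]; norm_num)
      (by rw [h5, Fintype.card_fin]; norm_num), by decide +kernel, by decide +kernel⟩
  have hprim := primitive_pair (p := 3) (q := 5) (by norm_num) (by norm_num) hX3 hc0.1 hc0.2.1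
    (by simp) (by simp) (fun u hu => absurd hu (hXmove u))
  have hle := closure_pair_le_alternating hsX hc0.2.2
  have hXm : X ∈ Subgroup.closure ({X, c₀} : Set (Perm (Fin 6))) := Subgroup.subset_closure (by simp)
  have hcm : c₀ ∈ Subgroup.closure ({X, c₀} : Set (Perm (Fin 6))) := Subgroup.subset_closure (by simp)
  rcases double_three_cases X hXpow hXmove with hX0 | hw
  · -- inside the transitive subgroup of index six
    obtain ⟨ι, hι, hrange⟩ := exists_hom (Fintype.card_fin 6) X0 index_X0
    obtain ⟨x', hx'⟩ : X ∈ ι.range := hrange ▸ hX0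
    obtain ⟨y', hy'⟩ : c₀ ∈ ι.range := hrange ▸ c₀_mem
    have hx'3 : orderOf x' = 3 := by rw [← orderOf_injective ι hι, hx', hX3]
    have hy'5 : orderOf y' = 5 := by rw [← orderOf_injective ι hι, hy', hc0.1.orderOf, hc0.2.1]
    have hx's : x'.support.card = 3 := by
      obtain ⟨m, hm⟩ := Perm.cycleType_prime_order (σ := x') (by rw [hx'3]; norm_num)
      have h1 := Perm.sum_cycleType x'
      have h2 := x'.support.card_le_univ
      rw [hm, hx'3, Multiset.sum_replicate, smul_eq_mul] at h1
      rw [Fintype.card_fin] at h2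
      omega
    have hy'c : y'.IsCycle := Perm.isCycle_of_prime_order' (by rw [hy'5]; norm_num)
      (by rw [hy'5, Fintype.card_fin]; norm_num)
    have hy's : y'.support.card = 5 := by rw [← hy'c.orderOf, hy'5]
    have hsign : Perm.sign y' = 1 := by rw [hy'c.sign, hy's]; decide
    have := closure_pair_eq_alternating (p := 3) (q := 5) (by norm_num) (by norm_num) (by norm_num)
      hx'3 (Or.inl hx's) hy'c hy's (card_support_eq_three_iff.1 hx's).sign hsign
      (by simp) (by simp) (fun u _ => by
        rw [← Perm.mem_support, Finset.eq_univ_of_card y'.support (by rw [hy's, Fintype.card_fin])]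
        exact Finset.mem_univ u)
      (Or.inr ⟨hx's, Or.inl rfl⟩)
    have hm : (alternatingGroup (Fin 5)).map ι = Subgroup.closure {X, c₀} := by
      rw [← this, MonoidHom.map_closure, Set.image_pair, hx', hy']
    exact ⟨5, le_rfl, ⟨((Subgroup.equivMapOfInjective _ ι hι).trans (MulEquiv.subgroupCongr hm)).symm⟩⟩
  · -- a 3-cycle
    obtain ⟨w, hwm, hw3⟩ : ∃ w ∈ Subgroup.closure ({X, c₀} : Set (Perm (Fin 6))),
        w.support.card = 3 := by
      rcases hw with h | h | h | h
      exacts [⟨_, mul_mem hXm hcm, h⟩, ⟨_, mul_mem hXm (mul_mem hcm hcm), h⟩,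
        ⟨_, mul_mem hXm (inv_mem hcm), h⟩, ⟨_, mul_mem hXm (mul_mem (inv_mem hcm) (inv_mem hcm)), h⟩]
    have hge := Perm.alternatingGroup_le_of_isPreprimitive_of_isThreeCycle_mem hprim
      (card_support_eq_three_iff.1 hw3) hwm
    exact ⟨6, by norm_num, ⟨MulEquiv.subgroupCongr (le_antisymm hle hge)⟩⟩

end CfsgLib.Perm
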