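import Cfsg.Agent.Lib.Perm.PrimeDegreeRankThree
import Cfsg.Agent.Lib.Perm.DegreePrimeSucc
import Cfsg.Agent.Lib.Perm.ZassG.Inversion
import Cfsg.Agent.Lib.Small.PSLPrimes

/-!
Groups of even permutations of `p + 1` points, `p > 7`, properly containing a doubly transitive
simple subgroup of the order of `PSL(2, p)`, are quadruply transitive.
-/

set_option autoImplicit false

namespace CfsgLib.PrimeHalf

open MulAction Equiv

/-- A permutation of `ZMod p` multiplying by a primitive root, fixing `0`, is odd. -/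
theorem sign_mul_primitive {p : ℕ} [Fact p.Prime] (hp : p ≠ 2) {Ω : Type*} [Fintype Ω] [DecidableEq Ω]
    (e : ZMod p ≃ Ω) (π : Perm Ω) (ρ : (ZMod p)ˣ) (hρ : ∀ x : (ZMod p)ˣ, x ∈ Subgroup.zpowers ρ)
    (hπ : ∀ j, π (e j) = e ((ρ : ZMod p) * j)) : Perm.sign π = -1 := by
  have hρ1 : (ρ : ZMod p) ≠ 1 := by
    intro h
    rw [Units.val_eq_one] at h
    subst h
    have h1 := hρ (-1)
    rw [Subgroup.zpowers_one_eq_bot, Subgroup.mem_bot, Units.ext_iff] at h1
    have h2 : ((2 : ℕ) : ZMod p) = 0 := by push_cast; simp at h1; linear_combination -h1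
    rw [ZMod.natCast_eq_zero_iff] at h2
    exact hp ((Nat.prime_dvd_prime_iff_eq Fact.out Nat.prime_two).1 h2)
  have hpow : ∀ (n : ℕ) j, (π ^ n) (e j) = e ((ρ : ZMod p) ^ n * j) := by
    intro n
    induction n with
    | zero => simp
    | succ n ih => intro j; rw [pow_succ', Perm.mul_apply, ih, hπ, pow_succ', mul_assoc]
  have hmove : ∀ j, π (e j) ≠ e j ↔ j ≠ 0 := fun j => by
    rw [hπ, ne_eq, e.apply_eq_iff_eq, not_iff_not]
    constructor
    · intro h
      have : ((ρ : ZMod p) - 1) * j = 0 := by linear_combination h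
      exact (mul_eq_zero.1 this).resolve_left (sub_ne_zero.2 hρ1)
    · rintro rfl; rw [mul_zero]
  have hcyc : π.IsCycle := by
    refine ⟨e 1, (hmove 1).2 one_ne_zero, fun y hy => ?_⟩
    obtain ⟨j, rfl⟩ := e.surjective y
    have hj := (hmove j).1 hy
    obtain ⟨n, hn⟩ := mem_powers_iff_mem_zpowers.2 (hρ (Units.mk0 j hj))
    refine ⟨n, ?_⟩
    rw [zpow_natCast, hpow, mul_one]
    exact congrArg e (by simpa using congrArg Units.val hn)
  have hsupp : π.support = Finset.univ.erase (e 0) := by
    ext y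
    obtain ⟨j, rfl⟩ := e.surjective y
    rw [Perm.mem_support, hmove, Finset.mem_erase]
    simp
  rw [hcyc.sign, hsupp, Finset.card_erase_of_mem (Finset.mem_univ _), Finset.card_univ,
    ← Fintype.card_congr e, ZMod.card, Even.neg_one_pow]
  obtain ⟨t, ht⟩ := (Fact.out : p.Prime).odd_of_ne_two hp
  exact ⟨t, by omega⟩

variable {X Ω : Type*} [Group X] [Finite X] [MulAction X Ω] [FaithfulSMul X Ω] [Fintype Ω]
  [DecidableEq Ω] {p : ℕ} [Fact p.Prime]

set_option maxHeartbeats 1600000 in
theorem four_transitive_of_over_simple (hp7 : 7 < p) (hΩ : Fintype.card Ω = p + 1)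
    (heven : ∀ x : X, Perm.sign (MulAction.toPerm x : Perm Ω) = 1)
    (L : Subgroup X) (hLs : IsSimpleGroup L) (hLcard : 2 * Nat.card L = p * (p ^ 2 - 1))
    (hLt : IsMultiplyPretransitive L Ω 2) (hLX : L ≠ ⊤) :
    IsMultiplyPretransitive X Ω 4 := by
  classical
  have hp : p.Prime := Fact.out
  obtain ⟨m, hpm⟩ : ∃ m, p = 2 * m + 1 := hp.odd_of_ne_two (by omega)
  have hn : Nat.card Ω = p + 1 := by rw [Nat.card_eq_fintype_card, hΩ]
  have hLG : Nat.card L = (p + 1) * p * m := by
    have h1 : p ^ 2 - 1 = (p + 1) * (2 * m) := by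
      rw [show p ^ 2 - 1 = p ^ 2 - 1 ^ 2 by simp, Nat.sq_sub_sq, show p - 1 = 2 * m by omega]
    rw [h1] at hLcard
    refine Nat.eq_of_mul_eq_mul_left (show 0 < 2 by norm_num) ?_
    rw [hLcard]; ring
  have hmp : m < p := by omega
  have : IsPretransitive L Ω := by have := hLt; exact isPretransitive_of_is_two_pretransitive
  have : IsPretransitive X Ω := ⟨fun u v => by
    obtain ⟨g, hg⟩ := exists_smul_eq L u v
    exact ⟨g, hg⟩⟩
  have : Nontrivial Ω := Fintype.one_lt_card_iff_nontrivial.1 (by omega)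
  obtain ⟨a, b, hab⟩ := exists_pair_ne Ω
  obtain ⟨x, hx, hxa, hnorm⟩ := Perm.exists_cycle (G := L) hp hn hLG hmp a
  let Ω₀ := SubMulAction.ofStabilizer X a
  have : Fintype Ω₀ := Fintype.ofFinite _
  let φ : stabilizer X a →* Perm Ω₀ := MulAction.toPermHom (stabilizer X a) Ω₀
  have hval : ∀ (g : stabilizer X a) (y : Ω₀), ((φ g y : Ω₀) : Ω) = (g : X) • (y : Ω) := fun g y => rfl
  have hφinj : Function.Injective φ := fun g g' h => Subtype.ext <|
    FaithfulSMul.eq_of_smul_eq_smul fun y : Ω => by
      by_cases hy : y = a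
      · rw [hy, mem_stabilizer_iff.1 g.2, mem_stabilizer_iff.1 g'.2]
      · exact congrArg Subtype.val (DFunLike.congr_fun h (⟨y, hy⟩ : Ω₀))
  set G := φ.range with hG
  have hsign : ∀ π ∈ G, Perm.sign π = 1 := by
    rintro _ ⟨g, rfl⟩
    rw [← Perm.sign_ofSubtype (φ g), ← heven (g : X)]
    congr 1
    ext y
    by_cases hy : y = a
    · subst hy
      rw [Perm.ofSubtype_apply_of_not_mem _ (fun h => h rfl)]
      exact (mem_stabilizer_iff.1 g.2).symm
    · rw [Perm.ofSubtype_apply_of_mem _ (show y ∈ Ω₀ from hy)]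
      rfl
  have hcard₀ : Fintype.card Ω₀ = p := by
    have h1 : Fintype.card Ω₀ = (Finset.univ.erase a).card := by
      rw [Fintype.card_of_subtype]
      intro y
      simp [Ω₀, SubMulAction.mem_ofStabilizer_iff]
    rw [h1, Finset.card_erase_of_mem (Finset.mem_univ _), Finset.card_univ, hΩ, Nat.add_sub_cancel]
  let emb : stabilizer L a → stabilizer X a := fun g => ⟨(g : L), g.2⟩
  let ψ : stabilizer L a →* G := φ.rangeRestrict.comp (MonoidHom.mk' emb fun _ _ => rfl)
  have hψval : ∀ (g : stabilizer L a) (y : Ω₀), ((ψ g • y : Ω₀) : Ω) = (g : L) • (y : Ω) :=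
    fun g y => rfl
  have hψinj : Function.Injective ψ := fun g g' h => by
    have := hφinj (congrArg Subtype.val h)
    exact Subtype.ext (Subtype.ext (congrArg (fun z : stabilizer X a => (z : X)) this))
  -- coordinates
  set x' : stabilizer L a := ⟨x, hxa⟩ with hx'
  set σ : G := ψ x' with hσdef
  have hσ : orderOf σ = p := by
    rw [hσdef, orderOf_injective ψ hψinj, ← Subgroup.orderOf_coe, hx]
  obtain ⟨e, he, he0⟩ := Perm.exists_isCoord hcard₀ hσ (⟨b, hab.symm⟩ : Ω₀)
  have htr : IsPretransitive G Ω₀ := by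
    have h0 : ∀ y : Ω₀, ∃ g : G, g • e 0 = y := fun y => ⟨σ ^ (e.symm y).val, by
      rw [he.pow_smul, zero_add, ZMod.natCast_val, ZMod.cast_id, e.apply_symm_apply]⟩
    exact ⟨fun u v => by
      obtain ⟨g, rfl⟩ := h0 u
      obtain ⟨g', rfl⟩ := h0 v
      exact ⟨g' * g⁻¹, by rw [mul_smul, inv_smul_smul]⟩⟩
  -- the torus
  set T := Perm.ZassG.pairStab L a b with hT
  have hTcard : Nat.card T = m := Perm.card_pair_succ hp hn hLG hmp hab
  let τ : T →* G := ψ.comp (Subgroup.inclusion inf_le_left)
  have hτinj : Function.Injective τ := hψinj.comp (Subgroup.inclusion_injective _)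
  have hτfix : ∀ t, τ t • e 0 = e 0 := fun t => by
    rw [he0]; exact Subtype.ext (Perm.ZassG.mem_pairStab.1 t.2).2
  have haff : ∀ t : T, ∀ j, τ t • e j = e (e.symm (τ t • e 1) * j) := by
    intro t
    have hta : (t : L) ∈ stabilizer L a := (Perm.ZassG.mem_pairStab.1 t.2).1
    obtain ⟨i, hi⟩ := mem_powers_iff_mem_zpowers.2 (hnorm (t : L) hta x (Subgroup.mem_zpowers x))
    have hk : τ t * σ * (τ t)⁻¹ = σ ^ i := by
      have h1 : (⟨(t : L), hta⟩ : stabilizer L a) * x' * ⟨(t : L), hta⟩⁻¹ = x' ^ i :=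
        Subtype.ext hi.symm
      have h2 := congrArg ψ h1
      rw [map_mul, map_mul, map_inv, map_pow] at h2
      exact h2
    have h := Perm.affine_of_conj_eq_pow he hk
    intro j
    rw [h j, h 1, hτfix t]
    simp
  let f : T →* ZMod p :=
    { toFun := fun t => e.symm (τ t • e 1)
      map_one' := by simp
      map_mul' := fun t t' => by
        rw [map_mul, mul_smul, haff t' 1, haff t]
        simp }
  have hfinj : Function.Injective f.toHomUnits := fun t t' h => hτinj <| by
    refine Subtype.ext (Equiv.ext fun y => ?_)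
    obtain ⟨j, rfl⟩ := e.surjective y
    change τ t • e j = τ t' • e j
    rw [haff t j, haff t' j]
    exact congrArg (fun z => e (z * j)) (congrArg Units.val h)
  obtain ⟨⟨c, t₀, ht₀⟩, hgen⟩ := IsCyclic.exists_generator (α := f.toHomUnits.range)
  have hc : orderOf c = m := by
    rw [← Subgroup.orderOf_mk c (show c ∈ f.toHomUnits.range from ⟨t₀, ht₀⟩), orderOf_eq_card_of_forall_mem_zpowers hgen,
      ← Nat.card_congr (MonoidHom.ofInjective hfinj).toEquiv, hTcard]
  have hc2 : 2 * orderOf c = p - 1 := by rw [hc]; omega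
  set s := τ t₀ with hsdef
  have hs : ∀ j, s • e j = e ((c : ZMod p) * j) := by
    intro j
    rw [hsdef, haff t₀ j, ← ht₀]
    rfl
  -- insolubility
  have hinsol : ¬ Group.IsSolvable G := by
    intro hsol
    have haffG := Perm.affine_of_isSolvable hcard₀ hsol hσ he
    have hidx : (Subgroup.zpowers c).index = 2 := by
      have h := (Subgroup.zpowers c).card_mul_index
      rw [Nat.card_zpowers, Nat.card_eq_fintype_card, ZMod.card_units, ← hc2, mul_comm 2] at h
      exact Nat.eq_of_mul_eq_mul_left (orderOf_pos c) h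
    have hsq : ∀ (g : G) (A B : ZMod p) (hA : A ≠ 0), (∀ j, g • e j = e (A * j + B)) →
        Units.mk0 A hA ∈ Subgroup.zpowers c := by
      intro g A B hA hg
      by_contra hno
      obtain ⟨ρ, hρ⟩ := IsCyclic.exists_generator (α := (ZMod p)ˣ)
      -- a dilation by a primitive root
      let D : Subgroup (ZMod p)ˣ :=
        { carrier := {d | ∃ g : G, ∀ j, g • e j = e ((d : ZMod p) * j)}
          one_mem' := ⟨1, fun j => by simp⟩
          mul_mem' := by
            rintro d d' ⟨g, hg⟩ ⟨g', hg'⟩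
            exact ⟨g * g', fun j => by rw [mul_smul, hg', hg, Units.val_mul, mul_assoc]⟩
          inv_mem' := by
            rintro d ⟨g, hg⟩
            exact ⟨g⁻¹, fun j => by rw [inv_smul_eq_iff, hg, Units.mul_inv_cancel_left]⟩ }
      have hD : Units.mk0 A hA ∈ D := ⟨σ ^ (-B).val * g, fun j => by
        rw [mul_smul, hg, he.pow_smul, ZMod.natCast_val, ZMod.cast_id, Units.val_mk0]
        congr 1; ring⟩
      have hcD : Subgroup.zpowers c ≤ D := Subgroup.zpowers_le.2 ⟨s, hs⟩
      have hρD : ρ ∈ D := by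
        by_cases hρc : ρ ∈ Subgroup.zpowers c
        · exact hcD hρc
        · have h1 : ρ * (Units.mk0 A hA)⁻¹ ∈ Subgroup.zpowers c := by
            rw [Subgroup.mul_mem_iff_of_index_two hidx]
            simp [hρc, hno]
          simpa using D.mul_mem (hcD h1) hD
      obtain ⟨g', hg'⟩ := hρD
      have h1 := sign_mul_primitive (show p ≠ 2 by omega) e (g' : Perm Ω₀) ρ hρ hg'
      rw [hsign _ g'.2] at h1
      exact absurd h1 (by decide)
    have hle : Nat.card G ≤ p * m := by
      choose A B hAB using haffG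
      have hA : ∀ g, A g ≠ 0 := by
        intro g h0
        have h1 := hAB g 0
        have h2 := hAB g 1
        rw [h0, zero_mul] at h1 h2
        exact zero_ne_one (e.injective (MulAction.injective g (h1.trans h2.symm)))
      let F : G → ZMod p × Subgroup.zpowers c := fun g =>
        (B g, ⟨Units.mk0 (A g) (hA g), hsq g (A g) (B g) (hA g) (hAB g)⟩)
      have hF : Function.Injective F := fun g g' h => by
        refine Subtype.ext (Equiv.ext fun y => ?_)
        obtain ⟨j, rfl⟩ := e.surjective y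
        change g • e j = g' • e j
        have h1 : B g = B g' := congrArg Prod.fst h
        have h2 : A g = A g' := congrArg (fun z : ZMod p × Subgroup.zpowers c =>
          ((z.2 : (ZMod p)ˣ) : ZMod p)) h
        rw [hAB g j, hAB g' j, h1, h2]
      have := Nat.card_le_card_of_injective F hF
      rwa [Nat.card_prod, Nat.card_zmod, Nat.card_zpowers, hc] at this
    have hXa : Nat.card (stabilizer X a) ≤ Nat.card (stabilizer L a) := by
      rw [Perm.card_stabilizer_succ hp hn hLG hmp a,
        Nat.card_congr (MonoidHom.ofInjective hφinj).toEquiv]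
      exact hle
    have hsurj : Function.Surjective emb :=
      ((Nat.bijective_iff_injective_and_card emb).2 ⟨fun g g' h => Subtype.ext (Subtype.ext
        (congrArg (fun z : stabilizer X a => (z : X)) h)),
        le_antisymm (Nat.card_le_card_of_injective emb fun g g' h => Subtype.ext (Subtype.ext
          (congrArg (fun z : stabilizer X a => (z : X)) h))) hXa⟩).2
    refine hLX ((Subgroup.eq_top_iff' L).2 fun y => ?_)
    obtain ⟨l, hl⟩ := exists_smul_eq L a (y • a)
    have hmem : ((l : X)⁻¹ * y) • a = a := by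
      rw [mul_smul, ← hl]
      exact inv_smul_smul (l : X) a
    obtain ⟨g, hg⟩ := hsurj ⟨_, mem_stabilizer_iff.2 hmem⟩
    have h1 : (((g : L) : X)) = (l : X)⁻¹ * y := congrArg Subtype.val hg
    have h2 : y = (l : X) * ((g : L) : X) := by rw [h1]; group
    rw [h2]
    exact L.mul_mem l.2 (g : L).2
  -- the swapping permutation
  have hW : p % 4 = 3 → ∃ W : Perm Ω₀, W (e 0) = e 0 ∧ Perm.sign W = -1 ∧
      (∀ g : G, g • e 0 = e 0 → W * (g : Perm Ω₀) * W⁻¹ ∈ G) ∧
      W * (s : Perm Ω₀) * W⁻¹ = (s : Perm Ω₀)⁻¹ := by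
    intro h4
    have hmodd : Odd m := Nat.odd_iff.2 (by omega)
    have hFS : FaithfulSMul L Ω := ⟨fun {g g'} h => Subtype.ext (FaithfulSMul.eq_of_smul_eq_smul
      (fun y : Ω => h y))⟩
    have hZ : Cfsg.IsZassenhausGroup L Ω := by
      refine ⟨hFS, hLt, fun g u v w h1 h2 h3 hu hv hw =>
        Perm.eq_one_of_three_succ hp hn hLG hmp h1 h2 h3 hu hv hw, ?_, ?_⟩
      · have hne : T ≠ ⊥ := fun h => by
          rw [h, Subgroup.card_bot] at hTcard
          omega
        obtain ⟨t, ht, ht1⟩ := (Subgroup.bot_or_exists_ne_one T).resolve_left hne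
        exact ⟨t, ht1, a, b, hab, ht.1, ht.2⟩
      · intro N hN hNt
        refine ⟨a, fun h => ?_⟩
        rcases hLs.eq_bot_or_eq_top_of_normal N hN with hb | hb
        · subst hb
          obtain ⟨⟨g, hg⟩, hgab⟩ := hNt.exists_smul_eq a b
          rw [Subgroup.mem_bot] at hg
          subst hg
          exact hab ((one_smul L a).symm.trans hgab)
        · subst hb
          have h1 := (stabilizer (⊤ : Subgroup L) a).card_mul_index
          have := hNt; rw [index_stabilizer_of_transitive, hn, h, Subgroup.card_bot, one_mul,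
            Subgroup.card_top, hLG] at h1
          have : p + 1 < (p + 1) * p * m := by
            rw [mul_assoc]
            exact lt_mul_of_one_lt_right (by omega)
              (lt_of_lt_of_le (show 1 < p by omega) (Nat.le_mul_of_pos_right p (by omega)))
          omega
    obtain ⟨-, -, hinv⟩ := Perm.ZassG.inversion hZ hab (by rw [← hT, hTcard]; exact hmodd) (by
      rintro q hq hqT ⟨N, hN, hNi⟩
      have hqL : q ∣ Nat.card L := hqT.trans (Subgroup.card_subgroup_dvd_card _)
      have hfac : 1 ≤ (Nat.card L).factorization q :=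
        (hq.dvd_iff_one_le_factorization Nat.card_pos.ne').1 hqL
      rcases hLs.eq_bot_or_eq_top_of_normal N hN with hb | hb
      · rw [hb, Subgroup.index_bot] at hNi
        have hpL : p ∣ Nat.card L := by rw [hLG]; exact Dvd.intro_left _ rfl |>.mul_right m
        rw [hNi] at hpL
        have hpq := (Nat.prime_dvd_prime_iff_eq hp hq).1 (hp.dvd_of_dvd_pow hpL)
        subst hpq
        rw [← hT, hTcard] at hqT
        exact absurd (Nat.le_of_dvd (by omega) hqT) (by omega)
      · rw [hb, Subgroup.index_top] at hNi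
        exact (Nat.one_lt_pow (by omega) hq.one_lt).ne hNi)
    obtain ⟨w, hwa, hwb⟩ := Perm.ZassG.exists_swap hZ hab
    have hwa' : (w : X) • a = b := hwa
    have hwb' : (w : X) • b = a := hwb
    let W0 : Perm Ω := Equiv.swap a b * MulAction.toPerm (w : X)
    have hW0a : W0 a = a := by simp [W0, hwa']
    have hW0b : W0 b = b := by simp [W0, hwb']
    have hW0 : ∀ {y}, y ≠ a → y ≠ b → W0 y = (w : X) • y := by
      intro y hya hyb
      simp only [W0, Perm.mul_apply, toPerm_apply]
      exact Equiv.swap_apply_of_ne_of_ne (fun h => hyb ((MulAction.injective (w : X)) (h.trans hwb'.symm)))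
        (fun h => hya ((MulAction.injective (w : X)) (h.trans hwa'.symm)))
    have hmem : ∀ y, W0 y ∈ Ω₀ ↔ y ∈ Ω₀ := fun y => by
      show W0 y ≠ a ↔ y ≠ a
      exact ⟨fun h h' => h (by rw [h', hW0a]), fun h h' => h (W0.injective (h'.trans hW0a.symm))⟩
    let W : Perm Ω₀ := W0.subtypePerm hmem
    have hWe0 : W (e 0) = e 0 := by
      rw [he0]; exact Subtype.ext hW0b
    -- conjugation by `W` is conjugation by `w`
    have hconj : ∀ (g g' : stabilizer X a), (g : X) • b = b → (g' : X) = (w : X) * g * (w : X)⁻¹ →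
        W * φ g * W⁻¹ = φ g' := by
      intro g g' hgb hg'
      rw [mul_inv_eq_iff_eq_mul]
      refine Equiv.ext fun y => Subtype.ext ?_
      change W0 ((g : X) • (y : Ω)) = (g' : X) • W0 y
      have hya : (y : Ω) ≠ a := y.2
      by_cases hyb : (y : Ω) = b
      · rw [hyb, hgb, hW0b, hg', mul_smul, mul_smul, inv_smul_eq_iff.2 hwa'.symm,
          mem_stabilizer_iff.1 g.2, hwa']
      · rw [hW0 hya hyb, hW0 (fun h => hya ((MulAction.injective (g : X))
          (h.trans (mem_stabilizer_iff.1 g.2).symm)))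
          (fun h => hyb ((MulAction.injective (g : X)) (h.trans hgb.symm))), hg', mul_smul, mul_smul,
          inv_smul_smul]
    refine ⟨W, hWe0, ?_, ?_, ?_⟩
    · have h1 : Perm.sign W = Perm.sign W0 := by
        convert Perm.sign_subtypePerm W0 hmem fun y hy h => hy (by rw [show y = a from h, hW0a])
      rw [h1, map_mul, heven, Perm.sign_swap hab, mul_one]
    · rintro ⟨_, g, rfl⟩ hg
      have hgb : (g : X) • b = b := by
        rw [he0] at hg; exact congrArg Subtype.val hg
      have hmem' : (w : X) * g * (w : X)⁻¹ ∈ stabilizer X a := by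
        rw [mem_stabilizer_iff, mul_smul, mul_smul, inv_smul_eq_iff.2 hwb'.symm, hgb, hwb']
      rw [hconj g ⟨_, hmem'⟩ hgb rfl]
      exact ⟨_, rfl⟩
    · have h1 := hinv w hwa hwb (t₀ : L) t₀.2
      have hta : (t₀ : L) ∈ stabilizer L a := (Perm.ZassG.mem_pairStab.1 t₀.2).1
      have hs' : (s : Perm Ω₀) = φ (emb ⟨(t₀ : L), hta⟩) := rfl
      rw [hs', ← map_inv]
      exact hconj _ _ (Perm.ZassG.mem_pairStab.1 t₀.2).2 (congrArg (fun z : L => (z : X)) h1).symm
  have h3 := three_transitive hcard₀ hinsol hp7 σ s e he c hc2 hs hW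
  show IsMultiplyPretransitive X Ω (Nat.succ 3)
  rw [SubMulAction.ofStabilizer.isMultiplyPretransitive (a := a)]
  refine ⟨fun u v => ?_⟩
  obtain ⟨⟨_, g, rfl⟩, hg⟩ := h3.exists_smul_eq u v
  exact ⟨g, hg⟩

end CfsgLib.PrimeHalf
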