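import Cfsg.Agent.Lib.Perm.MinimalDegree
import Cfsg.Agent.Lib.Perm.JordanCycle
import Cfsg.Agent.Lib.Perm.PrimeTwinFive

/-!
Quintuply transitive groups of degree `k r + k + 1` (`k ≤ 3`, `r ≥ 5` prime) contain the
alternating group: a Sylow `r`-subgroup `R` of the stabiliser of `k + 1` points has `k` orbits, its
normaliser induces the symmetric group on the fixed points, and this is too large to be seen on
the orbits unless there is an `r`-cycle or an element moving at most four points.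
-/

set_option autoImplicit false

namespace CfsgLib.PrimeHalf

open MulAction Equiv

variable {Ω : Type*} [Fintype Ω] [DecidableEq Ω] {G : Subgroup (Perm Ω)}

theorem alternating_le_of_support_le_four (hn : 5 ≤ Fintype.card Ω)
    (h5 : IsMultiplyPretransitive G Ω 5) {g : Perm Ω} (hg : g ∈ G) (hg1 : g ≠ 1)
    (hs : g.support.card ≤ 4) : alternatingGroup Ω ≤ G := by
  have hprim : IsPreprimitive G Ω := isPreprimitive_of_is_two_pretransitive
    (isMultiplyPretransitive_of_le (n := 5) (by norm_num) (by rw [Nat.card_eq_fintype_card]; omega))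
  obtain ⟨h, hh, hh1, hh3⟩ := Perm.exists_support_le_three (k := 5) (by norm_num) hn h5 hg hg1 (by omega)
  have h0 : h.support.card ≠ 0 := fun e => hh1 (by
    rwa [Finset.card_eq_zero, Perm.support_eq_empty_iff] at e)
  have h1 := Perm.card_support_ne_one h
  rcases (show h.support.card = 2 ∨ h.support.card = 3 by omega) with h2 | h2
  · rw [Perm.subgroup_eq_top_of_isPreprimitive_of_isSwap_mem hprim h (Perm.card_support_eq_two.1 h2) hh]
    exact le_top
  · exact Perm.alternatingGroup_le_of_isPreprimitive_of_isThreeCycle_mem hprim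
      (card_support_eq_three_iff.1 h2) hh

theorem commute_all_eq_one {α : Type*} [Fintype α] [DecidableEq α] (h3 : 3 ≤ Fintype.card α)
    {π : Perm α} (hπ : ∀ τ : Perm α, τ * π = π * τ) : π = 1 := by
  refine Equiv.ext fun a => ?_
  by_contra hne
  change π a ≠ a at hne
  obtain ⟨c, -, hc⟩ := Finset.exists_mem_notMem_of_card_lt_card
    (s := ({a, π a} : Finset α)) (t := Finset.univ)
    (lt_of_le_of_lt Finset.card_le_two (by rw [Finset.card_univ]; omega))
  simp only [Finset.mem_insert, Finset.mem_singleton, not_or] at hc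
  have h := Equiv.congr_fun (hπ (Equiv.swap (π a) c)) a
  simp only [Perm.mul_apply, Equiv.swap_apply_left,
    Equiv.swap_apply_of_ne_of_ne (Ne.symm hne) (Ne.symm hc.1)] at h
  exact hc.2 h

/-- The setwise stabiliser of `F` in the normaliser of `R`. -/
def normStab (G R : Subgroup (Perm Ω)) (F : Finset Ω) : Subgroup (Perm Ω) where
  carrier := {g | g ∈ G ∧ (∀ x, g x ∈ F ↔ x ∈ F) ∧ ∀ z, g * z * g⁻¹ ∈ R ↔ z ∈ R}
  one_mem' := ⟨G.one_mem, fun x => Iff.rfl, fun z => by simp⟩
  mul_mem' := by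
    rintro g h ⟨hg, hgF, hgR⟩ ⟨hh, hhF, hhR⟩
    refine ⟨G.mul_mem hg hh, fun x => ?_, fun z => ?_⟩
    · rw [Perm.mul_apply, hgF, hhF]
    · rw [show g * h * z * (g * h)⁻¹ = g * (h * z * h⁻¹) * g⁻¹ by group, hgR, hhR]
  inv_mem' := by
    rintro g ⟨hg, hgF, hgR⟩
    refine ⟨G.inv_mem hg, fun x => ?_, fun z => ?_⟩
    · rw [← hgF, ← Perm.mul_apply, mul_inv_cancel, Perm.one_apply]
    · rw [← hgR]
      group

/-- A quintuply transitive group of degree `k r + k + 1`, `k ∈ {2, 3}`, `r ≥ 5` prime, contains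
the alternating group. -/
theorem alternating_le_of_five_transitive {r k : ℕ} [Fact r.Prime] (hr : 5 ≤ r) (hk2 : 2 ≤ k)
    (hk3 : k ≤ 3) (hcard : Fintype.card Ω = k * r + (k + 1))
    (h5 : IsMultiplyPretransitive G Ω 5) : alternatingGroup Ω ≤ G := by
  classical
  have hr' := (Fact.out : r.Prime)
  have hkr : 2 * r ≤ k * r := Nat.mul_le_mul_right r hk2
  by_contra hA
  have hprim : IsPreprimitive G Ω := isPreprimitive_of_is_two_pretransitive
    (isMultiplyPretransitive_of_le (n := 5) (by norm_num) (by rw [Nat.card_eq_fintype_card]; omega))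
  obtain ⟨F, -, hF⟩ := Finset.exists_subset_card_eq (s := (Finset.univ : Finset Ω)) (n := k + 1)
    (by rw [Finset.card_univ]; omega)
  have hM : Fᶜ.card = k * r := by rw [Finset.card_compl, hF, hcard]; omega
  -- no nontrivial element moves only points of `F`
  have hsmall : ∀ g ∈ G, (∀ x ∉ F, g x = x) → g = 1 := by
    intro g hg hgM
    by_contra hg1
    refine hA (alternating_le_of_support_le_four (by omega) h5 hg hg1 ?_)
    refine le_trans (Finset.card_le_card fun x hx => ?_) (hF.le.trans (by omega))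
    by_contra hxF
    exact Perm.mem_support.1 hx (hgM x hxF)
  -- the Sylow subgroup
  let GF : Subgroup (Perm Ω) := G ⊓ fixingSubgroup (Perm Ω) (F : Set Ω)
  have hGF : ∀ g, g ∈ GF ↔ g ∈ G ∧ ∀ x ∈ F, g x = x := fun g => by
    simp [GF, mem_fixingSubgroup_iff]
  let P : Sylow r GF := default
  let R : Subgroup (Perm Ω) := (P : Subgroup GF).map GF.subtype
  have hR : ∀ z ∈ R, z ∈ G ∧ ∀ x ∈ F, z x = x := by
    rintro _ ⟨z, -, rfl⟩; exact (hGF _).1 z.2
  have hmove : ∀ x ∉ F, ∃ z ∈ R, z x ≠ x := by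
    intro x hx
    by_contra! hfix
    have hle : (P : Subgroup GF) ≤ stabilizer GF x := fun z hz => hfix _ ⟨z, hz, rfl⟩
    have horb : MulAction.orbit GF x = ↑(Fᶜ) := by
      ext y
      simp only [Finset.coe_compl, Set.mem_compl_iff, Finset.mem_coe]
      constructor
      · rintro ⟨⟨g, hg⟩, rfl⟩ hy
        exact hx (g.injective (((hGF g).1 hg).2 _ hy) ▸ hy)
      · intro hy
        obtain ⟨g, hg, hgF, hgx⟩ := Perm.exists_fix_move (by omega) h5 F (by omega) hx hy
        exact ⟨⟨g, (hGF g).2 ⟨hg, hgF⟩⟩, hgx⟩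
    have hidx : (stabilizer GF x).index = k * r := by
      rw [index_stabilizer, horb, Set.ncard_coe_finset, hM]
    refine P.not_dvd_index (dvd_trans ?_ (Subgroup.index_dvd_of_le hle))
    rw [hidx]; exact dvd_mul_left r k
  have hRp : IsPGroup r R := P.isPGroup'.map GF.subtype
  let orb : Ω → Finset Ω := fun x => Finset.univ.filter fun y => ∃ z ∈ R, z x = y
  have morb : ∀ {x y}, y ∈ orb x ↔ ∃ z ∈ R, z x = y := fun {x y} => by simp [orb]
  have oself : ∀ x, x ∈ orb x := fun x => morb.2 ⟨1, R.one_mem, rfl⟩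
  have oeq : ∀ {x y}, y ∈ orb x → orb y = orb x := by
    intro x y hy
    obtain ⟨z, hz, rfl⟩ := morb.1 hy
    ext w
    rw [morb, morb]
    constructor
    · rintro ⟨u, hu, rfl⟩; exact ⟨u * z, R.mul_mem hu hz, rfl⟩
    · rintro ⟨u, hu, rfl⟩; exact ⟨u * z⁻¹, R.mul_mem hu (R.inv_mem hz), by simp⟩
  have onotF : ∀ {x}, x ∉ F → ∀ y ∈ orb x, y ∉ F := by
    intro x hx y hy hyF
    obtain ⟨z, hz, rfl⟩ := morb.1 hy
    exact hx (z.injective ((hR z hz).2 _ hyF) ▸ hyF)
  have horbset : ∀ x, MulAction.orbit R x = ↑(orb x) := fun x => by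
    ext y
    rw [Finset.mem_coe, morb]
    exact ⟨fun ⟨z, h⟩ => ⟨z, z.2, h⟩, fun ⟨z, hz, h⟩ => ⟨⟨z, hz⟩, h⟩⟩
  have ocard : ∀ x ∉ F, (orb x).card = r := by
    intro x hx
    obtain ⟨n, hn⟩ := hRp.card_orbit x
    rw [horbset, Nat.card_eq_fintype_card, ← Set.toFinset_card, Finset.toFinset_coe] at hn
    have hle : (orb x).card ≤ k * r := hM ▸ Finset.card_le_card fun y hy =>
      Finset.mem_compl.2 (onotF hx y hy)
    rcases n with _ | _ | n
    · exfalso
      obtain ⟨z, hz, hzx⟩ := hmove x hx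
      rw [pow_zero] at hn
      exact hzx (Finset.card_le_one.1 hn.le _ (morb.2 ⟨z, hz, rfl⟩) _ (oself x))
    · simpa using hn
    · exfalso
      have h1 : r * r ∣ (orb x).card := hn ▸ ⟨r ^ n, by ring⟩
      have h2 := Nat.le_of_dvd (Finset.card_pos.2 ⟨x, oself x⟩) h1
      have h3 : k * r < r * r := Nat.mul_lt_mul_of_pos_right (by omega) hr'.pos
      omega
  -- `R` is elementary abelian
  have habel : (∀ y ∈ R, ∀ z ∈ R, y * z = z * y) ∧ ∀ z ∈ R, z ^ r = 1 := by
    have hloc : ∀ x ∉ F, (∀ y ∈ R, ∀ z ∈ R, y (z x) = z (y x)) ∧ ∀ z ∈ R, (z ^ r) x = x := by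
      intro x hx
      let T := MulAction.orbit R x
      let ρ : R →* Perm T := MulAction.toPermHom R T
      have hT : Nat.card T = r := by
        rw [show Nat.card T = Nat.card ↥(↑(orb x) : Set Ω) from Nat.card_congr (Equiv.setCongr (horbset x)),
          Nat.card_coe_set_eq, Set.ncard_coe_finset, ocard x hx]
      have hdvd : Nat.card ρ.range ∣ r := by
        obtain ⟨n, hn⟩ := (hRp.of_surjective ρ.rangeRestrict ρ.rangeRestrict_surjective).exists_card_eq
        have h := Subgroup.card_subgroup_dvd_card ρ.range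
        rw [Nat.card_perm, hT, hn] at h
        rcases n with _ | _ | n
        · rw [hn, pow_zero]; exact one_dvd r
        · rw [hn, pow_one]
        · exfalso
          rw [← Nat.mul_factorial_pred hr'.ne_zero] at h
          have h' : r ∣ (r - 1).factorial :=
            Nat.dvd_of_mul_dvd_mul_left hr'.pos (dvd_trans ⟨r ^ n, by ring⟩ h)
          have := hr'.dvd_factorial.1 h'
          omega
      have : IsCyclic ρ.range := by
        rcases (Nat.dvd_prime hr').1 hdvd with h | h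
        · have := (Nat.card_eq_one_iff_unique.1 h).1
          exact isCyclic_of_subsingleton
        · exact isCyclic_of_prime_card h
      letI := IsCyclic.commGroup (α := ρ.range)
      constructor
      · intro y hy z hz
        have h := congrArg Subtype.val (mul_comm (ρ.rangeRestrict ⟨y, hy⟩) (ρ.rangeRestrict ⟨z, hz⟩))
        exact congrArg Subtype.val (Equiv.congr_fun h ⟨x, MulAction.mem_orbit_self x⟩)
      · intro z hz
        have h : ρ.rangeRestrict ⟨z, hz⟩ ^ r = 1 :=
          orderOf_dvd_iff_pow_eq_one.1 ((orderOf_dvd_natCard _).trans hdvd)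
        rw [← map_pow] at h
        exact congrArg Subtype.val (Equiv.congr_fun (congrArg Subtype.val h) ⟨x, MulAction.mem_orbit_self x⟩)
    constructor
    · intro y hy z hz
      refine Equiv.ext fun x => ?_
      by_cases hx : x ∈ F
      · simp [(hR y hy).2 x hx, (hR z hz).2 x hx]
      · exact (hloc x hx).1 y hy z hz
    · intro z hz
      refine Equiv.ext fun x => ?_
      by_cases hx : x ∈ F
      · exact (hR _ (R.pow_mem hz r)).2 x hx
      · exact (hloc x hx).2 z hz
  obtain ⟨hcomm, hexp⟩ := habel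
  have happ : ∀ y ∈ R, ∀ z ∈ R, ∀ w, y (z w) = z (y w) := fun y hy z hz w =>
    Equiv.congr_fun (hcomm y hy z hz) w
  have hperiod : ∀ z ∈ R, ∀ x, z x ≠ x → ∀ i j : ℕ, (z ^ i) x = (z ^ j) x → (i : ZMod r) = j := by
    intro z hz x hzx i j hij
    have hper : period z x = r := by
      refine ((Nat.dvd_prime hr').1 ?_).resolve_left fun h => hzx (period_eq_one_iff.1 h)
      rw [← pow_smul_eq_iff_period_dvd, hexp z hz, one_smul]
    have h : z ^ ((i : ℤ) - j) • x = x := by
      rw [zpow_sub, zpow_natCast, zpow_natCast, hcomm _ (R.pow_mem hz i) _ (R.inv_mem (R.pow_mem hz j)),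
        mul_smul, Perm.smul_def (z ^ i) x, hij, Perm.smul_def, ← Perm.mul_apply, inv_mul_cancel, Perm.one_apply]
    rw [zpow_smul_eq_iff_period_dvd, hper, ← ZMod.intCast_zmod_eq_zero_iff_dvd] at h
    push_cast at h
    exact sub_eq_zero.1 h
  have hgen : ∀ z ∈ R, ∀ x ∉ F, z x ≠ x → ∀ w ∈ orb x, ∃ m : ℕ, (z ^ m) x = w := by
    intro z hz x hx hzx w hw
    have h1 : (Finset.univ : Finset (ZMod r)).image (fun i => (z ^ i.val) x) = orb x := by
      refine Finset.eq_of_subset_of_card_le (fun u hu => ?_) ?_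
      · obtain ⟨i, -, rfl⟩ := Finset.mem_image.1 hu
        exact morb.2 ⟨_, R.pow_mem hz _, rfl⟩
      · rw [Finset.card_image_of_injective _ fun i j hij => by
          simpa [ZMod.natCast_val] using hperiod z hz x hzx _ _ hij, Finset.card_univ, ZMod.card, ocard x hx]
    rw [← h1, Finset.mem_image] at hw
    obtain ⟨i, -, hi⟩ := hw
    exact ⟨i.val, hi⟩
  -- the orbits and the two actions of the normaliser
  let 𝒪 : Finset (Finset Ω) := Fᶜ.image orb
  have m𝒪 : ∀ {O}, O ∈ 𝒪 ↔ ∃ x ∉ F, orb x = O := fun {O} => by simp [𝒪]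
  have mem_orbit_iff' : ∀ {O}, O ∈ 𝒪 → ∀ {x}, x ∈ O ↔ x ∉ F ∧ orb x = O := by
    intro O hO x
    obtain ⟨x₀, hx₀, rfl⟩ := m𝒪.1 hO
    exact ⟨fun h => ⟨onotF hx₀ x h, oeq h⟩, fun h => h.2 ▸ oself x⟩
  have h𝒪card : 𝒪.card = k := by
    have hsum : Fᶜ.card = ∑ O ∈ 𝒪, (Fᶜ.filter fun x => orb x = O).card :=
      Finset.card_eq_sum_card_fiberwise fun x hx => Finset.mem_image_of_mem orb hx
    rw [hM, Finset.sum_congr rfl (fun O hO => show _ = r from ?_), Finset.sum_const, smul_eq_mul] at hsum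
    · exact (Nat.eq_of_mul_eq_mul_right hr'.pos hsum).symm
    obtain ⟨x, hx, hxO⟩ := m𝒪.1 hO
    rw [← ocard x hx, hxO]
    congr 1
    ext y
    rw [Finset.mem_filter, Finset.mem_compl, mem_orbit_iff' hO]
  let X := normStab G R F
  have himage : ∀ g : X, ∀ x, (orb x).image (g : Perm Ω) = orb ((g : Perm Ω) x) := by
    intro g x
    ext y
    rw [Finset.mem_image, morb]
    constructor
    · rintro ⟨w, hw, rfl⟩
      obtain ⟨z, hz, rfl⟩ := morb.1 hw
      exact ⟨_, (g.2.2.2 z).2 hz, by simp⟩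
    · rintro ⟨z, hz, rfl⟩
      refine ⟨(g : Perm Ω)⁻¹ (z ((g : Perm Ω) x)), morb.2 ⟨(g : Perm Ω)⁻¹ * z * g, ?_, rfl⟩, by simp⟩
      rw [← g.2.2.2]
      simpa [mul_assoc] using hz
  have hχmem : ∀ g : X, ∀ O ∈ 𝒪, O.image (g : Perm Ω) ∈ 𝒪 := by
    intro g O hO
    obtain ⟨x, hx, rfl⟩ := m𝒪.1 hO
    exact m𝒪.2 ⟨_, fun h => hx ((g.2.2.1 x).1 h), (himage g x).symm⟩
  let χ₀ : X → (𝒪 → 𝒪) := fun g O => ⟨O.1.image (g : Perm Ω), hχmem g _ O.2⟩
  have χ₀mul : ∀ g h : X, χ₀ (g * h) = χ₀ g ∘ χ₀ h := fun g h => funext fun O => Subtype.ext (by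
    simp [χ₀, Finset.image_image, Function.comp_def])
  have χ₀one : χ₀ 1 = id := funext fun O => Subtype.ext (by simp [χ₀])
  let χ : X →* Perm 𝒪 :=
    { toFun := fun g => ⟨χ₀ g, χ₀ g⁻¹, fun O => by rw [← Function.comp_apply (f := χ₀ g⁻¹), ← χ₀mul, inv_mul_cancel, χ₀one]; rfl,
        fun O => by rw [← Function.comp_apply (f := χ₀ g), ← χ₀mul, mul_inv_cancel, χ₀one]; rfl⟩
      map_one' := Equiv.ext fun O => congrFun χ₀one O
      map_mul' := fun g h => Equiv.ext fun O => congrFun (χ₀mul g h) O }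
  let φ : X →* Perm F :=
    { toFun := fun g => Equiv.Perm.subtypePerm (g : Perm Ω) g.2.2.1
      map_one' := rfl
      map_mul' := fun _ _ => rfl }
  have hφsurj : Function.Surjective φ := by
    intro π
    let ψ : Ω → Ω := fun x => if hx : x ∈ F then (π ⟨x, hx⟩ : Ω) else x
    obtain ⟨h, hh, hhF⟩ := Perm.exists_map_of_transitive (by omega) h5 F (by omega) ψ (by
      intro x hx y hy hxy
      simp only [Finset.mem_coe] at hx hy
      simp only [ψ, dif_pos hx, dif_pos hy] at hxy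
      exact congrArg Subtype.val (π.injective (Subtype.ext hxy)))
    have hhF' : ∀ x : F, h x = π x := fun x => by rw [hhF x x.2]; simp [ψ]
    have himg : ∀ x, h x ∈ F ↔ x ∈ F := by
      refine fun x => ⟨fun hx => ?_, fun hx => by rw [hhF' ⟨x, hx⟩]; exact (π ⟨x, hx⟩).2⟩
      have : h x = h (π.symm ⟨h x, hx⟩ : F) := by rw [hhF']; simp
      rw [h.injective this]; exact Subtype.mem _
    have hGFh : ∀ z, h * z * h⁻¹ ∈ GF ↔ z ∈ GF := by
      intro z
      rw [hGF, hGF]
      refine and_congr ?_ ⟨fun H x hx => ?_, fun H x hx => ?_⟩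
      · exact ⟨fun h1 => by simpa [mul_assoc] using G.mul_mem (G.mul_mem (G.inv_mem hh) h1) hh,
          fun h1 => G.mul_mem (G.mul_mem hh h1) (G.inv_mem hh)⟩
      · exact h.injective (by simpa using H (h x) ((himg x).2 hx))
      · have : h⁻¹ x ∈ F := (himg _).1 (by simp [hx])
        rw [Perm.mul_apply, Perm.mul_apply, H _ this]
        simp
    let c : GF ≃* GF :=
      { toFun := fun z => ⟨h * z * h⁻¹, (hGFh z).2 z.2⟩
        invFun := fun z => ⟨h⁻¹ * z * h, (hGFh _).1 (by simpa [mul_assoc] using z.2)⟩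
        left_inv := fun z => Subtype.ext (by simp [mul_assoc])
        right_inv := fun z => Subtype.ext (by simp [mul_assoc])
        map_mul' := fun z w => Subtype.ext (by simp [mul_assoc]) }
    let Q : Sylow r GF := P.mapSurjective (f := c.toMonoidHom) c.surjective
    obtain ⟨u, hu⟩ := MulAction.exists_smul_eq GF Q P
    have hmem : ∀ z : GF, u * c z * u⁻¹ ∈ (P : Subgroup GF) ↔ z ∈ (P : Subgroup GF) := by
      intro z
      conv_lhs => rw [← hu, Sylow.smul_def, Sylow.pointwise_smul_def]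
      constructor
      · rintro ⟨_, ⟨z', hz', rfl⟩, hw⟩
        have : z' = z := c.injective ((MulAut.conj u).injective hw)
        exact this ▸ hz'
      · exact fun hz => ⟨c z, ⟨z, hz, rfl⟩, rfl⟩
    have hu' := (hGF (u : Perm Ω)).1 u.2
    have hX : (u : Perm Ω) * h ∈ X := by
      refine ⟨G.mul_mem hu'.1 hh, fun x => ?_, fun z => ?_⟩
      · rw [Perm.mul_apply]
        constructor
        · intro hx
          exact (himg x).1 ((u : Perm Ω).injective (hu'.2 _ hx) ▸ hx)
        · intro hx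
          have := (himg x).2 hx
          rwa [hu'.2 _ this]
      constructor
      · rintro ⟨w, hw, hwz⟩
        have hzGF : z ∈ GF := by
          rw [← hGFh]
          have := GF.mul_mem (GF.mul_mem (GF.inv_mem u.2) w.2) u.2
          rw [show (GF.subtype w) = (w : Perm Ω) from rfl] at hwz
          rw [hwz] at this
          simpa [mul_assoc] using this
        refine ⟨⟨z, hzGF⟩, (hmem _).1 ?_, rfl⟩
        have hw' : u * c ⟨z, hzGF⟩ * u⁻¹ = w := Subtype.ext (by
          simpa [c, mul_assoc] using hwz.symm)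
        rw [hw']
        exact hw
      · rintro ⟨z, hz, rfl⟩
        exact ⟨_, (hmem z).2 hz, by simp [c, mul_assoc]⟩
    refine ⟨⟨_, hX⟩, Equiv.ext fun x => Subtype.ext ?_⟩
    change (u : Perm Ω) (h x) = π x
    rw [hhF' x, hu'.2 _ (π x).2]
  -- elements fixing every orbit act on `R` as powers and so are trivial on `F`
  have hK : ∀ g ∈ χ.ker, ∃ l : ℕ, ∀ z ∈ R, (g : Perm Ω) * z * (g : Perm Ω)⁻¹ = z ^ l := by
    intro g hg
    rw [MonoidHom.mem_ker] at hg
    have hfix : ∀ O ∈ 𝒪, ∀ x ∈ O, (g : Perm Ω)⁻¹ x ∈ O := by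
      intro O hO x hx
      have h1 : O.image (g : Perm Ω) = O := congrArg Subtype.val (Equiv.congr_fun hg ⟨O, hO⟩)
      rw [← h1, Finset.mem_image] at hx
      obtain ⟨y, hy, rfl⟩ := hx
      simpa using hy
    have hlam : ∀ O : 𝒪, ∃ l : ℕ, ∀ z ∈ R, ∀ w ∈ O.1,
        ((g : Perm Ω) * z * (g : Perm Ω)⁻¹) w = (z ^ l) w := by
      rintro ⟨O, hO⟩
      obtain ⟨x, hx, rfl⟩ := m𝒪.1 hO
      obtain ⟨z₀, hz₀, hz₀x⟩ := hmove x hx
      have hz₁ := (g.2.2.2 z₀).2 hz₀
      obtain ⟨l, hl⟩ := hgen z₀ hz₀ x hx hz₀x _ (morb.2 ⟨_, hz₁, rfl⟩)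
      refine ⟨l, fun z hz w hw => ?_⟩
      obtain ⟨m, hm⟩ := hgen z₀ hz₀ x hx hz₀x (z x) (morb.2 ⟨z, hz, rfl⟩)
      have hpow : ∀ {y : Perm Ω}, y ∈ R → ∀ {y' : Perm Ω}, y' ∈ R → y x = y' x → ∀ v ∈ orb x, y v = y' v := by
        intro y hy y' hy' he v hv
        obtain ⟨u, hu, rfl⟩ := morb.1 hv
        rw [happ y hy u hu, happ y' hy' u hu, he]
      have h1 : ∀ v ∈ orb x, ((g : Perm Ω) * z * (g : Perm Ω)⁻¹) v =
          ((g : Perm Ω) * z₀ ^ m * (g : Perm Ω)⁻¹) v := fun v hv => by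
        simp only [Perm.mul_apply]
        rw [hpow hz (R.pow_mem hz₀ m) hm.symm _ (hfix _ hO v hv)]
      have h2 : ((g : Perm Ω) * z₀ ^ m * (g : Perm Ω)⁻¹) x = ((z₀ ^ m) ^ l) x := by
        rw [← conj_pow, ← pow_mul, mul_comm, pow_mul]
        have : ∀ n : ℕ, (((g : Perm Ω) * z₀ * (g : Perm Ω)⁻¹) ^ n) x = ((z₀ ^ l) ^ n) x := by
          intro n
          induction n with
          | zero => rfl
          | succ n ih =>
            rw [pow_succ', pow_succ', Perm.mul_apply, Perm.mul_apply, ih]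
            exact hpow hz₁ (R.pow_mem hz₀ l) hl.symm _ (morb.2 ⟨_, R.pow_mem (R.pow_mem hz₀ l) n, rfl⟩)
        exact this m
      have h3 := hpow ((g.2.2.2 z).2 hz) (R.pow_mem hz l) (y := (g : Perm Ω) * z * (g : Perm Ω)⁻¹) (y' := z ^ l) ?_ w hw
      · exact h3
      rw [h1 x (oself x), h2]
      have : ∀ n : ℕ, (z ^ n) x = ((z₀ ^ m) ^ n) x := by
        intro n
        induction n with
        | zero => rfl
        | succ n ih =>
          rw [pow_succ', pow_succ', Perm.mul_apply, Perm.mul_apply, ih]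
          exact hpow hz (R.pow_mem hz₀ m) hm.symm _ (morb.2 ⟨_, R.pow_mem (R.pow_mem hz₀ m) n, rfl⟩)
      exact (this l).symm
    choose l hl using hlam
    by_cases hsame : ∀ O O' : 𝒪, (l O : ZMod r) = l O'
    · have hne : 𝒪.Nonempty := Finset.card_pos.1 (by omega)
      obtain ⟨O₀, hO₀⟩ := hne
      refine ⟨l ⟨O₀, hO₀⟩, fun z hz => Equiv.ext fun w => ?_⟩
      by_cases hw : w ∈ F
      · rw [(hR _ ((g.2.2.2 z).2 hz)).2 w hw, (hR _ (R.pow_mem hz _)).2 w hw]
      · have hO : orb w ∈ 𝒪 := m𝒪.2 ⟨w, hw, rfl⟩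
        rw [hl ⟨_, hO⟩ z hz w (oself w),
          pow_eq_pow_mod (l ⟨_, hO⟩) (hexp z hz), pow_eq_pow_mod (l ⟨O₀, hO₀⟩) (hexp z hz)]
        have := (ZMod.natCast_eq_natCast_iff' _ _ _).1 (hsame ⟨_, hO⟩ ⟨O₀, hO₀⟩)
        rw [this]
    · exfalso
      obtain ⟨i, hi⟩ : ∃ i : 𝒪, ∀ j, j ≠ i → (l j : ZMod r) ≠ l i := by
        by_contra! hno
        push Not at hsame
        obtain ⟨O, O', hOO⟩ := hsame
        obtain ⟨j, hj, hjl⟩ := hno O
        obtain ⟨j', hj', hjl'⟩ := hno O'
        have h4 : ({O, j, O', j'} : Finset 𝒪).card = 4 := by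
          rw [Finset.card_eq_four]
          exact ⟨O, j, O', j', hj.symm, fun e => hOO (by rw [e]), fun e => hOO (by rw [e, hjl']),
            fun e => hOO (by rw [← hjl, e]), fun e => hOO (by rw [← hjl, e, hjl']), hj'.symm, rfl⟩
        have := Finset.card_le_univ ({O, j, O', j'} : Finset 𝒪)
        rw [h4, Fintype.card_coe, h𝒪card] at this
        omega
      obtain ⟨x, hx, hxO⟩ := m𝒪.1 i.2
      have key : ∀ S : Finset 𝒪, i ∉ S → ∃ z ∈ R, z x ≠ x ∧ ∀ j ∈ S, ∀ w ∈ j.1, z w = w := by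
        intro S
        induction S using Finset.induction with
        | empty =>
          intro _
          obtain ⟨z, hz, hzx⟩ := hmove x hx
          exact ⟨z, hz, hzx, by simp⟩
        | @insert j S hjS ih =>
          intro hiS
          simp only [Finset.mem_insert, not_or] at hiS
          obtain ⟨z, hz, hzx, hzS⟩ := ih hiS.2
          have hu := R.inv_mem (R.pow_mem hz (l j))
          refine ⟨(g : Perm Ω) * z * (g : Perm Ω)⁻¹ * (z ^ l j)⁻¹, R.mul_mem ((g.2.2.2 z).2 hz) hu, ?_, ?_⟩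
          · intro h
            rw [Perm.mul_apply, hl i z hz _ (hxO ▸ morb.2 ⟨_, hu, rfl⟩), happ _ (R.pow_mem hz _) _ hu,
              Perm.inv_eq_iff_eq] at h
            exact hi j (Ne.symm hiS.1) (hperiod z hz x hzx _ _ h).symm
          intro j' hj' w hw
          obtain ⟨x', hx', hxO'⟩ := m𝒪.1 j'.2
          have hw' : (z ^ l j)⁻¹ w ∈ j'.1 := by
            rw [← hxO'] at hw ⊢
            rw [← oeq hw]
            exact morb.2 ⟨_, hu, rfl⟩
          rcases Finset.mem_insert.1 hj' with rfl | hj'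
          · rw [Perm.mul_apply, hl j' z hz _ hw']
            simp
          · have hpw : ∀ n : ℕ, ∀ v ∈ j'.1, (z ^ n) v = v := by
              intro n v hv
              induction n with
              | zero => rfl
              | succ n ih => rw [pow_succ', Perm.mul_apply, ih, hzS j' hj' v hv]
            rw [Perm.mul_apply, hl j' z hz _ hw', hpw _ _ hw', Perm.inv_eq_iff_eq, hpw _ _ hw]
      obtain ⟨z, hz, hzx, hzfix⟩ := key (Finset.univ.erase i) (by simp)
      have hsupp : z.support ⊆ i.1 := by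
        intro w hw
        rw [Perm.mem_support] at hw
        by_contra hwi
        by_cases hwF : w ∈ F
        · exact hw ((hR z hz).2 w hwF)
        · refine hw (hzfix ⟨orb w, m𝒪.2 ⟨w, hwF, rfl⟩⟩ (Finset.mem_erase.2 ⟨fun e => hwi ?_, Finset.mem_univ _⟩) w (oself w))
          rw [← e]; exact oself w
      have hz1 : z ≠ 1 := fun e => hzx (by simp [e])
      have hzord : orderOf z = r := orderOf_eq_prime (hexp z hz) hz1
      have hic : i.1.card = r := by rw [← hxO, ocard x hx]
      have hcyc : z.IsCycle := Perm.isCycle_of_prime_order (by rw [hzord]; exact hr')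
        (by rw [hzord]; have := Finset.card_le_card hsupp; omega)
      exact hA (Perm.alternatingGroup_le_of_prime_cycle hprim (p := r) (by omega) hcyc
        (by rw [← hcyc.orderOf, hzord]) (hR z hz).1)
  have hcent : ∀ g ∈ χ.ker, (∀ z ∈ R, (g : Perm Ω) * z * (g : Perm Ω)⁻¹ = z) → φ g = 1 := by
    intro g hg hgc
    rw [MonoidHom.mem_ker] at hg
    have hgr : (g : Perm Ω) ^ r = 1 := by
      refine hsmall _ (G.pow_mem g.2.1 r) fun x hx => ?_
      have hO : orb x ∈ 𝒪 := m𝒪.2 ⟨x, hx, rfl⟩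
      have h1 : (orb x).image (g : Perm Ω) = orb x := congrArg Subtype.val (Equiv.congr_fun hg ⟨_, hO⟩)
      obtain ⟨z₀, hz₀, hz₀x⟩ := hmove x hx
      obtain ⟨m, hm⟩ := hgen z₀ hz₀ x hx hz₀x ((g : Perm Ω) x)
        (h1 ▸ Finset.mem_image_of_mem _ (oself x))
      have hc : Commute (g : Perm Ω) (z₀ ^ m) := by
        have := hgc _ (R.pow_mem hz₀ m)
        rw [mul_inv_eq_iff_eq_mul] at this
        exact this
      have : ∀ n : ℕ, ((g : Perm Ω) ^ n) x = ((z₀ ^ m) ^ n) x := by
        intro n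
        induction n with
        | zero => rfl
        | succ n ih =>
          rw [pow_succ', Perm.mul_apply, ih, ← Perm.mul_apply, (hc.pow_right n).eq, Perm.mul_apply,
            ← hm, ← Perm.mul_apply, ← pow_succ]
      rw [this, hexp _ (R.pow_mem hz₀ m)]
      rfl
    have h1 : φ g ^ r = 1 := by
      rw [← map_pow, show g ^ r = 1 from Subtype.ext (by simpa using hgr), map_one]
    refine orderOf_eq_one_iff.1 (Nat.eq_one_of_dvd_coprimes ?_ (orderOf_dvd_of_pow_eq_one h1)
      (orderOf_dvd_natCard (φ g)))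
    rw [Nat.card_perm, Nat.card_eq_fintype_card, Fintype.card_coe, hF]
    exact hr'.coprime_iff_not_dvd.2 (fun h => by have := hr'.dvd_factorial.1 h; omega)
  have hker : χ.ker ≤ φ.ker := by
    intro g hg
    rw [MonoidHom.mem_ker]
    refine commute_all_eq_one (by rw [Fintype.card_coe, hF]; omega) fun τ => ?_
    obtain ⟨h, rfl⟩ := hφsurj τ
    obtain ⟨l, hl⟩ := hK g hg
    have hhg : h * g * h⁻¹ ∈ χ.ker := (inferInstance : χ.ker.Normal).conj_mem g hg h
    have := hcent _ (χ.ker.mul_mem hhg (χ.ker.inv_mem hg)) fun z hz => by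
      obtain ⟨y, hy, rfl⟩ : ∃ y ∈ R, y ^ l = z := by
        have hmem := (g.2.2.2 ((g : Perm Ω)⁻¹ * z * g)).1 (by simpa [mul_assoc] using hz)
        exact ⟨_, hmem, by rw [← hl _ hmem]; group⟩
      have hw : (h : Perm Ω)⁻¹ * y * h ∈ R := (h.2.2.2 _).1 (by simpa [mul_assoc] using hy)
      simp only [Subgroup.coe_mul, Subgroup.coe_inv]
      calc _ = (h : Perm Ω) * ((g : Perm Ω) * ((h : Perm Ω)⁻¹ * ((g : Perm Ω)⁻¹ * y ^ l * g) * h) * (g : Perm Ω)⁻¹) * (h : Perm Ω)⁻¹ := by group
        _ = _ := by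
          rw [← hl y hy]
          rw [show (g : Perm Ω)⁻¹ * ((g : Perm Ω) * y * (g : Perm Ω)⁻¹) * g = y by group, hl _ hw,
            ← conj_pow, hl y hy]
          congr 1
          group
    rw [map_mul, map_mul, map_mul, map_inv, map_inv, mul_inv_eq_one, mul_inv_eq_iff_eq_mul] at this
    exact this
  have h1 := Subgroup.index_antitone hker
  rw [Subgroup.index_ker, Subgroup.index_ker, MonoidHom.range_eq_top.2 hφsurj, Subgroup.card_top,
    Nat.card_perm, Nat.card_eq_fintype_card, Fintype.card_coe, hF] at h1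
  have h2 := Nat.le_of_dvd (Nat.factorial_pos _) (Subgroup.card_subgroup_dvd_card χ.range |>.trans
    (by rw [Nat.card_perm, Nat.card_eq_fintype_card, Fintype.card_coe, h𝒪card]))
  have h3 : k.factorial < (k + 1).factorial := Nat.factorial_lt_of_lt (by omega) (by omega)
  omega

end CfsgLib.PrimeHalf
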