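import Cfsg.Agent.Lib.Perm.OddTransLinear
import Cfsg.Agent.Lib.RankOne.Nilp

/-!
In the rank-one set-up the two-point stabiliser acts semilinearly on the involutions of a point stabiliser.
-/

set_option autoImplicit false
set_option maxHeartbeats 1000000

open MulAction

namespace CfsgLib.Perm.RankOneSemi

universe u

/-- An odd order group transitive on the non-zero vectors acts semilinearly, with a given vector as `1`. -/
theorem exists_semilinear {E : Type*} [AddCommGroup E] [Module (ZMod 2) E] [Finite E] [Nontrivial E]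
    {H : Type u} [Group H] [Finite H] (hodd : Odd (Nat.card H)) (ρ : H →* Module.End (ZMod 2) E)
    (htr : ∀ v w : E, v ≠ 0 → w ≠ 0 → ∃ g : H, ρ g v = w) (s : E) (hs : s ≠ 0) :
    ∃ (d : ℕ) (e : E ≃+ GaloisField 2 d) (c : H → GaloisField 2 d)
      (τ : H →* (GaloisField 2 d ≃ₐ[ZMod 2] GaloisField 2 d)),
      0 < d ∧ Nat.card E = 2 ^ d ∧ e s = 1 ∧ (∀ g v, e (ρ g v) = c g * τ g (e v)) ∧
      (∀ g, c g = e (ρ g s)) ∧ (∀ g, c g ≠ 0) ∧ ∀ g h, c (g * h) = c g * τ g (c h) := by
  classical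
  haveI : Fact (Nat.Prime 2) := ⟨Nat.prime_two⟩
  obtain ⟨d, hd⟩ := (IsPGroup.iff_card (p := 2) (G := Multiplicative E)).1 fun x => ⟨1, by
    rw [pow_one, pow_two]
    refine congrArg Multiplicative.ofAdd (?_ : x.toAdd + x.toAdd = 0)
    rw [← two_smul (ZMod 2), show (2 : ZMod 2) = 0 from rfl, zero_smul]⟩
  change Nat.card E = 2 ^ d at hd
  have hd0 : d ≠ 0 := fun h => by
    rw [h, pow_zero] at hd; exact Finite.one_lt_card.ne' hd
  let ρu : H →* (Module.End (ZMod 2) E)ˣ := ρ.toHomUnits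
  haveI : Finite ρu.range := Finite.of_surjective ρu.rangeRestrict ρu.rangeRestrict_surjective
  haveI hsol : Group.IsSolvable ρu.range :=
    haveI := CfsgLib.FT.isSolvable_of_odd hodd
    Group.isSolvable_of_surjective ρu.rangeRestrict_surjective
  let R : ρu.range →* Module.End (ZMod 2) E := (Units.coeHom _).comp ρu.range.subtype
  have hR : Function.Injective R := Units.val_injective.comp Subtype.val_injective
  have htrR : ∀ v w : E, v ≠ 0 → w ≠ 0 → ∃ g, R g v = w := fun v w hv hw =>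
    let ⟨g, hg⟩ := htr v w hv hw
    ⟨ρu.rangeRestrict g, hg⟩
  obtain ⟨F₀, _, _, e₀, he₀⟩ := (CfsgLib.Recog.TransLinear.semilinear_or_small hR hsol htrR).resolve_right
    fun h => by
      simp only [Set.mem_insert_iff, Set.mem_singleton_iff] at h
      have : 2 ∣ Nat.card E := by rw [hd]; exact dvd_pow_self 2 hd0
      omega
  have : Fintype (GaloisField 2 d) := Fintype.ofFinite _
  let φ : F₀ ≃+* GaloisField 2 d := FiniteField.ringEquivOfCardEq (by
    rw [← Nat.card_eq_fintype_card, ← Nat.card_eq_fintype_card, GaloisField.card 2 d hd0,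
      ← Nat.card_congr e₀.toEquiv, hd])
  let e₁ : E ≃+ GaloisField 2 d := e₀.trans φ.toAddEquiv
  have hs1 : e₁ s ≠ 0 := fun h => hs (e₁.map_eq_zero_iff.1 h)
  let m : GaloisField 2 d ≃+ GaloisField 2 d :=
    { toFun := fun x => x * (e₁ s)⁻¹
      invFun := fun x => x * e₁ s
      left_inv := fun x => by simp [mul_assoc, inv_mul_cancel₀ hs1]
      right_inv := fun x => by simp [mul_assoc, mul_inv_cancel₀ hs1]
      map_add' := fun x y => add_mul x y _ }
  let e : E ≃+ GaloisField 2 d := e₁.trans m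
  have hes : e s = 1 := mul_inv_cancel₀ hs1
  have hsemi : ∀ g : H, ∃ (a : GaloisField 2 d) (σ : GaloisField 2 d ≃ₐ[ZMod 2] GaloisField 2 d),
      ∀ v, e (ρ g v) = a * σ (e v) := by
    intro g
    obtain ⟨a, σ, hσ⟩ := he₀ (ρu.rangeRestrict g)
    let σ' : GaloisField 2 d ≃+* GaloisField 2 d := (φ.symm.trans σ).trans φ
    refine ⟨φ a * σ' (e₁ s) * (e₁ s)⁻¹, AlgEquiv.ofRingEquiv (f := σ') fun x => ?_, fun v => ?_⟩
    · exact RingHom.congr_fun (Subsingleton.elim
        (σ'.toRingHom.comp (algebraMap (ZMod 2) (GaloisField 2 d))) (algebraMap _ _)) x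
    · have h1 : e₁ (ρ g v) = φ a * σ' (e₁ v) := by
        change φ (e₀ (R (ρu.rangeRestrict g) v)) = φ a * φ (σ (φ.symm (φ (e₀ v))))
        rw [hσ, map_mul, RingEquiv.symm_apply_apply]
      change e₁ (ρ g v) * (e₁ s)⁻¹ = _ * σ' (e₁ v * (e₁ s)⁻¹)
      rw [h1, map_mul, map_inv₀]
      have hne : σ' (e₁ s) ≠ 0 := fun h => hs1 ((map_eq_zero σ').1 h)
      field_simp
  choose c σ hσ using hsemi
  have hone : ∀ g, c g = e (ρ g s) := fun g => by rw [hσ, hes, map_one, mul_one]
  have hc0 : ∀ g, c g ≠ 0 := fun g h => by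
    have h1 := hone g
    rw [h, eq_comm, e.map_eq_zero_iff] at h1
    exact hs (by
      rw [show s = ρ (g⁻¹ * g) s by rw [inv_mul_cancel, map_one]; rfl, map_mul, Module.End.mul_apply, h1,
        map_zero])
  have hmul : ∀ g h, c (g * h) = c g * σ g (c h) ∧ σ (g * h) = σ g * σ h := fun g h => by
    have h1 : c (g * h) = c g * σ g (c h) := by
      rw [hone (g * h), map_mul, Module.End.mul_apply, hσ, ← hone]
    refine ⟨h1, AlgEquiv.ext fun x => ?_⟩
    obtain ⟨v, rfl⟩ := e.surjective x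
    have h2 := hσ (g * h) v
    rw [map_mul, Module.End.mul_apply, hσ, hσ, map_mul, ← mul_assoc, ← h1] at h2
    exact (mul_left_cancel₀ (hc0 _) h2).symm
  exact ⟨d, e, c, MonoidHom.mk' σ fun g h => (hmul g h).2, Nat.pos_of_ne_zero hd0, hd, hes, hσ, hone, hc0,
    fun g h => (hmul g h).1⟩

/-- An automorphism fixing an element of suitable prime order is trivial. -/
theorem eq_one_of_fixed {d r : ℕ} (hd : d ≠ 0) (hre : ∀ e, e ∣ d → Odd (d / e) → r ∣ 2 ^ e - 1 → e = d)
    {z : GaloisField 2 d} (hz : orderOf z = r) (hz0 : z ≠ 0) {σ : GaloisField 2 d ≃ₐ[ZMod 2] GaloisField 2 d}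
    (hodd : Odd (orderOf σ)) (hfix : σ z = z) : σ = 1 := by
  haveI : Fact (Nat.Prime 2) := ⟨Nat.prime_two⟩
  let K := IntermediateField.fixedField (Subgroup.zpowers σ)
  have hmem : z ∈ K := by
    rw [IntermediateField.mem_fixedField_iff]
    intro f hf
    have : Subgroup.zpowers σ ≤ MulAction.stabilizer _ z := Subgroup.zpowers_le.2 hfix
    exact this hf
  have hK := Module.finrank_mul_finrank (ZMod 2) K (GaloisField 2 d)
  rw [IntermediateField.finrank_fixedField_eq_card, GaloisField.finrank 2 hd, Nat.card_zpowers] at hK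
  have hKc := Module.natCard_eq_pow_finrank (K := ZMod 2) (V := K)
  rw [Nat.card_zmod] at hKc
  have hpos : 0 < Module.finrank (ZMod 2) K := Module.finrank_pos
  have he : Module.finrank (ZMod 2) K = d := by
    refine hre _ (Dvd.intro _ hK) ?_ ?_
    · have h := Nat.mul_div_cancel_left (orderOf σ) hpos
      rw [hK] at h
      rwa [h]
    · rw [← hKc, ← Nat.card_units]
      let u : Kˣ := Units.mk0 ⟨z, hmem⟩ fun h => hz0 (congrArg Subtype.val h)
      have hu : orderOf u = r := by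
        rw [← orderOf_units, ← orderOf_injective (K.val : K →* GaloisField 2 d) Subtype.val_injective, ← hz]
        rfl
      exact hu ▸ orderOf_dvd_natCard u
  rw [he] at hK
  have : d * orderOf σ = d * 1 := by rw [hK, mul_one]
  exact orderOf_eq_one_iff.1 (Nat.eq_of_mul_eq_mul_left (Nat.pos_of_ne_zero hd) this)

section Setup

open CfsgLib.RankOne

variable {G Ω : Type*} [Group G] [Finite G] [MulAction G Ω] [FaithfulSMul G Ω] {a : Ω} {t : G}
  {Q : Subgroup G}

theorem main (hS : Cfsg.IsRankOneSetup G Ω a t Q)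
    (h2 : ∃ x y : G, x ≠ 1 ∧ y ≠ 1 ∧ x ≠ y ∧ x * x = 1 ∧ y * y = 1 ∧ x * y = y * x) :
    (∃ C : Subgroup G, (C : Set G) = Cfsg.invertedBy (Dsub a t) t ∧ IsCyclic C ∧
      ∀ d ∈ Dsub a t, ∀ c ∈ C, d * c * d⁻¹ ∈ C) ∧
    ∃ v ∈ Dsub a t ⊓ Subgroup.centralizer {t},
      (Dsub a t ⊓ Subgroup.centralizer {t} ⊓ Subgroup.centralizer (Cfsg.invertedBy (Dsub a t) t)) ⊔
          Subgroup.closure {v} =
        Dsub a t ⊓ Subgroup.centralizer {t} := by
  classical
  haveI : Fact (Nat.Prime 2) := ⟨Nat.prime_two⟩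
  have ht := hS.mul_self
  have hn : ∀ x ∈ Dsub a t, t * x * t⁻¹ ∈ Dsub a t := fun x hx => conj_t_mem hS hx
  have hti : t⁻¹ = t := t_inv hS
  set D := Dsub a t with hD
  set J := Cfsg.involutionsIn (stabilizer G a : Set G) with hJ
  set K := Cfsg.invertedBy D t with hK
  let E : Subgroup G :=
    { carrier := {x | x ∈ stabilizer G a ∧ x * x = 1}
      one_mem' := ⟨one_mem _, one_mul 1⟩
      mul_mem' := fun {x y} hx hy => by
        refine ⟨mul_mem hx.1 hy.1, ?_⟩
        by_cases hx1 : x = 1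
        · rw [hx1, one_mul]; exact hy.2
        by_cases hy1 : y = 1
        · rw [hy1, mul_one]; exact hx.2
        have e := commute_Q hS h2 (s := x) ⟨hx.1, hx1, hx.2⟩ (mem_Q hS hy.2 hy.1)
        calc x * y * (x * y) = x * y * (y * x) := by rw [← e]
          _ = x * (y * y) * x := by group
          _ = 1 := by rw [hy.2, mul_one, hx.2]
      inv_mem' := fun {x} hx => by rw [inv_eq_of_mul_eq_one_left hx.2]; exact hx }
  have hEmem : ∀ x, x ∈ E ↔ x = 1 ∨ x ∈ J := fun x => by
    constructor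
    · intro hx
      by_cases hx1 : x = 1
      · exact Or.inl hx1
      · exact Or.inr ⟨hx.1, hx1, hx.2⟩
    · rintro (rfl | hx)
      · exact one_mem E
      · exact ⟨hx.1, hx.2.2⟩
  have hEexp : ∀ x : E, x * x = 1 := fun x => Subtype.ext x.2.2
  letI : CommGroup E := { (inferInstance : Group E) with
    mul_comm := fun x y => by
      have i : ∀ z : E, z⁻¹ = z := fun z => inv_eq_of_mul_eq_one_left (hEexp z)
      rw [← i (x * y), mul_inv_rev, i, i] }
  have inst : Module (ZMod 2) (Additive E) :=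
    AddCommGroup.zmodModule (n := 2) fun x => (by rw [pow_two]; exact hEexp x.toMul : x.toMul ^ 2 = 1)
  haveI : Finite (Additive E) := inferInstanceAs (Finite E)
  have hDE : ∀ g ∈ D, ∀ x ∈ E, g * x * g⁻¹ ∈ E := fun g hg x hx => by
    refine ⟨mul_mem (mul_mem hg.1 hx.1) (inv_mem hg.1), ?_⟩
    rw [show g * x * g⁻¹ * (g * x * g⁻¹) = g * (x * x) * g⁻¹ by group, hx.2]
    group
  let cj : D → E →* E := fun g =>
    { toFun := fun x => ⟨g * x * (g : G)⁻¹, hDE g g.2 x x.2⟩
      map_one' := Subtype.ext (by simp)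
      map_mul' := fun x y => Subtype.ext (by simp [mul_assoc]) }
  let ρ : D →* Module.End (ZMod 2) (Additive E) :=
    { toFun := fun g => (cj g).toAdditive.toZModLinearMap 2
      map_one' := LinearMap.ext fun v => congrArg Additive.ofMul (Subtype.ext (by simp [cj]) : cj 1 v.toMul = v.toMul)
      map_mul' := fun g h => LinearMap.ext fun v => congrArg Additive.ofMul
        (Subtype.ext (by simp [cj, mul_assoc]) : cj (g * h) v.toMul = cj g (cj h v.toMul)) }
  have hρv : ∀ (g : D) (x : E), (((ρ g (Additive.ofMul x)).toMul : E) : G) = g * x * (g : G)⁻¹ := fun g x => rfl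
  obtain ⟨s₀, hs₀, hrel⟩ := exists_base hS
  let s : Additive E := Additive.ofMul ⟨s₀, (hEmem s₀).2 (Or.inr hs₀)⟩
  have hs : s ≠ 0 := fun h => hs₀.2.1 (congrArg (fun v : Additive E => ((v.toMul : E) : G)) h)
  haveI : Nontrivial (Additive E) := ⟨⟨s, 0, hs⟩⟩
  have htr : ∀ v w : Additive E, v ≠ 0 → w ≠ 0 → ∃ g, ρ g v = w := by
    intro v w hv hw
    have hJmem : ∀ u : Additive E, u ≠ 0 → ((u.toMul : E) : G) ∈ J := fun u hu =>
      ((hEmem _).1 u.toMul.2).resolve_left fun e => hu (Additive.toMul.injective (Subtype.ext e))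
    obtain ⟨i, hi, he⟩ := exists_conj_inverted hS (hJmem v hv) (hJmem w hw)
    refine ⟨⟨i⁻¹, D.inv_mem hi.1⟩, Additive.toMul.injective (Subtype.ext ?_)⟩
    rw [← ofMul_toMul v, hρv, ← he]
    simp
  obtain ⟨d, e, c, τ, hd0, hdE, hes, hσ, hone, hc0, hcm⟩ :=
    exists_semilinear (H := D) hS.odd_card ρ htr s hs
  -- the stabiliser of `s` and the kernel
  have hfix1 : ∀ g : D, c g = 1 ↔ (g : G) ∈ Subgroup.centralizer ({t} : Set G) := fun g => by
    rw [Subgroup.mem_centralizer_singleton_iff, commute_t_iff hS hs₀ hrel g.2, hone, ← hes, e.apply_eq_iff_eq]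
    constructor
    · intro h
      have := congrArg (fun v : Additive E => ((v.toMul : E) : G)) h
      simp only [s] at this
      rw [hρv] at this
      exact mul_inv_eq_iff_eq_mul.1 this
    · intro h
      refine Additive.toMul.injective (Subtype.ext ?_)
      rw [hρv]
      exact mul_inv_eq_iff_eq_mul.2 h
  have hker : ∀ g : D, c g = 1 → τ g = 1 →
      (g : G) ∈ D ⊓ Subgroup.centralizer {t} ⊓ Subgroup.centralizer K := fun g hc hτ => by
    rw [centralizer_inverted_eq hS]
    refine ⟨g.2, Subgroup.mem_centralizer_iff.2 fun x hx => ?_⟩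
    have h1 : ρ g (Additive.ofMul ⟨x, (hEmem x).2 (Or.inr hx)⟩) = Additive.ofMul ⟨x, (hEmem x).2 (Or.inr hx)⟩ :=
      e.injective (by rw [hσ, hc, hτ, one_mul]; rfl)
    have h2 := congrArg (fun v : Additive E => ((v.toMul : E) : G)) h1
    simp only [toMul_ofMul] at h2
    rw [hρv] at h2
    exact (mul_inv_eq_iff_eq_mul.1 h2).symm
  refine ⟨?_, ?_⟩
  · -- the inverted elements form a cyclic normal subgroup
    obtain ⟨s', hs', s'', hs'', hne⟩ := exists_pair hS h2
    have hd2 : 2 ≤ d := by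
      by_contra hlt
      have hcE : Nat.card (Additive E) = 2 := by rw [hdE, show d = 1 by omega]; norm_num
      obtain ⟨x, y, -, hxy⟩ := Nat.card_eq_two_iff.1 hcE
      let i' : Additive E := Additive.ofMul ⟨s', (hEmem s').2 (Or.inr hs')⟩
      let i'' : Additive E := Additive.ofMul ⟨s'', (hEmem s'').2 (Or.inr hs'')⟩
      have hi : ∀ z : Additive E, z ≠ 0 → ∀ z' : Additive E, z' ≠ 0 → z = z' := fun z hz z' hz' => by
        by_contra hzz
        haveI := Fintype.ofFinite (Additive E)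
        have := Finset.card_le_univ ({0, z, z'} : Finset (Additive E))
        rw [Finset.card_eq_three.2 ⟨0, z, z', Ne.symm hz, Ne.symm hz', hzz, rfl⟩, ← Nat.card_eq_fintype_card,
          hcE] at this
        omega
      exact hne (congrArg (fun v : Additive E => ((v.toMul : E) : G)) (hi i'
        (fun h => hs'.2.1 (congrArg (fun v : Additive E => ((v.toMul : E) : G)) h)) i''
        (fun h => hs''.2.1 (congrArg (fun v : Additive E => ((v.toMul : E) : G)) h))))
    obtain ⟨r, hr, hrd, hrn, hre⟩ := OddTransLinear.exists_prime hd2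
    haveI := Fact.mk hr
    let A : Subgroup D := τ.ker
    have hA : ∀ g ∈ A, τ g = 1 := fun g hg => hg
    let ψ : A →* GaloisField 2 d :=
      { toFun := fun g => c g
        map_one' := by rw [Subgroup.coe_one, hone, map_one, Module.End.one_apply, hes]
        map_mul' := fun g h => by rw [Subgroup.coe_mul, hcm, hA _ g.2]; rfl }
    -- conjugation by `t`
    let θ : D →* D :=
      { toFun := fun g => ⟨t * g * t⁻¹, hn g g.2⟩
        map_one' := Subtype.ext (by simp)
        map_mul' := fun g h => Subtype.ext (by simp [mul_assoc]) }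
    have hθθ : ∀ g, θ (θ g) = g := fun g => Subtype.ext (by
      change t * (t * g * t⁻¹) * t⁻¹ = g
      rw [show t * (t * (g : G) * t⁻¹) * t⁻¹ = (t * t) * g * (t * t)⁻¹ by group, ht]; group)
    have hθfix : ∀ g : D, c g = 1 → θ g = g := fun g hg => Subtype.ext (by
      change t * g * t⁻¹ = g
      rw [← Subgroup.mem_centralizer_singleton_iff.1 ((hfix1 g).1 hg), mul_inv_cancel_right])
    have hWθ : ∀ g : D, c g = 1 → τ g = 1 → c (θ g) = 1 ∧ τ (θ g) = 1 := fun g hc hτ => by
      rw [hθfix g hc]; exact ⟨hc, hτ⟩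
    have hτodd : ∀ g, Odd (orderOf (τ g)) := fun g =>
      hS.odd_card.of_dvd_nat ((orderOf_map_dvd τ g).trans (orderOf_dvd_natCard g))
    have hτd : ∀ g, τ g ^ d = 1 := fun g => by
      have h := pow_card_eq_one' (x := τ g)
      rwa [IsGalois.card_aut_eq_finrank, GaloisField.finrank 2 (by omega : d ≠ 0)] at h
    have hinA : ∀ g : D, (τ g) ^ r = 1 → g ∈ A := fun g hg => by
      refine orderOf_eq_one_iff.1 (Nat.dvd_one.1 ?_)
      rw [← (Nat.Prime.coprime_iff_not_dvd hr).2 hrn]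
      exact Nat.dvd_gcd (orderOf_dvd_of_pow_eq_one hg) (orderOf_dvd_of_pow_eq_one (hτd g))
    -- kernel of the action
    have hρker : ∀ g : D, (c g = 1 ∧ τ g = 1) ↔ g ∈ ρ.toHomUnits.ker := fun g => by
      constructor
      · rintro ⟨hc, hτ⟩
        refine Units.ext (LinearMap.ext fun v => e.injective ?_)
        change e (ρ g v) = e v
        rw [hσ, hc, hτ, one_mul]; rfl
      · intro hg
        have hρ1 : ρ g = 1 := congrArg Units.val hg
        have hc : c g = 1 := by rw [hone, hρ1, Module.End.one_apply, hes]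
        refine ⟨hc, AlgEquiv.ext fun x => ?_⟩
        obtain ⟨v, rfl⟩ := e.surjective x
        have := hσ g v
        rw [hρ1, hc, one_mul] at this
        exact this.symm
    obtain ⟨g₀, hg₀, hg₀r⟩ : ∃ g : D, g ∈ A ∧ orderOf (c g) = r := by
      set W := ρ.toHomUnits.ker
      have hWA : W ≤ A := fun g hg => ((hρker g).2 hg).2
      haveI : Finite ρ.toHomUnits.range :=
        Finite.of_surjective ρ.toHomUnits.rangeRestrict ρ.toHomUnits.rangeRestrict_surjective
      have hrW : r ∣ W.index := by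
        refine hrd.trans ?_
        rw [← hdE, Subgroup.index_ker]
        exact CfsgLib.Recog.TransLinear.sub_one_dvd_card
          ((Units.coeHom (Module.End (ZMod 2) (Additive E))).comp ρ.toHomUnits.range.subtype)
          fun v w hv hw => let ⟨g, hg⟩ := htr v w hv hw; ⟨ρ.toHomUnits.rangeRestrict g, hg⟩
      have hindex : A.index ∣ d := by
        rw [Subgroup.index_ker]
        refine (Subgroup.card_subgroup_dvd_card _).trans ?_
        rw [IsGalois.card_aut_eq_finrank, GaloisField.finrank 2 (by omega : d ≠ 0)]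
      rw [← Subgroup.relIndex_mul_index hWA] at hrW
      have h1 : r ∣ W.relIndex A := (hr.dvd_mul.1 hrW).resolve_right fun h => hrn (h.trans hindex)
      have h2 : W.subgroupOf A = ψ.toHomUnits.ker := by
        ext x
        rw [Subgroup.mem_subgroupOf, ← hρker, MonoidHom.mem_ker, Units.ext_iff]
        exact ⟨fun h => h.1, fun h => ⟨h, hA _ x.2⟩⟩
      rw [Subgroup.relIndex, h2, Subgroup.index_ker] at h1
      obtain ⟨y, hy⟩ := exists_prime_orderOf_dvd_card' r h1
      obtain ⟨g, hg⟩ := y.2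
      exact ⟨g, g.2, by rw [← hy, ← Subgroup.orderOf_coe, ← hg, ← orderOf_units]; rfl⟩
    have hcA : ∀ (g : D) (x : D), x ∈ A → c (g * x * g⁻¹) = τ g (c x) := fun g x hx => by
      have h1 : c (g * g⁻¹) = c g * τ g (c g⁻¹) := hcm g g⁻¹
      rw [mul_inv_cancel, hone, map_one, Module.End.one_apply, hes] at h1
      rw [hcm, hcm, map_mul, hA x hx, mul_one, mul_right_comm, ← h1, one_mul]
    have hc1 : ∀ g, g ∈ A → c g⁻¹ = (c g)⁻¹ := fun g hg => by
      have h1 : c (g * g⁻¹) = c g * τ g (c g⁻¹) := hcm g g⁻¹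
      rw [mul_inv_cancel, hone, map_one, Module.End.one_apply, hes, hA g hg, AlgEquiv.one_apply] at h1
      exact eq_inv_of_mul_eq_one_right h1.symm
    -- `θ` preserves `A`
    have hg₀r' : τ (θ g₀) ^ r = 1 := by
      have hW : c (g₀ ^ r) = 1 ∧ τ (g₀ ^ r) = 1 := by
        refine ⟨?_, by rw [map_pow, hA g₀ hg₀, one_pow]⟩
        change ψ (⟨g₀, hg₀⟩ ^ r) = 1
        rw [map_pow, ← hg₀r]
        exact pow_orderOf_eq_one _
      rw [← map_pow, ← map_pow]
      exact (hWθ _ hW.1 hW.2).2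
    have hg₀A : θ g₀ ∈ A := hinA _ hg₀r'
    have hθc : orderOf (c (θ g₀)) = r := by
      refine orderOf_eq_prime ?_ fun h => ?_
      · change (ψ ⟨θ g₀, hg₀A⟩) ^ r = 1
        rw [← map_pow]
        change c (θ g₀ ^ r) = 1
        rw [← map_pow]
        refine (hWθ _ ?_ (by rw [map_pow, hA g₀ hg₀, one_pow])).1
        change ψ (⟨g₀, hg₀⟩ ^ r) = 1
        rw [map_pow, ← hg₀r]
        exact pow_orderOf_eq_one _
      · have h1 := (hWθ _ h (hA _ hg₀A)).1
        rw [hθθ] at h1
        rw [h1, orderOf_one] at hg₀r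
        exact hr.one_lt.ne hg₀r
    have hθA : ∀ g ∈ A, θ g ∈ A := fun g hg => by
      refine eq_one_of_fixed (by omega) hre hθc (hc0 _) (hτodd _) ?_
      rw [← hcA (θ g) (θ g₀) hg₀A, ← map_inv θ, ← map_mul, ← map_mul]
      -- commuting modulo the kernel
      have hW : c ((g * g₀ * g⁻¹) * g₀⁻¹) = 1 ∧ τ ((g * g₀ * g⁻¹) * g₀⁻¹) = 1 := by
        refine ⟨?_, ?_⟩
        · rw [hcm, hcA g g₀ hg₀, hA g hg, AlgEquiv.one_apply, hc1 g₀ hg₀, map_mul, map_mul, map_inv, hA g hg,
            hA g₀ hg₀, inv_one, mul_one, mul_one, AlgEquiv.one_apply, mul_inv_cancel₀ (hc0 _)]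
        · rw [map_mul, map_mul, map_mul, map_inv, map_inv, hA g hg, hA g₀ hg₀]; simp
      have h2 := hWθ _ hW.1 hW.2
      rw [show θ (g * g₀ * g⁻¹) = θ ((g * g₀ * g⁻¹) * g₀⁻¹) * θ g₀ by rw [← map_mul, inv_mul_cancel_right],
        hcm, h2.1, h2.2, one_mul, AlgEquiv.one_apply]
    -- `θ` inverts `A` modulo the kernel
    have hθinv : ∀ g ∈ A, c (θ g) = (c g)⁻¹ := by
      intro g hg
      have hy : g * θ g ∈ A := A.mul_mem hg (hθA g hg)
      have hcy : c (θ (g * θ g)) = c (g * θ g) := by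
        rw [map_mul, hθθ, hcm, hcm, hA g hg, hA _ (hθA g hg), AlgEquiv.one_apply, AlgEquiv.one_apply, mul_comm]
      set y := g * θ g
      have hτy : τ (θ y) = τ y := by rw [hA _ (hθA y hy), hA y hy]
      obtain ⟨⟨x, i⟩, ⟨hx, hi, hyi⟩, -⟩ := existsUnique_decomp ht hS.odd_card hn y.2
      have hxt : t * x * t⁻¹ = x := by
        rw [← Subgroup.mem_centralizer_singleton_iff.1 hx.2, mul_inv_cancel_right]
      have hW : c (y⁻¹ * θ y) = 1 := by rw [hcm, hcy, ← hcm, inv_mul_cancel, hone, map_one, Module.End.one_apply, hes]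
      have h1 : ((y⁻¹ * θ y : D) : G) = i⁻¹ * i⁻¹ := by
        change (y : G)⁻¹ * (t * y * t⁻¹) = i⁻¹ * i⁻¹
        rw [hyi, show t * (x * i) * t⁻¹ = (t * x * t⁻¹) * (t * i * t⁻¹) by group, hxt, hi.2]
        group
      have h2 := (hfix1 _).1 hW
      rw [h1, Subgroup.mem_centralizer_singleton_iff] at h2
      have hi1 : i = 1 := by
        have h3 : t * (i⁻¹ * i⁻¹) * t⁻¹ = i * i := by
          rw [show t * (i⁻¹ * i⁻¹) * t⁻¹ = (t * i * t⁻¹)⁻¹ * (t * i * t⁻¹)⁻¹ by group, hi.2, inv_inv]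
        rw [← h2, mul_inv_cancel_right] at h3
        have h4 : (i * i) * (i * i) = 1 := by
          nth_rewrite 1 [← h3]; group
        exact eq_one_of_sq_eq_one_of_odd hS.odd_card hi.1
          (eq_one_of_sq_eq_one_of_odd hS.odd_card (D.mul_mem hi.1 hi.1) h4)
      have h3 : c y = 1 := (hfix1 y).2 (by rw [hyi, hi1, mul_one]; exact hx.2)
      rw [hcm, hA g hg, AlgEquiv.one_apply] at h3
      exact eq_inv_of_mul_eq_one_right h3
    -- `θ` centralises `D / A`
    have hτθ : ∀ g, τ (θ g) = τ g := by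
      intro g
      have hx : g * g₀ * g⁻¹ ∈ A := (inferInstance : A.Normal).conj_mem _ hg₀ g
      have h1 := hθinv _ hx
      rw [map_mul, map_mul, map_inv, hcA _ _ hg₀A, hcA _ _ hg₀, hθinv _ hg₀, map_inv₀, inv_inj] at h1
      have h2 : (τ g)⁻¹ * τ (θ g) = 1 := by
        refine eq_one_of_fixed (by omega) hre hg₀r (hc0 _) ?_ ?_
        · rw [← map_inv, ← map_mul]; exact hτodd _
        · rw [AlgEquiv.mul_apply, h1]
          exact (τ g).symm_apply_apply _
      exact (inv_mul_eq_one.1 h2).symm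
    have hKA : ∀ k : G, ∀ hk : k ∈ K, (⟨k, hk.1⟩ : D) ∈ A := fun k hk => by
      refine eq_one_of_sq_eq_one_of_odd (H := τ.range) ?_ ⟨_, rfl⟩ ?_
      · exact hS.odd_card.of_dvd_nat (Subgroup.card_range_dvd τ)
      · nth_rewrite 1 [← hτθ]
        rw [← map_mul, show θ ⟨k, hk.1⟩ * ⟨k, hk.1⟩ = (1 : D) from Subtype.ext (by
          change t * k * t⁻¹ * k = 1
          rw [hk.2, inv_mul_cancel]), map_one]
    -- the inverted elements correspond to the non-zero field elements
    let f : K → (GaloisField 2 d)ˣ := fun k => Units.mk0 (c ⟨k.1, k.2.1⟩) (hc0 _)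
    have hfinj : Function.Injective f := by
      rintro ⟨k, hk⟩ ⟨m, hm⟩ h
      have h' : c ⟨k, hk.1⟩ = c ⟨m, hm.1⟩ := congrArg Units.val h
      set w : D := ⟨k, hk.1⟩ * ⟨m, hm.1⟩⁻¹ with hw
      have hwA : w ∈ A := A.mul_mem (hKA k hk) (A.inv_mem (hKA m hm))
      have hwc : c w = 1 := by
        rw [hw, hcm, hA _ (hKA k hk), AlgEquiv.one_apply, hc1 _ (hKA m hm), h', mul_inv_cancel₀ (hc0 _)]
      obtain ⟨hwV, hwK⟩ := Subgroup.mem_inf.1 (hker w hwc (hA w hwA))
      have h1 : t * (k * m⁻¹) * t⁻¹ = k * m⁻¹ := by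
        have h0 : (k * m⁻¹) * t = t * (k * m⁻¹) := Subgroup.mem_centralizer_singleton_iff.1 hwV.2
        rw [← h0, mul_inv_cancel_right]
      have h2 : m * (k * m⁻¹) = k * m⁻¹ * m := Subgroup.mem_centralizer_iff.1 hwK m hm
      rw [show t * (k * m⁻¹) * t⁻¹ = (t * k * t⁻¹) * (t * m * t⁻¹)⁻¹ by group, hk.2, hm.2, inv_inv] at h1
      rw [inv_mul_cancel_right] at h2
      -- `k` commutes with `m` and the two have equal squares
      have h3 : m * k = k * m := by
        calc m * k = m * (k * m⁻¹) * m := by group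
          _ = k * m := by rw [h2]
      have h4 : m * m = k * k := by
        calc m * m = k * (k⁻¹ * m) * m := by group
          _ = k * (k * m⁻¹) * m := by rw [h1]
          _ = k * k := by group
      exact Subtype.ext (sqrt_unique hS.odd_card hk.1 hm.1 h4.symm)
    have hcardJ : Nat.card K = 2 ^ d - 1 := by
      rw [card_involutionsIn hS, ← hdE]
      haveI := Fintype.ofFinite (Additive E)
      rw [← Nat.card_congr (Equiv.ofBijective
        (fun v : {v : Additive E // v ≠ 0} => (⟨((v.1.toMul : E) : G),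
          ((hEmem _).1 v.1.toMul.2).resolve_left fun e' => v.2 (Additive.toMul.injective (Subtype.ext e'))⟩ : J))
        ⟨fun v w hvw => by
          have h' := congrArg Subtype.val hvw
          exact Subtype.ext (Additive.toMul.injective (Subtype.ext h')),
          fun j => ⟨⟨Additive.ofMul ⟨j.1, (hEmem _).2 (Or.inr j.2)⟩, fun h' => j.2.2.1
            (congrArg (fun v : Additive E => ((v.toMul : E) : G)) h')⟩, rfl⟩⟩),
        Nat.card_eq_fintype_card, Fintype.card_subtype_compl, Fintype.card_subtype_eq,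
        ← Nat.card_eq_fintype_card]
    haveI : Finite (GaloisField 2 d)ˣ := inferInstance
    have hfbij : Function.Bijective f := (Nat.bijective_iff_injective_and_card f).2 ⟨hfinj, by
      rw [hcardJ, Nat.card_units, GaloisField.card 2 d (by omega)]⟩
    obtain ⟨γ, hγ⟩ := IsCyclic.exists_generator (α := (GaloisField 2 d)ˣ)
    obtain ⟨⟨k₀, hk₀⟩, hk₀γ⟩ := hfbij.2 γ
    have hpowK : ∀ n : ℕ, k₀ ^ n ∈ K := fun n => ⟨D.pow_mem hk₀.1 n, by rw [← conj_pow, hk₀.2, inv_pow]⟩
    have hCK : ∀ k, k ∈ Subgroup.zpowers k₀ ↔ k ∈ K := by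
      refine fun k => ⟨fun hk => ?_, fun hk => ?_⟩
      · obtain ⟨n, rfl⟩ := mem_powers_iff_mem_zpowers.2 hk
        exact hpowK n
      · obtain ⟨n, hn'⟩ := mem_powers_iff_mem_zpowers.2 (hγ (f ⟨k, hk⟩))
        have h1 : f ⟨k₀ ^ n, hpowK n⟩ = f ⟨k, hk⟩ := by
          rw [← hn']
          refine Units.ext ?_
          change ψ (⟨⟨k₀, hk₀.1⟩, hKA k₀ hk₀⟩ ^ n) = ((γ ^ n : (GaloisField 2 d)ˣ) : GaloisField 2 d)
          rw [map_pow, Units.val_pow_eq_pow_val, ← hk₀γ]
          rfl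
        have h2 : k₀ ^ n = k := Subtype.mk.inj (hfinj h1)
        rw [← h2]
        exact Subgroup.npow_mem_zpowers k₀ n
    refine ⟨Subgroup.zpowers k₀, Set.ext hCK, inferInstance, fun x hx k hk => ?_⟩
    obtain ⟨⟨v, i⟩, ⟨hv, hi, rfl⟩, -⟩ := existsUnique_decomp ht hS.odd_card hn hx
    have hi' := (hCK i).2 hi
    have hvt : t * v * t⁻¹ = v := by
      rw [← Subgroup.mem_centralizer_singleton_iff.1 hv.2, mul_inv_cancel_right]
    have hk1 : i * k * i⁻¹ ∈ K := (hCK _).1 (mul_mem (mul_mem hi' hk) (inv_mem hi'))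
    rw [hCK, show v * i * k * (v * i)⁻¹ = v * (i * k * i⁻¹) * v⁻¹ by group]
    refine ⟨D.mul_mem (D.mul_mem hv.1 hk1.1) (D.inv_mem hv.1), ?_⟩
    rw [show t * (v * (i * k * i⁻¹) * v⁻¹) * t⁻¹ = (t * v * t⁻¹) * (t * (i * k * i⁻¹) * t⁻¹) * (t * v * t⁻¹)⁻¹ by
      group, hvt, hk1.2]
    group
  · -- the fixed points act faithfully through a cyclic group
    let V : Subgroup D := (D ⊓ Subgroup.centralizer ({t} : Set G)).subgroupOf D
    have hVc : ∀ g ∈ V, c g = 1 := fun g hg => (hfix1 g).2 (Subgroup.mem_subgroupOf.1 hg).2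
    obtain ⟨γ, hγ⟩ := IsCyclic.exists_generator (α := V.map τ)
    obtain ⟨v, hv, hvγ⟩ := Subgroup.mem_map.1 γ.2
    refine ⟨v, Subgroup.mem_subgroupOf.1 hv, le_antisymm (sup_le inf_le_left ?_) fun g hg => ?_⟩
    · rw [Subgroup.closure_le, Set.singleton_subset_iff]
      exact Subgroup.mem_subgroupOf.1 hv
    · have hgV : (⟨g, hg.1⟩ : D) ∈ V := Subgroup.mem_subgroupOf.2 hg
      obtain ⟨n, hn'⟩ := Subgroup.mem_zpowers_iff.1 (hγ ⟨τ ⟨g, hg.1⟩, Subgroup.mem_map_of_mem τ hgV⟩)
      have hτv : τ (⟨g, hg.1⟩ * (v ^ n)⁻¹) = 1 := by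
        rw [map_mul, map_inv, map_zpow, hvγ, ← Subgroup.coe_zpow, hn', mul_inv_cancel]
      have hW := hker _ (hVc _ (V.mul_mem hgV (V.inv_mem (V.zpow_mem hv n)))) hτv
      have hgv : g = ((⟨g, hg.1⟩ * (v ^ n)⁻¹ : D) : G) * (v : G) ^ n := by
        rw [Subgroup.coe_mul, Subgroup.coe_inv, Subgroup.coe_zpow, inv_mul_cancel_right]
      rw [hgv]
      exact mul_mem (Subgroup.mem_sup_left hW)
        (Subgroup.mem_sup_right (Subgroup.zpow_mem _ (Subgroup.subset_closure (Set.mem_singleton (v : G))) n))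

end Setup

end CfsgLib.Perm.RankOneSemi
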