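import Mathlib

/-!
Sylvester's theorem: for `0 < k` and `2 * k ≤ m` the binomial coefficient `m.choose k` has a prime divisor
exceeding `k` (proof after Erdős).
-/

set_option autoImplicit false

namespace CfsgLib.Perm.Sylvester

open Nat Finset

theorem descFactorial_scale {m₀ m : ℕ} (h : m₀ ≤ m) :
    ∀ j, j ≤ m₀ → m ^ j * m₀.descFactorial j ≤ m₀ ^ j * m.descFactorial j := by
  intro j
  induction j with
  | zero => simp
  | succ j ih =>
    intro hj
    rw [descFactorial_succ, descFactorial_succ, pow_succ, pow_succ]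
    have h1 : m * (m₀ - j) ≤ m₀ * (m - j) := by
      rw [Nat.mul_sub, Nat.mul_sub, Nat.mul_comm m₀ m]
      have := Nat.mul_le_mul_right j h
      omega
    calc m ^ j * m * ((m₀ - j) * m₀.descFactorial j) = (m * (m₀ - j)) * (m ^ j * m₀.descFactorial j) := by ring
      _ ≤ (m₀ * (m - j)) * (m₀ ^ j * m.descFactorial j) := Nat.mul_le_mul h1 (ih (by omega))
      _ = _ := by ring

theorem choose_scale {m₀ m k : ℕ} (hk : k ≤ m₀) (h : m₀ ≤ m) :
    m ^ k * m₀.choose k ≤ m₀ ^ k * m.choose k := by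
  have h1 := descFactorial_scale h k hk
  rw [descFactorial_eq_factorial_mul_choose, descFactorial_eq_factorial_mul_choose, mul_left_comm,
    mul_left_comm (m₀ ^ k)] at h1
  exact Nat.le_of_mul_le_mul_left h1 (factorial_pos k)

theorem primeCounting_le_half (s : ℕ) : Nat.primeCounting s ≤ s / 2 + 1 := by
  rcases Nat.lt_or_ge s 2 with h | h
  · rw [primeCounting_eq_zero_iff.2 (by omega)]; exact zero_le _
  · have h1 := primeCounting'_add_le (a := 2) (k := 3) (by norm_num) (by norm_num) (s - 2)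
    rw [show 3 + (s - 2) = s + 1 by omega, ← primeCounting_eq_primeCounting'_succ, totient_two,
      show Nat.primeCounting' 3 = 1 from by decide +kernel] at h1
    omega

theorem primeCounting_le_third {k : ℕ} (hk : 170 ≤ k) : 3 * Nat.primeCounting k < k := by
  have h1 := primeCounting'_add_le (a := 30) (k := 31) (by norm_num) (by norm_num) (k - 30)
  rw [show 31 + (k - 30) = k + 1 by omega, ← primeCounting_eq_primeCounting'_succ,
    show Nat.totient 30 = 8 from by decide +kernel, show Nat.primeCounting' 31 = 10 from by decide +kernel] at h1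
  omega

/-- No prime divisor of `m.choose k` exceeds `k`. -/
def Bad (m k : ℕ) : Prop := ∀ p : ℕ, p.Prime → p ∣ m.choose k → p ≤ k

theorem choose_eq_prod {m k : ℕ} (hk : k ≤ m) :
    m.choose k = ∏ p ∈ (m.choose k).primeFactors, p ^ (m.choose k).factorization p := by
  conv_lhs => rw [← prod_factorization_pow_eq_self (choose_ne_zero hk)]
  rfl

theorem bad_le_pow {m k : ℕ} (hk : k ≤ m) (hm : 0 < m) (hb : Bad m k) : m.choose k ≤ m ^ Nat.primeCounting k := by
  rw [choose_eq_prod hk]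
  refine (Finset.prod_le_prod' fun p _ => pow_factorization_choose_le hm).trans ?_
  rw [Finset.prod_const]
  refine Nat.pow_le_pow_right hm ?_
  rw [← primesLE_card_eq_primeCounting]
  refine Finset.card_le_card fun p hp => ?_
  obtain ⟨h1, h2, -⟩ := mem_primeFactors.1 hp
  exact mem_primesLE.2 ⟨hb p h1 h2, h1⟩

theorem bad_le_primorial {m k : ℕ} (hk : 2 * k ≤ m) (hk1 : 3 ≤ k) (hb : Bad m k) :
    m.choose k ≤ m ^ Nat.primeCounting (sqrt m) * 4 ^ min k (m / 3) := by
  have hm : 0 < m := by omega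
  rw [choose_eq_prod (show k ≤ m by omega), ← prod_filter_mul_prod_filter_not _ (· ≤ sqrt m)]
  refine Nat.mul_le_mul ?_ ?_
  · refine (Finset.prod_le_prod' fun p _ => pow_factorization_choose_le hm).trans ?_
    rw [Finset.prod_const]
    refine Nat.pow_le_pow_right hm ?_
    rw [← primesLE_card_eq_primeCounting]
    refine Finset.card_le_card fun p hp => ?_
    obtain ⟨h0, h3⟩ := Finset.mem_filter.1 hp
    exact mem_primesLE.2 ⟨h3, (mem_primeFactors.1 h0).1⟩
  · refine le_trans ?_ (primorial_le_four_pow (min k (m / 3)))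
    refine (Finset.prod_le_prod' (g := fun p => p) fun p hp => ?_).trans ?_
    · obtain ⟨h0, h3⟩ := Finset.mem_filter.1 hp
      refine (Nat.pow_le_pow_right (mem_primeFactors.1 h0).1.pos
        (factorization_choose_le_one (Nat.sqrt_lt'.1 (not_le.1 h3)))).trans (pow_one p).le
    · refine Finset.prod_le_prod_of_subset_of_one_le' (fun p hp => ?_)
        (fun p hp _ => (Finset.mem_filter.1 hp).2.one_lt.le)
      obtain ⟨h0, h3⟩ := Finset.mem_filter.1 hp
      obtain ⟨h1, h2, -⟩ := mem_primeFactors.1 h0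
      refine Finset.mem_filter.2 ⟨Finset.mem_range.2 ?_, h1⟩
      have hpk := hb p h1 h2
      by_contra hlt
      have hp2 : p ≠ 2 := by
        rintro rfl
        rcases Nat.lt_or_ge (m / 3) 2 with h | h <;> omega
      have hz := factorization_choose_of_lt_three_mul (n := m) hp2 hpk (by omega) (by omega)
      exact (Nat.Prime.factorization_pos_of_dvd h1 (choose_ne_zero (by omega)) h2).ne' hz

theorem bad_absurd_of_pow {m₀ m k : ℕ} (hk : k ≤ m₀) (hk1 : 0 < k) (h : m₀ ≤ m)
    (hbig : m₀ ^ Nat.primeCounting k < m₀.choose k) : ¬ Bad m k := by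
  intro hb
  have hm0 : 0 < m₀ := by omega
  have hP : Nat.primeCounting k ≤ k := (primeCounting_le_half k).trans (by omega)
  set P := Nat.primeCounting k
  have h1 := choose_scale hk h
  have h2 := bad_le_pow (by omega) (by omega) hb
  have h3 : m ^ k * m₀ ^ P < m₀ ^ k * m ^ P :=
    calc m ^ k * m₀ ^ P < m ^ k * m₀.choose k := Nat.mul_lt_mul_of_pos_left hbig (pow_pos (by omega) k)
      _ ≤ m₀ ^ k * m.choose k := h1
      _ ≤ m₀ ^ k * m ^ P := Nat.mul_le_mul_left _ h2
  rw [show k = P + (k - P) by omega, pow_add, pow_add] at h3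
  have h4 : m₀ ^ (k - P) ≤ m ^ (k - P) := Nat.pow_le_pow_left h _
  have := Nat.mul_le_mul_left (m ^ P * m₀ ^ P) h4
  nlinarith

theorem not_bad_of_sq {m k : ℕ} (hk : 170 ≤ k) (hm : k ^ 3 ≤ m ^ 2) : ¬ Bad m k := by
  intro hb
  have hkm : k ≤ m := by
    by_contra h
    have : m ^ 2 < k ^ 2 := Nat.pow_lt_pow_left (by omega) two_ne_zero
    have : k ^ 2 ≤ k ^ 3 := Nat.pow_le_pow_right (by omega) (by norm_num)
    omega
  have h1 := choose_scale (le_refl k) hkm
  rw [choose_self, mul_one] at h1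
  have hP := primeCounting_le_third hk
  set P := Nat.primeCounting k
  have h2 : m ^ k ≤ k ^ k * m ^ P := h1.trans (Nat.mul_le_mul_left _ (bad_le_pow hkm (by omega) hb))
  rw [show k = (k - P) + P by omega, pow_add m] at h2
  rw [show k - P + P = k by omega] at h2
  have h3 : m ^ (k - P) ≤ k ^ k := Nat.le_of_mul_le_mul_right h2 (pow_pos (by omega) P)
  have h4 : (k ^ 3) ^ (k - P) ≤ k ^ (2 * k) :=
    calc (k ^ 3) ^ (k - P) ≤ (m ^ 2) ^ (k - P) := Nat.pow_le_pow_left hm _
      _ = (m ^ (k - P)) ^ 2 := by rw [← pow_mul, ← pow_mul, Nat.mul_comm]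
      _ ≤ (k ^ k) ^ 2 := Nat.pow_le_pow_left h3 2
      _ = k ^ (2 * k) := by rw [← pow_mul, Nat.mul_comm]
  rw [← pow_mul] at h4
  have := (Nat.pow_le_pow_iff_right (by omega : 1 < k)).1 h4
  omega

theorem sq_log_bound : ∀ L, 9 ≤ L → (3 * L + 6) ^ 4 ≤ 2401 * 2 ^ L := by
  intro L hL
  induction L, hL using Nat.le_induction with
  | base => norm_num
  | succ L hL ih =>
    have h1 : (10 * (3 * (L + 1) + 6)) ^ 4 ≤ (11 * (3 * L + 6)) ^ 4 := Nat.pow_le_pow_left (by omega) 4
    rw [mul_pow, mul_pow] at h1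
    have e : 2 ^ (L + 1) = 2 * 2 ^ L := pow_succ' 2 L
    norm_num at h1
    omega

theorem log_bound : ∀ L, 13 ≤ L → 75 * (L + 4) ^ 2 ≤ 4 * 2 ^ L := by
  intro L hL
  induction L, hL using Nat.le_induction with
  | base => norm_num
  | succ L hL ih =>
    have h1 : (10 * (L + 1 + 4)) ^ 2 ≤ (11 * (L + 4)) ^ 2 := Nat.pow_le_pow_left (by omega) 2
    rw [mul_pow, mul_pow] at h1
    have e : 2 ^ (L + 1) = 2 * 2 ^ L := pow_succ' 2 L
    norm_num at h1
    omega

/-- The common part of the three analytic ranges. -/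
theorem not_bad_of_exponent {m k j b c s : ℕ} (hk : 3 ≤ k) (hm : 2 * k ≤ m) (hsqrt : sqrt m = s)
    (hlog : k < 2 ^ j) (hmb : m < 2 ^ b) (hc : 2 * min k (m / 3) + (s / 2 + 1) * b + (j + 1) ≤ c)
    (hgrow : 2 ^ c * (2 * k) ^ k ≤ 4 ^ k * m ^ k) : ¬ Bad m k := by
  subst hsqrt
  intro hb
  have hP := primeCounting_le_half (sqrt m)
  set P := Nat.primeCounting (sqrt m) with hPdef
  set M := min k (m / 3) with hM
  have h1 : 4 ^ k * m ^ k ≤ (2 * k) * ((2 * k) ^ k * m.choose k) :=
    calc 4 ^ k * m ^ k ≤ 2 * k * k.centralBinom * m ^ k :=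
          Nat.mul_le_mul_right _ (four_pow_le_two_mul_self_mul_centralBinom k (by omega))
      _ = 2 * k * (m ^ k * (2 * k).choose k) := by rw [centralBinom_eq_two_mul_choose]; ring
      _ ≤ _ := Nat.mul_le_mul_left _ (choose_scale (by omega) hm)
  have h2 : 2 ^ c ≤ 2 * k * (m ^ P * 4 ^ M) := by
    have h3 := hgrow.trans (h1.trans (Nat.mul_le_mul_left _ (Nat.mul_le_mul_left _ (bad_le_primorial hm hk hb))))
    refine Nat.le_of_mul_le_mul_right ?_ (pow_pos (by omega : 0 < 2 * k) k)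
    calc 2 ^ c * (2 * k) ^ k ≤ _ := h3
      _ = _ := by rw [hPdef, hM]; ring
  have h4 : 2 * k * (m ^ P * 4 ^ M) < 2 ^ (j + 1) * (2 ^ (b * P) * 2 ^ (2 * M)) := by
    rw [pow_mul 2 2 M, pow_mul 2 b P, pow_succ 2 j]
    refine Nat.mul_lt_mul_of_lt_of_le (by omega) (Nat.mul_le_mul_right _ (Nat.pow_le_pow_left hmb.le _)) ?_
    positivity
  rw [← pow_add, ← pow_add] at h4
  have := (Nat.pow_lt_pow_iff_right (by norm_num : 1 < 2)).1 (lt_of_le_of_lt h2 h4)
  have : b * P ≤ (sqrt m / 2 + 1) * b := by rw [Nat.mul_comm b]; exact Nat.mul_le_mul_right b hP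
  omega

theorem grow_of_ratio {m k t u e : ℕ} (hu : 2 * k * t ≤ m * u) (het : 2 ^ e * u ^ k ≤ t ^ k) (hu0 : 0 < u) :
    2 ^ (2 * k + e) * (2 * k) ^ k ≤ 4 ^ k * m ^ k := by
  rw [pow_add, pow_mul, show (2 : ℕ) ^ 2 = 4 from rfl, mul_assoc]
  refine Nat.mul_le_mul_left _ (Nat.le_of_mul_le_mul_right ?_ (pow_pos hu0 k))
  calc 2 ^ e * (2 * k) ^ k * u ^ k = (2 * k) ^ k * (2 ^ e * u ^ k) := by ring
    _ ≤ (2 * k) ^ k * t ^ k := Nat.mul_le_mul_left _ het
    _ = (2 * k * t) ^ k := (mul_pow _ _ _).symm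
    _ ≤ (m * u) ^ k := Nat.pow_le_pow_left hu k
    _ = _ := mul_pow _ _ _

theorem sqrt_sq_le (m : ℕ) : sqrt m * sqrt m ≤ m := Nat.sqrt_le m

theorem not_bad_high {m k : ℕ} (hk : 512 ≤ k) (hm : 8 * k ≤ m) (hm2 : m ^ 2 < k ^ 3) : ¬ Bad m k := by
  set L := Nat.log 2 k
  have hL1 : 2 ^ L ≤ k := Nat.pow_log_le_self 2 (by omega)
  have hL2 : k < 2 ^ (L + 1) := Nat.lt_pow_succ_log_self (by norm_num) k
  have hL9 : 9 ≤ L := Nat.le_log_of_pow_le (by norm_num) (by omega)
  have hL' : L ≤ k / 32 := by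
    have : ∀ n, 9 ≤ n → 32 * n ≤ 2 ^ n := by
      intro n hn
      induction n, hn using Nat.le_induction with
      | base => norm_num
      | succ n hn ih => rw [pow_succ]; omega
    have := this L hL9
    omega
  set b := (3 * L + 4) / 2
  have hmb : m < 2 ^ b := by
    refine lt_of_pow_lt_pow_left₀ 2 (Nat.zero_le _) ?_
    calc m ^ 2 < k ^ 3 := hm2
      _ ≤ (2 ^ (L + 1)) ^ 3 := Nat.pow_le_pow_left hL2.le 3
      _ ≤ (2 ^ b) ^ 2 := by rw [← pow_mul, ← pow_mul]; exact Nat.pow_le_pow_right (by norm_num) (by omega)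
  set s := sqrt m
  have hs : s * (3 * L + 6) ≤ 7 * k := by
    refine (Nat.pow_le_pow_iff_left (by norm_num : 4 ≠ 0)).1 ?_
    calc (s * (3 * L + 6)) ^ 4 = (s * s) ^ 2 * (3 * L + 6) ^ 4 := by ring
      _ ≤ k ^ 3 * (2401 * k) := Nat.mul_le_mul ((Nat.pow_le_pow_left (sqrt_sq_le m) 2).trans hm2.le)
          ((sq_log_bound L hL9).trans (Nat.mul_le_mul_left _ hL1))
      _ = (7 * k) ^ 4 := by ring
  have hexp : 4 * ((s / 2 + 1) * b) ≤ s * (3 * L + 6) + 4 * b := by
    have h1 : 2 * (s / 2) ≤ s := Nat.mul_div_le s 2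
    have h2 : 2 * b ≤ 3 * L + 6 := by omega
    have := Nat.mul_le_mul h1 h2
    nlinarith
  refine not_bad_of_exponent (s := s) (j := L + 1) (b := b) (c := 2 * k + 2 * k) (by omega) (by omega) rfl hL2 hmb (by omega)
    (grow_of_ratio (t := 4) (u := 1) (by omega) (by rw [one_pow, mul_one, pow_mul]; rfl) one_pos)

theorem pow_ratio {t u : ℕ} (q : ℕ) (h : 2 * u ^ q ≤ t ^ q) (hut : u ≤ t) (k : ℕ) :
    2 ^ (k / q) * u ^ k ≤ t ^ k := by
  calc 2 ^ (k / q) * u ^ k = (2 * u ^ q) ^ (k / q) * u ^ (k % q) := by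
        rw [mul_pow, ← pow_mul, mul_assoc, ← pow_add, Nat.div_add_mod]
    _ ≤ (t ^ q) ^ (k / q) * t ^ (k % q) := Nat.mul_le_mul (Nat.pow_le_pow_left h _) (Nat.pow_le_pow_left hut _)
    _ = t ^ k := by rw [← pow_mul, ← pow_add, Nat.div_add_mod]

theorem not_bad_low {m k : ℕ} (hk : 8192 ≤ k) (hm : 2 * k ≤ m) (hm8 : m < 8 * k) : ¬ Bad m k := by
  set L := Nat.log 2 k
  have hL1 : 2 ^ L ≤ k := Nat.pow_log_le_self 2 (by omega)
  have hL2 : k < 2 ^ (L + 1) := Nat.lt_pow_succ_log_self (by norm_num) k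
  have hL13 : 13 ≤ L := Nat.le_log_of_pow_le (by norm_num) (by omega)
  have hmb : m < 2 ^ (L + 4) := by rw [pow_add 2 L 4]; rw [pow_succ] at hL2; omega
  have hL' : L ≤ k / 64 := by
    have : ∀ n, 13 ≤ n → 64 * n ≤ 2 ^ n := by
      intro n hn
      induction n, hn using Nat.le_induction with
      | base => norm_num
      | succ n hn ih => rw [pow_succ]; omega
    have := this L hL13
    omega
  set s := sqrt m
  have hlb := (log_bound L hL13).trans (Nat.mul_le_mul_left 4 hL1)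
  have hss := Nat.mul_le_mul_right ((L + 4) ^ 2) (sqrt_sq_le m)
  have hexp : 2 * ((s / 2 + 1) * (L + 4)) ≤ s * (L + 4) + 2 * (L + 4) := by
    have := Nat.mul_le_mul_right (L + 4) (Nat.mul_div_le s 2)
    nlinarith
  rcases Nat.lt_or_ge m (3 * k) with h3 | h3
  · have hs : 5 * (s * (L + 4)) ≤ 2 * k := by
      refine (Nat.pow_le_pow_iff_left (by norm_num : 2 ≠ 0)).1 ?_
      calc (5 * (s * (L + 4))) ^ 2 = 25 * (s * s * (L + 4) ^ 2) := by ring
        _ ≤ 25 * (3 * k * (L + 4) ^ 2) :=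
          Nat.mul_le_mul_left _ (hss.trans (Nat.mul_le_mul_right _ h3.le))
        _ = k * (75 * (L + 4) ^ 2) := by ring
        _ ≤ k * (4 * k) := Nat.mul_le_mul_left _ hlb
        _ = (2 * k) ^ 2 := by ring
    rcases Nat.lt_or_ge (2 * m) (5 * k) with h5 | h5
    · exact not_bad_of_exponent (s := s) (j := L + 1) (b := L + 4) (c := 2 * k) (by omega) hm rfl hL2 hmb (by omega)
        (grow_of_ratio (t := 1) (u := 1) (e := 0) (by omega) (by simp) one_pos)
    · exact not_bad_of_exponent (s := s) (j := L + 1) (b := L + 4) (c := 2 * k + k / 4) (by omega) hm rfl hL2 hmb (by omega)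
        (grow_of_ratio (t := 5) (u := 4) (by omega) (pow_ratio 4 (by norm_num) (by norm_num) k) (by norm_num))
  · have hs : 5 * (s * (L + 4)) ≤ 4 * k := by
      refine (Nat.pow_le_pow_iff_left (by norm_num : 2 ≠ 0)).1 ?_
      calc (5 * (s * (L + 4))) ^ 2 = 25 * (s * s * (L + 4) ^ 2) := by ring
        _ ≤ 25 * (8 * k * (L + 4) ^ 2) :=
          Nat.mul_le_mul_left _ (hss.trans (Nat.mul_le_mul_right _ hm8.le))
        _ = k * (200 * (L + 4) ^ 2) := by ring
        _ ≤ k * (16 * k) := Nat.mul_le_mul_left _ (by omega)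
        _ = (4 * k) ^ 2 := by ring
    exact not_bad_of_exponent (s := s) (j := L + 1) (b := L + 4) (c := 2 * k + k / 2) (by omega) hm rfl hL2 hmb (by omega)
      (grow_of_ratio (t := 3) (u := 2) (by omega) (pow_ratio 2 (by norm_num) (by norm_num) k) (by norm_num))

/-- Primes with small gaps. -/
def ladder : List ℕ := [2, 13, 23, 37, 47, 61, 73, 83, 97, 109, 113, 127, 139, 151, 167, 181, 199, 223, 241, 271, 293, 317, 353, 397, 443, 491, 547, 613, 683, 757, 839, 919, 1013, 1109, 1213, 1321, 1439, 1559, 1693, 1831, 1979, 2131, 2293, 2459, 2633, 2819, 3011, 3217, 3433, 3659, 3889, 4133, 4373, 4639, 4909, 5197, 5483, 5791, 6113, 6427, 6763, 7109, 7477, 7853, 8243, 8647, 9067, 9497, 9941, 10399, 10867, 11353, 11839, 13313, 14969, 16831, 18919, 21283, 23929, 26903, 30259, 34039, 38287, 43067, 48449, 54503, 61297, 68947]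

theorem ladder_prime : ∀ p ∈ ladder, p.Prime := by
  intro p hp
  fin_cases hp <;> norm_num

theorem choose_small_desc :
    ∀ k < 170, 0 < k → (8 * k) ^ Nat.primeCounting k * k ! < (8 * k).descFactorial k := by
  decide +kernel

theorem choose_small (k : ℕ) (hk : k < 170) (hk0 : 0 < k) :
    (8 * k) ^ Nat.primeCounting k < (8 * k).choose k := by
  have h := choose_small_desc k hk hk0
  rw [descFactorial_eq_factorial_mul_choose, Nat.mul_comm k !] at h
  exact Nat.lt_of_mul_lt_mul_right h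

/-- Primes below `104`. -/
def smallPrimes : List ℕ :=
  [2, 3, 5, 7, 11, 13, 17, 19, 23, 29, 31, 37, 41, 43, 47, 53, 59, 61, 67, 71, 73, 79, 83, 89, 97, 101, 103]

theorem small_table : (List.range 14).all (fun k => (List.range 104).all fun m =>
    decide (k = 0) || decide (m < 2 * k) || decide (8 * k ≤ m) ||
      smallPrimes.any fun p => decide (k < p) && decide (m.descFactorial k % p = 0)) = true := by
  decide +kernel

theorem exists_prime_small {k m : ℕ} (hk : k < 14) (hk0 : 0 < k) (hm : 2 * k ≤ m) (h8 : m < 8 * k) :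
    ∃ p : ℕ, p.Prime ∧ k < p ∧ p ∣ m.choose k := by
  have h := List.all_eq_true.1 (List.all_eq_true.1 small_table k (List.mem_range.2 hk)) m
    (List.mem_range.2 (by omega))
  simp only [Bool.or_eq_true, decide_eq_true_eq, List.any_eq_true, Bool.and_eq_true] at h
  obtain ⟨p, hp, hkp, hd⟩ := h.resolve_left (by omega)
  have hpp : p.Prime := by
    unfold smallPrimes at hp
    fin_cases hp <;> norm_num
  refine ⟨p, hpp, hkp, ?_⟩
  have hd' := Nat.dvd_of_mod_eq_zero hd
  rw [descFactorial_eq_factorial_mul_choose] at hd'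
  exact (hpp.dvd_mul.1 hd').resolve_left fun h' => by
    have := hpp.dvd_factorial.1 h'
    omega

/-- A prime in `(m - k, m]` exceeding `k` divides the binomial coefficient. -/
theorem dvd_choose_of_window {m k p : ℕ} (hp : p.Prime) (hkp : k < p) (hpm : p ≤ m) (hw : m < p + k) :
    p ∣ m.choose k := hp.dvd_choose hkp (by omega) hpm

theorem ladder_window {m k : ℕ} (hk : 14 ≤ k) (hm : 2 * k ≤ m) (hK : k < 8192)
    (h : m < 8 * k ∨ (k < 512 ∧ m ^ 2 < k ^ 3)) :
    ∃ p ∈ ladder, p ≤ m ∧ m < p + k := by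
  have hchain : ∀ (l : List ℕ) (a : ℕ), a ≤ m → (∀ z ∈ (a :: l).getLast?, m < z) →
      List.IsChain (fun x y => y ≤ x + 14 ∨ (8 * (y - x) ≤ x ∧ ((y - x) ^ 3 ≤ x ^ 2 ∨ 11586 ≤ x))) (a :: l) →
      ∃ p ∈ a :: l, p ≤ m ∧ m < p + k := by
    intro l
    induction l with
    | nil =>
      intro a ha hlast _
      have := hlast a (by simp)
      omega
    | cons y l ih =>
      intro a ha hlast hc
      rw [List.isChain_cons_cons] at hc
      by_cases hy : y ≤ m
      · obtain ⟨p, hp, hp'⟩ := ih y hy (fun z hz => hlast z (by simpa using hz)) hc.2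
        exact ⟨p, List.mem_cons_of_mem _ hp, hp'⟩
      · refine ⟨a, List.mem_cons_self, ha, ?_⟩
        rcases hc.1 with h1 | ⟨h1, h2⟩
        · omega
        rcases h with h | ⟨h3, h4⟩
        · omega
        rcases h2 with h2 | h2
        · by_contra hcon
          have h5 : k ^ 3 < (y - a) ^ 3 := Nat.pow_lt_pow_left (by omega) (by norm_num)
          have h6 : a ^ 2 ≤ m ^ 2 := Nat.pow_le_pow_left ha 2
          omega
        · exfalso
          have h5 : k ^ 3 ≤ 511 ^ 3 := Nat.pow_le_pow_left (by omega) 3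
          have h6 : 11586 ^ 2 ≤ m ^ 2 := Nat.pow_le_pow_left (by omega) 2
          norm_num at h5 h6
          omega
  refine hchain _ 2 (by omega) ?_ (by decide +kernel : List.IsChain _ ladder)
  intro z hz
  obtain rfl : z = 68947 := by simpa [eq_comm] using hz
  rcases h with h | ⟨h1, h2⟩
  · omega
  · by_contra hcon
    have h5 : k ^ 3 ≤ 511 ^ 3 := Nat.pow_le_pow_left (by omega) 3
    have h6 : 68947 ^ 2 ≤ m ^ 2 := Nat.pow_le_pow_left (by omega) 2
    norm_num at h5 h6
    omega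

/-- **Sylvester's theorem.** -/
theorem exists_prime_gt_dvd_choose {m k : ℕ} (hk : 0 < k) (hm : 2 * k ≤ m) :
    ∃ p : ℕ, p.Prime ∧ k < p ∧ p ∣ m.choose k := by
  by_contra hcon
  push Not at hcon
  have hbad : Bad m k := fun p hp hd => not_lt.1 fun hlt => hcon p hp hlt hd
  have hsmall : k < 170 → 8 * k ≤ m → False := fun h1 h2 =>
    bad_absurd_of_pow (by omega) hk h2 (choose_small k h1 hk) hbad
  rcases Nat.lt_or_ge k 14 with h14 | h14
  · rcases Nat.lt_or_ge m (8 * k) with h8 | h8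
    · obtain ⟨p, h3, h1, h2⟩ := exists_prime_small h14 hk hm h8
      exact hcon p h3 h1 h2
    · exact hsmall (by omega) h8
  have hwin : k < 8192 → (m < 8 * k ∨ (k < 512 ∧ m ^ 2 < k ^ 3)) → False := by
    intro hK h
    obtain ⟨p, hp, hpm, hpw⟩ := ladder_window h14 hm hK h
    exact hcon p (ladder_prime p hp) (by omega) (dvd_choose_of_window (ladder_prime p hp) (by omega) hpm hpw)
  rcases Nat.lt_or_ge m (8 * k) with h8 | h8
  · rcases Nat.lt_or_ge k 8192 with h | h
    · exact hwin h (.inl h8)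
    · exact not_bad_low h hm h8 hbad
  rcases Nat.lt_or_ge k 170 with h | h
  · exact hsmall h h8
  rcases Nat.lt_or_ge (m ^ 2) (k ^ 3) with h2 | h2
  · rcases Nat.lt_or_ge k 512 with h5 | h5
    · exact hwin (by omega) (.inr ⟨h5, h2⟩)
    · exact not_bad_high h5 h8 h2 hbad
  · exact not_bad_of_sq h h2 hbad

end CfsgLib.Perm.Sylvester
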