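import Mathlib

/-!
Three primes between `n` and `2n` for `n ≥ 9`: the Erdős argument for Bertrand's postulate with
two extra factors.
-/

namespace CfsgLib.Perm

open Nat Finset

theorem log_bound {L : ℕ} (h : 12 ≤ L) : (3 * L + 3) ^ 2 ≤ 2 ^ (L - 1) := by
  induction L, h using Nat.le_induction with
  | base => decide
  | succ L hL ih =>
    rw [show L + 1 - 1 = L - 1 + 1 by omega, pow_succ 2]
    nlinarith

theorem three_inequality {n : ℕ} (hn : 1024 ≤ n) :
    n * ((2 * n) ^ (sqrt (2 * n) + 2) * 4 ^ (2 * n / 3)) ≤ 4 ^ n := by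
  set L := Nat.log 2 (2 * n) + 1 with hL
  set s := sqrt (2 * n) with hs
  have h1 : 2 * n ≤ 2 ^ L := (Nat.lt_pow_succ_log_self (by norm_num) _).le
  have h2 : 2 ^ (L - 1) ≤ 2 * n := by
    rw [hL, Nat.add_sub_cancel]
    exact Nat.pow_log_le_self 2 (by omega)
  have h12 : 12 ≤ L := by
    have : 11 ≤ Nat.log 2 (2 * n) := Nat.le_log_of_pow_le (by norm_num) (by norm_num; omega)
    omega
  have h3 : 3 * L + 3 ≤ s := by
    rw [hs, Nat.le_sqrt, ← pow_two]
    exact (log_bound h12).trans h2
  have h4 : s * s ≤ 2 * n := Nat.sqrt_le _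
  have h5 : L * (s + 3) + 2 * (2 * n / 3) ≤ 2 * n := by
    have : 3 * (L * (s + 3)) ≤ 2 * n := by nlinarith
    omega
  calc n * ((2 * n) ^ (s + 2) * 4 ^ (2 * n / 3))
      ≤ (2 * n) * ((2 * n) ^ (s + 2) * 4 ^ (2 * n / 3)) := Nat.mul_le_mul_right _ (by omega)
    _ = (2 * n) ^ (s + 3) * 4 ^ (2 * n / 3) := by ring
    _ ≤ (2 ^ L) ^ (s + 3) * 4 ^ (2 * n / 3) := by gcongr
    _ = 2 ^ (L * (s + 3) + 2 * (2 * n / 3)) := by
        rw [show (4 : ℕ) = 2 ^ 2 from rfl, ← pow_mul, ← pow_mul, ← pow_add]
    _ ≤ 2 ^ (2 * n) := Nat.pow_le_pow_right (by norm_num) h5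
    _ = 4 ^ n := by rw [show (4 : ℕ) = 2 ^ 2 from rfl, ← pow_mul]

/-- The primes between `n` and `2n`. -/
def bertrandPrimes (n : ℕ) : Finset ℕ := (Finset.Ioc n (2 * n)).filter Nat.Prime

theorem three_le_card_eventually {n : ℕ} (hn : 1024 ≤ n) : 3 ≤ (bertrandPrimes n).card := by
  by_contra hcon
  push Not at hcon
  have hlow := Nat.four_pow_lt_mul_centralBinom n (by omega)
  have hup : centralBinom n ≤ (2 * n) ^ (sqrt (2 * n) + 2) * 4 ^ (2 * n / 3) := by
    set f : ℕ → ℕ := fun x => x ^ n.centralBinom.factorization x with hf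
    have hf2 : ∀ x, f x ≤ 2 * n := fun x => Nat.pow_factorization_choose_le (by omega)
    have hone : ∀ x, ¬ x.Prime → f x = 1 := fun x hx => by
      simp [hf, Nat.factorization_eq_zero_of_not_prime _ hx]
    conv_lhs => rw [← n.prod_pow_factorization_centralBinom]
    -- split at `n`
    rw [← Finset.prod_filter_mul_prod_filter_not (Finset.range (2 * n + 1)) (fun x => n < x)]
    have hbig : ∏ x ∈ (Finset.range (2 * n + 1)).filter (fun x => n < x), f x ≤ (2 * n) ^ 2 := by
      rw [← Finset.prod_subset (s₁ := bertrandPrimes n) (fun x hx => by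
        simp only [bertrandPrimes, Finset.mem_filter, Finset.mem_Ioc] at hx
        simp only [Finset.mem_filter, Finset.mem_range]; omega) (fun x hx hx' => hone x (fun hp => hx' (by
          simp only [Finset.mem_filter, Finset.mem_range] at hx
          simp only [bertrandPrimes, Finset.mem_filter, Finset.mem_Ioc]
          exact ⟨by omega, hp⟩)))]
      refine (Finset.prod_le_prod' fun x _ => hf2 x).trans ?_
      rw [Finset.prod_const]
      exact Nat.pow_le_pow_right (by omega) (by omega)
    have hsmall : ∏ x ∈ (Finset.range (2 * n + 1)).filter (fun x => ¬ n < x), f x ≤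
        (2 * n) ^ sqrt (2 * n) * 4 ^ (2 * n / 3) := by
      let S := (Finset.range (2 * n / 3 + 1)).filter Nat.Prime
      have hS : ∏ x ∈ S, f x = ∏ x ∈ (Finset.range (2 * n + 1)).filter (fun x => ¬ n < x), f x := by
        refine Finset.prod_subset (fun x hx => ?_) (fun x hx hx' => ?_)
        · simp only [S, Finset.mem_filter, Finset.mem_range] at hx ⊢; omega
        · simp only [S, Finset.mem_filter, Finset.mem_range] at hx hx'
          by_cases hp : x.Prime
          · have : 2 * n < 3 * x := by
              by_contra hle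
              exact hx' ⟨by omega, hp⟩
            rw [hf]
            simp [Nat.factorization_centralBinom_of_two_mul_self_lt_three_mul (n := n) (p := x)
              (by omega) (by omega) this]
          · exact hone x hp
      rw [← hS, ← Finset.prod_filter_mul_prod_filter_not S (· ≤ sqrt (2 * n))]
      apply Nat.mul_le_mul
      · refine (Finset.prod_le_prod' fun p _ => hf2 p).trans ?_
        rw [Finset.prod_const]
        refine Nat.pow_le_pow_right (by omega) ?_
        calc _ ≤ (Finset.Icc 1 (sqrt (2 * n))).card := Finset.card_le_card fun x hx => by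
              simp only [S, Finset.mem_filter] at hx
              exact Finset.mem_Icc.2 ⟨hx.1.2.one_lt.le, hx.2⟩
          _ = _ := by rw [Nat.card_Icc, Nat.add_sub_cancel]
      · refine le_trans ?_ (primorial_le_four_pow (2 * n / 3))
        refine (Finset.prod_le_prod' fun p hp => (?_ : f p ≤ p)).trans ?_
        · obtain ⟨h1, h2⟩ := Finset.mem_filter.1 hp
          refine (pow_right_mono₀ (Finset.mem_filter.1 h1).2.one_lt.le ?_).trans (pow_one p).le
          exact Nat.factorization_choose_le_one (sqrt_lt'.mp <| not_le.1 h2)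
        refine Finset.prod_le_prod_of_subset_of_one_le' (Finset.filter_subset _ _) ?_
        exact fun p hp _ => (Finset.mem_filter.1 hp).2.one_lt.le
    refine (Nat.mul_le_mul hbig hsmall).trans (le_of_eq ?_)
    ring
  have h := three_inequality hn
  exact absurd (hlow.trans_le ((Nat.mul_le_mul_left n hup).trans h)) (lt_irrefl _)

theorem three_le_card_of_step {n a b c : ℕ} (ha : a.Prime) (hb : b.Prime) (hc : c.Prime)
    (hab : a < b) (hbc : b < c) (h : n < a) (h' : c ≤ 2 * n) : 3 ≤ (bertrandPrimes n).card := by
  have hsub : ({a, b, c} : Finset ℕ) ⊆ bertrandPrimes n := by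
    intro x hx
    simp only [Finset.mem_insert, Finset.mem_singleton] at hx
    simp only [bertrandPrimes, Finset.mem_filter, Finset.mem_Ioc]
    rcases hx with rfl | rfl | rfl <;> exact ⟨by omega, by assumption⟩
  refine le_trans ?_ (Finset.card_le_card hsub)
  rw [Finset.card_insert_of_notMem (by simp; omega), Finset.card_pair hbc.ne]

/-- Ramanujan: for `n ≥ 9` there are at least three primes in `(n, 2n]`. -/
theorem three_le_card_bertrandPrimes {n : ℕ} (hn : 9 ≤ n) : 3 ≤ (bertrandPrimes n).card := by
  rcases lt_or_ge n 1024 with h | h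
  swap
  · exact three_le_card_eventually h
  by_cases h1 : n < 11
  · exact three_le_card_of_step (a := 11) (b := 13) (c := 17) (by norm_num) (by norm_num) (by norm_num) (by omega) (by omega) h1 (by omega)
  by_cases h2 : n < 13
  · exact three_le_card_of_step (a := 13) (b := 17) (c := 19) (by norm_num) (by norm_num) (by norm_num) (by omega) (by omega) h2 (by omega)
  by_cases h3 : n < 17
  · exact three_le_card_of_step (a := 17) (b := 19) (c := 23) (by norm_num) (by norm_num) (by norm_num) (by omega) (by omega) h3 (by omega)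
  by_cases h4 : n < 23
  · exact three_le_card_of_step (a := 23) (b := 29) (c := 31) (by norm_num) (by norm_num) (by norm_num) (by omega) (by omega) h4 (by omega)
  by_cases h5 : n < 37
  · exact three_le_card_of_step (a := 37) (b := 41) (c := 43) (by norm_num) (by norm_num) (by norm_num) (by omega) (by omega) h5 (by omega)
  by_cases h6 : n < 67
  · exact three_le_card_of_step (a := 67) (b := 71) (c := 73) (by norm_num) (by norm_num) (by norm_num) (by omega) (by omega) h6 (by omega)
  by_cases h7 : n < 113
  · exact three_le_card_of_step (a := 113) (b := 127) (c := 131) (by norm_num) (by norm_num) (by norm_num) (by omega) (by omega) h7 (by omega)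
  by_cases h8 : n < 199
  · exact three_le_card_of_step (a := 199) (b := 211) (c := 223) (by norm_num) (by norm_num) (by norm_num) (by omega) (by omega) h8 (by omega)
  by_cases h9 : n < 383
  · exact three_le_card_of_step (a := 383) (b := 389) (c := 397) (by norm_num) (by norm_num) (by norm_num) (by omega) (by omega) h9 (by omega)
  by_cases h10 : n < 751
  · exact three_le_card_of_step (a := 751) (b := 757) (c := 761) (by norm_num) (by norm_num) (by norm_num) (by omega) (by omega) h10 (by omega)
  exact three_le_card_of_step (a := 1489) (b := 1493) (c := 1499) (by norm_num) (by norm_num) (by norm_num) (by omega) (by omega) (by omega) (by omega)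

/-- Two primes at least four apart in `(m/2, m]`. -/
theorem exists_prime_pair {m : ℕ} (hm : 18 ≤ m) :
    ∃ p q : ℕ, p.Prime ∧ q.Prime ∧ m < 2 * p ∧ p + 3 ≤ q ∧ q ≤ m := by
  obtain ⟨a, ha, b, hb, c, hc, hab, hac, hbc⟩ :=
    Finset.two_lt_card.1 (three_le_card_bertrandPrimes (n := m / 2) (by omega))
  simp only [bertrandPrimes, Finset.mem_filter, Finset.mem_Ioc] at ha hb hc
  obtain ⟨ka, hka⟩ := ha.2.odd_of_ne_two (by omega)
  obtain ⟨kb, hkb⟩ := hb.2.odd_of_ne_two (by omega)
  obtain ⟨kc, hkc⟩ := hc.2.odd_of_ne_two (by omega)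
  rcases le_or_gt (max (max a b) c) (min (min a b) c + 2) with h | h
  · omega
  · rcases max_choice (max a b) c with e | e <;> rcases min_choice (min a b) c with e' | e' <;>
      rcases max_choice a b with e'' | e'' <;> rcases min_choice a b with e''' | e''' <;>
      first
      | exact ⟨a, b, ha.2, hb.2, by omega, by omega, by omega⟩
      | exact ⟨b, a, hb.2, ha.2, by omega, by omega, by omega⟩
      | exact ⟨a, c, ha.2, hc.2, by omega, by omega, by omega⟩
      | exact ⟨c, a, hc.2, ha.2, by omega, by omega, by omega⟩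
      | exact ⟨b, c, hb.2, hc.2, by omega, by omega, by omega⟩
      | exact ⟨c, b, hc.2, hb.2, by omega, by omega, by omega⟩
      | omega

end CfsgLib.Perm
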