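import Cfsg.Agent.Lib.Recog.TransLinearSolvable
import Cfsg.Agent.Lib.Recog.PrimitiveSocle
import Cfsg.Agent.Lib.FT.OddOrderTheorem

/-!
Doubly transitive groups with regular normal subgroup in which non-identity elements fix at most two points.
-/

set_option autoImplicit false

open MulAction

namespace CfsgLib.Perm.TwoFixed

universe u

theorem linear {V : Type*} [AddCommGroup V] [Module (ZMod 2) V] [Finite V] [Nontrivial V]
    {H : Type u} [Group H] [Finite H] (R : H →* Module.End (ZMod 2) V) (hR : Function.Injective R)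
    (htr : ∀ v w : V, v ≠ 0 → w ≠ 0 → ∃ g : H, R g v = w)
    (hfew : ∀ (g : H) (v w : V), g ≠ 1 → v ≠ 0 → R g v = v → R g w = w → w = 0 ∨ w = v)
    (hex : ∃ (g : H) (v : V), g ≠ 1 ∧ v ≠ 0 ∧ R g v = v) {d : ℕ} (hd : Nat.card V = 2 ^ d) : d.Prime := by
  classical
  obtain ⟨g₀, v₀, hg₀, hv₀, hgv₀⟩ := hex
  have hd2 : 2 ≤ d := by
    by_contra hlt
    have hc : Nat.card V ≤ 2 := hd ▸ (Nat.pow_le_pow_right (by norm_num) (show d ≤ 1 by omega)).trans (by norm_num)
    refine hg₀ (hR ?_)
    rw [map_one]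
    refine LinearMap.ext fun w => ?_
    by_cases hw : w = 0
    · rw [hw, map_zero, map_zero]
    by_cases hwv : w = v₀
    · rw [hwv, hgv₀]; rfl
    haveI := Fintype.ofFinite V
    have := Finset.card_le_univ ({0, v₀, w} : Finset V)
    rw [Finset.card_eq_three.2 ⟨0, v₀, w, Ne.symm hv₀, Ne.symm hw, Ne.symm hwv, rfl⟩,
      ← Nat.card_eq_fintype_card] at this
    omega
  rcases Nat.even_or_odd (Nat.card H) with hev | hodd
  · -- an involution forces four points
    obtain ⟨s, hs⟩ := exists_prime_orderOf_dvd_card' (G := H) 2 hev.two_dvd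
    have hs1 : s ≠ 1 := fun h => by rw [h, orderOf_one] at hs; omega
    have hss : ∀ w, R s (R s w) = w := fun w => by
      have h := pow_orderOf_eq_one s
      rw [hs, pow_two] at h
      rw [← Module.End.mul_apply, ← map_mul, h, map_one]; rfl
    let φ : V →+ V := (R s + 1 : Module.End (ZMod 2) V).toAddMonoidHom
    have hadd : ∀ w : V, w + w = 0 := fun w => by
      rw [← two_smul (ZMod 2), show (2 : ZMod 2) = 0 from rfl, zero_smul]
    have hfix : ∀ w, w ∈ φ.ker → R s w = w := fun w hw => by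
      have h1 : R s w + w = 0 := hw
      rw [eq_neg_of_add_eq_zero_left h1, neg_eq_of_add_eq_zero_left (hadd w)]
    have hrange : φ.range ≤ φ.ker := by
      rintro _ ⟨w, rfl⟩
      change R s (R s w + w) + (R s w + w) = 0
      rw [map_add, hss, add_comm w (R s w), hadd]
    have hker : Nat.card φ.ker ≤ 2 := by
      by_cases h0 : φ.ker = ⊥
      · rw [h0, AddSubgroup.card_bot]; norm_num
      obtain ⟨v, hv, hv0⟩ := φ.ker.bot_or_exists_ne_zero.resolve_left h0
      haveI := Fintype.ofFinite V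
      rw [Nat.card_eq_fintype_card, Fintype.card_subtype]
      refine (Finset.card_le_card (t := {0, v}) fun w hw => ?_).trans Finset.card_le_two
      rw [Finset.mem_filter] at hw
      simpa using hfew s v w hs1 hv0 (hfix v hv) (hfix w hw.2)
    have h4 : Nat.card V ≤ 4 := by
      rw [AddSubgroup.card_eq_card_quotient_mul_card_addSubgroup φ.ker,
        Nat.card_congr (QuotientAddGroup.quotientKerEquivRange φ).toEquiv]
      calc _ ≤ Nat.card φ.ker * Nat.card φ.ker := Nat.mul_le_mul_right _ (AddSubgroup.card_le_of_le hrange)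
        _ ≤ 2 * 2 := Nat.mul_le_mul hker hker
    rw [hd] at h4
    have : d ≤ 2 := (Nat.pow_le_pow_iff_right (by norm_num)).1 (h4.trans_eq (by norm_num : (4 : ℕ) = 2 ^ 2))
    rw [show d = 2 by omega]
    exact Nat.prime_two
  · -- odd order: semilinear
    haveI hsol := CfsgLib.FT.isSolvable_of_odd hodd
    obtain ⟨F₀, _, _, e₀, he₀⟩ := (CfsgLib.Recog.TransLinear.semilinear_or_small hR hsol htr).resolve_right
      fun h => by
        simp only [Set.mem_insert_iff, Set.mem_singleton_iff] at h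
        have : 2 ∣ Nat.card V := by rw [hd]; exact dvd_pow_self 2 (by omega)
        omega
    haveI : Fact (Nat.Prime 2) := ⟨Nat.prime_two⟩
    have : Fintype (GaloisField 2 d) := Fintype.ofFinite _
    let ρ : F₀ ≃+* GaloisField 2 d := FiniteField.ringEquivOfCardEq (by
      rw [← Nat.card_eq_fintype_card, ← Nat.card_eq_fintype_card, GaloisField.card 2 d (by omega),
        ← Nat.card_congr e₀.toEquiv, hd])
    let e : V ≃+ GaloisField 2 d := e₀.trans ρ.toAddEquiv
    have hsemi : ∀ g : H, ∃ (a : GaloisField 2 d) (σ : GaloisField 2 d ≃ₐ[ZMod 2] GaloisField 2 d),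
        ∀ v, e (R g v) = a * σ (e v) := by
      intro g
      obtain ⟨a, σ, hσ⟩ := he₀ g
      refine ⟨ρ a, AlgEquiv.ofRingEquiv (f := (ρ.symm.trans σ).trans ρ) fun x => ?_, fun v => ?_⟩
      · exact RingHom.congr_fun (Subsingleton.elim
          (((ρ.symm.trans σ).trans ρ).toRingHom.comp (algebraMap (ZMod 2) (GaloisField 2 d))) (algebraMap _ _)) x
      · change ρ (e₀ (R g v)) = ρ a * ρ (σ (ρ.symm (ρ (e₀ v))))
        rw [hσ, map_mul, RingEquiv.symm_apply_apply]
    obtain ⟨a, σ, hσ⟩ := hsemi g₀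
    have hev : a * σ (e v₀) = e v₀ := by rw [← hσ, hgv₀]
    have hv1 : e v₀ ≠ 0 := fun h => hv₀ (e.map_eq_zero_iff.1 h)
    -- powers of `g₀` act as powers of `σ` around `v₀`
    have hpow : ∀ (k : ℕ) (z : GaloisField 2 d), e (R (g₀ ^ k) (e.symm (z * e v₀))) = (σ ^ k) z * e v₀ := by
      intro k
      induction k with
      | zero => intro z; simp
      | succ k ih =>
        intro z
        rw [pow_succ', map_mul, Module.End.mul_apply, ← e.symm_apply_apply (R (g₀ ^ k) _), ih, hσ,
          e.apply_symm_apply, map_mul, pow_succ', AlgEquiv.mul_apply, mul_left_comm, hev]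
    have hord : ∀ k : ℕ, g₀ ^ k ≠ 1 → orderOf (σ ^ k) = d := by
      intro k hk
      let K := IntermediateField.fixedField (Subgroup.zpowers (σ ^ k))
      have hK2 : Nat.card K ≤ 2 := by
        haveI : Fintype K := Fintype.ofFinite K
        rw [Nat.card_eq_fintype_card, ← Finset.card_univ]
        refine (Finset.card_le_card (t := {0, 1}) fun z _ => ?_).trans Finset.card_le_two
        have hz : (σ ^ k) (z : GaloisField 2 d) = z := z.2 ⟨σ ^ k, Subgroup.mem_zpowers _⟩
        have h1 : R (g₀ ^ k) v₀ = v₀ := by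
          have := hpow k 1
          rwa [one_mul, map_one, one_mul, e.symm_apply_apply, e.apply_eq_iff_eq] at this
        have h2 : R (g₀ ^ k) (e.symm (z * e v₀)) = e.symm (z * e v₀) := e.injective (by
          rw [hpow, hz, e.apply_symm_apply])
        rcases hfew _ _ _ hk hv₀ h1 h2 with h | h
        · simp only [Finset.mem_insert, Finset.mem_singleton]
          left
          rw [e.symm.map_eq_zero_iff, mul_eq_zero] at h
          exact Subtype.ext (h.resolve_right hv1)
        · simp only [Finset.mem_insert, Finset.mem_singleton]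
          right
          rw [AddEquiv.symm_apply_eq, mul_eq_right₀ hv1] at h
          exact Subtype.ext h
      have hK := Module.finrank_mul_finrank (ZMod 2) K (GaloisField 2 d)
      rw [IntermediateField.finrank_fixedField_eq_card, GaloisField.finrank 2 (by omega : d ≠ 0),
        Nat.card_zpowers] at hK
      have hKc := Module.natCard_eq_pow_finrank (K := ZMod 2) (V := K)
      rw [Nat.card_zmod] at hKc
      rw [hKc] at hK2
      have h1 : Module.finrank (ZMod 2) K ≤ 1 :=
        (Nat.pow_le_pow_iff_right (by norm_num)).1 (hK2.trans_eq (pow_one 2).symm)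
      have h2 : 0 < Module.finrank (ZMod 2) K := Module.finrank_pos
      rw [show Module.finrank (ZMod 2) K = 1 by omega, one_mul] at hK
      exact hK
    obtain ⟨r, hr, hrd⟩ := Nat.exists_prime_and_dvd (show d ≠ 1 by omega)
    by_cases hgr : g₀ ^ r = 1
    · have hσr : σ ^ r = 1 := AlgEquiv.ext fun z => by
        have := hpow r z
        rw [hgr, map_one, Module.End.one_apply, e.apply_symm_apply] at this
        exact (mul_right_cancel₀ hv1 this).symm
      have h1 := hord 1 (by rwa [pow_one])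
      rw [pow_one] at h1
      have := orderOf_dvd_of_pow_eq_one hσr
      rw [h1] at this
      exact (Nat.dvd_antisymm this hrd) ▸ hr
    · exfalso
      have h1 := hord 1 (by rwa [pow_one])
      rw [pow_one] at h1
      have h2 := hord r hgr
      rw [orderOf_pow' σ hr.ne_zero, h1, Nat.gcd_eq_right hrd] at h2
      have := Nat.div_lt_self (show 0 < d by omega) hr.one_lt
      omega

variable {G : Type u} [Group G] [Finite G] {Ω : Type*} [Finite Ω] [MulAction G Ω] [FaithfulSMul G Ω]

theorem main [IsPreprimitive G Ω] (h2 : IsMultiplyPretransitive G Ω 2)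
    (h3 : ∀ g : G, ∀ a b c : Ω, a ≠ b → b ≠ c → a ≠ c → g • a = a → g • b = b → g • c = c → g = 1)
    (hfix : ∃ g : G, g ≠ 1 ∧ ∃ a b : Ω, a ≠ b ∧ g • a = a ∧ g • b = b)
    (N : Subgroup G) [N.Normal] (hNt : IsPretransitive N Ω) (hNr : ∀ a : Ω, stabilizer N a = ⊥) :
    ∃ p : ℕ, p.Prime ∧ Nat.card Ω = 2 ^ p := by
  classical
  obtain ⟨g₀, hg₀, a, b, hab, hga, hgb⟩ := hfix
  have huniq : ∀ u v : G, u ∈ N → v ∈ N → u • a = v • a → u = v := fun u v hu hv h => by
    have hm : (⟨v⁻¹ * u, mul_mem (inv_mem hv) hu⟩ : N) ∈ stabilizer N a :=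
      mem_stabilizer_iff.2 (show (v⁻¹ * u) • a = a by rw [mul_smul, h, inv_smul_smul])
    rw [hNr a, Subgroup.mem_bot] at hm
    exact (inv_mul_eq_one.1 (congrArg Subtype.val hm)).symm
  let pt : N ≃ Ω := Equiv.ofBijective (fun u : N => (u : G) • a)
    ⟨fun u v h => Subtype.ext (huniq u v u.2 v.2 h), fun c => let ⟨u, hu⟩ := hNt.exists_smul_eq a c; ⟨u, hu⟩⟩
  have hpt : ∀ u : N, pt u = (u : G) • a := fun u => rfl
  have hne : ∀ u : N, u ≠ 1 → a ≠ pt u := fun u hu e => hu (Subtype.ext (huniq u 1 u.2 N.one_mem (by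
    rw [← hpt, ← e, one_smul])))
  have hconj : ∀ u v : N, u ≠ 1 → v ≠ 1 → ∃ g : G, g • a = a ∧ g * u * g⁻¹ = v := fun u v hu hv => by
    obtain ⟨g, g1, g2⟩ := is_two_pretransitive_iff.1 h2 (hne u hu) (hne v hv)
    refine ⟨g, g1, huniq _ _ ((inferInstance : N.Normal).conj_mem u u.2 g) v.2 ?_⟩
    rw [mul_smul, mul_smul, inv_smul_eq_iff.2 g1.symm]
    exact g2
  obtain ⟨u₀, hu₀⟩ := pt.surjective b
  have hu₀1 : u₀ ≠ 1 := fun h => hab (by rw [← hu₀, h, hpt]; exact (one_smul G a).symm)
  haveI : Nontrivial N := ⟨⟨u₀, 1, hu₀1⟩⟩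
  obtain ⟨p, hp, hpd⟩ := Nat.exists_prime_and_dvd (Finite.one_lt_card (α := N)).ne'
  haveI := Fact.mk hp
  obtain ⟨w, hw⟩ := exists_prime_orderOf_dvd_card' p hpd
  have hw1 : w ≠ 1 := fun h => by rw [h, orderOf_one] at hw; exact hp.one_lt.ne hw
  have hexp : ∀ u : N, u ≠ 1 → orderOf u = p := fun u hu => by
    obtain ⟨g, -, hg⟩ := hconj w u hw1 hu
    rw [← Subgroup.orderOf_coe, ← hg, ← MulAut.conj_apply, MulEquiv.orderOf_eq, Subgroup.orderOf_coe, hw]
  have hpow : ∀ u : N, u ^ p = 1 := fun u => by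
    by_cases hu : u = 1
    · rw [hu, one_pow]
    · rw [← hexp u hu, pow_orderOf_eq_one]
  have hNp : IsPGroup p N := fun u => ⟨1, by rw [pow_one]; exact hpow u⟩
  have hcomm : ∀ u v : N, u * v = v * u := by
    haveI := hNp.center_nontrivial
    obtain ⟨z, hz⟩ := exists_ne (1 : Subgroup.center N)
    intro u v
    by_cases hv : v = 1
    · rw [hv, mul_one, one_mul]
    obtain ⟨g, -, hg⟩ := hconj z v (fun h => hz (Subtype.ext h)) hv
    have hu' : g⁻¹ * (u : G) * g ∈ N := by
      simpa using (inferInstance : N.Normal).conj_mem u u.2 g⁻¹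
    have e : g⁻¹ * (u : G) * g * (z : N) = (z : N) * (g⁻¹ * (u : G) * g) :=
      congrArg Subtype.val (Subgroup.mem_center_iff.1 z.2 ⟨_, hu'⟩)
    refine Subtype.ext ?_
    rw [Subgroup.coe_mul, Subgroup.coe_mul, ← hg]
    calc (u : G) * (g * (z : N) * g⁻¹) = g * (g⁻¹ * u * g * (z : N)) * g⁻¹ := by group
      _ = g * ((z : N) * (g⁻¹ * (u : G) * g)) * g⁻¹ := by rw [e]
      _ = _ := by group
  letI : CommGroup N := { (inferInstance : Group N) with mul_comm := hcomm }
  have hcom₀ : g₀ * u₀ * g₀⁻¹ = u₀ := huniq _ _ ((inferInstance : N.Normal).conj_mem _ u₀.2 g₀) u₀.2 (by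
    rw [mul_smul, mul_smul, inv_smul_eq_iff.2 hga.symm, ← hpt, hu₀]; exact hgb)
  have hp2 : p = 2 := by
    by_contra hp2
    have hu2 : u₀ ^ 2 ≠ 1 := fun h => by
      have := orderOf_dvd_of_pow_eq_one h
      rw [hexp u₀ hu₀1] at this
      exact hp2 ((Nat.prime_dvd_prime_iff_eq hp Nat.prime_two).1 this)
    refine hg₀ (h3 g₀ a b (pt (u₀ ^ 2)) hab ?_ (hne _ hu2) hga hgb ?_)
    · rw [← hu₀, Ne, pt.apply_eq_iff_eq, pow_two, eq_comm, mul_eq_left]
      exact hu₀1
    · have hc : g₀ * (u₀ : G) ^ 2 * g₀⁻¹ = (u₀ : G) ^ 2 := by rw [← conj_pow, hcom₀]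
      rw [hpt, Subgroup.coe_pow]
      calc g₀ • (u₀ : G) ^ 2 • a = (g₀ * (u₀ : G) ^ 2 * g₀⁻¹) • g₀ • a := by
            rw [mul_smul, mul_smul, inv_smul_smul]
        _ = (u₀ : G) ^ 2 • a := by rw [hc, hga]
  subst hp2
  obtain ⟨d, hd⟩ := IsPGroup.iff_card.1 hNp
  refine ⟨d, ?_, by rw [← Nat.card_congr pt, hd]⟩
  have inst : Module (ZMod 2) (Additive N) := AddCommGroup.zmodModule (n := 2) fun x => hpow x.toMul
  let R : stabilizer G a →* Module.End (ZMod 2) (Additive N) :=
    { toFun := fun h => (MulAut.conjNormal (H := N) (h : G)).toMonoidHom.toAdditive.toZModLinearMap 2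
      map_one' := LinearMap.ext fun v => by simp
      map_mul' := fun g h => LinearMap.ext fun v => by simp }
  have hRv : ∀ (h : stabilizer G a) (u : N),
      (((R h (Additive.ofMul u)).toMul : N) : G) = (h : G) * u * (h : G)⁻¹ := fun h u =>
    MulAut.conjNormal_apply _ _
  have hsm : ∀ (h : stabilizer G a) (u : N), (h : G) • pt u = pt (R h (Additive.ofMul u)).toMul := by
    intro h u
    rw [hpt, hpt, hRv, mul_smul, mul_smul, inv_smul_eq_iff.2 (mem_stabilizer_iff.1 h.2).symm]
  haveI : Finite (Additive N) := inferInstanceAs (Finite N)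
  refine linear R ?_ (fun v w hv hw => ?_) (fun g v w hg hv hgv hgw => ?_)
    ⟨⟨g₀, hga⟩, Additive.ofMul u₀, fun h => hg₀ (congrArg Subtype.val h), hu₀1, ?_⟩ hd
  · rw [injective_iff_map_eq_one]
    intro h hh
    refine Subtype.ext (FaithfulSMul.eq_of_smul_eq_smul (α := Ω) fun c => ?_)
    obtain ⟨u, rfl⟩ := pt.surjective c
    rw [hsm, hh, Module.End.one_apply, toMul_ofMul]
    exact (one_smul G _).symm
  · obtain ⟨g, g1, g2⟩ := hconj v.toMul w.toMul hv hw
    exact ⟨⟨g, g1⟩, Additive.toMul.injective (Subtype.ext ((hRv ⟨g, g1⟩ v.toMul).trans g2))⟩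
  · by_contra! hcon
    refine hg (Subtype.ext (h3 g a (pt v.toMul) (pt w.toMul) (hne _ hv)
      (fun e => hcon.2 (Additive.toMul.injective (pt.injective e).symm)) (hne _ hcon.1) g.2 ?_ ?_))
    · exact (hsm g v.toMul).trans (by rw [ofMul_toMul, hgv])
    · exact (hsm g w.toMul).trans (by rw [ofMul_toMul, hgw])
  · exact Additive.toMul.injective (Subtype.ext ((hRv ⟨g₀, hga⟩ u₀).trans hcom₀))

end CfsgLib.Perm.TwoFixed
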